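import Cfsg.Agent.H15.Words
set_option autoImplicit false
set_option maxRecDepth 100000

namespace Cfsg.Agent.H28.HJa2
open Cfsg.Agent.H15 Cfsg.Agent.H14

def tb : Tb := (.node (nat_lit 32) (.node (nat_lit 16) (.node (nat_lit 8) (.node (nat_lit 4) (.leaf (nat_lit 0x4206e080401230c8180110623400881c02108611021840340088200c103200000822042080300410400000f81a000000000000000000)) (.leaf (nat_lit 0x461be000a10e91fe00064a402003145f80017e020638c01c191d1004413e0006f80617e000428a2c0030c3f8000c0c9442080140c104))) (.node (nat_lit 12) (.leaf (nat_lit 0x482be07c0197f03e000af80030031c7f8001fe02ca51402c1dfc000a30fe002f00605be008931c438001c7f81f00247c0f81f001c807)) (.leaf (nat_lit 0xc436a200d07073cc781033643c0290df81f0006fc03b4438a48c900430ac180f01c534c680219a10c0024bf800f0467c0f802efe000b)))) (.node (nat_lit 24) (.node (nat_lit 20) (.leaf (nat_lit 0xc84be00126a7f03e0014f80f54011d1f8004fe02d26240450381c00c643e0010f80a4528812067f000114ff80047e0210f8003ca81b1))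 (.leaf (nat_lit 0xa55ac1fc0f80424cb7c0f81f0002109a867980b957f8055fe07c0000a53e043a22bf03e043cf8005001253727f00aa7c0f8004fe0015))) (.node (nat_lit 28) (.leaf (nat_lit 0x5628c15b75896d0d8b129e06003159f80067e018ef81f03e07c000a413e001a00888fe07c0f81f0000904f80360129d83300c00201b)) (.leaf (nat_lit 0x4b7be0020f81f03e07c0f81f000029df81f03e07c0f8007fe07c000a973e07c0f81f03e07c0f8007800212f81f000efc0f81f03e07c0))))) (.node (nat_lit 48) (.node (nat_lit 40) (.node (nat_lit 36) (.leaf (nat_lit 0x4f8be014e048a93e07c0f81f00033a1f81f03e07c0f8008fe07c0004d83e0022f81f03e07c0f81f000331ff81f03e07c0f80087e07c0)) (.leaf (nat_lit 0xa79be07c0f800a054fc0f81f00009a5a0885813a3835ff0012fc000a5626c42c031f03e07c004d0b002c2399ff03e02595c7f02167c0))) (.node (nat_lit 44) (.leaf (nat_lit 0x2ba9adfc0059f03e07c0f81f0002aa961ff03e07c0f81f0015fc00089a2a231705419fe07c0f81f0002227f81f03e0029f81f03e07c0)) (.leaf (nat_lit 0xc42553809f805991c7c0f81f0002badf81f0016fc0f81f00ecfc0006db3e07c005c0b3e07c0f81f0002b2b93719415bee05bf01f23e5))))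 (.node (nat_lit 56) (.node (nat_lit 52) (.leaf (nat_lit 0x2747e07c0f81f03e07c0f800d000986f81f03e07c0f80120037c00026c3e02f6f81f03e005b06074001158f809d7e07c0f81f0018845)) (.leaf (nat_lit 0x2bdbe07c0f81f03e0339f80ac8002b5f80ac7e07c0f80ee81bfc00029d3e0230f81f03e07c0f800d800233f81f03e07c0f81f001afc0))) (.node (nat_lit 60) (.leaf (nat_lit 0x2829a67c0677f03e004c015f0000279f80f57e07c0f80ddbe07c0002823e07c0f81f03e02f7f800e80294f5d275c07fc04cdf03e07c0)) (.leaf (nat_lit 0x328cf80033e07c0f81155c9fc0))))))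
def wt : Wt := (.node (nat_lit 21) (.node (nat_lit 10) (.node (nat_lit 5) (.node (nat_lit 2) (.node (nat_lit 1) (.leaf [nat_lit 3, nat_lit 6, nat_lit 4, nat_lit 6]) (.leaf [nat_lit 4, nat_lit 3])) (.node (nat_lit 3) (.leaf [nat_lit 0, nat_lit 6, nat_lit 0, nat_lit 1, nat_lit 0, nat_lit 1, nat_lit 6]) (.node (nat_lit 4) (.leaf [nat_lit 5, nat_lit 6, nat_lit 4, nat_lit 1, nat_lit 5, nat_lit 1, nat_lit 3, nat_lit 6]) (.leaf [nat_lit 3, nat_lit 1, nat_lit 4, nat_lit 1])))) (.node (nat_lit 7) (.node (nat_lit 6) (.leaf [nat_lit 6, nat_lit 1, nat_lit 6, nat_lit 1, nat_lit 6, nat_lit 1]) (.leaf [nat_lit 0, nat_lit 1, nat_lit 6, nat_lit 0, nat_lit 6, nat_lit 0, nat_lit 1])) (.node (nat_lit 8) (.leaf [nat_lit 5, nat_lit 1, nat_lit 3, nat_lit 6, nat_lit 5, nat_lit 6, nat_lit 4, nat_lit 1]) (.node (nat_lit 9) (.leaf [nat_lit 4, nat_lit 2, nat_lit 4, nat_lit 2]) (.leaf [nat_lit 3, nat_lit 4]))))) (.node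 (nat_lit 15) (.node (nat_lit 12) (.node (nat_lit 11) (.leaf [nat_lit 1, nat_lit 2, nat_lit 0, nat_lit 2]) (.leaf [nat_lit 5, nat_lit 0, nat_lit 2, nat_lit 6, nat_lit 2, nat_lit 6, nat_lit 2, nat_lit 6, nat_lit 2, nat_lit 0, nat_lit 5, nat_lit 0, nat_lit 2, nat_lit 6, nat_lit 2, nat_lit 6, nat_lit 2, nat_lit 6, nat_lit 2, nat_lit 0])) (.node (nat_lit 13) (.leaf [nat_lit 5, nat_lit 0, nat_lit 5, nat_lit 0]) (.node (nat_lit 14) (.leaf [nat_lit 2, nat_lit 5, nat_lit 2, nat_lit 5, nat_lit 2, nat_lit 5]) (.leaf [nat_lit 0, nat_lit 2, nat_lit 1, nat_lit 2])))) (.node (nat_lit 18) (.node (nat_lit 16) (.leaf [nat_lit 0, nat_lit 0]) (.node (nat_lit 17) (.leaf [nat_lit 0, nat_lit 5, nat_lit 0, nat_lit 5]) (.leaf [nat_lit 1, nat_lit 1]))) (.node (nat_lit 19) (.leaf [nat_lit 4, nat_lit 5, nat_lit 4, nat_lit 5, nat_lit 4, nat_lit 5]) (.node (nat_lit 20) (.leaf [nat_lit 4, nat_lit 4, nat_lit 4]) (.leaf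 [nat_lit 2, nat_lit 4, nat_lit 2, nat_lit 4])))))) (.node (nat_lit 31) (.node (nat_lit 26) (.node (nat_lit 23) (.node (nat_lit 22) (.leaf [nat_lit 4, nat_lit 1, nat_lit 5, nat_lit 1, nat_lit 3, nat_lit 6, nat_lit 5, nat_lit 6]) (.leaf [nat_lit 3, nat_lit 0, nat_lit 4, nat_lit 0])) (.node (nat_lit 24) (.leaf [nat_lit 1, nat_lit 6, nat_lit 0, nat_lit 6, nat_lit 0, nat_lit 1, nat_lit 0]) (.node (nat_lit 25) (.leaf [nat_lit 6, nat_lit 0, nat_lit 1, nat_lit 0, nat_lit 1, nat_lit 6, nat_lit 0]) (.leaf [nat_lit 6, nat_lit 2, nat_lit 0, nat_lit 5, nat_lit 0, nat_lit 2, nat_lit 6, nat_lit 2, nat_lit 6, nat_lit 2, nat_lit 6, nat_lit 2, nat_lit 0, nat_lit 5, nat_lit 0, nat_lit 2, nat_lit 6, nat_lit 2, nat_lit 6, nat_lit 2])))) (.node (nat_lit 28) (.node (nat_lit 27) (.leaf [nat_lit 4, nat_lit 6, nat_lit 3, nat_lit 6]) (.leaf [nat_lit 1, nat_lit 5, nat_lit 0, nat_lit 1, nat_lit 3, nat_lit 5, nat_lit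 1, nat_lit 5, nat_lit 4, nat_lit 4, nat_lit 5, nat_lit 1, nat_lit 5, nat_lit 3, nat_lit 5])) (.node (nat_lit 29) (.leaf [nat_lit 6, nat_lit 3, nat_lit 6, nat_lit 4]) (.node (nat_lit 30) (.leaf [nat_lit 6, nat_lit 6]) (.leaf [nat_lit 2, nat_lit 0, nat_lit 2, nat_lit 1]))))) (.node (nat_lit 36) (.node (nat_lit 33) (.node (nat_lit 32) (.leaf [nat_lit 2, nat_lit 2]) (.leaf [nat_lit 5, nat_lit 2, nat_lit 5, nat_lit 2, nat_lit 5, nat_lit 2])) (.node (nat_lit 34) (.leaf [nat_lit 6, nat_lit 0, nat_lit 6, nat_lit 0, nat_lit 1, nat_lit 0, nat_lit 1]) (.node (nat_lit 35) (.leaf [nat_lit 6, nat_lit 4, nat_lit 1, nat_lit 5, nat_lit 1, nat_lit 3, nat_lit 6, nat_lit 5]) (.leaf [nat_lit 5, nat_lit 4, nat_lit 5, nat_lit 4, nat_lit 5, nat_lit 4])))) (.node (nat_lit 39) (.node (nat_lit 37) (.leaf [nat_lit 5, nat_lit 5]) (.node (nat_lit 38) (.leaf [nat_lit 1, nat_lit 3, nat_lit 6, nat_lit 5, nat_lit 6, nat_lit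 4, nat_lit 1, nat_lit 5]) (.leaf [nat_lit 2, nat_lit 1, nat_lit 2, nat_lit 0]))) (.node (nat_lit 40) (.leaf [nat_lit 6, nat_lit 0, nat_lit 6, nat_lit 1, nat_lit 0, nat_lit 1, nat_lit 0]) (.node (nat_lit 41) (.leaf [nat_lit 1, nat_lit 6, nat_lit 1, nat_lit 6, nat_lit 1, nat_lit 6]) (.leaf [nat_lit 2, nat_lit 6, nat_lit 2, nat_lit 6, nat_lit 2, nat_lit 6, nat_lit 2, nat_lit 0, nat_lit 5, nat_lit 0, nat_lit 2, nat_lit 6, nat_lit 2, nat_lit 6, nat_lit 2, nat_lit 6, nat_lit 2, nat_lit 0, nat_lit 5, nat_lit 0])))))))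
noncomputable def P : TCP where
  lk := tlk tb (nat_lit 3) (nat_lit 10) (nat_lit 11) (nat_lit 2047)
  inv := invT (nat_lit 417736958016) (nat_lit 7)
  wt := wt.get
  gens := [nat_lit 0, nat_lit 1, nat_lit 2, nat_lit 3, nat_lit 4, nat_lit 5, nat_lit 6]
  N := nat_lit 61
  n := nat_lit 1
  eps := nat_lit 7
  VM := nat_lit 63
  Wv := nat_lit 6
  MAXB := nat_lit 1984
  JM := nat_lit 127
  Wj := nat_lit 7
  Hm := nat_lit 63
def ls : List Nat := [nat_lit 0, nat_lit 1, nat_lit 2, nat_lit 3, nat_lit 4, nat_lit 5, nat_lit 6, nat_lit 7]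
noncomputable def ap : Nat → Nat → Nat := tlk tb (nat_lit 3) (nat_lit 10) (nat_lit 11) (nat_lit 63)
def bases : List (List Nat × Nat) := [([4], 3), ([4, 2], 2), ([4, 5], 3), ([2, 5], 3), ([4, 1, 3, 1], 1), ([2, 1, 2, 0], 1), ([0, 1, 3, 5, 1, 5, 4, 4, 5, 1, 5, 3, 5, 1, 5], 1), ([4, 0, 3, 0], 1), ([0, 5], 2), ([0, 1], 4), ([4, 6, 3, 6], 1), ([6, 1], 3), ([6, 5, 6, 4, 1, 5, 1, 3], 1), ([6, 0, 1, 0, 1, 6, 0], 1), ([0, 2, 6, 2, 6, 2, 6, 2, 0, 5], 2)]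
theorem c0 : RowsGood P ls 0 61 :=
  rowsGood_of (Js := [nat_lit 0xe0014004fc1020408102, nat_lit 0x102c180050011f800600000140071618180003000c281020c00000900309, nat_lit 0x14d8dc3c0078019380c000080028f00600001400726186010000c0000900311, nat_lit 0x45b0e001400486040942c00c22, nat_lit 0x860804088, nat_lit 0x12800c22, nat_lit 0x60804088, nat_lit 0x9c2801301, nat_lit 0xc00000000580266c080, nat_lit 0x800279322, nat_lit 0xc10081, nat_lit 0x70001, nat_lit 0x26a100, nat_lit 0x3f1200120037e040942c00c20, nat_lit 0x2c78c24, nat_lit 0x192b36f6200220054e000860805308, nat_lit 0x12800c20, nat_lit 0xc10081, nat_lit 0x942c00c01, nat_lit 0xa02a9000500123, nat_lit 0xc0068a70001, nat_lit 0x7c68400020012880, nat_lit 0x4d890009001bf780552c, nat_lit 0x14e240024006fd416, nat_lit 0x380861804001, nat_lit 0x4038, nat_lit 0x2e, nat_lit 0x6ca5c0050011fb46b8002800a6866109900, nat_lit 0x1, nat_lit 0x1, nat_lit 0x1, nat_lit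 0x1, nat_lit 0x1, nat_lit 0x1, nat_lit 0x1, nat_lit 0xd80aa, nat_lit 0xb36e00120034ea0b26, nat_lit 0x59b70009001a390000a2, nat_lit 0x25d88004800d3be02e0b00, nat_lit 0x96, nat_lit 0x1, nat_lit 0x126c480050010bbc40014004fc0aa, nat_lit 0x788003000e681, nat_lit 0x2acf8004800d381, nat_lit 0x2008000005802d5df00040000c0065206724, nat_lit 0x80, nat_lit 0x3a, nat_lit 0xbee23e3ee29a00300069601704, nat_lit 0xf80a0, nat_lit 0x7d00022, nat_lit 0x2000, nat_lit 0x1, nat_lit 0x1, nat_lit 0x2301, nat_lit 0xd2101, nat_lit 0x2110, nat_lit 0xbf9e00120030f20016, nat_lit 0x2001, nat_lit 0x10003801e9d0, nat_lit 0xeeee3232eeee00300063e4a000, nat_lit 0x21080000600355]) (by decide +kernel)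
theorem f0 : RowsGood P ls 0 61 :=
  c0
theorem good : RowsGood P (List.range (P.eps + 1)) 0 P.N :=
  (f0 : RowsGood P ls 0 61)
theorem idx {G : Type*} [Group G] {E : ℕ → G} {inv : ℕ → ℕ} (hi : ∀ l, E (inv l) = (E l)⁻¹)
    {B : List (List ℕ × ℕ)} (hB : ∀ p ∈ B, lprod E p.1 ^ p.2 = 1) (σ : List (List ℕ))
    {hs ks : List (List ℕ)} (hc : certOk P wt bases inv B σ hs ks = true) :
    (gp E hs).relIndex (gp E ks) ≠ 0 ∧ (gp E hs).relIndex (gp E ks) ≤ 1 :=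
  tc_gp hi hB rfl (fun _ h => invT_of_le h) good σ hc

end Cfsg.Agent.H28.HJa2
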