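import Mathlib
import Cfsg.Agent.H28.HJm
import Cfsg.Agent.H28.HJa1
import Cfsg.Agent.H28.HJa2
import Cfsg.Agent.H28.J2P

/-! The presentation of the Hall–Janko group over an involution centraliser. -/

set_option autoImplicit false
set_option maxRecDepth 100000

namespace Cfsg.Agent.H28.HJ
open H14 H15 J2P

variable {G : Type*} [Group G]

def BG : List (List ℕ × ℕ) := [([4, 6, 3, 6], 1), ([6, 1], 3), ([6, 5, 6, 4, 1, 5, 1, 3], 1), ([6, 0, 1, 0, 1, 6, 0], 1)]
def BA1 : List (List ℕ × ℕ) := BH ++ BG ++ [([0, 2, 6, 2, 6, 2, 6, 2, 0, 1, 5, 1], 2)]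
def BA2 : List (List ℕ × ℕ) := BH ++ BG ++ [([0, 2, 6, 2, 6, 2, 6, 2, 0, 5], 2)]
theorem upA1 {E : ℕ → G} (h : Sat E (invT 417736958016 7) BA1) : CardLe (gp E (sgl 7)) 604800 :=
  (CardLe.step (CardLe.step (CardLe.step cardLe_nil (HJa.idx h.hi h.hB [[2], [3], [4], [5]] (hs := []) (ks := [[2], [3], [4], [5]]) (by decide +kernel)) (by decide +kernel)) (HJh.idx h.hi h.hB [[0], [1], [2], [3], [4], [5]] (hs := [[2], [3], [4], [5]]) (ks := sgl 6) (by decide +kernel)) (by decide +kernel)) (HJa1.idx h.hi h.hB [[0], [1], [2], [3], [4], [5], [6]] (hs := sgl 6) (ks := sgl 7) (by decide +kernel)) (by decide +kernel))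
theorem colA2 {E : ℕ → G} (h : Sat E (invT 417736958016 7) BA2) : gp E (sgl 7) ≤ gp E (sgl 6) :=
  have := HJa2.idx h.hi h.hB [[0], [1], [2], [3], [4], [5], [6]] (hs := sgl 6) (ks := sgl 7) (by decide +kernel)
  Subgroup.relIndex_eq_one.1 (by omega)
def oK : ℕ := nat_lit 0xc78b0e0bf7aedcb76acd8af5aad4a74a8d09f3a6cc972a4c88f1a2c4870a0c07ef9ebc76e9cb86ed9ab466c98b05eb96ac56a94a84e992a446890a03e78e9c3668c982e58a9426488901e3868c16284880e182840608080
def mK : List ℕ := [nat_lit 0xf89a918d78a39393180daf0aaa14c4a8d0661a6da34aa4ae0b7cf274559c4016bd18e18eae4100230a99ec98d97d20a981529a19894c2137b0ea011f14edb372d42c2e596dd494b0103ef2c3b7eac4b6c73a3a50609037, nat_lit 0xc6a1e60af26dd8bb1ecdcbf5a34b087a8820128c8aa93af48b55510169092c04cadee176e8d0b4ed834340c96230ab8ab17c389626efe09661146b33f48c1c2ee669d369169412a439010a908c713098f22d57d3074224f, nat_lit 0xae513d50eed4433304b22c60b05257520429d3ce2524cc61770446bcb942d515e984c4bcc9a476a75bb994e8fa47e6ca8fa680d5dc2fa6302760f2a6285b4d5ca6d8891656e2472e30358062c90a11e98be0058a2158706,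 nat_lit 0xb22493d33408a00f50e339a331379505d171514b214e8814296a02054ceda901d70a29900c0e1b4da93f57018db73596acb10c5938ea835fbb4c03e3e94ee39311218bd5cae08ce11b21ed27ae7836a886078d4ea26d7cc, nat_lit 0x3955c14485d1be60df1ab2cb84da44d41de1a12b808f4cdbb4e4e71a5522932688300b8545792a8da08eb04188702316ac6699e46970cf19232a65c3e18ed90416f98a134abd5186ec01efc556533f108b6962457525ca1, nat_lit 0x8b55c2949265bdb13ea5b9abb159947e851b4debb3bb4ef427e4f1be6d21a978f12e202a6d1e19d0e0919808b214f586284a9b02c5ea95df722183ca41c48d7450c1980c5d9a8c3da032404e2d0a10ea23c0058a20c8706, nat_lit 0xb0b820dbe0c2dc8ebd9e376246393cf28517a4a44c0e964cdb719c231c594c054fa7d2ae5ea4502d85a6b2c96a7b58989838fe0a860d252488190a0114caab3644cac7508e8a2738d101f0f0556a52b1f968aee1bc09b80]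
noncomputable def EK : ℕ → Equiv.Perm (Fin 100) := lt 1 (mK.map A.el)
noncomputable def RK := Rep.amb A oK [] (by decide +kernel)
theorem envK : RK.Env (nthD oK mK) EK := amb_env A (by decide +kernel) mK (by decide +kernel)
theorem satK : Sat EK (invT 417736958016 7) BA1 := envK.sat (fun _ h => lt_of_le h) (by decide +kernel)
theorem gpK : gp EK (sgl 7) = KJ.K := by
  refine le_antisymm (gp_sgl_le fun l hl => ?_) (KJ.eq_gen.trans_le (A.gen_le.2 fun T hT => ?_))
  · have : allLt 7 (fun l => KJ.test (nthD oK mK l)) = true := by decide +kernel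
    exact (envK l).2 ▸ (KJ.test_iff _ (envK l).1).1 (allLt_iff.1 this l hl)
  · have : allL KJ.gens (fun T => anyL [[6, 0, 6], [6, 5, 4, 2, 1, 5, 2, 6, 2, 6, 5, 3], [6, 2, 6, 2, 6, 2, 6, 2, 6], [6, 4, 2, 5, 6, 5, 2, 1, 6, 3, 0]] fun w => Nat.beq ((ambNum A oK []).wd (nthD oK mK) w) T) = true := by
      decide +kernel
    obtain ⟨w, -, e⟩ := anyL_iff.1 (allL_iff.1 this T hT)
    have h := (RK.wd_spec envK w).2
    rw [nbeq_iff.1 e] at h
    exact (show A.el T = _ from h) ▸ lprod_mem_sgl (fun _ h => lt_of_le h) w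

theorem isoK {E : ℕ → G} (h : Sat E (invT 417736958016 7) BA1) (h1 : E 0 ≠ 1) :
    Nonempty (gp E (sgl 7) ≃* KJ.K) := by
  obtain ⟨φ, h2, h3⟩ := pair_hom EK E (upA1 (satK.pair h)) (by rw [gpK, card_K])
  have : IsSimpleGroup (gp EK (sgl 7)) := gpK ▸ simple_K
  have hφ : Function.Injective φ := (MonoidHom.ker_eq_bot_iff φ).1 ((IsSimpleGroup.eq_bot_or_eq_top_of_normal φ.ker
    inferInstance).resolve_right fun e => h1 ((h2 0 (by decide)).symm.trans (e.ge (Subgroup.mem_top _))))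
  exact ⟨(MulEquiv.subgroupCongr h3.symm).trans ((φ.ofInjective hφ).symm.trans (MulEquiv.subgroupCongr gpK))⟩

end Cfsg.Agent.H28.HJ
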