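import Mathlib
import Cfsg.Agent.H28.Rep

/-! A computation in the symmetric group of degree six. -/

set_option autoImplicit false
set_option maxRecDepth 100000

namespace Cfsg.Agent.H28.HJ
open H14 H15 Equiv

noncomputable abbrev A6 : Amb (Perm (Fin 6)) (Fin 6) := (finCoord 5).permAmb 3 (by decide)
def o6 : ℕ := nat_lit 181896
def all6 : List ℕ := [nat_lit 181896, nat_lit 153224, nat_lit 178312, nat_lit 120968, nat_lit 146056, nat_lit 117384, nat_lit 181448, nat_lit 152776, nat_lit 174280, nat_lit 88264, nat_lit 142024, nat_lit 84680, nat_lit 177416, nat_lit 120072, nat_lit 173832, nat_lit 87816, nat_lit 109320, nat_lit 80648, nat_lit 144712, nat_lit 116040, nat_lit 141128, nat_lit 83784, nat_lit 108872, nat_lit 80200, nat_lit 181840, nat_lit 153168, nat_lit 178256, nat_lit 120912, nat_lit 146000, nat_lit 117328, nat_lit 180944, nat_lit 152272, nat_lit 170192, nat_lit 55504, nat_lit 137936, nat_lit 51920, nat_lit 176912, nat_lit 119568, nat_lit 169744, nat_lit 55056, nat_lit 105232,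 nat_lit 47888, nat_lit 144208, nat_lit 115536, nat_lit 137040, nat_lit 51024, nat_lit 104784, nat_lit 47440, nat_lit 181336, nat_lit 152664, nat_lit 174168, nat_lit 88152, nat_lit 141912, nat_lit 84568, nat_lit 180888, nat_lit 152216, nat_lit 170136, nat_lit 55448, nat_lit 137880, nat_lit 51864, nat_lit 172824, nat_lit 86808, nat_lit 169240, nat_lit 54552, nat_lit 72472, nat_lit 43800, nat_lit 140120, nat_lit 82776, nat_lit 136536, nat_lit 50520, nat_lit 72024, nat_lit 43352, nat_lit 177248, nat_lit 119904, nat_lit 173664, nat_lit 87648, nat_lit 109152, nat_lit 80480, nat_lit 176800, nat_lit 119456, nat_lit 169632, nat_lit 54944, nat_lit 105120, nat_lit 47776, nat_lit 172768, nat_lit 86752, nat_lit 169184, nat_lit 54496, nat_lit 72416, nat_lit 43744, nat_lit 107360, nat_lit 78688, nat_lit 103776, nat_lit 46432, nat_lit 71520, nat_lit 42848, nat_lit 144488, nat_lit 115816, nat_lit 140904, nat_lit 83560, nat_lit 108648, nat_lit 79976, nat_lit 144040, nat_lit 115368, nat_lit 136872,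 nat_lit 50856, nat_lit 104616, nat_lit 47272, nat_lit 140008, nat_lit 82664, nat_lit 136424, nat_lit 50408, nat_lit 71912, nat_lit 43240, nat_lit 107304, nat_lit 78632, nat_lit 103720, nat_lit 46376, nat_lit 71464, nat_lit 42792, nat_lit 181889, nat_lit 153217, nat_lit 178305, nat_lit 120961, nat_lit 146049, nat_lit 117377, nat_lit 181441, nat_lit 152769, nat_lit 174273, nat_lit 88257, nat_lit 142017, nat_lit 84673, nat_lit 177409, nat_lit 120065, nat_lit 173825, nat_lit 87809, nat_lit 109313, nat_lit 80641, nat_lit 144705, nat_lit 116033, nat_lit 141121, nat_lit 83777, nat_lit 108865, nat_lit 80193, nat_lit 181777, nat_lit 153105, nat_lit 178193, nat_lit 120849, nat_lit 145937, nat_lit 117265, nat_lit 180433, nat_lit 151761, nat_lit 166097, nat_lit 22737, nat_lit 133841, nat_lit 19153, nat_lit 176401, nat_lit 119057, nat_lit 165649, nat_lit 22289, nat_lit 101137, nat_lit 15121, nat_lit 143697, nat_lit 115025, nat_lit 132945, nat_lit 18257, nat_lit 100689, nat_lit 14673, nat_lit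 181273, nat_lit 152601, nat_lit 174105, nat_lit 88089, nat_lit 141849, nat_lit 84505, nat_lit 180377, nat_lit 151705, nat_lit 166041, nat_lit 22681, nat_lit 133785, nat_lit 19097, nat_lit 172313, nat_lit 86297, nat_lit 165145, nat_lit 21785, nat_lit 68377, nat_lit 11033, nat_lit 139609, nat_lit 82265, nat_lit 132441, nat_lit 17753, nat_lit 67929, nat_lit 10585, nat_lit 177185, nat_lit 119841, nat_lit 173601, nat_lit 87585, nat_lit 109089, nat_lit 80417, nat_lit 176289, nat_lit 118945, nat_lit 165537, nat_lit 22177, nat_lit 101025, nat_lit 15009, nat_lit 172257, nat_lit 86241, nat_lit 165089, nat_lit 21729, nat_lit 68321, nat_lit 10977, nat_lit 106849, nat_lit 78177, nat_lit 99681, nat_lit 13665, nat_lit 67425, nat_lit 10081, nat_lit 144425, nat_lit 115753, nat_lit 140841, nat_lit 83497, nat_lit 108585, nat_lit 79913, nat_lit 143529, nat_lit 114857, nat_lit 132777, nat_lit 18089, nat_lit 100521, nat_lit 14505, nat_lit 139497, nat_lit 82153, nat_lit 132329, nat_lit 17641, nat_lit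 67817, nat_lit 10473, nat_lit 106793, nat_lit 78121, nat_lit 99625, nat_lit 13609, nat_lit 67369, nat_lit 10025, nat_lit 181826, nat_lit 153154, nat_lit 178242, nat_lit 120898, nat_lit 145986, nat_lit 117314, nat_lit 180930, nat_lit 152258, nat_lit 170178, nat_lit 55490, nat_lit 137922, nat_lit 51906, nat_lit 176898, nat_lit 119554, nat_lit 169730, nat_lit 55042, nat_lit 105218, nat_lit 47874, nat_lit 144194, nat_lit 115522, nat_lit 137026, nat_lit 51010, nat_lit 104770, nat_lit 47426, nat_lit 181770, nat_lit 153098, nat_lit 178186, nat_lit 120842, nat_lit 145930, nat_lit 117258, nat_lit 180426, nat_lit 151754, nat_lit 166090, nat_lit 22730, nat_lit 133834, nat_lit 19146, nat_lit 176394, nat_lit 119050, nat_lit 165642, nat_lit 22282, nat_lit 101130, nat_lit 15114, nat_lit 143690, nat_lit 115018, nat_lit 132938, nat_lit 18250, nat_lit 100682, nat_lit 14666, nat_lit 180762, nat_lit 152090, nat_lit 170010, nat_lit 55322, nat_lit 137754, nat_lit 51738, nat_lit 180314, nat_lit 151642,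 nat_lit 165978, nat_lit 22618, nat_lit 133722, nat_lit 19034, nat_lit 168218, nat_lit 53530, nat_lit 164634, nat_lit 21274, nat_lit 35610, nat_lit 6938, nat_lit 135514, nat_lit 49498, nat_lit 131930, nat_lit 17242, nat_lit 35162, nat_lit 6490, nat_lit 176674, nat_lit 119330, nat_lit 169506, nat_lit 54818, nat_lit 104994, nat_lit 47650, nat_lit 176226, nat_lit 118882, nat_lit 165474, nat_lit 22114, nat_lit 100962, nat_lit 14946, nat_lit 168162, nat_lit 53474, nat_lit 164578, nat_lit 21218, nat_lit 35554, nat_lit 6882, nat_lit 102754, nat_lit 45410, nat_lit 99170, nat_lit 13154, nat_lit 34658, nat_lit 5986, nat_lit 143914, nat_lit 115242, nat_lit 136746, nat_lit 50730, nat_lit 104490, nat_lit 47146, nat_lit 143466, nat_lit 114794, nat_lit 132714, nat_lit 18026, nat_lit 100458, nat_lit 14442, nat_lit 135402, nat_lit 49386, nat_lit 131818, nat_lit 17130, nat_lit 35050, nat_lit 6378, nat_lit 102698, nat_lit 45354, nat_lit 99114, nat_lit 13098, nat_lit 34602, nat_lit 5930, nat_lit 181315,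 nat_lit 152643, nat_lit 174147, nat_lit 88131, nat_lit 141891, nat_lit 84547, nat_lit 180867, nat_lit 152195, nat_lit 170115, nat_lit 55427, nat_lit 137859, nat_lit 51843, nat_lit 172803, nat_lit 86787, nat_lit 169219, nat_lit 54531, nat_lit 72451, nat_lit 43779, nat_lit 140099, nat_lit 82755, nat_lit 136515, nat_lit 50499, nat_lit 72003, nat_lit 43331, nat_lit 181259, nat_lit 152587, nat_lit 174091, nat_lit 88075, nat_lit 141835, nat_lit 84491, nat_lit 180363, nat_lit 151691, nat_lit 166027, nat_lit 22667, nat_lit 133771, nat_lit 19083, nat_lit 172299, nat_lit 86283, nat_lit 165131, nat_lit 21771, nat_lit 68363, nat_lit 11019, nat_lit 139595, nat_lit 82251, nat_lit 132427, nat_lit 17739, nat_lit 67915, nat_lit 10571, nat_lit 180755, nat_lit 152083, nat_lit 170003, nat_lit 55315, nat_lit 137747, nat_lit 51731, nat_lit 180307, nat_lit 151635, nat_lit 165971, nat_lit 22611, nat_lit 133715, nat_lit 19027, nat_lit 168211, nat_lit 53523, nat_lit 164627, nat_lit 21267, nat_lit 35603,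 nat_lit 6931, nat_lit 135507, nat_lit 49491, nat_lit 131923, nat_lit 17235, nat_lit 35155, nat_lit 6483, nat_lit 172579, nat_lit 86563, nat_lit 168995, nat_lit 54307, nat_lit 72227, nat_lit 43555, nat_lit 172131, nat_lit 86115, nat_lit 164963, nat_lit 21603, nat_lit 68195, nat_lit 10851, nat_lit 168099, nat_lit 53411, nat_lit 164515, nat_lit 21155, nat_lit 35491, nat_lit 6819, nat_lit 69987, nat_lit 41315, nat_lit 66403, nat_lit 9059, nat_lit 34147, nat_lit 5475, nat_lit 139819, nat_lit 82475, nat_lit 136235, nat_lit 50219, nat_lit 71723, nat_lit 43051, nat_lit 139371, nat_lit 82027, nat_lit 132203, nat_lit 17515, nat_lit 67691, nat_lit 10347, nat_lit 135339, nat_lit 49323, nat_lit 131755, nat_lit 17067, nat_lit 34987, nat_lit 6315, nat_lit 69931, nat_lit 41259, nat_lit 66347, nat_lit 9003, nat_lit 34091, nat_lit 5419, nat_lit 177220, nat_lit 119876, nat_lit 173636, nat_lit 87620, nat_lit 109124, nat_lit 80452, nat_lit 176772, nat_lit 119428, nat_lit 169604, nat_lit 54916, nat_lit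 105092, nat_lit 47748, nat_lit 172740, nat_lit 86724, nat_lit 169156, nat_lit 54468, nat_lit 72388, nat_lit 43716, nat_lit 107332, nat_lit 78660, nat_lit 103748, nat_lit 46404, nat_lit 71492, nat_lit 42820, nat_lit 177164, nat_lit 119820, nat_lit 173580, nat_lit 87564, nat_lit 109068, nat_lit 80396, nat_lit 176268, nat_lit 118924, nat_lit 165516, nat_lit 22156, nat_lit 101004, nat_lit 14988, nat_lit 172236, nat_lit 86220, nat_lit 165068, nat_lit 21708, nat_lit 68300, nat_lit 10956, nat_lit 106828, nat_lit 78156, nat_lit 99660, nat_lit 13644, nat_lit 67404, nat_lit 10060, nat_lit 176660, nat_lit 119316, nat_lit 169492, nat_lit 54804, nat_lit 104980, nat_lit 47636, nat_lit 176212, nat_lit 118868, nat_lit 165460, nat_lit 22100, nat_lit 100948, nat_lit 14932, nat_lit 168148, nat_lit 53460, nat_lit 164564, nat_lit 21204, nat_lit 35540, nat_lit 6868, nat_lit 102740, nat_lit 45396, nat_lit 99156, nat_lit 13140, nat_lit 34644, nat_lit 5972, nat_lit 172572, nat_lit 86556, nat_lit 168988,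 nat_lit 54300, nat_lit 72220, nat_lit 43548, nat_lit 172124, nat_lit 86108, nat_lit 164956, nat_lit 21596, nat_lit 68188, nat_lit 10844, nat_lit 168092, nat_lit 53404, nat_lit 164508, nat_lit 21148, nat_lit 35484, nat_lit 6812, nat_lit 69980, nat_lit 41308, nat_lit 66396, nat_lit 9052, nat_lit 34140, nat_lit 5468, nat_lit 107052, nat_lit 78380, nat_lit 103468, nat_lit 46124, nat_lit 71212, nat_lit 42540, nat_lit 106604, nat_lit 77932, nat_lit 99436, nat_lit 13420, nat_lit 67180, nat_lit 9836, nat_lit 102572, nat_lit 45228, nat_lit 98988, nat_lit 12972, nat_lit 34476, nat_lit 5804, nat_lit 69868, nat_lit 41196, nat_lit 66284, nat_lit 8940, nat_lit 34028, nat_lit 5356, nat_lit 144453, nat_lit 115781, nat_lit 140869, nat_lit 83525, nat_lit 108613, nat_lit 79941, nat_lit 144005, nat_lit 115333, nat_lit 136837, nat_lit 50821, nat_lit 104581, nat_lit 47237, nat_lit 139973, nat_lit 82629, nat_lit 136389, nat_lit 50373, nat_lit 71877, nat_lit 43205, nat_lit 107269, nat_lit 78597, nat_lit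 103685, nat_lit 46341, nat_lit 71429, nat_lit 42757, nat_lit 144397, nat_lit 115725, nat_lit 140813, nat_lit 83469, nat_lit 108557, nat_lit 79885, nat_lit 143501, nat_lit 114829, nat_lit 132749, nat_lit 18061, nat_lit 100493, nat_lit 14477, nat_lit 139469, nat_lit 82125, nat_lit 132301, nat_lit 17613, nat_lit 67789, nat_lit 10445, nat_lit 106765, nat_lit 78093, nat_lit 99597, nat_lit 13581, nat_lit 67341, nat_lit 9997, nat_lit 143893, nat_lit 115221, nat_lit 136725, nat_lit 50709, nat_lit 104469, nat_lit 47125, nat_lit 143445, nat_lit 114773, nat_lit 132693, nat_lit 18005, nat_lit 100437, nat_lit 14421, nat_lit 135381, nat_lit 49365, nat_lit 131797, nat_lit 17109, nat_lit 35029, nat_lit 6357, nat_lit 102677, nat_lit 45333, nat_lit 99093, nat_lit 13077, nat_lit 34581, nat_lit 5909, nat_lit 139805, nat_lit 82461, nat_lit 136221, nat_lit 50205, nat_lit 71709, nat_lit 43037, nat_lit 139357, nat_lit 82013, nat_lit 132189, nat_lit 17501, nat_lit 67677, nat_lit 10333, nat_lit 135325,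 nat_lit 49309, nat_lit 131741, nat_lit 17053, nat_lit 34973, nat_lit 6301, nat_lit 69917, nat_lit 41245, nat_lit 66333, nat_lit 8989, nat_lit 34077, nat_lit 5405, nat_lit 107045, nat_lit 78373, nat_lit 103461, nat_lit 46117, nat_lit 71205, nat_lit 42533, nat_lit 106597, nat_lit 77925, nat_lit 99429, nat_lit 13413, nat_lit 67173, nat_lit 9829, nat_lit 102565, nat_lit 45221, nat_lit 98981, nat_lit 12965, nat_lit 34469, nat_lit 5797, nat_lit 69861, nat_lit 41189, nat_lit 66277, nat_lit 8933, nat_lit 34021, nat_lit 5349]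
def D6 : List (List ℕ) := [[nat_lit 181896, nat_lit 153224, nat_lit 178312, nat_lit 117384, nat_lit 181448, nat_lit 152776, nat_lit 173832, nat_lit 109320, nat_lit 83784, nat_lit 80200, nat_lit 181840, nat_lit 153168, nat_lit 178256, nat_lit 117328, nat_lit 180888, nat_lit 152216, nat_lit 172824, nat_lit 82776, nat_lit 169632, nat_lit 105120, nat_lit 169184, nat_lit 71520, nat_lit 50856, nat_lit 47272, nat_lit 50408, nat_lit 42792, nat_lit 181889, nat_lit 153217, nat_lit 178305, nat_lit 117377, nat_lit 181441, nat_lit 152769, nat_lit 173825, nat_lit 109313, nat_lit 83777, nat_lit 80193, nat_lit 181770, nat_lit 153098, nat_lit 178186, nat_lit 117258, nat_lit 180762, nat_lit 152090, nat_lit 169506, nat_lit 104994, nat_lit 50730, nat_lit 47146, nat_lit 180363, nat_lit 151691, nat_lit 172299, nat_lit 82251, nat_lit 180307, nat_lit 151635, nat_lit 168099, nat_lit 69987, nat_lit 49323, nat_lit 41259, nat_lit 165516, nat_lit 101004, nat_lit 165068, nat_lit 67404, nat_lit 165460, nat_lit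 100948, nat_lit 164508, nat_lit 66396, nat_lit 34476, nat_lit 34028, nat_lit 18061, nat_lit 14477, nat_lit 17613, nat_lit 9997, nat_lit 18005, nat_lit 14421, nat_lit 17053, nat_lit 8989, nat_lit 5797, nat_lit 5349], [nat_lit 181896, nat_lit 181889, nat_lit 181441, nat_lit 152769], all6, [nat_lit 181896, nat_lit 181840, nat_lit 180944, nat_lit 170192, nat_lit 55504, nat_lit 170178, nat_lit 55490, nat_lit 176898, nat_lit 170010, nat_lit 55322, nat_lit 176674, nat_lit 176912, nat_lit 119568, nat_lit 55056, nat_lit 47888, nat_lit 168218, nat_lit 53530, nat_lit 35610, nat_lit 177220, nat_lit 105232, nat_lit 177248, nat_lit 119904, nat_lit 109152, nat_lit 176800, nat_lit 119456, nat_lit 54944, nat_lit 105120, nat_lit 47776, nat_lit 107360, nat_lit 103776, nat_lit 46432, nat_lit 119876, nat_lit 109124, nat_lit 176772, nat_lit 119428, nat_lit 169604, nat_lit 54916, nat_lit 105092, nat_lit 47748, nat_lit 107332, nat_lit 103748, nat_lit 46404, nat_lit 107052, nat_lit 103468, nat_lit 46124]]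
def S6 (d : ℕ) : Set (Perm (Fin 6)) := {g | ∃ a, a ∈ nthW D6 d ∧ A6.el a = g}
noncomputable def R6 : Rep (ambNum A6 o6 D6) S6 := Rep.amb A6 o6 D6 (by decide +kernel)
theorem env6 : R6.Env (nthD o6 []) (lt 1 []) := amb_env A6 (by decide +kernel) [] rfl
theorem univ6 (g : Perm (Fin 6)) : g ∈ S6 2 :=
  amb_univ A6 (L := all6) (by decide +kernel) (by decide +kernel)
    (by rw [Nat.card_perm, Nat.card_fin]; decide +kernel) g
theorem l1 : ∀ x ∈ S6 2, x * x = 1 → ∃ y ∈ S6 0, y = x :=
  env6.sound (.all 20 2 (.imp (.eq (.m (.v 20) (.v 20)) .o) (.ex 21 0 (.eq (.v 21) (.v 20))))) (by decide +kernel)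
theorem l2 : ∀ x ∈ S6 0, ∃ c ∈ S6 3, ∃ y ∈ S6 1, c * x * c⁻¹ = y :=
  env6.sound (.all 20 0 (.ex 21 3 (.ex 22 1 (.eq (.m (.m (.v 21) (.v 20)) (.i (.v 21))) (.v 22))))) (by decide +kernel)
theorem l3 : ∀ s ∈ S6 1, ∀ r ∈ S6 0, (s * r) ^ 2 ≠ 1 → (s * r) ^ 4 = 1 → ∀ g ∈ S6 0, (g * r) ^ 3 = 1 → g * (s * r) ^ 2 * g = s → ∀ k ∈ S6 0, (k * s) ^ 3 = 1 → k * (s * r) ^ 2 * k = r → ∀ y ∈ S6 0, (y * g * r) ^ 2 = 1 → (y * (s * r) ^ 2) ^ 3 = 1 → y = s * k * g * k * s ∨ y = r * (s * k * g * k * s) * r :=
  env6.sound (.all 20 1 (.all 21 0 (.imp (.not (.eq (.p (.m (.v 20) (.v 21)) 2) .o)) (.imp (.eq (.p (.m (.v 20) (.v 21)) 4) .o) (.all 22 0 (.imp (.eq (.p (.m (.v 22) (.v 21)) 3) .o) (.imp (.eq (.m (.m (.v 22) (.p (.m (.v 20) (.v 21)) 2)) (.v 22)) (.v 20)) (.all 23 0 (.imp (.eq (.p (.m (.v 23) (.v 20)) 3) .o) (.imp (.eq (.m (.m (.v 23) (.p (.m (.v 20) (.v 21)) 2)) (.v 23)) (.v 21)) (.all 24 0 (.imp (.eq (.p (.m (.m (.v 24) (.v 22)) (.v 21)) 2) .o) (.imp (.eq (.p (.m (.v 24) (.p (.m (.v 20) (.v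 21)) 2)) 3) .o) (.or (.eq (.v 24) (.m (.m (.m (.m (.v 20) (.v 23)) (.v 22)) (.v 23)) (.v 20))) (.eq (.v 24) (.m (.m (.v 21) (.m (.m (.m (.m (.v 20) (.v 23)) (.v 22)) (.v 23)) (.v 20))) (.v 21))))))))))))))))) (by decide +kernel)

theorem six {K : Type*} [Group K] (ψ : K →* Perm (Fin 6)) (hψ : Function.Injective ψ) {s r g k y : K}
    (ss : s * s = 1) (rr : r * r = 1) (gg : g * g = 1) (kk : k * k = 1) (yy : y * y = 1)
    (h1 : (s * r) ^ 2 ≠ 1) (h2 : (s * r) ^ 4 = 1) (h3 : (g * r) ^ 3 = 1) (h4 : g * (s * r) ^ 2 * g = s)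
    (h5 : (k * s) ^ 3 = 1) (h6 : k * (s * r) ^ 2 * k = r) (h7 : (y * g * r) ^ 2 = 1)
    (h8 : (y * (s * r) ^ 2) ^ 3 = 1) : y = s * k * g * k * s ∨ y = r * (s * k * g * k * s) * r := by
  have I : ∀ (φ : K →* Perm (Fin 6)) {x : K}, x * x = 1 → φ x ∈ S6 0 := fun φ x h => by
    obtain ⟨y, hy, e⟩ := l1 (φ x) (univ6 _) (by rw [← map_mul, h, map_one])
    exact e ▸ hy
  obtain ⟨c, -, p, hp, e⟩ := l2 _ (I ψ ss)
  obtain ⟨φ, hφ, hs⟩ : ∃ φ : K →* Perm (Fin 6), Function.Injective φ ∧ φ s ∈ S6 1 :=
    ⟨(MulAut.conj c).toMonoidHom.comp ψ, (MulAut.conj c).injective.comp hψ, (e ▸ hp : c * ψ s * c⁻¹ ∈ S6 1)⟩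
  have := l3 _ hs _ (I φ rr) (fun e => h1 (hφ (by simpa using e))) (by simpa using congrArg φ h2) _ (I φ gg)
    (by simpa using congrArg φ h3) (by simpa using congrArg φ h4) _ (I φ kk) (by simpa using congrArg φ h5)
    (by simpa using congrArg φ h6) _ (I φ yy) (by simpa using congrArg φ h7) (by simpa using congrArg φ h8)
  exact this.imp (fun e => hφ (by simpa using e)) fun e => hφ (by simpa using e)

end Cfsg.Agent.H28.HJ
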