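import Mathlib
import Cfsg.Agent.H28.HJ2

/-! More facts read off from the models. -/

set_option autoImplicit false
set_option maxRecDepth 100000

namespace Cfsg.Agent.H28.HJ
open H14 H15

variable {G : Type*} [Group G] {a b c d e z t m s r h u : G} {Q S H : Subgroup G} {Y : Set G}

theorem MH.v4 (M : MH s r h u t z H Y) : {x | x ∈ H ∧ ((x = 1 ∨ x = z ∨ x = s ∨ x = s * z))}.ncard = 4 :=
  let ⟨_, h, k⟩ := M.ex; (h.ncard k 20 (.or (.eq (.v 20) .o) (.or (.eq (.v 20) (.v 6)) (.or (.eq (.v 20) (.v 0)) (.eq (.v 20) (.m (.v 0) (.v 6))))))).trans (by decide +kernel)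
theorem MH.v8 (M : MH s r h u t z H Y) : {x | x ∈ H ∧ ((x = 1 ∨ x = z ∨ x = s ∨ x = s * z) ∨ (x * (u * t * u⁻¹) = 1 ∨ x * (u * t * u⁻¹) = z ∨ x * (u * t * u⁻¹) = s ∨ x * (u * t * u⁻¹) = s * z))}.ncard = 8 :=
  let ⟨_, h, k⟩ := M.ex; (h.ncard k 20 (.or (.or (.eq (.v 20) .o) (.or (.eq (.v 20) (.v 6)) (.or (.eq (.v 20) (.v 0)) (.eq (.v 20) (.m (.v 0) (.v 6)))))) (.or (.eq (.m (.v 20) (.v 7)) .o) (.or (.eq (.m (.v 20) (.v 7)) (.v 6)) (.or (.eq (.m (.v 20) (.v 7)) (.v 0)) (.eq (.m (.v 20) (.v 7)) (.m (.v 0) (.v 6)))))))).trans (by decide +kernel)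
theorem MH.j1 (M : MH s r h u t z H Y) : (r * t * r) * t * (r * t * r) = t * z ∧ (r * t * r) * (u * t * u⁻¹) * (r * t * r) = (u * t * u⁻¹) * s * z ∧ (r * t * r) * z = z * (r * t * r) ∧ (u * t * u⁻¹) * (u * t * u⁻¹) = 1 ∧ (u * t * u⁻¹) * s = s * (u * t * u⁻¹) ∧ (u * t * u⁻¹) * z = z * (u * t * u⁻¹) ∧ (u * t * u⁻¹) * (u⁻¹ * t * u) = t ∧ (u * t * u⁻¹) ≠ t ∧ (u * t * u⁻¹) ≠ 1 ∧ ¬ (t = 1 ∨ t = z ∨ t = s ∨ t = s * z) ∧ ¬ (t * (u * t * u⁻¹) = 1 ∨ t * (u * t * u⁻¹) = z ∨ t * (u * t * u⁻¹) = s ∨ t * (u * t * u⁻¹) = s * z) :=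
  let ⟨_, h, _⟩ := M.ex; h.sound (.and (.eq (.m (.m (.v 9) (.v 5)) (.v 9)) (.m (.v 5) (.v 6))) (.and (.eq (.m (.m (.v 9) (.v 7)) (.v 9)) (.m (.m (.v 7) (.v 0)) (.v 6))) (.and (.eq (.m (.v 9) (.v 6)) (.m (.v 6) (.v 9))) (.and (.eq (.m (.v 7) (.v 7)) .o) (.and (.eq (.m (.v 7) (.v 0)) (.m (.v 0) (.v 7))) (.and (.eq (.m (.v 7) (.v 6)) (.m (.v 6) (.v 7))) (.and (.eq (.m (.v 7) (.v 8)) (.v 5)) (.and (.not (.eq (.v 7) (.v 5))) (.and (.not (.eq (.v 7) .o)) (.and (.not (.or (.eq (.v 5) .o) (.or (.eq (.v 5) (.v 6)) (.or (.eq (.v 5) (.v 0)) (.eq (.v 5) (.m (.v 0) (.v 6))))))) (.not (.or (.eq (.m (.v 5) (.v 7)) .o) (.or (.eq (.m (.v 5) (.v 7)) (.v 6)) (.or (.eq (.m (.v 5) (.v 7)) (.v 0)) (.eq (.m (.v 5) (.v 7)) (.m (.v 0) (.v 6))))))))))))))))) (by decide +kernel)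
theorem MH.j2 (M : MH s r h u t z H Y) : ∀ v ∈ H, v * s = s * v → v ^ 3 = 1 → (v * t * v⁻¹ = (u * t * u⁻¹) ∨ v * t * v⁻¹ = (u⁻¹ * t * u)) → ∃ y ∈ H, y * t = t * y ∧ (y * v * y⁻¹ = u ∨ y * v * y⁻¹ = u⁻¹) :=
  let ⟨_, h, _⟩ := M.ex; h.sound (.all 20 0 (.imp (.eq (.m (.v 20) (.v 0)) (.m (.v 0) (.v 20))) (.imp (.eq (.p (.v 20) 3) .o) (.imp (.or (.eq (.m (.m (.v 20) (.v 5)) (.i (.v 20))) (.v 7)) (.eq (.m (.m (.v 20) (.v 5)) (.i (.v 20))) (.v 8))) (.ex 21 0 (.and (.eq (.m (.v 21) (.v 5)) (.m (.v 5) (.v 21))) (.or (.eq (.m (.m (.v 21) (.v 20)) (.i (.v 21))) (.v 3)) (.eq (.m (.m (.v 21) (.v 20)) (.i (.v 21))) (.v 4))))))))) (by decide +kernel)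
theorem MH.j3 (M : MH s r h u t z H Y) : ∀ x ∈ H, (x = 1 ∨ x = z ∨ x = s ∨ x = s * z) → (x = 1 ∨ x = t ∨ x = (u * t * u⁻¹) ∨ x = (u * t * u⁻¹) * t) → x = 1 :=
  let ⟨_, h, _⟩ := M.ex; h.sound (.all 20 0 (.imp (.or (.eq (.v 20) .o) (.or (.eq (.v 20) (.v 6)) (.or (.eq (.v 20) (.v 0)) (.eq (.v 20) (.m (.v 0) (.v 6)))))) (.imp (.or (.eq (.v 20) .o) (.or (.eq (.v 20) (.v 5)) (.or (.eq (.v 20) (.v 7)) (.eq (.v 20) (.m (.v 7) (.v 5)))))) (.eq (.v 20) .o)))) (by decide +kernel)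
theorem MH.j4 (M : MH s r h u t z H Y) : ∀ x ∈ H, x * t = t * x → (x⁻¹ * (u * x * u⁻¹) = 1 ∨ x⁻¹ * (u * x * u⁻¹) = z ∨ x⁻¹ * (u * x * u⁻¹) = s ∨ x⁻¹ * (u * x * u⁻¹) = s * z) → (x = 1 ∨ x = z ∨ x = s ∨ x = s * z) :=
  let ⟨_, h, _⟩ := M.ex; h.sound (.all 20 0 (.imp (.eq (.m (.v 20) (.v 5)) (.m (.v 5) (.v 20))) (.imp (.or (.eq (.m (.i (.v 20)) (.m (.m (.v 3) (.v 20)) (.v 4))) .o) (.or (.eq (.m (.i (.v 20)) (.m (.m (.v 3) (.v 20)) (.v 4))) (.v 6)) (.or (.eq (.m (.i (.v 20)) (.m (.m (.v 3) (.v 20)) (.v 4))) (.v 0)) (.eq (.m (.i (.v 20)) (.m (.m (.v 3) (.v 20)) (.v 4))) (.m (.v 0) (.v 6)))))) (.or (.eq (.v 20) .o) (.or (.eq (.v 20) (.v 6)) (.or (.eq (.v 20) (.v 0)) (.eq (.v 20) (.m (.v 0) (.v 6))))))))) (by decide +kernel)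
theorem MH.j5 (M : MH s r h u t z H Y) : ∀ x ∈ H, (x ^ 4) ^ 4 = 1 → (x ^ 4) ^ 2 = 1 :=
  let ⟨_, h, _⟩ := M.ex; h.sound (.all 20 0 (.imp (.eq (.p (.p (.v 20) 4) 4) .o) (.eq (.p (.p (.v 20) 4) 2) .o))) (by decide +kernel)
theorem MH.rel (M : MH s r h u t z H Y) (l : List G) :
    ∀ p ∈ BH, lprod (lt 1 (s :: r :: h :: u :: u⁻¹ :: t :: l)) p.1 ^ p.2 = 1 := by
  obtain ⟨_, k, _⟩ := M.ex
  have := (k.sat (T := 164412590461558848) (L := 10) (B := BH) (fun _ h => lt_of_le h) (by decide +kernel)).hB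
  simpa only [BH, List.forall_mem_cons, lprod_cons, lprod_nil, lt, List.not_mem_nil, false_imp_iff, implies_true]
    using this

structure MA (H : Subgroup G) (Y : Set G) : Prop where
  ex : ∃ R : Rep TA.num fun k => Nat.rec (motive := fun _ => Set G) H (fun _ _ => Y) k,
    R.Env (nthD 0 []) (lt 1 []) ∧ True

theorem mA_of (e : H ≃* alternatingGroup (Fin 5)) : ∃ Y, MA H Y := by
  obtain ⟨X, R, -, -, h3, -, h5⟩ := repA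
  have h1 : gp EA (sgl 4) = alternatingGroup (Fin 5) := Equiv.Perm.eq_alternatingGroup_of_index_eq_two (by
    have h6 := (upA satA).2
    have := (gp EA (sgl 4)).card_mul_index
    rw [Nat.card_perm, Nat.card_fin, show Nat.card (gp EA (sgl 4)) = 60 by omega] at this
    simp only [Nat.factorial] at this
    omega)
  let e' := (MulEquiv.subgroupCongr h1).trans e.symm
  have hφ : Function.Injective (H.subtype.comp e'.toMonoidHom) := H.subtype_injective.comp e'.injective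
  refine ⟨_, (R.lift _ h3 _ hφ).copy (S' := fun k => Nat.rec (motive := fun _ => Set G) H
    (fun _ _ => {y | ∃ x : gp EA (sgl 4), (x : Equiv.Perm (Fin 5)) ∈ X ∧ (H.subtype.comp e'.toMonoidHom) x = y}) k)
    fun d g => ?_, fun _ => ⟨R.ok_one, (R.lift _ h3 _ hφ).val_one⟩, trivial⟩
  cases d
  · exact ⟨fun hg => ⟨e'.symm ⟨g, hg⟩, (e'.symm ⟨g, hg⟩).2, by simp⟩, fun ⟨x, _, k⟩ => k ▸ (e' x).2⟩
  · exact Iff.rfl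

theorem MA.uniq (M : MA H Y) : ∀ z ∈ H, z * z = 1 → z ≠ 1 → ∀ w ∈ H, w ^ 3 = 1 → w * z * w⁻¹ ≠ z → z * (w * z * w⁻¹) = w * z * w⁻¹ * z → ∃ y ∈ H, (y * y = 1 ∧ (y * w) ^ 2 = 1 ∧ (y * z) ^ 3 = 1) ∧ (∀ x ∈ H, x * x = 1 → (x * w) ^ 2 = 1 → (x * z) ^ 3 = 1 → x = y) :=
  let ⟨_, h, _⟩ := M.ex; h.sound (.all 20 0 (.imp (.eq (.m (.v 20) (.v 20)) .o) (.imp (.not (.eq (.v 20) .o)) (.all 21 0 (.imp (.eq (.p (.v 21) 3) .o) (.imp (.not (.eq (.m (.m (.v 21) (.v 20)) (.i (.v 21))) (.v 20))) (.imp (.eq (.m (.v 20) (.m (.m (.v 21) (.v 20)) (.i (.v 21)))) (.m (.m (.m (.v 21) (.v 20)) (.i (.v 21))) (.v 20))) (.ex 22 0 (.and (.and (.eq (.m (.v 22) (.v 22)) .o) (.and (.eq (.p (.m (.v 22) (.v 21)) 2) .o) (.eq (.p (.m (.v 22) (.v 20)) 3) .o))) (.all 23 0 (.imp (.eq (.m (.v 23) (.v 23)) .o) (.imp (.eq (.p (.m (.v 23) (.v 21)) 2) .o)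 (.imp (.eq (.p (.m (.v 23) (.v 20)) 3) .o) (.eq (.v 23) (.v 22))))))))))))))) (by decide +kernel)

end Cfsg.Agent.H28.HJ
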