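import Mathlib
import Cfsg.Agent.H28.HJ3
import Cfsg.Agent.H28.HJf2
import Cfsg.Agent.H28.HJk

/-! Two classes of involutions: the Hall–Janko group. -/

set_option autoImplicit false

namespace Cfsg.Agent.H28.HJ
open Subgroup L1ES H15 Equiv FT

variable {G : Type*} [Group G] {z s r h u t g : G} {Q : Subgroup G}

theorem kk {a b c : G} (e : a * b = c) (w : G) : a * (b * w) = c * w := by rw [← mul_assoc, e]

def four (z s : G) (zz : z * z = 1) (ss : s * s = 1) (sz : s * z = z * s) : Subgroup G where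
  carrier := {x | x = 1 ∨ x = z ∨ x = s ∨ x = s * z}
  one_mem' := .inl rfl
  mul_mem' := by
    rintro _ _ (rfl | rfl | rfl | rfl) (rfl | rfl | rfl | rfl) <;>
      simp [mul_assoc, kk zz, kk ss, kk sz.symm, zz, ss, sz.symm]
  inv_mem' := by
    rintro _ (rfl | rfl | rfl | rfl) <;> simp [inv2 zz, inv2 ss, sz]

theorem idx2 {M X : Subgroup G} (h : M.relIndex X = 2) {a b : G} (ha : a ∈ X) (hb : b ∈ X) :
    a * b ∈ M ↔ (a ∈ M ↔ b ∈ M) := mul_mem_iff_of_index_two (H := M.subgroupOf X) h (a := ⟨a, ha⟩) (b := ⟨b, hb⟩)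

theorem idx3 {M X : Subgroup G} (h : M.relIndex X = 2) {a : G} (ha : a ∈ X) (h3 : a ^ 3 = 1) : a ∈ M := by
  have := (idx2 h ha ha).2 Iff.rfl
  rw [← inv_mem_iff, inv_eq_of_mul_eq_one_left (show a * a * a = 1 by rw [← h3]; simp [pow_succ])]
  exact this

theorem idx4 {M X : Subgroup G} (h : M.relIndex X = 2) {a c : G} (ha : a ∈ X) (hc : c ∈ X) :
    c * a * c⁻¹ ∈ M ↔ a ∈ M := by
  rw [idx2 h (mul_mem hc ha) (inv_mem hc), idx2 h hc ha, inv_mem_iff]; tauto

namespace B2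
variable (B : B2 z Q s r h u t g)
include B

theorem gs : g * s * g = z := by rw [← B.gz]; simp only [mul_assoc, kk B.gg, B.gg, one_mul, mul_one]

theorem zs : IsConj z s := isConj_iff.2 ⟨g, by rw [inv2 B.gg, B.gz]⟩

theorem wf : ∃ w, w = g * r * u⁻¹ ∧ w * t = t * w ∧ w * u = u * w ∧ w * z * w⁻¹ = s ∧ w * s * w⁻¹ = s * z ∧
    w * (s * z) * w⁻¹ = z ∧ w ^ 3 = 1 := by
  obtain ⟨Y, M⟩ := B.mh
  obtain ⟨ss, rr, -, tt, zz, u3, us, ur, -, rs, -, -, -, -, -, -, rb, -⟩ := M.h8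
  obtain ⟨sz, rz, -, uz, -⟩ := B.gens
  have c : Commute (g * r) u := Commute.mul_left B.gu ur.symm
  have e1 : g * r * u⁻¹ * z * (g * r * u⁻¹)⁻¹ = s := by
    rw [cjm, cjf (Commute.inv_left uz).eq, cjm, cjf rz, inv2 B.gg, B.gz]
  have e2 : g * r * u⁻¹ * s * (g * r * u⁻¹)⁻¹ = s * z := by
    rw [cjm, cjf (Commute.inv_left us).eq, cjm, inv2 rr, rs, ← conj_mul, inv2 B.gg, B.gs, B.gz, sz]
  refine ⟨_, rfl, ?_, (c.mul_left (Commute.refl u).inv_left).eq, e1, e2, ?_, ?_⟩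
  · rw [← mul_inv_eq_iff_eq_mul, cjm, cjm, inv_inv, inv2 rr, rb, ← B.gt, inv2 B.gg]
    simp only [mul_assoc, kk B.gg, B.gg, one_mul, mul_one]
  · rw [← conj_mul, e1, e2, mul_assoc, ← sz, kk ss, one_mul]
  · rw [c.inv_right.mul_pow, B.gr, inv_pow, u3, inv_one, one_mul]

theorem rel (l : List G) : ∀ p ∈ BH ++ BG, lprod (lt 1 (s :: r :: h :: u :: u⁻¹ :: t :: g :: l)) p.1 ^ p.2 = 1 := by
  obtain ⟨Y, M⟩ := B.mh
  obtain ⟨ss, rr, -, tt, -, -, -, -, -, -, -, -, -, sr, -⟩ := M.h8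
  refine List.forall_mem_append.2 ⟨M.rel _, ?_⟩
  simp only [BG, List.forall_mem_cons, lprod_cons, lprod_nil, lt, List.not_mem_nil, false_imp_iff, implies_true,
    mul_one, pow_one, and_true]
  refine ⟨by rw [← B.gu, kk B.gg]; simp, B.gr, ?_, ?_⟩
  · rw [← mul_assoc, ← mul_assoc, B.gt]
    simp only [mul_assoc, mul_inv_cancel_left, kk rr, kk tt, one_mul, inv_mul_cancel]
  · simp only [← mul_assoc] at sr ⊢
    rw [mul_assoc g, mul_assoc g, mul_assoc g, sr, B.gz, ss]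

theorem inv7 : ∀ k < 7, lt 1 [s, r, h, u, u⁻¹, t, g] (invT 417736958016 7 k) * lt 1 [s, r, h, u, u⁻¹, t, g] k = 1 := by
  obtain ⟨Y, M⟩ := B.mh
  obtain ⟨ss, rr, hh, tt, -⟩ := M.h8
  intro k hk
  interval_cases k
  exacts [ss, rr, hh, inv_mul_cancel u, mul_inv_cancel u, tt, B.gg]

theorem gen' (l : List G) : gp (lt 1 (s :: r :: h :: u :: u⁻¹ :: t :: l)) (sgl 6) = C[z] := by
  rw [← B.gen]
  refine le_antisymm (gp_sgl_le fun k hk => ?_) (gp_sgl_le fun k hk => ?_) <;> interval_cases k <;>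
    exact mem_gp_sgl hk

variable [Finite G]

/-- the centraliser of an involution of the second class -/
theorem ct (hn : ¬ IsConj t z) : ∃ y, y * y = 1 ∧ y * t = t * y ∧ y * u = u * y ∧ (y * (g * r * u⁻¹)) ^ 2 = 1 ∧
    (y * z) ^ 3 = 1 ∧ (y * s) ^ 5 = 1 ∧ Nat.card C[t] = 240 := by
  obtain ⟨Y, M⟩ := B.mh
  obtain ⟨ss, rr, hh, tt, zz, u3, us, ur, ts, rs, hs, -, -, -, ta, at', -⟩ := M.h8
  obtain ⟨-, -, -, -, -, -, -, n8, n9, -, -, n12, n13, n14, n15, n16, n17, -⟩ := M.h6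
  obtain ⟨-, -, -, aa, as, az, ab, -, -, nt, nta⟩ := M.j1
  obtain ⟨sz, rz, hz, uz, tz⟩ := B.gens
  obtain ⟨w, hw, wt, wu, wz, ws, wsz, w3⟩ := B.wf
  rw [← hw]
  have wa : w * (u * t * u⁻¹) = u * t * u⁻¹ * w := by simpa only [cjf wu.symm] using cjc u wt
  have a2 := M.a2
  have a3 := M.a3
  have v8 := M.v8
  have ca : IsConj t (u * t * u⁻¹) := isConj_iff.2 ⟨u, rfl⟩
  have cb : IsConj t (u⁻¹ * t * u) := isConj_iff.2 ⟨u⁻¹, by rw [inv_inv]⟩
  have ua : u⁻¹ * (u * t * u⁻¹) * u = t := by group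
  have ub : u * (u⁻¹ * t * u) * u⁻¹ = t := by group
  generalize u * t * u⁻¹ = a at *
  generalize u⁻¹ * t * u = b at *
  set V := four z s zz ss sz
  have mV : ∀ {x}, x ∈ V ↔ x = 1 ∨ x = z ∨ x = s ∨ x = s * z := Iff.rfl
  have zV : z ∈ V := mV.2 (by simp)
  have sV : s ∈ V := mV.2 (by simp)
  have Vle : ∀ {K : Subgroup G}, z ∈ K → s ∈ K → V ≤ K := fun h1 h2 => by
    rintro _ (rfl | rfl | rfl | rfl)
    exacts [one_mem _, h1, h2, mul_mem h2 h1]
  have cV : ∀ x ∈ V, x ≠ 1 → ∃ c ∈ zpowers w, c * z * c⁻¹ = x := by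
    rintro _ (rfl | rfl | rfl | rfl) h
    exacts [absurd rfl h, ⟨1, one_mem _, by simp⟩, ⟨w, mem_zpowers w, wz⟩, ⟨w⁻¹, inv_mem (mem_zpowers w), cji wsz⟩]
  have nV : ∀ x c, IsConj t x → c * x * c⁻¹ ∉ V := fun x c hx e => by
    obtain ⟨d, -, e'⟩ := cV _ e fun e => n9 (isConj_one_left.1 (cj1 e ▸ hx))
    exact hn (hx.trans ((isConj_iff.2 ⟨c, rfl⟩).trans (isConj_iff.2 ⟨d, e'⟩).symm))
  have c4 : #V = 4 := by
    rw [← M.v4, ← Nat.card_coe_set_eq]
    exact congrArg (fun S : Set G => Nat.card S) (Set.ext fun x => ⟨fun h => ⟨Vle (memC.2 rfl) (memC.2 sz) h, h⟩, And.right⟩)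
  have Va : V ≤ C[a] := Vle (memC.2 az.symm) (memC.2 as.symm)
  let T : Subgroup G :=
    { carrier := {x | x ∈ V ∨ x * a ∈ V}
      one_mem' := .inl (one_mem _)
      mul_mem' := by
        rintro x y (hx | hx) (hy | hy)
        · exact .inl (mul_mem hx hy)
        · exact .inr (mul_assoc x y a ▸ mul_mem hx hy)
        · exact .inr (by rw [mul_assoc, memC.1 (Va hy), ← mul_assoc]; exact mul_mem hx hy)
        · refine .inl ?_
          have := mul_mem hx hy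
          rwa [mul_assoc, ← memC.1 (Va hy), mul_assoc, aa, mul_one] at this
      inv_mem' := by
        rintro x (hx | hx)
        · exact .inl (inv_mem hx)
        · refine .inr ?_
          have := inv_mem hx
          rwa [show x * a = a * x by simpa [mul_assoc, aa, kk aa] using congrArg (· * a) (memC.1 (Va hx)),
            mul_inv_rev, inv2 aa] at this }
  set A := C[z] ⊓ C[t]
  have VA : V ≤ A := Vle ⟨memC.2 rfl, memC.2 tz.symm⟩ ⟨memC.2 sz, memC.2 ts.symm⟩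
  have aA : a ∈ A := ⟨memC.2 az, memC.2 (at'.trans ta.symm)⟩
  have tA : t ∈ A := ⟨memC.2 tz, memC.2 rfl⟩
  have bA : b ∈ A := ta ▸ mul_mem tA aA
  have TA : T ≤ A := fun x hx => hx.elim (fun h => VA h) fun h => (mul_mem_cancel_right aA).1 (VA h)
  have c8 : #T = 8 := by
    rw [← v8, ← Nat.card_coe_set_eq]
    exact congrArg (fun S : Set G => Nat.card S) (Set.ext fun x => ⟨fun h => ⟨(TA h).1, h⟩, And.right⟩)
  have c16 : #A = 16 := by
    rw [← M.a1, ← Nat.card_coe_set_eq]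
    exact congrArg (fun S : Set G => Nat.card S) (Set.ext fun x => and_congr_right fun _ => memC)
  have zA : ∀ c, c * z * c⁻¹ ∈ A → c * z * c⁻¹ ∈ V := fun c hc => by
    rcases a2 _ hc.1 (memC.1 hc.2) with e | e | e | e | ⟨y, -, e, -⟩
    exacts [mV.2 (.inl e), mV.2 (.inr (.inl e)), mV.2 (.inr (.inr (.inl e))), mV.2 (.inr (.inr (.inr e))),
      absurd ((isConj_iff.2 ⟨y, e⟩).trans (isConj_iff.2 ⟨c, rfl⟩).symm) hn]
  have wC : w ∈ C[t] := memC.2 wt
  have w1 : w ≠ 1 := fun e => n8 (by rw [← wz, e]; simp)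
  have hS : Syl 2 A C[t] := syl_of_subnorm inf_le_right (syl_of_max (pGrp_of_card (n := 4) Nat.prime_two c16)
    (le_inf inf_le_right le_normalizer) fun P hP h1 h2 => le_antisymm (fun x hx => ?_) h1)
  swap
  · obtain ⟨c, hc, e⟩ := cV _ (zA x (conj_mem (h2 hx).2 (VA zV))) fun e => n13 (cj1 e)
    have cC : c ∈ C[t] := zpowers_le.2 wC hc
    have h3 : c⁻¹ * x ∈ A := mem_inf.2 ⟨memC.2 (by rw [← mul_inv_eq_iff_eq_mul, cjm, ← e]; group),
      mul_mem (inv_mem cC) (mem_inf.1 (h2 hx)).1⟩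
    have h4 : c ∈ P := by simpa using mul_mem hx (inv_mem (h1 h3))
    obtain ⟨n, hn⟩ := hP.isPGroup ⟨c, h4⟩
    have h5 : c ^ 3 = 1 := by
      obtain ⟨m, rfl⟩ := hc
      rw [← zpow_natCast, ← zpow_mul, mul_comm, zpow_mul, zpow_natCast, w3, one_zpow]
    have : c = 1 := orderOf_eq_one_iff.1 (Nat.eq_one_of_dvd_coprimes (Nat.Coprime.pow_left n (by norm_num))
      (orderOf_dvd_of_pow_eq_one (congrArg Subtype.val hn)) (orderOf_dvd_of_pow_eq_one h5))
    simpa [this] using h3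
  have inV : ∀ {X K : Subgroup G}, K.relIndex X = 2 → w ∈ X → V ≤ X → V ≤ K := fun {X K} h hw hV => by
    have e1 := idx4 h (hV zV) hw
    have e2 := idx4 h (hV sV) hw
    rw [wz] at e1
    rw [ws, idx2 h (hV sV) (hV zV)] at e2
    exact Vle (by tauto) (by tauto)
  obtain ⟨M1, m1, m2, m3⟩ := GW.thompson hS TA (H3.relIndex_of_card_mul TA (by rw [c16, c8])) (memC.2 rfl) tt
    fun c hc => by
      rw [cjf (memC.1 hc)]
      exact fun e => e.elim nt nta
  have w2 := idx3 m2 wC w3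
  have V1 := inV m2 wC (VA.trans inf_le_right)
  obtain ⟨s1, s2⟩ := GW.syl_inf_index_two hS m1 m2
  obtain ⟨p, p1, p2, p3⟩ : ∃ p ∈ M1, p * p = 1 ∧ IsConj t p := by
    by_cases h : a ∈ M1
    · exact ⟨a, h, aa, ca⟩
    · refine ⟨b, ?_, (a3 b bA.1 (memC.1 bA.2)).1, cb⟩
      rw [← ab, idx2 m2 aA.2 bA.2] at m3
      tauto
  obtain ⟨Y, y1, y2, -⟩ := GW.thompson s1 (le_inf VA V1) (H3.relIndex_of_card_mul (le_inf VA V1) (by omega)) p1 p2
    fun c _ => nV p c p3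
  have w4 := idx3 y2 w2 w3
  have V2 := inV y2 w2 V1
  obtain ⟨s3, s4⟩ := GW.syl_inf_index_two s1 y1 y2
  have eV : V = A ⊓ M1 ⊓ Y := eq_of_le_of_card_ge (le_inf (le_inf VA V1) V2) (by omega)
  rw [← eV] at s3
  have YC := y1.trans m1
  have cY : ∀ x ∈ Y, x * z = z * x → x ∈ V := fun x hx e => eV ▸ ⟨⟨⟨memC.2 e, YC hx⟩, y1 hx⟩, hx⟩
  have o3 : ∀ x ∈ C[t], x ^ 3 = 1 → x ∈ Y := fun x hx e => idx3 y2 (idx3 m2 hx e) e
  have wY : zpowers w ≤ Y := zpowers_le.2 w4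
  have cz : C[(⟨z, V2 zV⟩ : Y)] = V.subgroupOf Y := by
    ext x
    exact ⟨fun h => cY x x.2 (congrArg Subtype.val (memC.1 h)), fun h => memC.2 (Subtype.ext (memC.1 (VA h).1))⟩
  have sqV : ∀ x ∈ V, x * x = 1 := fun x hx => (a3 x (VA hx).1 (memC.1 (VA hx).2)).1
  have toz : ∀ x ∈ Y, GW.Invo x → ∃ c ∈ Y, c * z * c⁻¹ = x := fun x hx h => by
    obtain ⟨c, hc, e⟩ := s3.syl_elt hx h.pElt
    obtain ⟨d, hd, e'⟩ := cV _ e fun e => h.ne (cj1 e)
    exact ⟨c⁻¹ * d, mul_mem (inv_mem hc) (wY hd), by rw [cjm, e']; group⟩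
  have iz : GW.Invo z := GW.invo_of zz n13
  rcases (GW.dh_of_four (V := C[(⟨z, V2 zV⟩ : Y)]) (u := ⟨z, V2 zV⟩)
    (by rw [cz, Nat.card_congr (subgroupOfEquivOfLe V2).toEquiv, c4])
    (fun x hx => Subtype.ext (sqV x (cz ▸ hx : x ∈ V.subgroupOf Y))) (memC.2 rfl)
    fun e => n13 (congrArg Subtype.val e)).four (GW.invo_coe.2 iz).card (fun x _ y _ hx hy => by
      obtain ⟨c, hc, e⟩ := toz x x.2 (GW.invo_coe.1 hx)
      obtain ⟨d, hd, e'⟩ := toz y y.2 (GW.invo_coe.1 hy)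
      exact ⟨⟨d, hd⟩ * ⟨c, hc⟩⁻¹, mem_top _, Subtype.ext (by
        show d * c⁻¹ * x * (d * c⁻¹)⁻¹ = y
        rw [← e, ← e']; group)⟩) with ⟨⟨e⟩⟩ | ⟨⟨e⟩⟩
  · exfalso
    have nrm : ∀ c ∈ C[t], ∀ x ∈ V, c * x * c⁻¹ ∈ V := by
      have k : ∀ c ∈ C[t], c * z * c⁻¹ ∈ V := fun c hc => by
        have h1 := (idx4 m2 (VA zV).2 hc).2 (V1 zV)
        obtain ⟨d, hd, h2⟩ := s1.syl_elt h1 (iz.conj c).pElt
        have h3 := V2 (zA (d * c) (cjm d c z ▸ h2.1))
        rw [cjm, idx4 y2 h1 hd] at h3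
        have h4 : ∀ a b : alternatingGroup (Fin 4), a * a = 1 → b * b = 1 → a * b = b * a := by decide +kernel
        refine cY _ h3 (congrArg Subtype.val (e.injective (a₁ := ⟨_, h3⟩ * ⟨z, V2 zV⟩) (a₂ := ⟨z, V2 zV⟩ * ⟨_, h3⟩) ?_))
        rw [map_mul, map_mul]
        exact h4 _ _ (by rw [← map_mul, ← map_one e]; exact congrArg e (Subtype.ext (cjs c zz)))
          (by rw [← map_mul, ← map_one e]; exact congrArg e (Subtype.ext zz))
      intro c hc x hx
      by_cases x1 : x = 1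
      · simp [x1]
      obtain ⟨d, hd, rfl⟩ := cV x hx x1
      exact cjm c d z ▸ k _ (mul_mem hc (YC (wY hd)))
    have inQ : ∀ x, IsConj z x → x * z = z * x → x * s * x ∈ V := fun x hx xz => by
      obtain ⟨c, rfl⟩ := isConj_iff.1 hx
      have xx := cjs c zz
      have : c * z * c⁻¹ ∈ Q := by
        rcases M.h2 _ (memC.2 xz) xx with e | e | ⟨y, hy, e | e⟩
        · exact e ▸ one_mem _
        · rw [e]; exact B.zm
        · exact cji e ▸ B.nm _ (memC.1 (inv_mem hy)) s B.sQ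
        · exact absurd ((isConj_iff.2 ⟨c, rfl⟩).trans (isConj_iff.2 ⟨y, e⟩)).symm hn
      rcases B.cm _ this s B.sQ with e | e <;> rw [e]
      · rwa [mul_assoc, xx, mul_one]
      · rw [mul_assoc, ← xz, ← mul_assoc, mul_assoc s, xx, mul_one]; exact mul_mem sV zV
    have all : ∀ x, IsConj z x → x * z * x ∈ V := fun x hx => by
      have xx : x * x = 1 := by obtain ⟨c, rfl⟩ := isConj_iff.1 hx; exact cjs c zz
      obtain ⟨c, c1, cc, c2, c3⟩ := H13.exists_invol_commute xx tt fun o =>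
        hn (hx.trans (H20.isConj_of_odd_orderOf_mul xx tt o)).symm
      obtain ⟨d, hd, h1⟩ := hS.syl_elt (memC.2 c3.symm) (GW.invo_of cc c1).pElt
      have key : ∀ x c, IsConj z x → x * x = 1 → x * c = c * x → c ≠ 1 → c ∈ A → x * z * x ∈ V ∧ x * s * x ∈ V := by
        have cs : ∀ x, IsConj z x → x * x = 1 → x * z = z * x → x * z * x ∈ V ∧ x * s * x ∈ V :=
          fun x hx xx e => ⟨by rwa [e, mul_assoc, xx, mul_one], inQ x hx e⟩
        have tr : ∀ x d, (∀ v ∈ V, d⁻¹ * v * d ∈ V) → (∀ v ∈ V, d * v * d⁻¹ ∈ V) →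
            d * x * d⁻¹ * z * (d * x * d⁻¹) ∈ V ∧ d * x * d⁻¹ * s * (d * x * d⁻¹) ∈ V → x * x = 1 →
            x * z * x ∈ V ∧ x * s * x ∈ V := fun x d h1 h2 h3 xx => by
          have h4 : ∀ v ∈ V, d * x * d⁻¹ * v * (d * x * d⁻¹) ∈ V := by
            have xx' := cjs d xx
            generalize d * x * d⁻¹ = y at h3 xx'
            rintro _ (rfl | rfl | rfl | rfl)
            exacts [by rw [mul_one, xx']; exact one_mem _, h3.1, h3.2,
              by simpa only [mul_assoc, kk xx', one_mul] using mul_mem h3.2 h3.1]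
          exact ⟨by simpa [mul_assoc] using h1 _ (h4 _ (h2 z zV)), by simpa [mul_assoc] using h1 _ (h4 _ (h2 s sV))⟩
        have tw : ∀ x c, IsConj z x → x * x = 1 → x * c = c * x → c ≠ 1 → c ∈ V → x * z * x ∈ V ∧ x * s * x ∈ V :=
          fun x c hx xx e c1 hc => by
            obtain ⟨d, hd, rfl⟩ := cV c hc c1
            have dC := YC (wY hd)
            refine tr x d⁻¹ (by simpa using nrm d dC) (nrm _ (inv_mem dC))
              (cs _ (hx.trans (isConj_iff.2 ⟨_, rfl⟩)) (cjs _ xx) ?_) xx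
            simpa only [cji rfl] using cjc d⁻¹ e
        intro x c hx xx e c1 hc
        rcases a2 c hc.1 (memC.1 hc.2) with h | h | h | h | ⟨y, hy, rfl, h⟩
        · exact absurd h c1
        · exact tw x c hx xx e c1 (h ▸ zV)
        · exact tw x c hx xx e c1 (h ▸ sV)
        · exact tw x c hx xx e c1 (h ▸ mul_mem sV zV)
        · have n1 : y ∈ N(V) := mem_nrm.2 (by
            have ys : y * s * y⁻¹ ∈ V := by rcases h with h | h <;> rw [h]; exacts [sV, mul_mem sV zV]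
            have yz : y * z * y⁻¹ ∈ V := by rwa [cjf (memC.1 hy)]
            rintro _ (rfl | rfl | rfl | rfl)
            exacts [by simp, yz, ys, by rw [← conj_mul]; exact mul_mem ys yz])
          have n2 : y⁻¹ * x * y⁻¹⁻¹ ∈ C[t] := memC.2 (by simpa only [cji rfl] using cjc y⁻¹ e)
          refine tr x y⁻¹ (by simpa using mem_nrm.1 n1) (mem_nrm.1 (inv_mem n1)) ?_ xx
          have := nrm _ n2
          rw [inv2 (cjs y⁻¹ xx)] at this
          exact ⟨this z zV, this s sV⟩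
      have := key (d * x * d⁻¹) _ (hx.trans (isConj_iff.2 ⟨_, rfl⟩)) (cjs d xx) (cjc d c2) (fun e => c1 (cj1 e)) h1
      have h4 := nrm _ (inv_mem hd)
      have h5 : ∀ v ∈ V, d * x * d⁻¹ * v * (d * x * d⁻¹) ∈ V := by
        have xx' := cjs d xx
        generalize d * x * d⁻¹ = y at this xx'
        rintro _ (rfl | rfl | rfl | rfl)
        exacts [by rw [mul_one, xx']; exact one_mem _, this.1, this.2,
          by simpa only [mul_assoc, kk xx', one_mul] using mul_mem this.2 this.1]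
      simpa [mul_assoc] using h4 _ (h5 _ (nrm d hd z zV))
    have := all (h * g * r * g * h) (B.zs.trans (isConj_iff.2 ⟨h * g * h, by
      rw [← hs]; simp [inv2 hh, inv2 B.gg, mul_assoc, kk hh]⟩))
    rw [show h * g * r * g * h * z * (h * g * r * g * h) = z * r by
      calc _ = h * (g * (r * (g * z * g) * r) * g) * h := by simp only [mul_assoc, kk hz, kk hh, one_mul]
        _ = h * (g * s * g * (g * z * g)) * h := by rw [B.gz, rs, ← B.gz]; simp only [mul_assoc, kk B.gg, one_mul]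
        _ = _ := by rw [B.gz, B.gs, ← hs]; simp only [mul_assoc, kk hz]] at this
    rcases this with e | e | e | e
    exacts [n15 e, n16 e, n17 e, n14 e.symm]
  · obtain ⟨X, N⟩ := mA_of e
    obtain ⟨y, hy, ⟨y3, y4, y5⟩, y6⟩ := N.uniq z (V2 zV) zz n13 w w4 w3 (wz ▸ n8) (by rw [wz, sz])
    have un : ∀ c, c * w = w * c → c * z = z * c → c * y * c⁻¹ ∈ C[t] → c * y = y * c := fun c h1 h2 h3 => by
      have e1 : (c * y * c⁻¹ * z) ^ 3 = 1 := by rw [← cjf h2, conj_mul, conj_pow, y5]; group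
      exact mul_inv_eq_iff_eq_mul.1 (y6 _ ((mul_mem_cancel_right (V2 zV)).1 (o3 _ (mul_mem h3 (VA zV).2) e1))
        (cjs c y3) (by rw [← cjf h1, conj_mul, conj_pow, y4]; group) e1)
    have yb := un b (by rw [← ta]; exact (Commute.mul_left wt.symm wa.symm).eq) (memC.1 bA.1)
      (mul_mem (mul_mem bA.2 (YC hy)) (inv_mem bA.2))
    refine ⟨y, y3, memC.1 (YC hy), (un u wu.symm uz (memC.2 ?_)).symm, y4, y5, ?_, ?_⟩
    · simpa only [ub] using (cjc u yb).symm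
    · rw [← wz]
      refine a5_five y3 zz w3 ?_ ?_ y5
      · rw [← inv2 y3, ← mul_inv_rev, inv_pow, y4, inv_one]
      · calc (w⁻¹ * z) ^ 3 = w⁻¹ * z * w⁻¹⁻¹ * (w⁻¹ * (w⁻¹ * z * w⁻¹⁻¹) * w⁻¹⁻¹) * ((w ^ 3)⁻¹ * z) := by
              simp only [pow_succ, pow_zero]; group
          _ = 1 := by rw [cji wsz, ← ws, cji rfl, ws, w3, inv_one, one_mul, mul_assoc s, ← sz, kk ss, one_mul, zz]
    · rw [← card_mul_relIndex m1, ← card_mul_relIndex y1, m2, y2, Nat.card_congr e.toEquiv, nat_card_alternatingGroup]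
      simp [Nat.factorial]

theorem j2 (hn : ¬ IsConj t z) : Nonempty (G ≃* J2P.KJ.K) := by
  obtain ⟨y, yy, yt, yu, yw, yz, ys, cT⟩ := B.ct hn
  obtain ⟨Y, M⟩ := B.mh
  obtain ⟨ss, rr, hh, tt, zz, u3, -, ur, ts, -⟩ := M.h8
  obtain ⟨-, -, -, -, -, -, -, n8, n9, -, -, n12, n13, -⟩ := M.h6
  obtain ⟨w, hw, wt, wu, wz, ws, wsz, w3⟩ := B.wf
  set E := lt 1 [s, r, h, u, u⁻¹, t, g]
  have mE : ∀ l < 7, E l ∈ gp E (sgl 7) := fun l hl => mem_gp_sgl hl
  rcases B.cu yy yu (by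
    have c : Commute (y * (g * r * u⁻¹)) u := hw ▸ Commute.mul_left yu wu
    rw [show y * g * r = y * (g * r * u⁻¹) * u by group, c.mul_pow, yw, one_mul]
    exact pow_mem (mem_zpowers u) 2) yz ys with e | e
  · have := colA2 (E := E) (sat_of rfl B.inv7 (List.forall_mem_append.2 ⟨B.rel [], by
      simp only [List.forall_mem_cons, lprod_cons, lprod_nil, lt, List.not_mem_nil, false_imp_iff, implies_true,
        mul_one, and_true]
      have : (y * t) ^ 2 = 1 := by rw [Commute.mul_pow yt, sq, sq, yy, tt, one_mul]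
      simpa only [e, mul_assoc] using this⟩)) (mE 6 (by decide))
    rw [B.gen'] at this
    exact absurd (by rw [← B.gz, show g * z = z * g from memC.1 this, mul_assoc, B.gg, mul_one]) n8
  obtain ⟨φ⟩ := isoK (E := E) (sat_of rfl B.inv7 (List.forall_mem_append.2 ⟨B.rel [], by
    simp only [List.forall_mem_cons, lprod_cons, lprod_nil, lt, List.not_mem_nil, false_imp_iff, implies_true,
      mul_one, and_true]
    have : (r * (y * t) * r⁻¹) ^ 2 = 1 := by rw [conj_pow, Commute.mul_pow yt, sq, sq, yy, tt]; group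
    simpa only [e, mul_assoc, inv2 rr, kk rr, one_mul] using this⟩)) n12
  set L := gp E (sgl 7)
  have HL : C[z] ≤ L := B.gen' [g] ▸ gp_sgl_le fun l hl => mE l (by omega)
  have gL : g ∈ L := mE 6 (by decide)
  have sL : s ∈ L := mE 0 (by decide)
  have rL : r ∈ L := mE 1 (by decide)
  have hL : h ∈ L := mE 2 (by decide)
  have TL : C[t] ≤ L := by
    have yL : y ∈ L := by
      rw [e]
      have := mul_mem (mul_mem hL gL) hL
      exact mul_mem (mul_mem rL (mul_mem (mul_mem (mul_mem (mul_mem sL this) gL) this) sL)) rL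
    have : Fact (Nat.Prime 3) := Nat.fact_prime_three
    have : Fact (Nat.Prime 5) := ⟨by norm_num⟩
    have d16 : 16 ∣ #(C[t] ⊓ L) := by
      rw [← M.a1, ← Nat.card_coe_set_eq]
      refine dvd_trans (dvd_of_eq ?_)
        (card_dvd_of_le (H := C[z] ⊓ C[t]) (K := C[t] ⊓ L) (le_inf inf_le_right (inf_le_left.trans HL)))
      exact congrArg (fun S : Set G => Nat.card S) (Set.ext fun x => and_congr_right fun _ => memC.symm)
    have d3 : 3 ∣ #(C[t] ⊓ L) := orderOf_eq_prime w3 (fun e => n8 (by rw [← wz, e]; simp)) ▸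
      orderOf_dvd_card' (mem_inf.2 ⟨memC.2 wt, hw ▸ mul_mem (mul_mem gL rL) (mE 4 (by decide))⟩)
    have d5 : 5 ∣ #(C[t] ⊓ L) := orderOf_eq_prime ys (fun e => by
        rw [show y = s by rw [← inv2 ss]; exact eq_inv_of_mul_eq_one_left e, Commute.mul_pow B.gens.1, pow_succ,
          pow_succ _ 2, sq, sq, ss, zz, one_mul, one_mul] at yz
        exact n8 (by rw [← inv2 zz]; exact eq_inv_of_mul_eq_one_left yz)) ▸
      orderOf_dvd_card' (mem_inf.2 ⟨mul_mem (memC.2 yt) (memC.2 ts.symm), mul_mem yL sL⟩)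
    have := card_pos (C[t] ⊓ L)
    exact inf_eq_left.1 (eq_of_le_of_card_ge inf_le_left (by omega))
  have cl : ∀ x ∈ L, x * x = 1 → x ≠ 1 → ∃ b ∈ L, b * x * b⁻¹ = z ∨ b * x * b⁻¹ = t := fun x hx xx x1 => by
    obtain ⟨b, hb, e | e | e | e⟩ := B.into HL hx xx
    exacts [absurd e x1, ⟨b, hb, .inl e⟩, ⟨g * b, mul_mem gL hb, .inl (by rw [cjm, e, inv2 B.gg, B.gs])⟩,
      ⟨b, hb, .inr e⟩]
  have top : L = ⊤ := eq_top_iff.2 fun a _ => by
    have xx := cjs a zz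
    obtain ⟨c, c1, cc, c2, c3⟩ := H13.exists_invol_commute xx tt fun o =>
      hn ((isConj_iff.2 ⟨a, rfl⟩).trans (H20.isConj_of_odd_orderOf_mul xx tt o)).symm
    have xL : a * z * a⁻¹ ∈ L := by
      obtain ⟨b, hb, e⟩ := cl c (TL (memC.2 c3.symm)) cc c1
      have := cjc b c2
      have k : b * (a * z * a⁻¹) * b⁻¹ ∈ L := by
        rcases e with e | e <;> rw [e] at this
        exacts [HL (memC.2 this), TL (memC.2 this)]
      exact (mul_mem_cancel_left hb).1 ((mul_mem_cancel_right (inv_mem hb)).1 k)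
    obtain ⟨b, hb, e | e⟩ := cl _ xL xx fun e => n13 (cj1 e)
    · exact (mul_mem_cancel_left hb).1 (HL (memC.2 (by rw [← mul_inv_eq_iff_eq_mul, cjm, e])))
    · exact absurd (isConj_iff.2 ⟨b * a, by rw [cjm, e]⟩).symm hn
  exact ⟨(topEquiv.symm.trans (MulEquiv.subgroupCongr top.symm)).trans φ⟩

end B2

end Cfsg.Agent.H28.HJ
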