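import Mathlib
import Cfsg.Agent.H28.HJ4
import Cfsg.Agent.H29.ES
import Cfsg.Agent.H8.ZStar
import Cfsg.Agent.H11.Exc
import Cfsg.Agent.H2.Components

/-! From the printed hypotheses to the frames. -/

set_option autoImplicit false

namespace Cfsg.Agent.H28.HJ
open Subgroup L1ES H15 Equiv

variable {G : Type*} [Group G] {z s r h u t g : G} {Q : Subgroup G}

local notation "C[" z "]" => centralizer ({z} : Set _)

theorem Base.sz (B : Base z Q s r h u t) (hx : ∃ g, g * z * g⁻¹ ∈ C[z] ∧ g * z * g⁻¹ ≠ z) : IsConj s z := by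
  by_contra hn
  obtain ⟨Y, M⟩ := B.mh
  obtain ⟨ss, rr, -, tt, zz, -, -, -, ts, rs, -⟩ := M.h8
  obtain ⟨-, -, -, -, -, -, -, -, -, -, -, n12, n13, -, -, -, -, n18, -⟩ := M.h6
  obtain ⟨sz, -, -, -, tz⟩ := B.gens
  have nt := M.j1.2.2.2.2.2.2.2.2.2.1
  have one : ∀ a : G, a * z * a⁻¹ ∈ C[z] → a * z * a⁻¹ ≠ z → ∃ y ∈ C[z], y * a * z * (y * a)⁻¹ = t :=
    fun a h1 h2 => by
      rcases M.h2 _ h1 (cjs a zz) with e | e | ⟨y, hy, e | e⟩
      exacts [absurd (cj1 e) n13, absurd e h2, absurd (isConj_iff.2 ⟨y * a, by rw [cjm, e]⟩).symm hn,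
        ⟨y, hy, by rw [cjm, e]⟩]
  obtain ⟨a, h1, h2⟩ := hx
  obtain ⟨y, -, e⟩ := one a h1 h2
  have e1 := cji e
  have tz' : IsConj t z := isConj_iff.2 ⟨_, e1⟩
  generalize (y * a)⁻¹ = b at e1
  obtain ⟨y, hy, e2⟩ := one b (memC.2 (by simpa only [e1] using (cjc b tz).symm)) fun e => n18 (by
    simpa using e1.trans e.symm)
  have e3 : y * b * t * (y * b)⁻¹ = z := by rw [cjm, e1, cjf (memC.1 hy)]
  generalize y * b = k at e2 e3
  have two : ∀ x, x * z = z * x → x * t = t * x → IsConj s x → k * x * k⁻¹ ∈ four z s zz ss sz := fun x h1 h2 h3 => by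
    have h4 := cjc k h1
    have h5 := cjc k h2
    rw [e2] at h4
    rw [e3] at h5
    rcases M.a2 _ (memC.2 h5) h4 with e | e | e | e | ⟨y, -, e, -⟩
    exacts [.inl e, .inr (.inl e), .inr (.inr (.inl e)), .inr (.inr (.inr e)),
      absurd ((h3.trans (isConj_iff.2 ⟨k, e.symm⟩)).trans ((isConj_iff.2 ⟨y, rfl⟩).symm.trans tz')) hn]
  have := mul_mem (two s sz ts.symm (IsConj.refl s)) (two (s * z) (by rw [← mul_assoc, ← sz])
    (Commute.mul_left ts.symm tz.symm).eq (isConj_iff.2 ⟨r, by rw [inv2 rr, rs]⟩))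
  rw [conj_mul, kk ss, one_mul, e2] at this
  exact nt this

variable [Finite G]

theorem Hyp.b2 (H : Hyp z Q) (hx : ∃ g, g * z * g⁻¹ ∈ C[z] ∧ g * z * g⁻¹ ≠ z) :
    ∃ s r h u t g, B2 z Q s r h u t g := by
  obtain ⟨s, r, h, u, t, B⟩ := H.base hx
  obtain ⟨g, B⟩ := B.b2 (B.sz hx)
  exact ⟨_, _, _, _, _, _, B⟩

theorem B2.cls (B : B2 z Q s r h u t g) {x : G} (hx : orderOf x = 2) : IsConj x z ∨ IsConj x t := by
  obtain ⟨b, -, e | e | e | e⟩ := B.into le_top (mem_top x) (H20.mul_self_of_orderOf_two hx)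
  exacts [absurd e (H20.ne_one_of_orderOf_two hx), .inl (isConj_iff.2 ⟨b, e⟩),
    .inl ((isConj_iff.2 ⟨b, e⟩).trans B.zs.symm), .inr (isConj_iff.2 ⟨b, e⟩)]

theorem B2.nc (B : B2 z Q s r h u t g) (hcl : ∃ x y : G, orderOf x = 2 ∧ orderOf y = 2 ∧ ¬ IsConj x y) :
    ¬ IsConj t z := fun e => by
  obtain ⟨x, y, hx, hy, n⟩ := hcl
  exact n (((B.cls hx).elim id (·.trans e)).trans ((B.cls hy).elim id (·.trans e)).symm)

theorem Hyp.j2 (H : Hyp z Q) (hx : ∃ g, g * z * g⁻¹ ∈ C[z] ∧ g * z * g⁻¹ ≠ z)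
    (hcl : ∃ x y : G, orderOf x = 2 ∧ orderOf y = 2 ∧ ¬ IsConj x y) : Nonempty (G ≃* J2P.KJ.K) := by
  obtain ⟨s, r, h, u, t, g, B⟩ := H.b2 hx
  exact B.j2 (B.nc hcl)

theorem es_map (hz : orderOf z = 2) {E : Subgroup C[z]} (hE : IsExtraspecial 2 E) (zE : ⟨z, memC.2 rfl⟩ ∈ E) :
    H29.ES (E.map C[z].subtype) z :=
  (H29.es_of_mem hE (z := ⟨z, memC.2 rfl⟩) (fun e => H20.ne_one_of_orderOf_two hz (congrArg Subtype.val e)) zE
    fun x _ => memC.2 (Subtype.ext (memC.1 x.2))).map C[z].subtype fun _ _ e => Subtype.ext e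

theorem hyp_of (hz : orderOf z = 2) {E : Subgroup C[z]} [E.Normal] (hE : IsExtraspecial 2 E) (c32 : Nat.card E = 32)
    (c60 : Nat.card (C[z] ⧸ E) = 60) (hc : centralizer (E : Set C[z]) ≤ E) : Hyp z (E.map C[z].subtype) := by
  have zE : (⟨z, memC.2 rfl⟩ : C[z]) ∈ E := hc fun x _ => Subtype.ext (memC.1 x.2)
  have S := es_map hz hE zE
  refine ⟨⟨S.ne, S.zz, S.mem, fun x hx => S.comm_z hx, ?_, fun x hx e => S.cen x hx fun y hy => (e y hy).symm,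
    fun x hx y hy => ?_, S.sq⟩, (card_subtype _ _).trans c32, ?_, fun c e => ?_⟩
  · rintro c hc _ ⟨x, hx, rfl⟩
    exact ⟨_, Normal.conj_mem inferInstance x hx ⟨c, memC.2 hc⟩, rfl⟩
  · rcases S.conj hx hy with e | e
    · exact .inl (mul_inv_eq_iff_eq_mul.1 e)
    · exact .inr (by rw [mul_inv_eq_iff_eq_mul.1 e, mul_assoc, ← S.comm_z hx, mul_assoc])
  · rw [card_eq_card_quotient_mul_card_subgroup E, c32, c60]
  · exact ⟨⟨c, memC.2 (e z S.mem)⟩, hc fun x hx => Subtype.ext (e x ⟨x, hx, rfl⟩).symm, rfl⟩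

theorem card60 {K : Type*} [Group K] (e : K ≃* alternatingGroup (Fin 5)) : Nat.card K = 60 := by
  rw [Nat.card_congr e.toEquiv, nat_card_alternatingGroup]; simp [Nat.factorial]

theorem card_om : Nat.card (Omega (ZMod 2) (quadFormMinus 1 (ZMod 2) 1 1)) = 60 := by
  have hab : ∀ z₁ z₂ : ZMod 2, z₁ ^ 2 + 1 * z₁ * z₂ + 1 * z₂ ^ 2 = 0 → z₁ = 0 ∧ z₂ = 0 := by decide
  have h := H11.isQuad_minus 1 (ZMod 2) 1 1
  have e1 := S0288.result (F := ZMod 2) (q := 2) (by simp) 2 (by omega) 1 1 hab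
  change Nat.card (isometryGroup (ZMod 2) (quadFormMinus 1 (ZMod 2) 1 1)) = _ at e1
  rw [Nat.card_congr (H11.oEquiv h).toEquiv, ← (commutator _).card_mul_index,
    h.index_commutator_of_char_two (H11.bMinus_sep 1 hab) (H11.nonExc_minus hab 1) rfl (by simp)] at e1
  rw [Nat.card_congr (H11.omegaEquiv h).toEquiv]
  norm_num at e1
  omega

theorem hyp_om (hz : orderOf z = 2) {E : Subgroup C[z]} [E.Normal] (hF : generalizedFittingSubgroup C[z] = E)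
    (hE : IsExtraspecial 2 E) (c32 : Nat.card E = 2 ^ 5)
    (e : C[z] ⧸ E ≃* Omega (ZMod 2) (quadFormMinus 1 (ZMod 2) 1 1)) : Hyp z (E.map C[z].subtype) :=
  hyp_of hz hE c32 ((Nat.card_congr e.toEquiv).trans card_om) (hF ▸ H2.centralizer_generalizedFitting_le)

theorem hx_simple [IsSimpleGroup G] (hz : orderOf z = 2) (na : ∃ a b : G, a * b ≠ b * a) :
    ∃ g, g * z * g⁻¹ ∈ C[z] ∧ g * z * g⁻¹ ≠ z := by
  by_contra! hn
  have h1 := H8.mem_center_of_isolated ⟨hz, fun g e => hn g (memC.2 e.eq.symm)⟩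
    ((IsSimpleGroup.eq_bot_or_eq_top_of_normal (oddCore G) inferInstance).resolve_right fun e => by
      have := H2.odd_card_oddCore (G := G)
      rw [e, card_top] at this
      exact Nat.not_even_iff_odd.2 this (even_iff_two_dvd.2 (hz ▸ orderOf_dvd_natCard z)))
  obtain ⟨a, b, n⟩ := na
  rcases IsSimpleGroup.eq_bot_or_eq_top_of_normal (center G) inferInstance with e | e
  · exact H20.ne_one_of_orderOf_two hz (mem_bot.1 (e ▸ h1))
  · exact n (mem_center_iff.1 (e ▸ mem_top b : b ∈ center G) a)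

theorem Hyp.hx [IsSimpleGroup G] (H : Hyp z Q) : ∃ g, g * z * g⁻¹ ∈ C[z] ∧ g * z * g⁻¹ ≠ z :=
  hx_simple (H20.orderOf_two_of H.zz H.z1) (by
    by_contra! hn
    have := card_le_of_le (show C[z] ≤ Q from fun c _ => H.cc c fun x _ => hn c x)
    rw [H.cQ, H.cH] at this
    omega)

theorem hyp_simple [IsSimpleGroup G] (hz : orderOf z = 2) {E : Subgroup C[z]} [E.Normal] (hE : IsExtraspecial 2 E)
    (c32 : Nat.card E = 32) (e : C[z] ⧸ E ≃* alternatingGroup (Fin 5)) : Hyp z (E.map C[z].subtype) := by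
  let π := e.toMonoidHom.comp (QuotientGroup.mk' E)
  have πs : Function.Surjective π := e.surjective.comp (QuotientGroup.mk'_surjective E)
  have π1 : ∀ x, π x = 1 ↔ x ∈ E := fun x => e.map_eq_one_iff.trans (QuotientGroup.eq_one_iff x)
  have zE : (⟨z, memC.2 rfl⟩ : C[z]) ∈ E := (π1 _).1 (by
    have : ∀ a : alternatingGroup (Fin 5), (∀ b, b * a = a * b) → a = 1 := by decide +kernel
    refine this _ fun b => ?_
    obtain ⟨b, rfl⟩ := πs b
    rw [← map_mul, ← map_mul]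
    exact congrArg π (Subtype.ext (memC.1 b.2)))
  have S := es_map hz hE zE
  refine hyp_of hz hE c32 (card60 e) ?_
  rcases IsSimpleGroup.eq_bot_or_eq_top_of_normal ((centralizer (E : Set C[z])).map π) (Normal.map inferInstance π πs) with h | h
  · exact fun x hx => (π1 x).1 (mem_bot.1 (h ▸ mem_map_of_mem π hx))
  exfalso
  have dec : ∀ x : C[z], ∃ q ∈ E.map C[z].subtype, ∀ y ∈ E.map C[z].subtype, x * y * (x : G)⁻¹ = q * y * q⁻¹ := fun x => by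
    obtain ⟨c, hc, e⟩ := h.ge (mem_top (π x))
    refine ⟨_, ⟨x * c⁻¹, (π1 _).1 (by rw [map_mul, map_inv, e, mul_inv_cancel]), rfl⟩, ?_⟩
    rintro _ ⟨y, hy, rfl⟩
    have : (y : G) * c = c * y := congrArg Subtype.val (hc y hy)
    show _ = x * (c : G)⁻¹ * y * (x * (c : G)⁻¹)⁻¹
    rw [cjm, cjf (Commute.inv_left this.symm).eq]; rfl
  have c32' : Nat.card (E.map C[z].subtype) = 32 := (card_subtype _ _).trans c32
  have mE : ∀ x : C[z], (x : G) ∈ E.map C[z].subtype ↔ π x = 1 := fun x =>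
    ⟨fun ⟨y, hy, e⟩ => (π1 x).2 ((Subtype.ext e : y = x) ▸ hy), fun h => ⟨x, (π1 x).1 h, rfl⟩⟩
  generalize E.map C[z].subtype = Q at S dec c32' mE
  obtain ⟨g, h1, h2⟩ := hx_simple hz (by
    by_contra! hn
    exact S.nab fun x _ y _ => hn y x)
  obtain ⟨q, hq, h3⟩ := dec ⟨_, h1⟩
  obtain ⟨x, ⟨hx, xq⟩, y, ⟨hy, yq⟩, n⟩ : ∃ x ∈ Q ⊓ C[q], ∃ y ∈ Q ⊓ C[q], x * y ≠ y * x := by
    by_contra! hn
    have k1 := S.card_le le_rfl hq
    have k2 := (S.card_perp (A := Q ⊓ C[q]) inf_le_left ⟨S.mem, memC.2 (S.comm_z hq).symm⟩).1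
    have k3 := card_le_of_le (le_inf inf_le_left (fun x hx y hy => hn y hy x hx) :
      Q ⊓ C[q] ≤ Q ⊓ centralizer (Q ⊓ C[q] : Subgroup G))
    rw [c32'] at k1 k2
    nlinarith
  have bk : ∀ x ∈ Q, x ∈ C[q] → g⁻¹ * x * g⁻¹⁻¹ ∈ C[z] := fun x hx xq => by
    have := cjc g⁻¹ (mul_inv_eq_iff_eq_mul.1 ((h3 x hx).trans (cjf (memC.1 xq).symm)))
    rw [cji rfl] at this
    exact memC.2 this.symm
  have zq : z ∈ C[q] := memC.2 (S.comm_z hq).symm
  obtain ⟨a, ha⟩ : ∃ a : C[z], a = g⁻¹ * x * g⁻¹⁻¹ := ⟨⟨_, bk x hx xq⟩, rfl⟩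
  obtain ⟨b, hb⟩ : ∃ b : C[z], b = g⁻¹ * y * g⁻¹⁻¹ := ⟨⟨_, bk y hy yq⟩, rfl⟩
  obtain ⟨w, hw⟩ : ∃ w : C[z], w = g⁻¹ * z * g⁻¹⁻¹ := ⟨⟨_, bk z S.mem zq⟩, rfl⟩
  have ab : a * b = b * w * a := Subtype.ext (by
    show (a : G) * b = b * w * a
    rw [ha, hb, hw, conj_mul, conj_mul, conj_mul, mul_inv_eq_iff_eq_mul.1 (S.conj_of_ne hx hy n)])
  have p4 : ∀ c : C[z], ∀ v ∈ Q, c = g⁻¹ * v * g⁻¹⁻¹ → π c ^ 4 = 1 := fun c v hv e => by
    rw [← map_pow, ← map_one π]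
    exact congrArg π (Subtype.ext (by
      show (c : G) ^ 4 = 1
      rw [e, conj_pow, show v ^ 4 = 1 from S.pow_four hv]; group))
  have wQ : (w : G) ∈ Q := (mE w).2 (by
    have k : ∀ a : alternatingGroup (Fin 5), a ^ 4 = 1 → a * a = 1 := by decide +kernel
    have k1 := k _ (p4 a x hx ha)
    have k2 := k _ (p4 b y hy hb)
    have k3 := k _ (p4 (a * b) _ (mul_mem hx hy) (by rw [← conj_mul, ← ha, ← hb]; rfl))
    have k4 := congrArg π ab
    rw [map_mul] at k3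
    rw [map_mul, map_mul, map_mul, ← inv2 k3, mul_inv_rev, inv2 k1, inv2 k2] at k4
    simpa using k4)
  have act : ∀ c : C[z], ∀ v ∈ Q, c * v * (c : G)⁻¹ = v ∨ c * v * (c : G)⁻¹ = v * z := fun c v hv => by
    obtain ⟨q, hq, e⟩ := dec c
    rw [e v hv]; exact S.conj hq hv
  rcases S.cen w wQ (fun v hv => by
    have k1 : ∀ (c : C[z]) v, c * (v * z) * (c : G)⁻¹ = c * v * (c : G)⁻¹ * z := fun c v => by
      rw [← conj_mul, cjf (memC.1 c.2)]
    have k2 : (w : G) = (b : G)⁻¹ * (a * b * (a : G)⁻¹) := by rw [← coe_mul, ab]; simp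
    have k3 : ∀ v ∈ Q, (a : G) * (b * v * (b : G)⁻¹) * (a : G)⁻¹ = b * (a * v * (a : G)⁻¹) * (b : G)⁻¹ := fun v hv => by
      rcases act a v hv with e1 | e1 <;> rcases act b v hv with e2 | e2 <;> simp only [e1, e2, k1]
    have k4 := k3 ((a : G)⁻¹ * v * (a : G)⁻¹⁻¹) (by
      rcases act a⁻¹ v hv with e | e <;> rw [coe_inv] at e <;> rw [e]
      exacts [hv, mul_mem hv S.mem])
    rw [eq_comm, ← mul_inv_eq_iff_eq_mul, k2, cjm, cjm, cjm, k4]; group) with e | e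
  · exact S.ne (cj1 (hw ▸ e))
  · exact h2 (by simpa only [inv_inv] using cji (hw.symm.trans e))

end Cfsg.Agent.H28.HJ
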