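import Mathlib
import Cfsg.Agent.H28.MZm

/-! Facts read off from the models. -/

set_option autoImplicit false
set_option maxRecDepth 100000

namespace Cfsg.Agent.H28.MZ
open H14 H15 HJ

open Subgroup

local notation "C[" z "]" => centralizer ({z} : Set _)

variable {G : Type*} [Group G] {z e f p q r t : G} {K : Subgroup G}

structure MK (z e f p q r : G) (K : Subgroup G) : Prop where
  ex : ∃ Y : Set G, ∃ R : Rep TKk.num fun k => Nat.rec (motive := fun _ => Set G) K (fun _ _ => Y) k,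
    R.Env (nthD 0 cKk) (lt 1 [e, f, z, p, q, r, r⁻¹]) ∧ ∀ a, R.dom 0 a ↔ a < 96

structure MA (z e f p q r t : G) : Prop where
  ex : ∃ Y : Set G, ∃ R : Rep TAa.num fun k => Nat.rec (motive := fun _ => Set G) C[z] (fun _ _ => Y) k,
    R.Env (nthD 0 cAa) (lt 1 [e, f, z, p, q, r, r⁻¹, t]) ∧ ∀ a, R.dom 0 a ↔ a < 192

structure MB (z e f p q r t : G) : Prop where
  ex : ∃ Y : Set G, ∃ R : Rep TBb.num fun k => Nat.rec (motive := fun _ => Set G) C[z] (fun _ _ => Y) k,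
    R.Env (nthD 0 cBb) (lt 1 [e, f, z, p, q, r, r⁻¹, t]) ∧ ∀ a, R.dom 0 a ↔ a < 192

structure MC (z e f p q r t : G) : Prop where
  ex : ∃ Y : Set G, ∃ R : Rep TCc.num fun k => Nat.rec (motive := fun _ => Set G) C[z] (fun _ _ => Y) k,
    R.Env (nthD 0 cCc) (lt 1 [e, f, z, p, q, r, r⁻¹, t, t⁻¹]) ∧ ∀ a, R.dom 0 a ↔ a < 192

structure MD (z e f p q r t : G) : Prop where
  ex : ∃ Y : Set G, ∃ R : Rep TDd.num fun k => Nat.rec (motive := fun _ => Set G) C[z] (fun _ _ => Y) k,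
    R.Env (nthD 0 cDd) (lt 1 [e, f, z, p, q, r, r⁻¹, t, t⁻¹]) ∧ ∀ a, R.dom 0 a ↔ a < 192

theorem MK.k1 (M : MK z e f p q r K) : ∀ x ∈ K, x ^ 3 = 1 → x = 1 ∨ ∃ y ∈ K, y * x * y⁻¹ = r ∨ y * x * y⁻¹ = r⁻¹ :=
  let ⟨_, _, h, _⟩ := M.ex; h.sound (.all 20 0 (.imp (.eq (.p (.v 20) 3) .o) (.or (.eq (.v 20) .o) (.ex 21 0 (.or (.eq (.m (.m (.v 21) (.v 20)) (.i (.v 21))) (.v 5)) (.eq (.m (.m (.v 21) (.v 20)) (.i (.v 21))) (.v 6))))))) (by decide +kernel)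
theorem MK.k2 (M : MK z e f p q r K) : ∀ x ∈ K, x * r = r * x → x = 1 ∨ x = z ∨ x * x = r ∨ x * x = r⁻¹ :=
  let ⟨_, _, h, _⟩ := M.ex; h.sound (.all 20 0 (.imp (.eq (.m (.v 20) (.v 5)) (.m (.v 5) (.v 20))) (.or (.eq (.v 20) .o) (.or (.eq (.v 20) (.v 2)) (.or (.eq (.m (.v 20) (.v 20)) (.v 5)) (.eq (.m (.v 20) (.v 20)) (.v 6))))))) (by decide +kernel)
theorem MK.k5 (M : MK z e f p q r K) : ∀ y ∈ K, y * y = 1 → (y * r) ^ 3 = 1 → y * e = e * y → y * p ≠ p * y → y = f ∨ y = e * f * z :=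
  let ⟨_, _, h, _⟩ := M.ex; h.sound (.all 20 0 (.imp (.eq (.m (.v 20) (.v 20)) .o) (.imp (.eq (.p (.m (.v 20) (.v 5)) 3) .o) (.imp (.eq (.m (.v 20) (.v 0)) (.m (.v 0) (.v 20))) (.imp (.not (.eq (.m (.v 20) (.v 3)) (.m (.v 3) (.v 20)))) (.or (.eq (.v 20) (.v 1)) (.eq (.v 20) (.m (.m (.v 0) (.v 1)) (.v 2))))))))) (by decide +kernel)
theorem MK.k7 (M : MK z e f p q r K) : ∀ w ∈ K, w * w = 1 → w = 1 ∨ w = z ∨ ∃ y ∈ K, y * w * y⁻¹ = e ∨ y * w * y⁻¹ = f ∨ y * w * y⁻¹ = e * f * z :=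
  let ⟨_, _, h, _⟩ := M.ex; h.sound (.all 20 0 (.imp (.eq (.m (.v 20) (.v 20)) .o) (.or (.eq (.v 20) .o) (.or (.eq (.v 20) (.v 2)) (.ex 21 0 (.or (.eq (.m (.m (.v 21) (.v 20)) (.i (.v 21))) (.v 0)) (.or (.eq (.m (.m (.v 21) (.v 20)) (.i (.v 21))) (.v 1)) (.eq (.m (.m (.v 21) (.v 20)) (.i (.v 21))) (.m (.m (.v 0) (.v 1)) (.v 2)))))))))) (by decide +kernel)
theorem MK.k8 (M : MK z e f p q r K) : r ≠ r⁻¹ ∧ f * (r⁻¹ * e * r) ≠ r⁻¹ * e * r * f :=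
  let ⟨_, _, h, _⟩ := M.ex; h.sound (.and (.not (.eq (.v 5) (.v 6))) (.not (.eq (.m (.v 1) (.m (.m (.v 6) (.v 0)) (.v 5))) (.m (.m (.m (.v 6) (.v 0)) (.v 5)) (.v 1))))) (by decide +kernel)
theorem MK.k3 (M : MK z e f p q r K) : {x | x ∈ K ∧ (x * x = 1 ∧ (x * r) ^ 3 = 1 ∧ x ≠ 1)}.ncard = 9 :=
  let ⟨_, _, h, k⟩ := M.ex; (h.ncard k 19 (.and (.eq (.m (.v 19) (.v 19)) .o) (.and (.eq (.p (.m (.v 19) (.v 5)) 3) .o) (.not (.eq (.v 19) .o))))).trans (by decide +kernel)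
theorem MC.n1 (M : MC z e f p q r t) : ∀ w ∈ C[z], w * w = 1 → w ≠ 1 → w ≠ z → ∃ x ∈ C[z], x * w = w * x ∧ x * x = z :=
  let ⟨_, _, h, _⟩ := M.ex; h.sound (.all 20 0 (.imp (.eq (.m (.v 20) (.v 20)) .o) (.imp (.not (.eq (.v 20) .o)) (.imp (.not (.eq (.v 20) (.v 2))) (.ex 21 0 (.and (.eq (.m (.v 21) (.v 20)) (.m (.v 20) (.v 21))) (.eq (.m (.v 21) (.v 21)) (.v 2)))))))) (by decide +kernel)
theorem MC.n2 (M : MC z e f p q r t) : ∀ x ∈ C[z], x * x ≠ 1 → x * x ≠ z → x * x * (x * x) = 1 → ∃ a ∈ C[z], a * a = z ∧ a * (x * x) = x * x * a ∧ ∃ b ∈ C[z], b * b = z ∧ b * (x * x) = x * x * b ∧ a * b ≠ b * a :=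
  let ⟨_, _, h, _⟩ := M.ex; h.sound (.all 20 0 (.imp (.not (.eq (.m (.v 20) (.v 20)) .o)) (.imp (.not (.eq (.m (.v 20) (.v 20)) (.v 2))) (.imp (.eq (.m (.m (.v 20) (.v 20)) (.m (.v 20) (.v 20))) .o) (.ex 21 0 (.and (.eq (.m (.v 21) (.v 21)) (.v 2)) (.and (.eq (.m (.v 21) (.m (.v 20) (.v 20))) (.m (.m (.v 20) (.v 20)) (.v 21))) (.ex 22 0 (.and (.eq (.m (.v 22) (.v 22)) (.v 2)) (.and (.eq (.m (.v 22) (.m (.v 20) (.v 20))) (.m (.m (.v 20) (.v 20)) (.v 22))) (.not (.eq (.m (.v 21) (.v 22)) (.m (.v 22) (.v 21)))))))))))))) (by decide +kernel)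
theorem MC.n3 (M : MC z e f p q r t) : ∀ x ∈ C[z], x * x ≠ 1 → x * x ≠ z → x * x * (x * x) = 1 → ∀ y ∈ C[z], y * y = x * x → x * y = y * x :=
  let ⟨_, _, h, _⟩ := M.ex; h.sound (.all 20 0 (.imp (.not (.eq (.m (.v 20) (.v 20)) .o)) (.imp (.not (.eq (.m (.v 20) (.v 20)) (.v 2))) (.imp (.eq (.m (.m (.v 20) (.v 20)) (.m (.v 20) (.v 20))) .o) (.all 21 0 (.imp (.eq (.m (.v 21) (.v 21)) (.m (.v 20) (.v 20))) (.eq (.m (.v 20) (.v 21)) (.m (.v 21) (.v 20))))))))) (by decide +kernel)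
theorem MD.n1 (M : MD z e f p q r t) : ∀ w ∈ C[z], w * w = 1 → w ≠ 1 → w ≠ z → ∃ x ∈ C[z], x * w = w * x ∧ x * x = z :=
  let ⟨_, _, h, _⟩ := M.ex; h.sound (.all 20 0 (.imp (.eq (.m (.v 20) (.v 20)) .o) (.imp (.not (.eq (.v 20) .o)) (.imp (.not (.eq (.v 20) (.v 2))) (.ex 21 0 (.and (.eq (.m (.v 21) (.v 20)) (.m (.v 20) (.v 21))) (.eq (.m (.v 21) (.v 21)) (.v 2)))))))) (by decide +kernel)
theorem MD.n2 (M : MD z e f p q r t) : ∀ x ∈ C[z], x * x ≠ 1 → x * x ≠ z → x * x * (x * x) = 1 → ∃ a ∈ C[z], a * a = z ∧ a * (x * x) = x * x * a ∧ ∃ b ∈ C[z], b * b = z ∧ b * (x * x) = x * x * b ∧ a * b ≠ b * a :=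
  let ⟨_, _, h, _⟩ := M.ex; h.sound (.all 20 0 (.imp (.not (.eq (.m (.v 20) (.v 20)) .o)) (.imp (.not (.eq (.m (.v 20) (.v 20)) (.v 2))) (.imp (.eq (.m (.m (.v 20) (.v 20)) (.m (.v 20) (.v 20))) .o) (.ex 21 0 (.and (.eq (.m (.v 21) (.v 21)) (.v 2)) (.and (.eq (.m (.v 21) (.m (.v 20) (.v 20))) (.m (.m (.v 20) (.v 20)) (.v 21))) (.ex 22 0 (.and (.eq (.m (.v 22) (.v 22)) (.v 2)) (.and (.eq (.m (.v 22) (.m (.v 20) (.v 20))) (.m (.m (.v 20) (.v 20)) (.v 22))) (.not (.eq (.m (.v 21) (.v 22)) (.m (.v 22) (.v 21)))))))))))))) (by decide +kernel)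
theorem MD.n3 (M : MD z e f p q r t) : ∀ x ∈ C[z], x * x ≠ 1 → x * x ≠ z → x * x * (x * x) = 1 → ∀ y ∈ C[z], y * y = x * x → x * y = y * x :=
  let ⟨_, _, h, _⟩ := M.ex; h.sound (.all 20 0 (.imp (.not (.eq (.m (.v 20) (.v 20)) .o)) (.imp (.not (.eq (.m (.v 20) (.v 20)) (.v 2))) (.imp (.eq (.m (.m (.v 20) (.v 20)) (.m (.v 20) (.v 20))) .o) (.all 21 0 (.imp (.eq (.m (.v 21) (.v 21)) (.m (.v 20) (.v 20))) (.eq (.m (.v 20) (.v 21)) (.m (.v 21) (.v 20))))))))) (by decide +kernel)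
theorem MA.c0 (M : MA z e f p q r t) : (z ≠ 1 ∧ z * z = 1 ∧ e * e = 1 ∧ f * f = 1 ∧ r ^ 3 = 1 ∧ (e * r) ^ 3 = 1 ∧ (f * r) ^ 3 = 1 ∧ e * f = f * e ∧ r * e * r⁻¹ = p ∧ r * f * r⁻¹ = q ∧ e * q * (e * q) = z ∧ r * z = z * r ∧ e * z = z * e ∧ f * z = z * f) ∧ p * p = 1 ∧ q * q = 1 ∧ t * t = 1 ∧ p * z = z * p ∧ q * z = z * q ∧ t * z = z * t ∧ e * p = p * e ∧ f * q = q * f ∧ p * q = q * p ∧ q * e * q = e * z ∧ p * f * p = f * z ∧ e ≠ 1 ∧ e ≠ z ∧ f ≠ 1 ∧ t * r * t = r⁻¹ ∧ t * e = e * t ∧ p * f * (p * f) = z ∧ r * q * r⁻¹ = f * q ∧ e * q * e = q * z :=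
  let ⟨_, _, h, _⟩ := M.ex; h.sound (.and (.and (.not (.eq (.v 2) .o)) (.and (.eq (.m (.v 2) (.v 2)) .o) (.and (.eq (.m (.v 0) (.v 0)) .o) (.and (.eq (.m (.v 1) (.v 1)) .o) (.and (.eq (.p (.v 5) 3) .o) (.and (.eq (.p (.m (.v 0) (.v 5)) 3) .o) (.and (.eq (.p (.m (.v 1) (.v 5)) 3) .o) (.and (.eq (.m (.v 0) (.v 1)) (.m (.v 1) (.v 0))) (.and (.eq (.m (.m (.v 5) (.v 0)) (.v 6)) (.v 3)) (.and (.eq (.m (.m (.v 5) (.v 1)) (.v 6)) (.v 4)) (.and (.eq (.m (.m (.v 0) (.v 4)) (.m (.v 0) (.v 4))) (.v 2)) (.and (.eq (.m (.v 5) (.v 2)) (.m (.v 2) (.v 5))) (.and (.eq (.m (.v 0) (.v 2)) (.m (.v 2) (.v 0))) (.eq (.m (.v 1) (.v 2)) (.m (.v 2) (.v 1)))))))))))))))) (.and (.eq (.m (.v 3) (.v 3)) .o) (.and (.eq (.m (.v 4) (.v 4)) .o) (.and (.eq (.m (.v 7) (.v 7)) .o) (.and (.eq (.m (.v 3) (.v 2)) (.m (.v 2) (.v 3)))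 (.and (.eq (.m (.v 4) (.v 2)) (.m (.v 2) (.v 4))) (.and (.eq (.m (.v 7) (.v 2)) (.m (.v 2) (.v 7))) (.and (.eq (.m (.v 0) (.v 3)) (.m (.v 3) (.v 0))) (.and (.eq (.m (.v 1) (.v 4)) (.m (.v 4) (.v 1))) (.and (.eq (.m (.v 3) (.v 4)) (.m (.v 4) (.v 3))) (.and (.eq (.m (.m (.v 4) (.v 0)) (.v 4)) (.m (.v 0) (.v 2))) (.and (.eq (.m (.m (.v 3) (.v 1)) (.v 3)) (.m (.v 1) (.v 2))) (.and (.not (.eq (.v 0) .o)) (.and (.not (.eq (.v 0) (.v 2))) (.and (.not (.eq (.v 1) .o)) (.and (.eq (.m (.m (.v 7) (.v 5)) (.v 7)) (.v 6)) (.and (.eq (.m (.v 7) (.v 0)) (.m (.v 0) (.v 7))) (.and (.eq (.m (.m (.v 3) (.v 1)) (.m (.v 3) (.v 1))) (.v 2)) (.and (.eq (.m (.m (.v 5) (.v 4)) (.v 6)) (.m (.v 1) (.v 4))) (.eq (.m (.m (.v 0) (.v 4)) (.v 0)) (.m (.v 4) (.v 2)))))))))))))))))))))) (by decide +kernel)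
theorem MA.c1 (M : MA z e f p q r t) : ∀ x ∈ C[z], x * x ≠ z → x * x ≠ 1 → x * x * (x * x) = 1 → ∃ y ∈ C[z], y * y = 1 ∧ y * (x * x) * y = x * x * z :=
  let ⟨_, _, h, _⟩ := M.ex; h.sound (.all 20 0 (.imp (.not (.eq (.m (.v 20) (.v 20)) (.v 2))) (.imp (.not (.eq (.m (.v 20) (.v 20)) .o)) (.imp (.eq (.m (.m (.v 20) (.v 20)) (.m (.v 20) (.v 20))) .o) (.ex 21 0 (.and (.eq (.m (.v 21) (.v 21)) .o) (.eq (.m (.m (.v 21) (.m (.v 20) (.v 20))) (.v 21)) (.m (.m (.v 20) (.v 20)) (.v 2))))))))) (by decide +kernel)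
theorem MA.c2 (M : MA z e f p q r t) : ∀ w ∈ C[z], w * w = 1 → w ≠ 1 → w ≠ z → ∀ x ∈ C[z], x * w = w * x → x ^ 4 = 1 :=
  let ⟨_, _, h, _⟩ := M.ex; h.sound (.all 20 0 (.imp (.eq (.m (.v 20) (.v 20)) .o) (.imp (.not (.eq (.v 20) .o)) (.imp (.not (.eq (.v 20) (.v 2))) (.all 21 0 (.imp (.eq (.m (.v 21) (.v 20)) (.m (.v 20) (.v 21))) (.eq (.p (.v 21) 4) .o))))))) (by decide +kernel)
theorem MA.c3 (M : MA z e f p q r t) : ∀ c ∈ C[z], c * e = e * c → (∀ y ∈ C[z], y * e = e * y → c * y = y * c) → c = 1 ∨ (c = z ∨ c = e ∨ c = e * z) :=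
  let ⟨_, _, h, _⟩ := M.ex; h.sound (.all 20 0 (.imp (.eq (.m (.v 20) (.v 0)) (.m (.v 0) (.v 20))) (.imp (.all 21 0 (.imp (.eq (.m (.v 21) (.v 0)) (.m (.v 0) (.v 21))) (.eq (.m (.v 20) (.v 21)) (.m (.v 21) (.v 20))))) (.or (.eq (.v 20) .o) (.or (.eq (.v 20) (.v 2)) (.or (.eq (.v 20) (.v 0)) (.eq (.v 20) (.m (.v 0) (.v 2))))))))) (by decide +kernel)
theorem MA.c4 (M : MA z e f p q r t) : ∀ x ∈ C[z], x * e = e * x → x * p = p * x → x * x = 1 ∧ (x = 1 ∨ x = z ∨ ∃ y ∈ C[z], y * x * y⁻¹ = e) ∧ ∀ y ∈ C[z], y * x * y⁻¹ * e = e * (y * x * y⁻¹) ∧ y * x * y⁻¹ * p = p * (y * x * y⁻¹) :=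
  let ⟨_, _, h, _⟩ := M.ex; h.sound (.all 20 0 (.imp (.eq (.m (.v 20) (.v 0)) (.m (.v 0) (.v 20))) (.imp (.eq (.m (.v 20) (.v 3)) (.m (.v 3) (.v 20))) (.and (.eq (.m (.v 20) (.v 20)) .o) (.and (.or (.eq (.v 20) .o) (.or (.eq (.v 20) (.v 2)) (.ex 21 0 (.eq (.m (.m (.v 21) (.v 20)) (.i (.v 21))) (.v 0))))) (.all 21 0 (.and (.eq (.m (.m (.m (.v 21) (.v 20)) (.i (.v 21))) (.v 0)) (.m (.v 0) (.m (.m (.v 21) (.v 20)) (.i (.v 21))))) (.eq (.m (.m (.m (.v 21) (.v 20)) (.i (.v 21))) (.v 3)) (.m (.v 3) (.m (.m (.v 21) (.v 20)) (.i (.v 21)))))))))))) (by decide +kernel)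
theorem MA.c5 (M : MA z e f p q r t) : ∀ x ∈ C[z], x * t = t * x → ∀ y ∈ C[z], y * t = t * y → x * y = y * x :=
  let ⟨_, _, h, _⟩ := M.ex; h.sound (.all 20 0 (.imp (.eq (.m (.v 20) (.v 7)) (.m (.v 7) (.v 20))) (.all 21 0 (.imp (.eq (.m (.v 21) (.v 7)) (.m (.v 7) (.v 21))) (.eq (.m (.v 20) (.v 21)) (.m (.v 21) (.v 20))))))) (by decide +kernel)
theorem MA.cH (M : MA z e f p q r t) : {x | x ∈ C[z] ∧ (x = x)}.ncard = 192 :=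
  let ⟨_, _, h, k⟩ := M.ex; (h.ncard k 19 (.eq (.v 19) (.v 19))).trans (by decide +kernel)
theorem MA.cR (M : MA z e f p q r t) : {x | x ∈ C[z] ∧ (x * e = e * x)}.ncard = 32 :=
  let ⟨_, _, h, k⟩ := M.ex; (h.ncard k 19 (.eq (.m (.v 19) (.v 0)) (.m (.v 0) (.v 19)))).trans (by decide +kernel)
theorem MA.cE (M : MA z e f p q r t) : {x | x ∈ C[z] ∧ (x * e = e * x ∧ x * p = p * x)}.ncard = 8 :=
  let ⟨_, _, h, k⟩ := M.ex; (h.ncard k 19 (.and (.eq (.m (.v 19) (.v 0)) (.m (.v 0) (.v 19))) (.eq (.m (.v 19) (.v 3)) (.m (.v 3) (.v 19))))).trans (by decide +kernel)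
theorem MB.c0 (M : MB z e f p q r t) : (z ≠ 1 ∧ z * z = 1 ∧ e * e = 1 ∧ f * f = 1 ∧ r ^ 3 = 1 ∧ (e * r) ^ 3 = 1 ∧ (f * r) ^ 3 = 1 ∧ e * f = f * e ∧ r * e * r⁻¹ = p ∧ r * f * r⁻¹ = q ∧ e * q * (e * q) = z ∧ r * z = z * r ∧ e * z = z * e ∧ f * z = z * f) ∧ p * p = 1 ∧ q * q = 1 ∧ t * t = 1 ∧ p * z = z * p ∧ q * z = z * q ∧ t * z = z * t ∧ e * p = p * e ∧ f * q = q * f ∧ p * q = q * p ∧ q * e * q = e * z ∧ p * f * p = f * z ∧ e ≠ 1 ∧ e ≠ z ∧ f ≠ 1 ∧ t * r * t = r⁻¹ ∧ t * e = e * t ∧ p * f * (p * f) = z ∧ r * q * r⁻¹ = f * q ∧ e * q * e = q * z :=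
  let ⟨_, _, h, _⟩ := M.ex; h.sound (.and (.and (.not (.eq (.v 2) .o)) (.and (.eq (.m (.v 2) (.v 2)) .o) (.and (.eq (.m (.v 0) (.v 0)) .o) (.and (.eq (.m (.v 1) (.v 1)) .o) (.and (.eq (.p (.v 5) 3) .o) (.and (.eq (.p (.m (.v 0) (.v 5)) 3) .o) (.and (.eq (.p (.m (.v 1) (.v 5)) 3) .o) (.and (.eq (.m (.v 0) (.v 1)) (.m (.v 1) (.v 0))) (.and (.eq (.m (.m (.v 5) (.v 0)) (.v 6)) (.v 3)) (.and (.eq (.m (.m (.v 5) (.v 1)) (.v 6)) (.v 4)) (.and (.eq (.m (.m (.v 0) (.v 4)) (.m (.v 0) (.v 4))) (.v 2)) (.and (.eq (.m (.v 5) (.v 2)) (.m (.v 2) (.v 5))) (.and (.eq (.m (.v 0) (.v 2)) (.m (.v 2) (.v 0))) (.eq (.m (.v 1) (.v 2)) (.m (.v 2) (.v 1)))))))))))))))) (.and (.eq (.m (.v 3) (.v 3)) .o) (.and (.eq (.m (.v 4) (.v 4)) .o) (.and (.eq (.m (.v 7) (.v 7)) .o) (.and (.eq (.m (.v 3) (.v 2)) (.m (.v 2) (.v 3)))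 (.and (.eq (.m (.v 4) (.v 2)) (.m (.v 2) (.v 4))) (.and (.eq (.m (.v 7) (.v 2)) (.m (.v 2) (.v 7))) (.and (.eq (.m (.v 0) (.v 3)) (.m (.v 3) (.v 0))) (.and (.eq (.m (.v 1) (.v 4)) (.m (.v 4) (.v 1))) (.and (.eq (.m (.v 3) (.v 4)) (.m (.v 4) (.v 3))) (.and (.eq (.m (.m (.v 4) (.v 0)) (.v 4)) (.m (.v 0) (.v 2))) (.and (.eq (.m (.m (.v 3) (.v 1)) (.v 3)) (.m (.v 1) (.v 2))) (.and (.not (.eq (.v 0) .o)) (.and (.not (.eq (.v 0) (.v 2))) (.and (.not (.eq (.v 1) .o)) (.and (.eq (.m (.m (.v 7) (.v 5)) (.v 7)) (.v 6)) (.and (.eq (.m (.v 7) (.v 0)) (.m (.v 0) (.v 7))) (.and (.eq (.m (.m (.v 3) (.v 1)) (.m (.v 3) (.v 1))) (.v 2)) (.and (.eq (.m (.m (.v 5) (.v 4)) (.v 6)) (.m (.v 1) (.v 4))) (.eq (.m (.m (.v 0) (.v 4)) (.v 0)) (.m (.v 4) (.v 2)))))))))))))))))))))) (by decide +kernel)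
theorem MB.c1 (M : MB z e f p q r t) : ∀ x ∈ C[z], x * x ≠ z → x * x ≠ 1 → x * x * (x * x) = 1 → ∃ y ∈ C[z], y * y = 1 ∧ y * (x * x) * y = x * x * z :=
  let ⟨_, _, h, _⟩ := M.ex; h.sound (.all 20 0 (.imp (.not (.eq (.m (.v 20) (.v 20)) (.v 2))) (.imp (.not (.eq (.m (.v 20) (.v 20)) .o)) (.imp (.eq (.m (.m (.v 20) (.v 20)) (.m (.v 20) (.v 20))) .o) (.ex 21 0 (.and (.eq (.m (.v 21) (.v 21)) .o) (.eq (.m (.m (.v 21) (.m (.v 20) (.v 20))) (.v 21)) (.m (.m (.v 20) (.v 20)) (.v 2))))))))) (by decide +kernel)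
theorem MB.c2 (M : MB z e f p q r t) : ∀ w ∈ C[z], w * w = 1 → w ≠ 1 → w ≠ z → ∀ x ∈ C[z], x * w = w * x → x ^ 4 = 1 :=
  let ⟨_, _, h, _⟩ := M.ex; h.sound (.all 20 0 (.imp (.eq (.m (.v 20) (.v 20)) .o) (.imp (.not (.eq (.v 20) .o)) (.imp (.not (.eq (.v 20) (.v 2))) (.all 21 0 (.imp (.eq (.m (.v 21) (.v 20)) (.m (.v 20) (.v 21))) (.eq (.p (.v 21) 4) .o))))))) (by decide +kernel)
theorem MB.c3 (M : MB z e f p q r t) : ∀ c ∈ C[z], c * e = e * c → (∀ y ∈ C[z], y * e = e * y → c * y = y * c) → c = 1 ∨ (c = z ∨ c = e ∨ c = e * z) :=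
  let ⟨_, _, h, _⟩ := M.ex; h.sound (.all 20 0 (.imp (.eq (.m (.v 20) (.v 0)) (.m (.v 0) (.v 20))) (.imp (.all 21 0 (.imp (.eq (.m (.v 21) (.v 0)) (.m (.v 0) (.v 21))) (.eq (.m (.v 20) (.v 21)) (.m (.v 21) (.v 20))))) (.or (.eq (.v 20) .o) (.or (.eq (.v 20) (.v 2)) (.or (.eq (.v 20) (.v 0)) (.eq (.v 20) (.m (.v 0) (.v 2))))))))) (by decide +kernel)
theorem MB.c4 (M : MB z e f p q r t) : ∀ x ∈ C[z], x * e = e * x → x * p = p * x → x * x = 1 ∧ (x = 1 ∨ x = z ∨ ∃ y ∈ C[z], y * x * y⁻¹ = e) ∧ ∀ y ∈ C[z], y * x * y⁻¹ * e = e * (y * x * y⁻¹) ∧ y * x * y⁻¹ * p = p * (y * x * y⁻¹) :=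
  let ⟨_, _, h, _⟩ := M.ex; h.sound (.all 20 0 (.imp (.eq (.m (.v 20) (.v 0)) (.m (.v 0) (.v 20))) (.imp (.eq (.m (.v 20) (.v 3)) (.m (.v 3) (.v 20))) (.and (.eq (.m (.v 20) (.v 20)) .o) (.and (.or (.eq (.v 20) .o) (.or (.eq (.v 20) (.v 2)) (.ex 21 0 (.eq (.m (.m (.v 21) (.v 20)) (.i (.v 21))) (.v 0))))) (.all 21 0 (.and (.eq (.m (.m (.m (.v 21) (.v 20)) (.i (.v 21))) (.v 0)) (.m (.v 0) (.m (.m (.v 21) (.v 20)) (.i (.v 21))))) (.eq (.m (.m (.m (.v 21) (.v 20)) (.i (.v 21))) (.v 3)) (.m (.v 3) (.m (.m (.v 21) (.v 20)) (.i (.v 21)))))))))))) (by decide +kernel)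
theorem MB.c5 (M : MB z e f p q r t) : ∀ x ∈ C[z], x * t = t * x → ∀ y ∈ C[z], y * t = t * y → x * y = y * x :=
  let ⟨_, _, h, _⟩ := M.ex; h.sound (.all 20 0 (.imp (.eq (.m (.v 20) (.v 7)) (.m (.v 7) (.v 20))) (.all 21 0 (.imp (.eq (.m (.v 21) (.v 7)) (.m (.v 7) (.v 21))) (.eq (.m (.v 20) (.v 21)) (.m (.v 21) (.v 20))))))) (by decide +kernel)
theorem MB.cH (M : MB z e f p q r t) : {x | x ∈ C[z] ∧ (x = x)}.ncard = 192 :=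
  let ⟨_, _, h, k⟩ := M.ex; (h.ncard k 19 (.eq (.v 19) (.v 19))).trans (by decide +kernel)
theorem MB.cR (M : MB z e f p q r t) : {x | x ∈ C[z] ∧ (x * e = e * x)}.ncard = 32 :=
  let ⟨_, _, h, k⟩ := M.ex; (h.ncard k 19 (.eq (.m (.v 19) (.v 0)) (.m (.v 0) (.v 19)))).trans (by decide +kernel)
theorem MB.cE (M : MB z e f p q r t) : {x | x ∈ C[z] ∧ (x * e = e * x ∧ x * p = p * x)}.ncard = 8 :=
  let ⟨_, _, h, k⟩ := M.ex; (h.ncard k 19 (.and (.eq (.m (.v 19) (.v 0)) (.m (.v 0) (.v 19))) (.eq (.m (.v 19) (.v 3)) (.m (.v 3) (.v 19))))).trans (by decide +kernel)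
theorem MB.b0 (M : MB z e f p q r t) : t * f * t = e * f * z ∧ r⁻¹ * f * r = f * q ∧ (∃ y ∈ C[z], y * (e * f * z) * y⁻¹ = f) ∧ (∃ y ∈ C[z], y * (f * e * p * t) * y⁻¹ = t) ∧ (∃ y ∈ C[z], y * (t * z) * y⁻¹ = t) ∧ r * t * r⁻¹ * e ≠ e * (r * t * r⁻¹) ∧ r * t * r⁻¹ * (f * e * p * t) ≠ (f * e * p * t) * (r * t * r⁻¹) ∧ r * t * r⁻¹ * ((f * e * p * t) * e) ≠ (f * e * p * t) * e * (r * t * r⁻¹) :=
  let ⟨_, _, h, _⟩ := M.ex; h.sound (.and (.eq (.m (.m (.v 7) (.v 1)) (.v 7)) (.m (.m (.v 0) (.v 1)) (.v 2))) (.and (.eq (.m (.m (.v 6) (.v 1)) (.v 5)) (.m (.v 1) (.v 4))) (.and (.ex 20 0 (.eq (.m (.m (.v 20) (.m (.m (.v 0) (.v 1)) (.v 2))) (.i (.v 20))) (.v 1))) (.and (.ex 20 0 (.eq (.m (.m (.v 20) (.m (.m (.m (.v 1) (.v 0)) (.v 3)) (.v 7))) (.i (.v 20))) (.v 7))) (.and (.ex 20 0 (.eq (.m (.m (.v 20) (.m (.v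 7) (.v 2))) (.i (.v 20))) (.v 7))) (.and (.not (.eq (.m (.m (.m (.v 5) (.v 7)) (.v 6)) (.v 0)) (.m (.v 0) (.m (.m (.v 5) (.v 7)) (.v 6))))) (.and (.not (.eq (.m (.m (.m (.v 5) (.v 7)) (.v 6)) (.m (.m (.m (.v 1) (.v 0)) (.v 3)) (.v 7))) (.m (.m (.m (.m (.v 1) (.v 0)) (.v 3)) (.v 7)) (.m (.m (.v 5) (.v 7)) (.v 6))))) (.not (.eq (.m (.m (.m (.v 5) (.v 7)) (.v 6)) (.m (.m (.m (.m (.v 1) (.v 0)) (.v 3)) (.v 7)) (.v 0))) (.m (.m (.m (.m (.m (.v 1) (.v 0)) (.v 3)) (.v 7)) (.v 0)) (.m (.m (.v 5) (.v 7)) (.v 6)))))))))))) (by decide +kernel)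
theorem MB.b1 (M : MB z e f p q r t) : ∀ i ∈ C[z], i * e = e * i → i = 1 ∨ (i = z ∨ i = e ∨ i = e * z) ∨ (i * i = z ∨ i * i = e ∨ i * i = e * z) ∨ (i * (q * i * q) = z ∨ i * (q * i * q) = e ∨ i * (q * i * q) = e * z) ∨ (i * (q * i * q) * (i * (q * i * q)) = z ∨ i * (q * i * q) * (i * (q * i * q)) = e ∨ i * (q * i * q) * (i * (q * i * q)) = e * z) ∨ i = f ∨ i = f * z ∨ i = p ∨ i = p * z :=
  let ⟨_, _, h, _⟩ := M.ex; h.sound (.all 20 0 (.imp (.eq (.m (.v 20) (.v 0)) (.m (.v 0) (.v 20))) (.or (.eq (.v 20) .o) (.or (.or (.eq (.v 20) (.v 2)) (.or (.eq (.v 20) (.v 0)) (.eq (.v 20) (.m (.v 0) (.v 2))))) (.or (.or (.eq (.m (.v 20) (.v 20)) (.v 2)) (.or (.eq (.m (.v 20) (.v 20)) (.v 0)) (.eq (.m (.v 20) (.v 20)) (.m (.v 0) (.v 2))))) (.or (.or (.eq (.m (.v 20) (.m (.m (.v 4) (.v 20)) (.v 4))) (.v 2))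 (.or (.eq (.m (.v 20) (.m (.m (.v 4) (.v 20)) (.v 4))) (.v 0)) (.eq (.m (.v 20) (.m (.m (.v 4) (.v 20)) (.v 4))) (.m (.v 0) (.v 2))))) (.or (.or (.eq (.m (.m (.v 20) (.m (.m (.v 4) (.v 20)) (.v 4))) (.m (.v 20) (.m (.m (.v 4) (.v 20)) (.v 4)))) (.v 2)) (.or (.eq (.m (.m (.v 20) (.m (.m (.v 4) (.v 20)) (.v 4))) (.m (.v 20) (.m (.m (.v 4) (.v 20)) (.v 4)))) (.v 0)) (.eq (.m (.m (.v 20) (.m (.m (.v 4) (.v 20)) (.v 4))) (.m (.v 20) (.m (.m (.v 4) (.v 20)) (.v 4)))) (.m (.v 0) (.v 2))))) (.or (.eq (.v 20) (.v 1)) (.or (.eq (.v 20) (.m (.v 1) (.v 2))) (.or (.eq (.v 20) (.v 3)) (.eq (.v 20) (.m (.v 3) (.v 2))))))))))))) (by decide +kernel)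
theorem MB.b2 (M : MB z e f p q r t) : ∀ c ∈ C[z], c * e = e * c → c * c = 1 → c * f * (c * f) = e → c * f * (q * c * q * f) * (p * f) = p * f * (c * f) * (q * c * q * f) ∧ (p * f * (c * f) * (q * c * q * f) = z ∨ c = f * e * p * t ∨ c = f * e * p * (t * z)) :=
  let ⟨_, _, h, _⟩ := M.ex; h.sound (.all 20 0 (.imp (.eq (.m (.v 20) (.v 0)) (.m (.v 0) (.v 20))) (.imp (.eq (.m (.v 20) (.v 20)) .o) (.imp (.eq (.m (.m (.v 20) (.v 1)) (.m (.v 20) (.v 1))) (.v 0)) (.and (.eq (.m (.m (.m (.v 20) (.v 1)) (.m (.m (.m (.v 4) (.v 20)) (.v 4)) (.v 1))) (.m (.v 3) (.v 1))) (.m (.m (.m (.v 3) (.v 1)) (.m (.v 20) (.v 1))) (.m (.m (.m (.v 4) (.v 20)) (.v 4)) (.v 1)))) (.or (.eq (.m (.m (.m (.v 3) (.v 1)) (.m (.v 20) (.v 1))) (.m (.m (.m (.v 4) (.v 20)) (.v 4)) (.v 1))) (.v 2)) (.or (.eq (.v 20) (.m (.m (.m (.v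 1) (.v 0)) (.v 3)) (.v 7))) (.eq (.v 20) (.m (.m (.m (.v 1) (.v 0)) (.v 3)) (.m (.v 7) (.v 2))))))))))) (by decide +kernel)
theorem MB.b3 (M : MB z e f p q r t) : ∀ c ∈ C[z], c * e = e * c → c * c = 1 → p * c * (p * c) = e → p * c * (p * (q * c * q)) * (p * f) = p * f * (p * c) * (p * (q * c * q)) ∧ (p * f * (p * c) * (p * (q * c * q)) = z ∨ c = t ∨ c = t * z) :=
  let ⟨_, _, h, _⟩ := M.ex; h.sound (.all 20 0 (.imp (.eq (.m (.v 20) (.v 0)) (.m (.v 0) (.v 20))) (.imp (.eq (.m (.v 20) (.v 20)) .o) (.imp (.eq (.m (.m (.v 3) (.v 20)) (.m (.v 3) (.v 20))) (.v 0)) (.and (.eq (.m (.m (.m (.v 3) (.v 20)) (.m (.v 3) (.m (.m (.v 4) (.v 20)) (.v 4)))) (.m (.v 3) (.v 1))) (.m (.m (.m (.v 3) (.v 1)) (.m (.v 3) (.v 20))) (.m (.v 3) (.m (.m (.v 4) (.v 20)) (.v 4))))) (.or (.eq (.m (.m (.m (.v 3) (.v 1)) (.m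 (.v 3) (.v 20))) (.m (.v 3) (.m (.m (.v 4) (.v 20)) (.v 4)))) (.v 2)) (.or (.eq (.v 20) (.v 7)) (.eq (.v 20) (.m (.v 7) (.v 2)))))))))) (by decide +kernel)
theorem MB.b4 (M : MB z e f p q r t) : ∀ x ∈ C[z], x * x = 1 → x = 1 ∨ x = z ∨ ∃ y ∈ C[z], y * x * y⁻¹ = e ∨ y * x * y⁻¹ = f ∨ y * x * y⁻¹ = t :=
  let ⟨_, _, h, _⟩ := M.ex; h.sound (.all 20 0 (.imp (.eq (.m (.v 20) (.v 20)) .o) (.or (.eq (.v 20) .o) (.or (.eq (.v 20) (.v 2)) (.ex 21 0 (.or (.eq (.m (.m (.v 21) (.v 20)) (.i (.v 21))) (.v 0)) (.or (.eq (.m (.m (.v 21) (.v 20)) (.i (.v 21))) (.v 1)) (.eq (.m (.m (.v 21) (.v 20)) (.i (.v 21))) (.v 7))))))))) (by decide +kernel)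
theorem MB.b5 (M : MB z e f p q r t) : (∀ x ∈ C[z], x * x ≠ f) ∧ ∀ x ∈ C[z], x * x ≠ 1 → x * x ≠ z → x * x * (x * x) = 1 → ∃ y ∈ C[z], y * (x * x) = x * x * y ∧ y * y = z :=
  let ⟨_, _, h, _⟩ := M.ex; h.sound (.and (.all 20 0 (.not (.eq (.m (.v 20) (.v 20)) (.v 1)))) (.all 20 0 (.imp (.not (.eq (.m (.v 20) (.v 20)) .o)) (.imp (.not (.eq (.m (.v 20) (.v 20)) (.v 2))) (.imp (.eq (.m (.m (.v 20) (.v 20)) (.m (.v 20) (.v 20))) .o) (.ex 21 0 (.and (.eq (.m (.v 21) (.m (.v 20) (.v 20))) (.m (.m (.v 20) (.v 20)) (.v 21))) (.eq (.m (.v 21) (.v 21)) (.v 2))))))))) (by decide +kernel)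
theorem MB.b6 (M : MB z e f p q r t) : ∀ x ∈ C[z], x * t = t * x → x = 1 ∨ (x = z ∨ x = e ∨ x = e * z) ∨ ∃ y ∈ C[z], y * x * y⁻¹ = t :=
  let ⟨_, _, h, _⟩ := M.ex; h.sound (.all 20 0 (.imp (.eq (.m (.v 20) (.v 7)) (.m (.v 7) (.v 20))) (.or (.eq (.v 20) .o) (.or (.or (.eq (.v 20) (.v 2)) (.or (.eq (.v 20) (.v 0)) (.eq (.v 20) (.m (.v 0) (.v 2))))) (.ex 21 0 (.eq (.m (.m (.v 21) (.v 20)) (.i (.v 21))) (.v 7))))))) (by decide +kernel)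
theorem MB.b7 (M : MB z e f p q r t) : ∀ c ∈ C[z], c * f = f * c → (c = 1 ∨ c = f) ∨ (c * z = 1 ∨ c * z = f) ∨ (c * e = 1 ∨ c * e = f) ∨ (c * (e * z) = 1 ∨ c * (e * z) = f) ∨ (c * q = 1 ∨ c * q = f) ∨ (c * (q * z) = 1 ∨ c * (q * z) = f) ∨ (c * (e * q) = 1 ∨ c * (e * q) = f) ∨ (c * (e * q * z) = 1 ∨ c * (e * q * z) = f) :=
  let ⟨_, _, h, _⟩ := M.ex; h.sound (.all 20 0 (.imp (.eq (.m (.v 20) (.v 1)) (.m (.v 1) (.v 20))) (.or (.or (.eq (.v 20) .o) (.eq (.v 20) (.v 1))) (.or (.or (.eq (.m (.v 20) (.v 2)) .o) (.eq (.m (.v 20) (.v 2)) (.v 1))) (.or (.or (.eq (.m (.v 20) (.v 0)) .o) (.eq (.m (.v 20) (.v 0)) (.v 1))) (.or (.or (.eq (.m (.v 20) (.m (.v 0) (.v 2))) .o) (.eq (.m (.v 20) (.m (.v 0) (.v 2))) (.v 1))) (.or (.or (.eq (.m (.v 20) (.v 4)) .o) (.eq (.m (.v 20) (.v 4)) (.v 1))) (.or (.or (.eq (.m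 (.v 20) (.m (.v 4) (.v 2))) .o) (.eq (.m (.v 20) (.m (.v 4) (.v 2))) (.v 1))) (.or (.or (.eq (.m (.v 20) (.m (.v 0) (.v 4))) .o) (.eq (.m (.v 20) (.m (.v 0) (.v 4))) (.v 1))) (.or (.eq (.m (.v 20) (.m (.m (.v 0) (.v 4)) (.v 2))) .o) (.eq (.m (.v 20) (.m (.m (.v 0) (.v 4)) (.v 2))) (.v 1)))))))))))) (by decide +kernel)
theorem MB.b8 (M : MB z e f p q r t) : ∀ x ∈ C[z], x * f = f * x → x * x = 1 → x = 1 ∨ (x = z ∨ x = e ∨ x = e * z) ∨ ∃ y ∈ C[z], y * x * y⁻¹ = f :=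
  let ⟨_, _, h, _⟩ := M.ex; h.sound (.all 20 0 (.imp (.eq (.m (.v 20) (.v 1)) (.m (.v 1) (.v 20))) (.imp (.eq (.m (.v 20) (.v 20)) .o) (.or (.eq (.v 20) .o) (.or (.or (.eq (.v 20) (.v 2)) (.or (.eq (.v 20) (.v 0)) (.eq (.v 20) (.m (.v 0) (.v 2))))) (.ex 21 0 (.eq (.m (.m (.v 21) (.v 20)) (.i (.v 21))) (.v 1)))))))) (by decide +kernel)
theorem MB.b9 (M : MB z e f p q r t) : ∀ x ∈ C[z], x * e = e * x → x * f = f * x → x * r = r * x → x = 1 ∨ x = z :=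
  let ⟨_, _, h, _⟩ := M.ex; h.sound (.all 20 0 (.imp (.eq (.m (.v 20) (.v 0)) (.m (.v 0) (.v 20))) (.imp (.eq (.m (.v 20) (.v 1)) (.m (.v 1) (.v 20))) (.imp (.eq (.m (.v 20) (.v 5)) (.m (.v 5) (.v 20))) (.or (.eq (.v 20) .o) (.eq (.v 20) (.v 2))))))) (by decide +kernel)
theorem MA.a0 (M : MA z e f p q r t) : t * f = f * t ∧ t * (p * q * z) * t = (e * f * z) * (p * q * z) ∧ (p * q * z) * f * (p * q * z) = f * z ∧ r * (e * f * z) * r⁻¹ = (p * q * z) ∧ r * (p * q * z) * r⁻¹ = (e * f * z) * (p * q * z) ∧ (∃ y ∈ C[z], y * (z * t * (e * f * z)) * y⁻¹ = t * z) ∧ (∃ y ∈ C[z], y * (z * t * e) * y⁻¹ = t * z) ∧ (∃ y ∈ C[z], y * (t * (e * f * z)) * y⁻¹ = t) ∧ (∃ y ∈ C[z], y * ((e * f * z) * z) * y⁻¹ = (e * f * z)) ∧ (e * f * z * r) ^ 3 = 1 ∧ e * (p * q * z) * (e * (p * q * z)) = z ∧ z * p ≠ e * p ∧ f * p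 * (f * p) = z :=
  let ⟨_, _, h, _⟩ := M.ex; h.sound (.and (.eq (.m (.v 7) (.v 1)) (.m (.v 1) (.v 7))) (.and (.eq (.m (.m (.v 7) (.m (.m (.v 3) (.v 4)) (.v 2))) (.v 7)) (.m (.m (.m (.v 0) (.v 1)) (.v 2)) (.m (.m (.v 3) (.v 4)) (.v 2)))) (.and (.eq (.m (.m (.m (.m (.v 3) (.v 4)) (.v 2)) (.v 1)) (.m (.m (.v 3) (.v 4)) (.v 2))) (.m (.v 1) (.v 2))) (.and (.eq (.m (.m (.v 5) (.m (.m (.v 0) (.v 1)) (.v 2))) (.v 6)) (.m (.m (.v 3) (.v 4)) (.v 2))) (.and (.eq (.m (.m (.v 5) (.m (.m (.v 3) (.v 4)) (.v 2))) (.v 6)) (.m (.m (.m (.v 0) (.v 1)) (.v 2)) (.m (.m (.v 3) (.v 4)) (.v 2)))) (.and (.ex 20 0 (.eq (.m (.m (.v 20) (.m (.m (.v 2) (.v 7)) (.m (.m (.v 0) (.v 1)) (.v 2)))) (.i (.v 20))) (.m (.v 7) (.v 2)))) (.and (.ex 20 0 (.eq (.m (.m (.v 20) (.m (.m (.v 2) (.v 7)) (.v 0))) (.i (.v 20))) (.m (.v 7) (.v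 2)))) (.and (.ex 20 0 (.eq (.m (.m (.v 20) (.m (.v 7) (.m (.m (.v 0) (.v 1)) (.v 2)))) (.i (.v 20))) (.v 7))) (.and (.ex 20 0 (.eq (.m (.m (.v 20) (.m (.m (.m (.v 0) (.v 1)) (.v 2)) (.v 2))) (.i (.v 20))) (.m (.m (.v 0) (.v 1)) (.v 2)))) (.and (.eq (.p (.m (.m (.m (.v 0) (.v 1)) (.v 2)) (.v 5)) 3) .o) (.and (.eq (.m (.m (.v 0) (.m (.m (.v 3) (.v 4)) (.v 2))) (.m (.v 0) (.m (.m (.v 3) (.v 4)) (.v 2)))) (.v 2)) (.and (.not (.eq (.m (.v 2) (.v 3)) (.m (.v 0) (.v 3)))) (.eq (.m (.m (.v 1) (.v 3)) (.m (.v 1) (.v 3))) (.v 2)))))))))))))) (by decide +kernel)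
theorem MA.a1 (M : MA z e f p q r t) : ∀ i ∈ C[z], i * e = e * i → ∀ y ∈ C[z], y * e = e * y → y * y = 1 → i = 1 ∨ (i = z ∨ i = e ∨ i = e * z) ∨ (i * i = z ∨ i * i = e ∨ i * i = e * z) ∨ (i * (q * i * q) = z ∨ i * (q * i * q) = e ∨ i * (q * i * q) = e * z) ∨ i = p ∨ i = p * z ∨ (i * p ≠ p * i ∧ (i * y = y * i ∨ (i * y * (i * y) = i * p * (i * p) ∧ (i * p * (i * p) = z ∨ i * p * (i * p) = e ∨ i * p * (i * p) = e * z)))) :=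
  let ⟨_, _, h, _⟩ := M.ex; h.sound (.all 20 0 (.imp (.eq (.m (.v 20) (.v 0)) (.m (.v 0) (.v 20))) (.all 21 0 (.imp (.eq (.m (.v 21) (.v 0)) (.m (.v 0) (.v 21))) (.imp (.eq (.m (.v 21) (.v 21)) .o) (.or (.eq (.v 20) .o) (.or (.or (.eq (.v 20) (.v 2)) (.or (.eq (.v 20) (.v 0)) (.eq (.v 20) (.m (.v 0) (.v 2))))) (.or (.or (.eq (.m (.v 20) (.v 20)) (.v 2)) (.or (.eq (.m (.v 20) (.v 20)) (.v 0)) (.eq (.m (.v 20) (.v 20)) (.m (.v 0) (.v 2))))) (.or (.or (.eq (.m (.v 20) (.m (.m (.v 4) (.v 20)) (.v 4))) (.v 2)) (.or (.eq (.m (.v 20) (.m (.m (.v 4) (.v 20)) (.v 4))) (.v 0)) (.eq (.m (.v 20) (.m (.m (.v 4) (.v 20)) (.v 4))) (.m (.v 0) (.v 2))))) (.or (.eq (.v 20) (.v 3)) (.or (.eq (.v 20) (.m (.v 3) (.v 2))) (.and (.not (.eq (.m (.v 20) (.v 3)) (.m (.v 3) (.v 20)))) (.or (.eq (.m (.v 20) (.v 21)) (.m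 (.v 21) (.v 20))) (.and (.eq (.m (.m (.v 20) (.v 21)) (.m (.v 20) (.v 21))) (.m (.m (.v 20) (.v 3)) (.m (.v 20) (.v 3)))) (.or (.eq (.m (.m (.v 20) (.v 3)) (.m (.v 20) (.v 3))) (.v 2)) (.or (.eq (.m (.m (.v 20) (.v 3)) (.m (.v 20) (.v 3))) (.v 0)) (.eq (.m (.m (.v 20) (.v 3)) (.m (.v 20) (.v 3))) (.m (.v 0) (.v 2))))))))))))))))))) (by decide +kernel)
theorem MA.a2 (M : MA z e f p q r t) : ∀ c ∈ C[z], c * e = e * c → c * c = 1 → c * p * (c * p) = e → c * (q * c * q) * f = f * c * (q * c * q) ∧ (f * c * (q * c * q) = z ∨ c = t ∨ c = t * z) :=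
  let ⟨_, _, h, _⟩ := M.ex; h.sound (.all 20 0 (.imp (.eq (.m (.v 20) (.v 0)) (.m (.v 0) (.v 20))) (.imp (.eq (.m (.v 20) (.v 20)) .o) (.imp (.eq (.m (.m (.v 20) (.v 3)) (.m (.v 20) (.v 3))) (.v 0)) (.and (.eq (.m (.m (.v 20) (.m (.m (.v 4) (.v 20)) (.v 4))) (.v 1)) (.m (.m (.v 1) (.v 20)) (.m (.m (.v 4) (.v 20)) (.v 4)))) (.or (.eq (.m (.m (.v 1) (.v 20)) (.m (.m (.v 4) (.v 20)) (.v 4))) (.v 2)) (.or (.eq (.v 20) (.v 7)) (.eq (.v 20) (.m (.v 7) (.v 2)))))))))) (by decide +kernel)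
theorem MA.a3 (M : MA z e f p q r t) : ∀ x ∈ C[z], x * x = 1 → x = 1 ∨ x = z ∨ ∃ y ∈ C[z], y * x * y⁻¹ = e ∨ y * x * y⁻¹ = f ∨ y * x * y⁻¹ = e * f * z ∨ y * x * y⁻¹ = t ∨ y * x * y⁻¹ = t * z :=
  let ⟨_, _, h, _⟩ := M.ex; h.sound (.all 20 0 (.imp (.eq (.m (.v 20) (.v 20)) .o) (.or (.eq (.v 20) .o) (.or (.eq (.v 20) (.v 2)) (.ex 21 0 (.or (.eq (.m (.m (.v 21) (.v 20)) (.i (.v 21))) (.v 0)) (.or (.eq (.m (.m (.v 21) (.v 20)) (.i (.v 21))) (.v 1)) (.or (.eq (.m (.m (.v 21) (.v 20)) (.i (.v 21))) (.m (.m (.v 0) (.v 1)) (.v 2))) (.or (.eq (.m (.m (.v 21) (.v 20)) (.i (.v 21))) (.v 7)) (.eq (.m (.m (.v 21) (.v 20)) (.i (.v 21))) (.m (.v 7) (.v 2)))))))))))) (by decide +kernel)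
theorem MA.a4 (M : MA z e f p q r t) : ∀ y ∈ C[z], y * e * y⁻¹ ≠ z * f ∧ y * e * y⁻¹ ≠ z * (f * t) ∧ y * f * y⁻¹ ≠ t ∧ y * (z * t) * y⁻¹ ≠ (p * q * z) :=
  let ⟨_, _, h, _⟩ := M.ex; h.sound (.all 20 0 (.and (.not (.eq (.m (.m (.v 20) (.v 0)) (.i (.v 20))) (.m (.v 2) (.v 1)))) (.and (.not (.eq (.m (.m (.v 20) (.v 0)) (.i (.v 20))) (.m (.v 2) (.m (.v 1) (.v 7))))) (.and (.not (.eq (.m (.m (.v 20) (.v 1)) (.i (.v 20))) (.v 7))) (.not (.eq (.m (.m (.v 20) (.m (.v 2) (.v 7))) (.i (.v 20))) (.m (.m (.v 3) (.v 4)) (.v 2)))))))) (by decide +kernel)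
theorem MA.a5 (M : MA z e f p q r t) : ∀ c ∈ C[z], c * e = e * c → c * f = f * c → c * t = t * c → c = 1 ∨ c = z * e * f * t ∨ c = z ∨ c = e ∨ c = z * e ∨ c = f ∨ c = z * f ∨ c = e * f ∨ c = z * e * f ∨ c = t ∨ c = z * t ∨ c = e * t ∨ c = z * e * t ∨ c = f * t ∨ c = z * f * t ∨ c = e * f * t :=
  let ⟨_, _, h, _⟩ := M.ex; h.sound (.all 20 0 (.imp (.eq (.m (.v 20) (.v 0)) (.m (.v 0) (.v 20))) (.imp (.eq (.m (.v 20) (.v 1)) (.m (.v 1) (.v 20))) (.imp (.eq (.m (.v 20) (.v 7)) (.m (.v 7) (.v 20))) (.or (.eq (.v 20) .o) (.or (.eq (.v 20) (.m (.m (.m (.v 2) (.v 0)) (.v 1)) (.v 7))) (.or (.eq (.v 20) (.v 2)) (.or (.eq (.v 20) (.v 0)) (.or (.eq (.v 20) (.m (.v 2) (.v 0))) (.or (.eq (.v 20) (.v 1)) (.or (.eq (.v 20) (.m (.v 2) (.v 1))) (.or (.eq (.v 20) (.m (.v 0) (.v 1))) (.or (.eq (.v 20) (.m (.m (.v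 2) (.v 0)) (.v 1))) (.or (.eq (.v 20) (.v 7)) (.or (.eq (.v 20) (.m (.v 2) (.v 7))) (.or (.eq (.v 20) (.m (.v 0) (.v 7))) (.or (.eq (.v 20) (.m (.m (.v 2) (.v 0)) (.v 7))) (.or (.eq (.v 20) (.m (.v 1) (.v 7))) (.or (.eq (.v 20) (.m (.m (.v 2) (.v 1)) (.v 7))) (.eq (.v 20) (.m (.m (.v 0) (.v 1)) (.v 7)))))))))))))))))))))) (by decide +kernel)
theorem MA.a6 (M : MA z e f p q r t) : e ≠ z ∧ z ≠ e ∧ f * t ≠ z * e ∧ t ≠ f ∧ e * t ≠ z * f ∧ z * t ≠ e * f ∧ e * z * t ≠ z * e * f ∧ f ≠ t ∧ e * f ≠ z * t ∧ z * f ≠ e * t ∧ e * z * f ≠ z * e * t ∧ z * e ≠ f * t ∧ e * t * f ≠ z * f * t ∧ z * t * f ≠ e * f * t :=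
  let ⟨_, _, h, _⟩ := M.ex; h.sound (.and (.not (.eq (.v 0) (.v 2))) (.and (.not (.eq (.v 2) (.v 0))) (.and (.not (.eq (.m (.v 1) (.v 7)) (.m (.v 2) (.v 0)))) (.and (.not (.eq (.v 7) (.v 1))) (.and (.not (.eq (.m (.v 0) (.v 7)) (.m (.v 2) (.v 1)))) (.and (.not (.eq (.m (.v 2) (.v 7)) (.m (.v 0) (.v 1)))) (.and (.not (.eq (.m (.m (.v 0) (.v 2)) (.v 7)) (.m (.m (.v 2) (.v 0)) (.v 1)))) (.and (.not (.eq (.v 1) (.v 7))) (.and (.not (.eq (.m (.v 0) (.v 1)) (.m (.v 2) (.v 7)))) (.and (.not (.eq (.m (.v 2) (.v 1)) (.m (.v 0) (.v 7)))) (.and (.not (.eq (.m (.m (.v 0) (.v 2)) (.v 1)) (.m (.m (.v 2) (.v 0)) (.v 7)))) (.and (.not (.eq (.m (.v 2) (.v 0)) (.m (.v 1) (.v 7)))) (.and (.not (.eq (.m (.m (.v 0) (.v 7)) (.v 1)) (.m (.m (.v 2) (.v 1)) (.v 7)))) (.not (.eq (.m (.m (.v 2) (.v 7)) (.v 1)) (.m (.m (.v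 0) (.v 1)) (.v 7))))))))))))))))) (by decide +kernel)
theorem MA.a7 (M : MA z e f p q r t) : ∀ c ∈ C[z], c * e = e * c → c * p = p * c → c * (r * t) = r * t * c → c = 1 ∨ c = z ∨ c = e * p ∨ c = e * p * z :=
  let ⟨_, _, h, _⟩ := M.ex; h.sound (.all 20 0 (.imp (.eq (.m (.v 20) (.v 0)) (.m (.v 0) (.v 20))) (.imp (.eq (.m (.v 20) (.v 3)) (.m (.v 3) (.v 20))) (.imp (.eq (.m (.v 20) (.m (.v 5) (.v 7))) (.m (.m (.v 5) (.v 7)) (.v 20))) (.or (.eq (.v 20) .o) (.or (.eq (.v 20) (.v 2)) (.or (.eq (.v 20) (.m (.v 0) (.v 3))) (.eq (.v 20) (.m (.m (.v 0) (.v 3)) (.v 2)))))))))) (by decide +kernel)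
theorem MA.a8 (M : MA z e f p q r t) : ∀ x ∈ C[z], x * (e * f * z) = (e * f * z) * x → x * x = 1 → (x = (z * t) ∨ x = (z * t) * (e * f * z)) ∨ x = 1 ∨ x = (e * f * z) ∨ (x = z ∨ ∃ y ∈ C[z], y * x * y⁻¹ = e ∨ y * x * y⁻¹ = f ∨ y * x * y⁻¹ = t) ∨ ((x * (e * f * z)) = z ∨ ∃ y ∈ C[z], y * (x * (e * f * z)) * y⁻¹ = e ∨ y * (x * (e * f * z)) * y⁻¹ = f ∨ y * (x * (e * f * z)) * y⁻¹ = t) ∨ ∃ y ∈ C[z], y * (e * f * z) = (e * f * z) * y ∧ y * x * y⁻¹ = (p * q * z) :=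
  let ⟨_, _, h, _⟩ := M.ex; h.sound (.all 20 0 (.imp (.eq (.m (.v 20) (.m (.m (.v 0) (.v 1)) (.v 2))) (.m (.m (.m (.v 0) (.v 1)) (.v 2)) (.v 20))) (.imp (.eq (.m (.v 20) (.v 20)) .o) (.or (.or (.eq (.v 20) (.m (.v 2) (.v 7))) (.eq (.v 20) (.m (.m (.v 2) (.v 7)) (.m (.m (.v 0) (.v 1)) (.v 2))))) (.or (.eq (.v 20) .o) (.or (.eq (.v 20) (.m (.m (.v 0) (.v 1)) (.v 2))) (.or (.or (.eq (.v 20) (.v 2)) (.ex 21 0 (.or (.eq (.m (.m (.v 21) (.v 20)) (.i (.v 21))) (.v 0)) (.or (.eq (.m (.m (.v 21) (.v 20)) (.i (.v 21))) (.v 1)) (.eq (.m (.m (.v 21) (.v 20)) (.i (.v 21))) (.v 7)))))) (.or (.or (.eq (.m (.v 20) (.m (.m (.v 0) (.v 1)) (.v 2))) (.v 2)) (.ex 21 0 (.or (.eq (.m (.m (.v 21) (.m (.v 20) (.m (.m (.v 0) (.v 1)) (.v 2)))) (.i (.v 21))) (.v 0)) (.or (.eq (.m (.m (.v 21) (.m (.v 20) (.m (.m (.v 0) (.v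 1)) (.v 2)))) (.i (.v 21))) (.v 1)) (.eq (.m (.m (.v 21) (.m (.v 20) (.m (.m (.v 0) (.v 1)) (.v 2)))) (.i (.v 21))) (.v 7)))))) (.ex 21 0 (.and (.eq (.m (.v 21) (.m (.m (.v 0) (.v 1)) (.v 2))) (.m (.m (.m (.v 0) (.v 1)) (.v 2)) (.v 21))) (.eq (.m (.m (.v 21) (.v 20)) (.i (.v 21))) (.m (.m (.v 3) (.v 4)) (.v 2))))))))))))) (by decide +kernel)
theorem MA.a9 (M : MA z e f p q r t) : ∀ c ∈ C[z], c * (e * f * z) = (e * f * z) * c → (c = 1 ∨ c = (e * f * z) ∨ c = (z * t) ∨ c = (z * t) * (e * f * z)) ∨ (c * z = 1 ∨ c * z = (e * f * z) ∨ c * z = (z * t) ∨ c * z = (z * t) * (e * f * z)) ∨ (c * f = 1 ∨ c * f = (e * f * z) ∨ c * f = (z * t) ∨ c * f = (z * t) * (e * f * z)) ∨ (c * (f * z) = 1 ∨ c * (f * z) = (e * f * z) ∨ c * (f * z) = (z * t) ∨ c * (f * z) = (z * t) * (e * f * z)) ∨ (c * (p * q * z) = 1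 ∨ c * (p * q * z) = (e * f * z) ∨ c * (p * q * z) = (z * t) ∨ c * (p * q * z) = (z * t) * (e * f * z)) ∨ (c * ((p * q * z) * z) = 1 ∨ c * ((p * q * z) * z) = (e * f * z) ∨ c * ((p * q * z) * z) = (z * t) ∨ c * ((p * q * z) * z) = (z * t) * (e * f * z)) ∨ (c * (f * (p * q * z)) = 1 ∨ c * (f * (p * q * z)) = (e * f * z) ∨ c * (f * (p * q * z)) = (z * t) ∨ c * (f * (p * q * z)) = (z * t) * (e * f * z)) ∨ (c * (f * (p * q * z) * z) = 1 ∨ c * (f * (p * q * z) * z) = (e * f * z) ∨ c * (f * (p * q * z) * z) = (z * t) ∨ c * (f * (p * q * z) * z) = (z * t) * (e * f * z)) :=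
  let ⟨_, _, h, _⟩ := M.ex; h.sound (.all 20 0 (.imp (.eq (.m (.v 20) (.m (.m (.v 0) (.v 1)) (.v 2))) (.m (.m (.m (.v 0) (.v 1)) (.v 2)) (.v 20))) (.or (.or (.eq (.v 20) .o) (.or (.eq (.v 20) (.m (.m (.v 0) (.v 1)) (.v 2))) (.or (.eq (.v 20) (.m (.v 2) (.v 7))) (.eq (.v 20) (.m (.m (.v 2) (.v 7)) (.m (.m (.v 0) (.v 1)) (.v 2))))))) (.or (.or (.eq (.m (.v 20) (.v 2)) .o) (.or (.eq (.m (.v 20) (.v 2)) (.m (.m (.v 0) (.v 1)) (.v 2))) (.or (.eq (.m (.v 20) (.v 2)) (.m (.v 2) (.v 7))) (.eq (.m (.v 20) (.v 2)) (.m (.m (.v 2) (.v 7)) (.m (.m (.v 0) (.v 1)) (.v 2))))))) (.or (.or (.eq (.m (.v 20) (.v 1)) .o) (.or (.eq (.m (.v 20) (.v 1)) (.m (.m (.v 0) (.v 1)) (.v 2))) (.or (.eq (.m (.v 20) (.v 1)) (.m (.v 2) (.v 7))) (.eq (.m (.v 20) (.v 1)) (.m (.m (.v 2) (.v 7)) (.m (.m (.v 0) (.v 1)) (.v 2)))))))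 (.or (.or (.eq (.m (.v 20) (.m (.v 1) (.v 2))) .o) (.or (.eq (.m (.v 20) (.m (.v 1) (.v 2))) (.m (.m (.v 0) (.v 1)) (.v 2))) (.or (.eq (.m (.v 20) (.m (.v 1) (.v 2))) (.m (.v 2) (.v 7))) (.eq (.m (.v 20) (.m (.v 1) (.v 2))) (.m (.m (.v 2) (.v 7)) (.m (.m (.v 0) (.v 1)) (.v 2))))))) (.or (.or (.eq (.m (.v 20) (.m (.m (.v 3) (.v 4)) (.v 2))) .o) (.or (.eq (.m (.v 20) (.m (.m (.v 3) (.v 4)) (.v 2))) (.m (.m (.v 0) (.v 1)) (.v 2))) (.or (.eq (.m (.v 20) (.m (.m (.v 3) (.v 4)) (.v 2))) (.m (.v 2) (.v 7))) (.eq (.m (.v 20) (.m (.m (.v 3) (.v 4)) (.v 2))) (.m (.m (.v 2) (.v 7)) (.m (.m (.v 0) (.v 1)) (.v 2))))))) (.or (.or (.eq (.m (.v 20) (.m (.m (.m (.v 3) (.v 4)) (.v 2)) (.v 2))) .o) (.or (.eq (.m (.v 20) (.m (.m (.m (.v 3) (.v 4)) (.v 2)) (.v 2))) (.m (.m (.v 0) (.v 1)) (.v 2))) (.or (.eq (.m (.v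 20) (.m (.m (.m (.v 3) (.v 4)) (.v 2)) (.v 2))) (.m (.v 2) (.v 7))) (.eq (.m (.v 20) (.m (.m (.m (.v 3) (.v 4)) (.v 2)) (.v 2))) (.m (.m (.v 2) (.v 7)) (.m (.m (.v 0) (.v 1)) (.v 2))))))) (.or (.or (.eq (.m (.v 20) (.m (.v 1) (.m (.m (.v 3) (.v 4)) (.v 2)))) .o) (.or (.eq (.m (.v 20) (.m (.v 1) (.m (.m (.v 3) (.v 4)) (.v 2)))) (.m (.m (.v 0) (.v 1)) (.v 2))) (.or (.eq (.m (.v 20) (.m (.v 1) (.m (.m (.v 3) (.v 4)) (.v 2)))) (.m (.v 2) (.v 7))) (.eq (.m (.v 20) (.m (.v 1) (.m (.m (.v 3) (.v 4)) (.v 2)))) (.m (.m (.v 2) (.v 7)) (.m (.m (.v 0) (.v 1)) (.v 2))))))) (.or (.eq (.m (.v 20) (.m (.m (.v 1) (.m (.m (.v 3) (.v 4)) (.v 2))) (.v 2))) .o) (.or (.eq (.m (.v 20) (.m (.m (.v 1) (.m (.m (.v 3) (.v 4)) (.v 2))) (.v 2))) (.m (.m (.v 0) (.v 1)) (.v 2))) (.or (.eq (.m (.v 20) (.m (.m (.v 1) (.m (.m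 (.v 3) (.v 4)) (.v 2))) (.v 2))) (.m (.v 2) (.v 7))) (.eq (.m (.v 20) (.m (.m (.v 1) (.m (.m (.v 3) (.v 4)) (.v 2))) (.v 2))) (.m (.m (.v 2) (.v 7)) (.m (.m (.v 0) (.v 1)) (.v 2)))))))))))))))) (by decide +kernel)
theorem MA.a10 (M : MA z e f p q r t) : ∀ x ∈ C[z], x * f = f * x → x * x = 1 → x = 1 ∨ (x = z ∨ x = e ∨ x = e * z) ∨ ∃ y ∈ C[z], y * x * y⁻¹ = f ∨ y * x * y⁻¹ = e * f * z ∨ y * x * y⁻¹ = t ∨ y * x * y⁻¹ = t * z :=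
  let ⟨_, _, h, _⟩ := M.ex; h.sound (.all 20 0 (.imp (.eq (.m (.v 20) (.v 1)) (.m (.v 1) (.v 20))) (.imp (.eq (.m (.v 20) (.v 20)) .o) (.or (.eq (.v 20) .o) (.or (.or (.eq (.v 20) (.v 2)) (.or (.eq (.v 20) (.v 0)) (.eq (.v 20) (.m (.v 0) (.v 2))))) (.ex 21 0 (.or (.eq (.m (.m (.v 21) (.v 20)) (.i (.v 21))) (.v 1)) (.or (.eq (.m (.m (.v 21) (.v 20)) (.i (.v 21))) (.m (.m (.v 0) (.v 1)) (.v 2))) (.or (.eq (.m (.m (.v 21) (.v 20)) (.i (.v 21))) (.v 7)) (.eq (.m (.m (.v 21) (.v 20)) (.i (.v 21))) (.m (.v 7) (.v 2)))))))))))) (by decide +kernel)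
theorem MA.a11 (M : MA z e f p q r t) : ∀ y ∈ C[z], y * (e * f * z) = (e * f * z) * y → y * (p * q * z) = (p * q * z) * y → y = 1 ∨ y = z ∨ ∃ w ∈ C[z], w * y * w⁻¹ = e * f * z :=
  let ⟨_, _, h, _⟩ := M.ex; h.sound (.all 20 0 (.imp (.eq (.m (.v 20) (.m (.m (.v 0) (.v 1)) (.v 2))) (.m (.m (.m (.v 0) (.v 1)) (.v 2)) (.v 20))) (.imp (.eq (.m (.v 20) (.m (.m (.v 3) (.v 4)) (.v 2))) (.m (.m (.m (.v 3) (.v 4)) (.v 2)) (.v 20))) (.or (.eq (.v 20) .o) (.or (.eq (.v 20) (.v 2)) (.ex 21 0 (.eq (.m (.m (.v 21) (.v 20)) (.i (.v 21))) (.m (.m (.v 0) (.v 1)) (.v 2))))))))) (by decide +kernel)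
theorem MA.a12 (M : MA z e f p q r t) : ∀ c ∈ C[z], c * (e * f * z) = (e * f * z) * c → c * (z * t) * c⁻¹ = (z * t) ∨ c * (z * t) * c⁻¹ = (z * t) * (e * f * z) :=
  let ⟨_, _, h, _⟩ := M.ex; h.sound (.all 20 0 (.imp (.eq (.m (.v 20) (.m (.m (.v 0) (.v 1)) (.v 2))) (.m (.m (.m (.v 0) (.v 1)) (.v 2)) (.v 20))) (.or (.eq (.m (.m (.v 20) (.m (.v 2) (.v 7))) (.i (.v 20))) (.m (.v 2) (.v 7))) (.eq (.m (.m (.v 20) (.m (.v 2) (.v 7))) (.i (.v 20))) (.m (.m (.v 2) (.v 7)) (.m (.m (.v 0) (.v 1)) (.v 2))))))) (by decide +kernel)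
theorem MA.cS (M : MA z e f p q r t) : {x | x ∈ C[z] ∧ (x * (e * f * z) = (e * f * z) * x)}.ncard = 32 :=
  let ⟨_, _, h, k⟩ := M.ex; (h.ncard k 19 (.eq (.m (.v 19) (.m (.m (.v 0) (.v 1)) (.v 2))) (.m (.m (.m (.v 0) (.v 1)) (.v 2)) (.v 19)))).trans (by decide +kernel)
theorem MA.cG (M : MA z e f p q r t) : {x | x ∈ C[z] ∧ (x * (e * f * z) = (e * f * z) * x ∧ x * (p * q * z) = (p * q * z) * x)}.ncard = 8 :=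
  let ⟨_, _, h, k⟩ := M.ex; (h.ncard k 19 (.and (.eq (.m (.v 19) (.m (.m (.v 0) (.v 1)) (.v 2))) (.m (.m (.m (.v 0) (.v 1)) (.v 2)) (.v 19))) (.eq (.m (.v 19) (.m (.m (.v 3) (.v 4)) (.v 2))) (.m (.m (.m (.v 3) (.v 4)) (.v 2)) (.v 19))))).trans (by decide +kernel)

end Cfsg.Agent.H28.MZ
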