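import Mathlib
import Cfsg.Agent.H28.Util2

/-! The number of Sylow and Hall subgroups (P. Hall, M. Hall). -/

set_option autoImplicit false
set_option linter.style.haveILetI false
set_option linter.unusedSectionVars false

namespace Cfsg.Agent.H28

open Subgroup Cfsg.Agent.FT
open scoped Pointwise commutatorElement

universe u

variable {G : Type*} [Group G] [Finite G]

theorem relIndex_congr {A B K : Subgroup G} (h : K ⊓ A = K ⊓ B) : A.relIndex K = B.relIndex K := by
  rw [← inf_relIndex_left K A, h, inf_relIndex_left]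

theorem relIndex_eq_mul {A B M : Subgroup G} (h : M ⊓ A ≤ B) :
    A.relIndex M = A.relIndex (M ⊓ B) * B.relIndex M := by
  rw [← inf_relIndex_left M A, ← inf_relIndex_left M B, ← inf_relIndex_left (M ⊓ B) A,
    show M ⊓ B ⊓ A = M ⊓ A from le_antisymm (inf_le_inf_right _ inf_le_left)
      (le_inf (le_inf inf_le_left h) inf_le_right)]
  exact (relIndex_mul (le_inf inf_le_left h) inf_le_left).symm

/-- number of conjugates of a subgroup -/
theorem ncard_cj (H : Subgroup G) : {K | ∃ g : G, K = cj g H}.ncard = N(H).index := by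
  have := ncard_eq_mul_of_fibers (s := (Set.univ : Set G)) (t := {K | ∃ g : G, K = cj g H})
    (fun g => cj g H) (fun g _ => ⟨g, rfl⟩) (n := #N(H)) (by
      rintro _ ⟨g, rfl⟩
      rw [← ncard_leftCoset _ g]
      congr 1
      ext x
      simp [cj_eq_cj_iff])
  rw [Set.ncard_univ, ← card_mul_index N(H)] at this
  exact (Nat.eq_of_mul_eq_mul_left (card_pos _) this).symm

theorem relIndex_cen_modEq_one {p : ℕ} (hp : p.Prime) {P Q : Subgroup G} (hP : PGrp p P)
    (hQ : PiGrp {p}ᶜ Q) (hn : P ≤ N(Q)) : C(P).relIndex Q ≡ 1 [MOD p] := by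
  haveI := Fact.mk hp
  have h1 := card_sylow_modEq_one p (Q ⊔ P : Subgroup G)
  rw [card_sylow_eq_relIndex (Hall.sup_right hQ hP hn)] at h1
  have h2 : MulEq Q ((Q ⊔ P) ⊓ N(P)) (Q ⊔ P) :=
    (mulEq_sup hn).mono le_rfl le_sup_left (le_inf le_sup_right (le_nrm P)) inf_le_left
  rw [← inf_relIndex_left, h2.relIndex_right, relIndex_congr (B := C(P))] at h1
  · exact h1
  · rw [← inf_assoc, inf_eq_left.2 (le_sup_left : Q ≤ Q ⊔ P)]
    exact coprime_norm_cent hn (hQ.cop' hP)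

theorem relIndex_cen_mem_closure {K : Subgroup G} (n : ℕ) : ∀ H : Subgroup G, #H = n → Sol H →
    H ≤ N(K) → Cop K H → C(H).relIndex K ∈
      Submonoid.closure {f : ℕ | f ∣ #K ∧ ∃ q : ℕ, q.Prime ∧ q ∣ #H ∧ f ≡ 1 [MOD q]} := by
  induction n using Nat.strong_induction_on with
  | _ n ih =>
  intro H hn hs hK hc
  by_cases h0 : H = ⊥
  · rw [h0, cen_bot, relIndex_top_left]
    exact one_mem _
  obtain ⟨H₀, h1, hq⟩ := hs.exists_prime_factor h0
  have hlt : H₀ < H := lt_of_le_of_ne h1.le fun e => hq.ne_one (by rw [e, relIndex_self])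
  rw [relIndex_eq_mul (B := C(H₀)) (inf_le_right.trans (cen_anti h1.le))]
  refine mul_mem (Submonoid.subset_closure ⟨(relIndex_dvd _ _).trans (card_dvd inf_le_left),
    _, hq, relIndex_dvd _ _, ?_⟩) (Submonoid.closure_mono ?_
      (ih _ (hn ▸ card_lt hlt) H₀ rfl (hs.mono h1.le) (h1.le.trans hK) (hc.mono_right h1.le)))
  · obtain ⟨P, hP⟩ := exists_syl (H₀.relIndex H) H
    have e := hP.sup_eq_of_relIndex h1.le ((piNat_prime hq).2 rfl)
    have e2 : C(H) = C(H₀) ⊓ C(P) := by rw [← cen_sup, e]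
    rw [relIndex_congr (A := C(H)) (B := C(P))]
    · exact relIndex_cen_modEq_one hq hP.pi
        ((hc.symm'.p' ⟨hq, relIndex_dvd _ _⟩).mono inf_le_left)
        (hP.le.trans (norms_subcent hK h1.nrm))
    · rw [e2, ← inf_assoc, inf_assoc K, inf_idem]
  · rintro f ⟨h2, q, h3, h4, h5⟩
    exact ⟨h2, q, h3, h4.trans (card_dvd h1.le), h5⟩

/-- P. Hall's theorem on the number of Hall subgroups -/
theorem index_nrm_hall_mem_closure (hG : Group.IsSolvable G) {π : Set ℕ} {H : Subgroup G}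
    (hH : Hall π H ⊤) : N(H).index ∈ Submonoid.closure {f : ℕ | (∃ q e : ℕ, q.Prime ∧ f = q ^ e) ∧
      (∃ V U : Subgroup G, Chief ⊤ V U ∧ f ∣ V.relIndex U) ∧
        ∃ q : ℕ, q.Prime ∧ q ∣ #H ∧ f ≡ 1 [MOD q]} := by
  have hs : Sol (⊤ : Subgroup G) := sol_top.2 hG
  rw [← sup_bot_eq H]
  conv => enter [1, 1, 1, f, 2, 2, 1, q, 2, 1]; rw [sup_bot_eq]
  refine chief_ind_down (P := fun V => N(H ⊔ V).index ∈ _) (nml_bot ⊤) (Nml.refl ⊤) bot_le ?_ ?_
  · rw [sup_top_eq, nrm_top, index_top]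
    exact one_mem _
  intro V U h _ _ hU
  haveI hVn := nml_top_iff.1 h.nmlV
  haveI hUn := nml_top_iff.1 h.nmlU
  have h1 : N(H ⊔ V) ≤ N(H ⊔ U) := by
    rw [show H ⊔ U = (H ⊔ V) ⊔ U by rw [sup_assoc, sup_eq_right.2 h.lt.le]]
    exact normsY le_rfl (le_nrm_of_normal _ _)
  rw [← relIndex_mul_index h1]
  refine mul_mem ?_ hU
  have h2 : MulEq (H ⊔ U) N(H ⊔ V) N(H ⊔ U) :=
    (Hall_Frattini_arg (hs.mono le_top) (nml_nrm _) (hH.subl le_sup_left le_top)).mono le_rfl
      (le_nrm _) (inf_le_right.trans (normsY le_rfl (le_nrm_of_normal _ _))) h1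
  have h3 : MulEq U N(H ⊔ V) N(H ⊔ U) := by
    refine mulEq_of_sup (le_nrm_of_normal _ _) (le_antisymm (sup_le (le_sup_right.trans (le_nrm _)) h1) ?_)
    rw [← h2.sup]
    exact sup_le (sup_le ((norms_of_le le_sup_left).trans le_sup_right) le_sup_left) le_sup_right
  have e : U = (U.map (QuotientGroup.mk' V)).comap (QuotientGroup.mk' V) := by
    rw [comap_map_mk', sup_eq_left.2 h.lt.le]
  rw [h3.relIndex_right, ← comap_map_mk', ← comap_nrm_mk']
  conv => enter [2, 2]; rw [e]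
  rw [relIndex_comap_mk']
  obtain ⟨p, hp, hA⟩ := h.abelem (hs.mono le_top)
  have h4 : PGrp p (U.map (QuotientGroup.mk' V)) := by
    have := (piGrp_quo_iff h.nml.nrm).1 (hA.pGrp hp)
    rwa [← card_map_mk] at this
  have h5 := hH.map (f := QuotientGroup.mk' V)
  have h6 := h.nmlU.map (f := QuotientGroup.mk' V)
  by_cases hpπ : p ∈ π
  · rw [relIndex_eq_one.2 (norms_of_le (h5.ge_of_nml (h4.pi hpπ) h6))]
    exact one_mem _
  have hc : Cop (U.map (QuotientGroup.mk' V)) (H.map (QuotientGroup.mk' V)) :=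
    h4.cop (h5.pi.p'_of_not_mem hpπ)
  rw [relIndex_congr (coprime_norm_cent (h5.le.trans h6.nrm) hc)]
  refine Submonoid.closure_mono ?_
    (relIndex_cen_mem_closure _ _ rfl ((hs.mono le_top).map _) (h5.le.trans h6.nrm) hc)
  rintro f ⟨h7, q, h8, h9, h10⟩
  refine ⟨?_, ⟨V, U, h, by rwa [← card_map_mk]⟩, q, h8, h9.trans (card_map_dvd' _ H), h10⟩
  obtain ⟨e, he⟩ := (PiNat.of_dvd h4 h7).exists_pow (ne_zero_of_dvd_ne_zero (card_ne_zero _) h7)
  exact ⟨p, e, hp, he⟩

theorem card_sylow_quot_eq {p : ℕ} [hp : Fact p.Prime] (K : Subgroup G) [K.Normal]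
    (P : Sylow p G) : Nat.card (Sylow p (G ⧸ K)) = N((P : Subgroup G) ⊔ K).index := by
  rw [card_sylow_eq_index (P.mapSurjective (QuotientGroup.mk'_surjective K)), ← index_comap_mk',
    comap_nrm_mk', Sylow.coe_mapSurjective, comap_map_mk']

/-- M. Hall's factorisation of the Sylow number -/
theorem card_sylow_eq_mul {p : ℕ} [hp : Fact p.Prime] (K : Subgroup G) [K.Normal]
    (P : Sylow p G) : Nat.card (Sylow p G) = Nat.card (Sylow p (G ⧸ K)) * Nat.card (Sylow p K) *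
      Nat.card (Sylow p (((P : Subgroup G) ⊔ K) ⊓ N((P : Subgroup G) ⊓ K) : Subgroup G)) := by
  have hP := syl_top hp.out P
  have h0 : (P : Subgroup G) ≤ ((P : Subgroup G) ⊔ K) ⊓ N((P : Subgroup G) ⊓ K) :=
    le_inf le_sup_left (normsI (le_nrm _) (le_nrm_of_normal _ _))
  have h1 : N((P : Subgroup G)) ≤ N((P : Subgroup G) ⊔ K) := normsY le_rfl (le_nrm_of_normal _ _)
  have h2 := (hP.subl le_sup_left le_top : Syl p P ((P : Subgroup G) ⊔ K)).frattini_nrm
  rw [inf_eq_right.2 h1] at h2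
  have h3 : MulEq K (((P : Subgroup G) ⊔ K) ⊓ N((P : Subgroup G) ⊓ K)) ((P : Subgroup G) ⊔ K) :=
    (mulEq_sup' (le_nrm_of_normal K P)).symm.mono le_rfl le_sup_right h0 inf_le_left
  rw [card_sylow_quot_eq K P, card_sylow_eq_index P, card_sylow_eq_relIndex (hP.inf_nml (nml_top K)),
    card_sylow_eq_relIndex (hP.subl h0 le_top), ← relIndex_mul_index h1, h2.relIndex_right,
    relIndex_eq_mul (B := N((P : Subgroup G) ⊓ K))
      (inf_le_right.trans (normsI le_rfl (le_nrm_of_normal _ _))),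
    ← inf_relIndex_left (_ ⊔ _) N((P : Subgroup G) ⊓ K), h3.relIndex_right,
    relIndex_congr (K := K) (B := N((P : Subgroup G) ⊓ K))
      (by rw [← inf_assoc, inf_eq_left.2 (le_sup_right : K ≤ (P : Subgroup G) ⊔ K)])]
  ring

theorem card_sylow_quot_pgroup {p : ℕ} [hp : Fact p.Prime] (K : Subgroup G) [K.Normal]
    (h : PGrp p K) : Nat.card (Sylow p (G ⧸ K)) = Nat.card (Sylow p G) :=
  card_sylow_quotient K fun Q => norms_of_le ((syl_top hp.out Q).ge_of_nml h (nml_top K))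

theorem mem_closure_of_partn {S : Set ℕ} {m : ℕ} (hm : m ≠ 0)
    (h : ∀ q, q.Prime → q ∣ m → q ^ m.factorization q ∈ S) : m ∈ Submonoid.closure S := by
  rw [← Nat.prod_factorization_pow_eq_self hm]
  exact Submonoid.prod_mem _ fun q hq => Submonoid.subset_closure
    (h q (Nat.prime_of_mem_primeFactors hq) (Nat.dvd_of_mem_primeFactors hq))

theorem pow_factorization_relIndex_cen {p q : ℕ} (hp : p.Prime) (hq : q.Prime) {P K : Subgroup G}
    (hP : PGrp p P) (hK : PiGrp {p}ᶜ K) (hn : P ≤ N(K)) :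
    q ^ (C(P).relIndex K).factorization q ≡ 1 [MOD p] := by
  obtain ⟨Q, hQ, hPQ⟩ := coprime_Sylow_exists q hn (hK.cop' hP) (Or.inr hP.sol)
  have h1 := coprime_Sylow_subcent hn (hK.cop' hP) (Or.inr hP.sol) hQ hPQ
  have h2 := relIndex_cen_modEq_one hp hP (hK.mono hQ.le) hPQ
  have h3 := FT.card_inf_mul_relIndex C(P) Q
  have h4 := congrArg (partn {q}) (FT.card_inf_mul_relIndex C(P) K)
  rw [partn_mul _ (card_ne_zero _) (relIndex_pos _ _).ne', ← hQ.card, inf_comm, ← h1.card, ← h3,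
    inf_comm] at h4
  rw [← partn_singleton hq, Nat.eq_of_mul_eq_mul_left (card_pos _) h4]
  exact h2

end Cfsg.Agent.H28
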