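import Cfsg.Agent.H15.Words
set_option autoImplicit false
set_option maxRecDepth 100000

namespace Cfsg.Agent.H28.Ama
open Cfsg.Agent.H15 Cfsg.Agent.H14

def tb : Tb := (.leaf (nat_lit 0xa87832a489992030d9a366110f0870d9b2028d94284c8410e000811420c121228488001c108100000000000000))
def wt : Wt := (.node (nat_lit 11) (.node (nat_lit 5) (.node (nat_lit 2) (.node (nat_lit 1) (.leaf [nat_lit 8, nat_lit 6, nat_lit 8]) (.leaf [nat_lit 9, nat_lit 8])) (.node (nat_lit 3) (.leaf [nat_lit 6, nat_lit 8, nat_lit 8]) (.node (nat_lit 4) (.leaf [nat_lit 2, nat_lit 9, nat_lit 0, nat_lit 8]) (.leaf [nat_lit 3, nat_lit 2])))) (.node (nat_lit 8) (.node (nat_lit 6) (.leaf [nat_lit 0, nat_lit 9, nat_lit 3, nat_lit 8]) (.node (nat_lit 7) (.leaf [nat_lit 1, nat_lit 0]) (.leaf [nat_lit 7, nat_lit 9, nat_lit 7, nat_lit 6, nat_lit 8]))) (.node (nat_lit 9) (.leaf [nat_lit 0, nat_lit 5, nat_lit 1, nat_lit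 4]) (.node (nat_lit 10) (.leaf [nat_lit 6, nat_lit 5, nat_lit 6, nat_lit 4]) (.leaf [nat_lit 3, nat_lit 5, nat_lit 1, nat_lit 2, nat_lit 4]))))) (.node (nat_lit 17) (.node (nat_lit 14) (.node (nat_lit 12) (.leaf [nat_lit 2, nat_lit 3]) (.node (nat_lit 13) (.leaf [nat_lit 5, nat_lit 5, nat_lit 5]) (.leaf [nat_lit 4, nat_lit 5]))) (.node (nat_lit 15) (.leaf [nat_lit 1, nat_lit 4, nat_lit 0, nat_lit 5]) (.node (nat_lit 16) (.leaf [nat_lit 0, nat_lit 1]) (.leaf [nat_lit 6, nat_lit 4, nat_lit 6, nat_lit 5])))) (.node (nat_lit 20) (.node (nat_lit 18) (.leaf [nat_lit 7, nat_lit 5, nat_lit 7, nat_lit 5]) (.node (nat_lit 19) (.leaf [nat_lit 7, nat_lit 7]) (.leaf [nat_lit 2, nat_lit 4, nat_lit 3, nat_lit 5, nat_lit 1]))) (.node (nat_lit 21) (.leaf [nat_lit 9, nat_lit 5, nat_lit 9, nat_lit 5, nat_lit 9, nat_lit 5]) (.node (nat_lit 22) (.leaf [nat_lit 8, nat_lit 9]) (.leaf [nat_lit 9,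 nat_lit 6, nat_lit 9]))))))
noncomputable def P : TCP where
  lk := tlk tb (nat_lit 3) (nat_lit 13) (nat_lit 7) (nat_lit 127)
  inv := invT (nat_lit 146679665888079873) (nat_lit 10)
  wt := wt.get
  gens := [nat_lit 0, nat_lit 1, nat_lit 2, nat_lit 3, nat_lit 4, nat_lit 5, nat_lit 6, nat_lit 7, nat_lit 8, nat_lit 9]
  N := nat_lit 4
  n := nat_lit 4
  eps := nat_lit 10
  VM := nat_lit 15
  Wv := nat_lit 4
  MAXB := nat_lit 112
  JM := nat_lit 63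
  Wj := nat_lit 6
  Hm := nat_lit 255
def ls : List Nat := [nat_lit 0, nat_lit 1, nat_lit 2, nat_lit 3, nat_lit 4, nat_lit 5, nat_lit 6, nat_lit 7, nat_lit 8, nat_lit 9, nat_lit 10]
noncomputable def ap : Nat → Nat → Nat := tlk tb (nat_lit 3) (nat_lit 13) (nat_lit 7) (nat_lit 15)
def bases : List (List Nat × Nat) := [([2], 3), ([4], 3), ([0], 3), ([6, 7], 2), ([2, 0, 3, 1], 1), ([4, 0, 5, 1], 1), ([2, 4, 3, 5, 1], 1), ([6, 2, 6, 2], 1), ([6, 4, 6, 5], 1), ([6, 0, 6, 0], 1), ([7, 2, 7, 3], 1), ([7, 4, 7, 4], 1), ([7, 0, 7, 0], 1), ([8, 8, 6], 1), ([8, 7, 9, 7, 6], 1), ([8, 2, 9, 0], 1), ([8, 0, 9, 3], 1), ([8, 4], 3)]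
theorem c0 : RowsGood P ls 0 4 :=
  rowsGood_of (Js := [nat_lit 0x181082082082082, nat_lit 0x448804130a40e, nat_lit 0xc2ea1601e61a414, nat_lit 0xb2e9a470032a822]) (by decide +kernel)
theorem f0 : RowsGood P ls 0 4 :=
  c0
theorem good : RowsGood P (List.range (P.eps + 1)) 0 P.N :=
  (f0 : RowsGood P ls 0 4)
theorem idx {G : Type*} [Group G] {E : ℕ → G} {inv : ℕ → ℕ} (hi : ∀ l, E (inv l) = (E l)⁻¹)
    {B : List (List ℕ × ℕ)} (hB : ∀ p ∈ B, lprod E p.1 ^ p.2 = 1) (σ : List (List ℕ))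
    {hs ks : List (List ℕ)} (hc : certOk P wt bases inv B σ hs ks = true) :
    (gp E hs).relIndex (gp E ks) ≠ 0 ∧ (gp E hs).relIndex (gp E ks) ≤ 4 :=
  tc_gp hi hB rfl (fun _ h => invT_of_le h) good σ hc

end Cfsg.Agent.H28.Ama
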