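import Mathlib
import Cfsg.Agent.H28.Util3
import Cfsg.Agent.H3.Two
import Cfsg.Agent.H3.OddRank
import Cfsg.Agent.FT.BG04p
import Cfsg.Agent.FT.PLen

/-! Groups in which `p`-subgroups of the same order are conjugate. -/

set_option autoImplicit false
set_option linter.style.haveILetI false
set_option linter.unusedSectionVars false

namespace Cfsg.Agent.H28

open Cfsg Subgroup Cfsg.Agent.FT
open scoped Pointwise commutatorElement

variable {G : Type*} [Group G] [Finite G] {p : ℕ} {P : Subgroup G}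

/-- abelian `p`-subgroups of the same order are conjugate -/
def AbCnj (p : ℕ) (G : Type*) [Group G] : Prop :=
  ∀ A B : Subgroup G, PGrp p A → PGrp p B → Ab A → Ab B → #A = #B → ∃ g, B = cj g A

theorem AbCnj.rank_le (h : AbCnj p G) (hp : p.Prime) {x : G} (hx : PiElt {p} x) (h1 : x ^ p ≠ 1)
    (P : Subgroup G) : prank p P ≤ 1 := by
  by_contra hc
  obtain ⟨E, hE⟩ := exists_pnElem_of_lt_prank (not_le.1 hc)
  obtain ⟨k, hk⟩ := hx.zpowers.card
  have h2 : 2 ≤ k := by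
    by_contra hk2
    refine h1 (orderOf_dvd_iff_pow_eq_one.1 ?_)
    rw [← card_zpowers', hk]
    calc p ^ k ∣ p ^ 1 := pow_dvd_pow _ (by omega)
      _ = p := pow_one p
  obtain ⟨B, hB, hB'⟩ := (cyc_zpowers x).exists_card (d := p ^ 2) (hk ▸ pow_dvd_pow _ h2)
  have hBc := (cyc_zpowers x).mono hB
  obtain ⟨g, rfl⟩ := h B E (hx.zpowers.mono hB) hE.pGrp hBc.ab hE.ab (hB'.trans hE.card.symm)
  exact hE.not_cyc (hBc.cj g)

theorem AbCnj.odd (h : AbCnj p G) (hp : p.Prime) (h2 : p ≠ 2) (hP : PGrp p P) : Cyc P ∨ ∀ x ∈ P, x ^ p = 1 := by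
  by_cases h1 : ∀ x ∈ P, x ^ p = 1
  · exact Or.inr h1
  push Not at h1
  obtain ⟨x, hx, h1⟩ := h1
  refine Or.inl ((odd_pgroup_rank1_cyclic hp hP ?_).2 (h.rank_le hp (hP.piElt hx) h1 P))
  obtain ⟨k, hk⟩ := hP.card
  exact hk ▸ (hp.odd_of_ne_two h2).pow

theorem AbCnj.two (h : AbCnj 2 G) (hP : PGrp 2 P) : Cyc P ∨ Abelem 2 P ∨ ∃ a b m, H3.MCQ P a b m := by
  by_cases h1 : ∀ x ∈ P, x ^ 2 = 1
  · exact Or.inr (Or.inl (abelem_iff.2 ⟨ab_of_sq h1, h1⟩))
  push Not at h1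
  obtain ⟨x, hx, h1⟩ := h1
  exact (H3.cyc_or_mcq_of_rank hP (h.rank_le Nat.prime_two (hP.piElt hx) h1 P)).imp_right Or.inr

/-- a nonabelian group of exponent `p` has a nonabelian subgroup of order `p ^ 3` -/
theorem exists_nonab_cube (hp : p.Prime) (hP : PGrp p P) (he : ∀ x ∈ P, x ^ p = 1) (hna : ¬ Ab P) :
    ∃ Q, Q ≤ P ∧ ¬ Ab Q ∧ #Q = p ^ 3 := by
  haveI := Fact.mk hp
  obtain ⟨x, hx, hx'⟩ := SetLike.exists_of_lt (hP.nil.center_lt_ucn_two hna)
  have hxP := ucn_le _ _ hx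
  have : ∃ y ∈ P, y * x ≠ x * y := by
    by_contra hc
    push Not at hc
    exact hx' ⟨hxP, mem_cen.2 hc⟩
  obtain ⟨y, hy, hxy⟩ := this
  have hc : ⁅x, y⁆ ∈ Z(P) := ucn_two_comm P (commutator_mem_commutator hx hy)
  have hc1 : ⁅x, y⁆ ≠ 1 := fun e => hxy (commutatorElement_eq_one_iff_mul_comm.1 e).symm
  have hZ : ⟪⁅x, y⁆⟫ ≤ Z(P) := zpowers_le.2 hc
  have hcen : ∀ g ∈ P, g ∈ C(⟪⁅x, y⁆⟫) := fun g hg => centsC (hZ.trans inf_le_right) hg
  have c1 : #⟪⁅x, y⁆⟫ = p := H3.card_zpowers_of_pow_prime (he _ hc.1) hc1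
  have c2 := H3.card_sup_zpowers hp (cen_le_nrm _ (hcen x hxP)) (fun h => hx' (hZ h)) (he x hxP ▸ one_mem _)
  have hab : Ab (⟪⁅x, y⁆⟫ ⊔ ⟪x⟫) := (ab_zpowers _).sup (ab_zpowers _) (zpowers_le.2 (hcen x hxP))
  have hyn : y ∈ N(⟪⁅x, y⁆⟫ ⊔ ⟪x⟫) := by
    refine mem_nrm_of_cj_le ?_
    rw [cj_sup, cj_of_mem_cen (hcen y hy), cj_zpowers]
    refine sup_le le_sup_left (zpowers_le.2 ?_)
    have : y * x * y⁻¹ = ⁅x, y⁆⁻¹ * x := by rw [commutatorElement_def]; group
    rw [this]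
    exact mul_mem (inv_mem (mem_sup_left (mem_zpowers _))) (mem_sup_right (mem_zpowers _))
  have c3 := H3.card_sup_zpowers hp hyn (fun h => hxy (hab.comm h (mem_sup_right (mem_zpowers _)))) (he y hy ▸ one_mem _)
  refine ⟨_, sup_le (sup_le (hZ.trans inf_le_left) (zpowers_le.2 hxP)) (zpowers_le.2 hy), fun h => hxy ?_, ?_⟩
  · exact h.comm (mem_sup_right (mem_zpowers _)) (mem_sup_left (mem_sup_right (mem_zpowers _)))
  · rw [c3, c2, c1]; ring

/-- a `p`-solvable group of order divisible by `p` has `O_{p',p} > O_{p'}` -/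
theorem dvd_card_ppCore (hp : p.Prime) {H : Subgroup G} (hs : IsPSolvable p H) (hd : p ∣ #H) : p ∣ #(ppCore p H) := by
  obtain ⟨n, K, h0, hn, hm, hN, hK⟩ := hs
  by_contra hc
  have key : ∀ i : Fin (n + 1), ¬ p ∣ Nat.card (K i) := by
    intro i
    induction i using Fin.induction with
    | zero => rw [h0, card_bot]; exact hp.one_lt.ne' ∘ Nat.dvd_one.1
    | succ i ih =>
      have hle : K i.castSucc ≤ K i.succ := hm (Fin.castSucc_lt_succ).le
      rcases hK i with ⟨m, hm⟩ | hm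
      · intro hd
        haveI := hN i.succ
        haveI := hN i.castSucc
        refine hc (hd.trans ?_)
        rw [← card_map_inj H.subtype_injective]
        refine card_dvd (ppCore_max hp (nml_map_subtype _) ?_)
        refine npc_of_hall (K := (K i.castSucc).map H.subtype) ((hall_map_inj H.subtype_injective).2 ?_)
          ((map_subtype_le _).trans (nml_map_subtype _).nrm)
        exact ⟨hle, p'grp_of_not_dvd ih, piNat_compl_compl.2 (hm ▸ piNat_self_pow hp m)⟩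
      · rw [← FT.card_mul_relIndex hle]
        exact fun hd => ((Nat.Prime.dvd_mul hp).1 hd).elim ih ((Nat.Prime.coprime_iff_not_dvd hp).1 hm.symm)
  exact key (Fin.last n) (by rwa [hn, card_top])

end Cfsg.Agent.H28
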