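import Mathlib
import Cfsg.Agent.H28.Util3
import Cfsg.Agent.H5.Frob

/-! Elementary abelian `2`-groups acting on groups of odd order: the Thompson dihedral lemma. -/

set_option autoImplicit false
set_option linter.style.haveILetI false
set_option linter.unusedSectionVars false

namespace Cfsg.Agent.H28

open Cfsg Subgroup Cfsg.Agent.FT
open scoped Pointwise commutatorElement

variable {G : Type*} [Group G] [Finite G] {A B K M X : Subgroup G} {a : G}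

theorem iSup_fin_succ {α : Type*} [CompleteLattice α] {n : ℕ} (f : Fin (n + 1) → α) : ⨆ i, f i = f 0 ⊔ ⨆ i : Fin n, f i.succ :=
  le_antisymm (iSup_le fun i => Fin.cases le_sup_left (fun i => le_sup_of_le_right (le_iSup (fun i : Fin n => f i.succ) i)) i)
    (sup_le (le_iSup f 0) (iSup_le fun i => le_iSup f i.succ))

theorem two'_of_odd (h : Odd #A) : PiGrp {2}ᶜ A := p'grp_of_not_dvd h.not_two_dvd_nat

theorem cent_or_inv (hA : Abelem 2 A) (h : MinNml X A) (ha : a ∈ A) : a ∈ C(X) ∨ ∀ x ∈ X, a * x * a⁻¹ = x⁻¹ :=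
  (h.eq_bot_or_eq (K := X ⊓ C[a]) inf_le_left (normsI h.nrm (norms_cen1 fun b hb => mem_cen1.2 (hA.ab.comm hb ha)))).symm.imp
    (fun e => mem_cen.2 fun _ hx => mem_cen1.1 (e.ge hx).2)
    fun e _ hx => H5b.conj_eq_inv_of_reg (h.nrm ha) (by rw [← sq, hA.pow ha]) e hx

theorem prime_of_minNml (hA : Abelem 2 A) (h : MinNml X A) : (#X).Prime := by
  obtain ⟨p, hp, hd⟩ := exists_prime_dvd_card h.ne
  obtain ⟨Y, hY, e⟩ := exists_card_prime_le hp hd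
  rwa [← h.min Y hY (ne_bot_of_prime_card (e ▸ hp)) (le_nrm_iff.2 fun a ha y hy => ?_), e]
  rcases cent_or_inv hA h ha with h1 | h1
  · rwa [← mem_cen.1 h1 y (hY hy), mul_inv_cancel_right]
  · exact h1 y (hY hy) ▸ inv_mem hy

theorem exists_ab_selfcent (hA : Abelem 2 A) (hK : Nil K) (hn : A ≤ N(K)) :
    ∃ M ≤ K, Ab M ∧ K ⊔ A ≤ N(M) ∧ K ⊓ C(M) ≤ M := by
  obtain ⟨M, -, ⟨h1, h2, h3⟩, hm⟩ := exists_max (fun M => M ≤ K ∧ Ab M ∧ K ⊔ A ≤ N(M)) ⟨bot_le, ab_bot, norms_bot _⟩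
  refine ⟨M, h1, h2, h3, by_contra fun hc => ?_⟩
  obtain ⟨W, hW, hle⟩ := exists_chief_above (M := K ⊔ A) (U := K ⊓ C(M)) ⟨h1.trans le_sup_left, h3⟩
    ⟨inf_le_left.trans le_sup_left, norms_subcent (nml_sup_left hn).nrm h3⟩ (lt_of_le_not_ge (le_inf h1 (ab_iff.1 h2)) hc)
  have h4 := hW.minNml
  have h5 := centsC (quo_cents_of_comm_le (hW.comm_nil_le hK (nml_sup_left hn)))
  rw [quo_sup (le_sup_left.trans h3) (le_sup_right.trans h3)] at h4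
  have h6 := prime_of_minNml (hA.quo M) ⟨h4.ne, le_sup_right.trans h4.nrm, fun Y hY hY1 hYn =>
    h4.min Y hY hY1 (sup_le (cents_norm (centsS hY h5)) hYn)⟩
  exact hW.lt.ne' (hm W ⟨hle.trans inf_le_left, ab_of_cyc_quo (le_inf hW.lt.le (centsC (hle.trans inf_le_right)))
    (cyc_of_prime h6), hW.nmlU.nrm⟩ hW.lt.le)

theorem dih_aux (hM : Ab M) (ho : Odd #M) (hA : Abelem 2 A) (hn : A ≤ N(M)) (hf : A ⊓ C(M) = ⊥) (n : ℕ) :
    ∀ B ≤ A, #B = 2 ^ n → ∃ (f : Fin n → Subgroup G) (a : Fin n → G),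
      (∀ i, (#(f i)).Prime ∧ f i ≤ ⁅M, B⁆ ∧ A ≤ N(f i) ∧ a i ∈ B ∧ a i ∉ C(f i) ∧ ∀ j, j ≠ i → a i ∈ C(f j)) ∧
      #(⨆ i, f i) = ∏ i, #(f i) ∧ B ⊓ C(⨆ i, f i) = ⊥ ∧ ⨆ i, ⟪a i⟫ = B ∧ A ≤ B ⊔ (A ⊓ C(⨆ i, f i)) := by
  induction n with
  | zero =>
    intro B _ hB
    obtain rfl := eq_bot_iff_card'.2 hB
    exact ⟨Fin.elim0, Fin.elim0, fun i => i.elim0, by simp, bot_inf_eq _, by simp, by rw [iSup_of_empty, cen_bot]; simp⟩
  | succ n ih =>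
  intro B hBA hB
  have hc : ∀ B ≤ A, Cop M B := fun B hB => (two'_of_odd ho).cop' ((hA.mono hB).pGrp Nat.prime_two)
  have hB1 : B ≠ ⊥ := ne_bot_of_prime_dvd Nat.prime_two (hB ▸ dvd_pow_self 2 n.succ_ne_zero)
  obtain ⟨X, hX, hm⟩ := exists_minNml (K := ⁅M, B⁆) (fun e => hB1 (eq_bot_of_le (le_inf hBA (comm_eq_bot'.1 e)) hf))
    (normsR hn (hA.ab.nml hBA).nrm)
  have hp := prime_of_minNml hA hm
  have hBX : ¬ B ≤ C(X) := fun e => hm.ne (eq_bot_of_le (le_inf hX (centsC e)) (coprime_abel_cent_TI (hBA.trans hn) (hc B hBA) hM))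
  have two : ∀ a ∈ A, ∀ b ∈ A, a ∉ C(X) → b ∉ C(X) → a * b ∈ C(X) := fun a ha b hb h1 h2 => mem_cen.2 fun x hx => by
    rw [eq_comm, ← mul_inv_eq_iff_eq_mul, show a * b * x * (a * b)⁻¹ = a * (b * x * b⁻¹) * a⁻¹ by group,
      (cent_or_inv hA hm hb).resolve_left h2 x hx, (cent_or_inv hA hm ha).resolve_left h1 _ (inv_mem hx), inv_inv]
  have hBn := hBA.trans hm.nrm
  have hi : C(X).relIndex B = 2 := by
    rw [← card_quo (norms_cent hBn)]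
    exact ((hA.mono hBA).quo _).card_of_cyc Nat.prime_two (cyc_quo_cen_of_prime hp hBn) ((quo_eq_bot (norms_cent hBn)).not.2 hBX)
  obtain ⟨f, a, h1, h2, h3, h4, h5⟩ := ih (C(X) ⊓ B) (inf_le_right.trans hBA) (by
    have := FT.card_inf_mul_relIndex C(X) B
    rw [hi, hB, pow_succ] at this; omega)
  have hd : ∀ b ∈ A, ∃ b' ∈ C(X) ⊓ B, ∃ c ∈ A ⊓ C(⨆ i, f i), b = b' * c := fun b hb =>
    (mem_sup_norm (inf_le_left.trans (hA.ab.nml (inf_le_right.trans hBA)).nrm)).1 (h5 hb)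
  obtain ⟨c, hcB, hcX, hcf⟩ : ∃ c ∈ B, c ∉ C(X) ∧ c ∈ C(⨆ i, f i) := by
    obtain ⟨b, hb, hbX⟩ := SetLike.not_le_iff_exists.1 hBX
    obtain ⟨b', hb', c, hc, rfl⟩ := hd b (hBA hb)
    exact ⟨c, (Subgroup.mul_mem_cancel_left _ hb'.2).1 hb, fun e => hbX (mul_mem hb'.1 e), hc.2⟩
  have hfM : ⨆ i, f i ≤ ⁅M, C(X) ⊓ B⁆ := iSup_le fun i => (h1 i).2.1
  have hMB := comm_le_left (hBA.trans hn)
  have es : ⨆ i, Fin.cons (α := fun _ => Subgroup G) X f i = X ⊔ ⨆ i, f i := by rw [iSup_fin_succ]; simp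
  refine ⟨Fin.cons X f, Fin.cons c a, fun i => ?_, ?_, ?_, ?_, fun b hb => ?_⟩
  · refine Fin.cases ⟨hp, hX, hm.nrm, hcB, hcX, fun j hj => ?_⟩ (fun i => ⟨(h1 i).1, (h1 i).2.1.trans (commSS le_rfl inf_le_right),
      (h1 i).2.2.1, (h1 i).2.2.2.1.2, (h1 i).2.2.2.2.1, fun j hj => ?_⟩) i
    · obtain ⟨j, rfl⟩ := Fin.exists_succ_eq.2 hj
      exact cen_anti (le_iSup f j) hcf
    · refine Fin.cases (fun _ => (h1 i).2.2.2.1.1) (fun j hj => (h1 i).2.2.2.2.2 j fun e => hj (e ▸ rfl)) j hj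
  · rw [es, Fin.prod_univ_succ, card_sup_of_inf ((hfM.trans (commSS le_rfl inf_le_right)).trans (hMB.trans (hM.nml (hX.trans hMB)).nrm))
      (eq_bot_of_le (le_inf (inf_le_right.trans hfM) (inf_le_left.trans (centsC inf_le_left)))
        (coprime_abel_cent_TI (inf_le_right.trans (hBA.trans hn)) (hc _ (inf_le_right.trans hBA)) hM)), h2]
    simp
  · rw [es, cen_sup, ← inf_assoc, inf_comm B, h3]
  · rw [iSup_fin_succ]
    simp only [Fin.cons_zero, Fin.cons_succ, h4]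
    refine le_antisymm (sup_le (zpowers_le.2 hcB) inf_le_right) fun b hb => ?_
    by_cases hbX : b ∈ C(X)
    · exact mem_sup_right ⟨hbX, hb⟩
    · exact (mul_mem_cancel_left (mem_sup_left (mem_zpowers c))).1 (mem_sup_right ⟨two c (hBA hcB) b (hBA hb) hcX hbX, mul_mem hcB hb⟩)
  · rw [es, cen_sup]
    have key : ∀ b ∈ A, b ∈ C(X) → b ∈ B ⊔ (A ⊓ (C(X) ⊓ C(⨆ i, f i))) := fun b hb hbX => by
      obtain ⟨b', hb', c, hc, rfl⟩ := hd b hb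
      exact mul_mem (mem_sup_left hb'.2) (mem_sup_right ⟨hc.1, (Subgroup.mul_mem_cancel_left _ hb'.1).1 hbX, hc.2⟩)
    by_cases hbX : b ∈ C(X)
    · exact key b hb hbX
    · exact (mul_mem_cancel_left (mem_sup_left hcB)).1 (key _ (mul_mem (hBA hcB) hb) (two c (hBA hcB) b hb hcX hbX))

/-- the Thompson dihedral lemma -/
theorem dihedral_lemma {n : ℕ} (hK : Nil K) (ho : Odd #K) (hA : Abelem 2 A) (hn : A ≤ N(K)) (hf : A ⊓ C(K) = ⊥) (hc : #A = 2 ^ n) :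
    ∃ (f : Fin n → Subgroup G) (a : Fin n → G),
      (∀ i, (#(f i)).Prime ∧ f i ≤ K ∧ A ≤ N(f i) ∧ a i ∈ A ∧ a i ∉ C(f i) ∧ ∀ j, f i ≤ C(f j) ∧ (j ≠ i → a i ∈ C(f j))) ∧
      #(⨆ i, f i) = ∏ i, #(f i) ∧ A ⊓ C(⨆ i, f i) = ⊥ ∧ ⨆ i, ⟪a i⟫ = A := by
  obtain ⟨M, h1, h2, h3, h4⟩ := exists_ab_selfcent hA hK hn
  have hn' := le_sup_right.trans h3
  obtain ⟨f, a, h5, h6, h7, h8, -⟩ := dih_aux h2 (odd_of_le h1 ho) hA hn' (eq_bot_of_le (le_inf inf_le_left (coprime_cent_selfcent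
    (inf_le_left.trans hn) ((two'_of_odd ho).cop' ((hA.pGrp Nat.prime_two).inf_left _)) (le_sup_left.trans h3) h4 inf_le_right)) hf)
    n A le_rfl hc
  have h9 : ∀ i, f i ≤ M := fun i => (h5 i).2.1.trans (comm_le_left hn')
  exact ⟨f, a, fun i => ⟨(h5 i).1, (h9 i).trans h1, (h5 i).2.2.1, (h5 i).2.2.2.1, (h5 i).2.2.2.2.1,
    fun j => ⟨(h9 i).trans ((ab_iff.1 h2).trans (cen_anti (h9 j))), (h5 i).2.2.2.2.2 j⟩⟩, h6, h7, h8⟩

end Cfsg.Agent.H28
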