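import Mathlib
import Cfsg.Agent.H28.HJk
import Cfsg.Agent.H15.SzG2

/-! The action of `G₂(4)` on the cosets of the Hall–Janko group is extremely primitive. -/

set_option autoImplicit false
set_option maxRecDepth 100000

namespace Cfsg.Agent.H28.G2J
open MulAction H14 H15 Subgroup

section
variable {G X : Type*} [Group G] [MulAction G X]

/-- a table and a list of words as a model -/
noncomputable def wm (A : TabAct G X) (ws : List (List ℕ)) : Model G X where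
  el T := (lprod A.e (nthW ws T))⁻¹
  ok T := okW A.L (nthW ws T) = true
  fn T c := tr A.ap (nthW ws T) c
  V c := c < A.n
  dec := A.c
  h c := c
  fn_V _ _ h hc := (A.tr_spec h hc).1
  act _ _ h hc := (A.tr_spec h hc).2
  h_iff a b ha hb := ⟨fun e => e ▸ rfl, A.inj a ha b hb⟩

theorem wm_gen (A : TabAct G X) (ws : List (List ℕ)) (Ts : List ℕ) :
    (wm A ws).gen Ts = gp A.e (Ts.map (nthW ws)) :=
  le_antisymm ((wm A ws).gen_le.2 fun _ hT => inv_mem (mem_gp (List.mem_map_of_mem hT))) (gp_le.2 fun _ hw => by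
    obtain ⟨T, hT, rfl⟩ := List.mem_map.1 hw
    exact inv_mem_iff.1 ((wm A ws).el_mem_gen hT))

theorem prim [Finite G] (M : Model G X) {K : Subgroup G} {c fuel n : ℕ} {Ts : List ℕ} {reps : List (ℕ × ℕ)}
    (hc : M.V c) (hT : ∀ T ∈ Ts, M.ok T ∧ M.el T ∈ K ∧ M.fn T c = c) (hR : ∀ p ∈ reps, M.ok p.1 ∧ M.el p.1 ∈ K)
    (hn : (orbit K (M.dec c)).ncard = n)
    (H : band (allL reps fun p => orbRun M.h ((p.1 :: Ts).map M.fn) fuel c fun _ m => Nat.beq m n)
      (band (orbsRun M.h (Ts.map M.fn) fuel ((c, 1) :: reps.map fun p => (M.fn p.1 c, p.2)) 0)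
        (band (Nat.ble 2 n) (Nat.ble n (Nat.succ (reps.map Prod.snd).sum)))) = true) :
    IsCoatom ((K ⊓ stabilizer G (M.dec c)).subgroupOf K) ∧ ∀ y ∈ orbit K (M.dec c), y = M.dec c ∨
      ∃ p ∈ reps, y ∈ orbit ↥(K ⊓ stabilizer G (M.dec c)) (M.dec (M.fn p.1 c)) := by
  rw [band_iff, band_iff, band_iff, allL_iff, nble_iff, nble_iff] at H
  obtain ⟨H1, H2, H4, H5⟩ := H
  have le : M.gen Ts ≤ K ⊓ stabilizer G (M.dec c) := M.gen_le.2 fun T h =>
    ⟨(hT T h).2.1, by show _ • _ = _; rw [M.act _ _ (hT T h).1 hc, (hT T h).2.2]⟩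
  have fin : (orbit K (M.dec c)).Finite := Set.finite_range _
  have cov : ∀ y ∈ orbit K (M.dec c), y = M.dec c ∨
      ∃ p ∈ reps, y ∈ orbit ↥(K ⊓ stabilizer G (M.dec c)) (M.dec (M.fn p.1 c)) := fun y hy => by
    obtain ⟨p, hp, h⟩ := (M.orbs_spec (fun T h => (hT T h).1) (fun p hp => by
      rcases List.mem_cons.1 hp with rfl | hp
      · exact hc
      · obtain ⟨q, hq, rfl⟩ := List.mem_map.1 hp
        exact M.fn_V _ _ (hR q hq).1 hc) H2).2 _ fin (fun p hp z hz => by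
          obtain ⟨k, hk, rfl⟩ := mem_orbit_sub.1 hz
          rcases List.mem_cons.1 hp with rfl | hp
          · exact mem_orbit_sub.2 ⟨k, (le hk).1, rfl⟩
          · obtain ⟨q, hq, rfl⟩ := List.mem_map.1 hp
            exact mem_orbit_sub.2 ⟨k * M.el q.1, mul_mem (le hk).1 (hR q hq).2, by
              rw [mul_smul, M.act _ _ (hR q hq).1 hc]⟩)
      (by rw [hn]; simpa [Function.comp_def, add_comm] using H5) y hy
    rcases List.mem_cons.1 hp with rfl | hp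
    · obtain ⟨k, hk, rfl⟩ := mem_orbit_sub.1 h
      exact .inl (le hk).2
    · obtain ⟨q, hq, rfl⟩ := List.mem_map.1 hp
      exact .inr ⟨q, hq, orbit_subset_of_le le _ h⟩
  refine ⟨coatom_of_suborbits (reps.map fun p => M.el p.1) (fun h => ?_) (fun y hy => (cov y hy).imp_right
    fun ⟨p, hp, h⟩ => ⟨_, List.mem_map_of_mem hp, by rwa [M.act _ _ (hR p hp).1 hc]⟩) (fun g hg => ?_)
    (fun g hg k hk => ?_), cov⟩
  · have := Set.ncard_le_ncard (show orbit K (M.dec c) ⊆ {M.dec c} from fun y hy => by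
      obtain ⟨k, hk, rfl⟩ := mem_orbit_sub.1 hy
      exact (h.ge hk).2)
    rw [Set.ncard_singleton] at this
    omega
  · obtain ⟨q, hq, rfl⟩ := List.mem_map.1 hg
    exact (hR q hq).2
  · obtain ⟨q, hq, rfl⟩ := List.mem_map.1 hg
    have h1 : M.gen (q.1 :: Ts) ≤ K ⊓ ((K ⊓ stabilizer G (M.dec c)) ⊔ zpowers (M.el q.1)) := M.gen_le.2
      (List.forall_mem_cons.2 ⟨⟨(hR q hq).2, mem_sup_right (mem_zpowers _)⟩, fun T h =>
        ⟨(hT T h).2.1, mem_sup_left (le (M.el_mem_gen h))⟩⟩)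
    have h2 := Set.eq_of_subset_of_ncard_le (orbit_subset_of_le (h1.trans inf_le_left) (M.dec c)) (by
      rw [hn, M.orbit_ncard (List.forall_mem_cons.2 ⟨(hR q hq).1, fun T h => (hT T h).1⟩) hc (H1 q hq)]) fin
    obtain ⟨m, hm, e⟩ := mem_orbit_sub.1 (h2.ge (mem_orbit_sub.2 ⟨k, hk, rfl⟩))
    have := mul_mem (h1 hm).2 (mem_sup_left (show m⁻¹ * k ∈ K ⊓ stabilizer G (M.dec c) from
      ⟨K.mul_mem (K.inv_mem (h1 hm).1) hk, by show _ • _ = _; rw [mul_smul, ← e, inv_smul_smul]⟩))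
    rwa [mul_inv_cancel_left] at this

theorem co_orb {K : Subgroup G} {x y : X} (h : IsCoatom ((K ⊓ stabilizer G x).subgroupOf K)) (hy : y ∈ orbit K x) :
    IsCoatom ((K ⊓ stabilizer G y).subgroupOf K) := by
  have e : ∀ x : X, (K ⊓ stabilizer G x).subgroupOf K = stabilizer K x := fun x => by
    rw [inf_subgroupOf_left]; rfl
  obtain ⟨k, rfl⟩ := hy
  rw [e] at h ⊢
  exact isCoatom_stabilizer_smul k h

theorem co_comap {T : Type*} [Group T] {f : T →* G} (hf : Function.Injective f) {K L : Subgroup G} (hK : f.range = K)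
    (h : IsCoatom (L.subgroupOf K)) : IsCoatom (L.comap f) := by
  subst hK
  exact ((f.ofInjective hf).comapSubgroup.isCoatom_iff _).2 h

end

open Suz

def σ : List (List ℕ) := [[1, 2, 3, 2, 1, 0, 4, 3, 2, 1, 3, 2, 4, 3, 2, 1], [2, 1, 0, 1, 3, 2, 1, 0, 1, 3, 2], [0, 1, 2, 1, 0, 1, 2, 3, 2, 1, 3, 4, 3, 2, 1, 0, 1, 2, 3, 2, 3, 4, 3, 2, 1], [0, 1, 2, 1, 0, 1, 0, 3, 2, 1, 3, 2, 4, 3, 2, 1, 0, 1, 2, 3], [3, 2, 1, 0, 1, 2, 3, 2, 1, 0, 4, 3, 2, 1, 0, 1, 3, 2, 1, 0], [0, 1, 0, 2, 3, 2, 1, 4, 3, 2, 1, 0, 1, 3, 2, 1, 3, 4, 3, 2, 1, 0], [0, 1, 2, 3, 2, 4, 3, 2, 1, 3, 2, 3, 2, 4, 3, 2, 1, 0, 1, 2, 3, 2, 4, 3, 2, 1]]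
def ws : List (List ℕ) := [[0], [1], [2], [3], [4], [5], [5, 1, 2, 3, 2, 1, 5], [5, 1, 2, 3, 2, 1], [0, 3],
  [0, 1, 2, 3, 4, 3, 2, 1, 0, 1, 2, 3, 2, 4], [1, 0, 1, 0, 3, 2, 1, 0, 3, 2, 1], [0, 1, 2, 1, 3, 4, 3, 2, 1, 0],
  [2, 1, 0, 3, 2, 1, 0, 3, 4, 3, 2, 1, 3]] ++ σ
noncomputable abbrev M := wm A0 ws
noncomputable abbrev K : Subgroup Suz.G := gp E hs
noncomputable abbrev H : Subgroup Suz.G := K ⊓ stabilizer Suz.G (A0.c 210)

theorem inK {T : ℕ} (h : okW 6 (nthW ws T) = true) : M.el T ∈ K :=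
  inv_mem ((cl_eq_gp (E := E) (L := 6) (ws := hs) (by decide +kernel)).le (lprod_mem_cl h))

theorem mem (c : ℕ) (Ts : List ℕ) (h : allL Ts (fun T => band (band (okW 7 (nthW ws T)) (okW 6 (nthW ws T)))
    (Nat.beq (M.fn T c) c)) = true) : ∀ T ∈ Ts, M.ok T ∧ M.el T ∈ K ∧ M.fn T c = c := fun T hT => by
  have := allL_iff.1 h T hT
  rw [band_iff, band_iff, nbeq_iff] at this
  exact ⟨this.1.1, inK this.1.2, this.2⟩

theorem oks {Ts : List ℕ} (h : allL Ts (fun T => okW 7 (nthW ws T)) = true) : ∀ T ∈ Ts, M.ok T := allL_iff.1 h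

theorem inH {T : ℕ} (h : M.ok T ∧ M.el T ∈ K ∧ M.fn T 210 = 210) : M.ok T ∧ M.el T ∈ H :=
  ⟨h.1, h.2.1, (M.act T 210 h.1 (show 210 < 1782 by norm_num)).trans (congrArg M.dec h.2.2)⟩

theorem genK : M.gen [0, 1, 2, 3, 4, 5] = K :=
  (wm_gen A0 ws _).trans (congrArg (gp E) (by decide +kernel : [0, 1, 2, 3, 4, 5].map (nthW ws) = hs))

theorem genH : M.gen [13, 14, 15, 16, 17, 18, 19] = gp E σ :=
  (wm_gen A0 ws _).trans (congrArg (gp E) (by decide +kernel : [13, 14, 15, 16, 17, 18, 19].map (nthW ws) = σ))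

theorem n416 : (orbit K (M.dec 210)).ncard = 416 := by
  rw [← genK]
  exact M.orbit_ncard (fuel := 417) (oks (by decide +kernel)) (show 210 < 1782 by norm_num) (by decide +kernel)

theorem eqH : gp E σ = H ∧ Nonempty (H ≃* J2P.KJ.K) := by
  have s := base0.sat1 (σ := σ) (t := 417736958016) (B := HJ.BA1) (by decide +kernel)
  obtain ⟨φ⟩ := HJ.isoK (E := fun l => lprod A0.e (nthW σ l)) ⟨s.hi, s.hB⟩
    (A0.ne_of_neAt (x := 1) (u := nthW σ 0) (v := []) (by decide +kernel))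
  have e : gp (fun l => lprod A0.e (nthW σ l)) (sgl 7) = gp E σ :=
    (cl_eq_gp (L := 7) (by decide +kernel)).symm.trans (cl_nth E σ)
  rw [e] at φ
  have h := card_eq_orbit_mul_inf K (M.dec 210)
  rw [n416, card_hs] at h
  have e2 : gp E σ = H := eq_of_le_of_card_ge (genH.ge.trans (M.gen_le.2
    fun T hT => (inH (mem 210 _ (by decide +kernel) T hT)).2)) (by
      rw [Nat.card_congr φ.toEquiv, J2P.card_K]
      show Nat.card ↥(K ⊓ stabilizer Suz.G (M.dec 210)) ≤ _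
      omega)
  exact ⟨e2, ⟨e2 ▸ φ⟩⟩

theorem coH (c n : ℕ) (hc : c < 1782) (Ts : List ℕ) (reps : List (ℕ × ℕ))
    (h0 : orbRun M.h ([13, 14, 15, 16, 17, 18, 19].map M.fn) 417 c (fun _ m => Nat.beq m n) = true)
    (h1 : ∀ T ∈ Ts ++ reps.map Prod.fst, M.ok T ∧ M.el T ∈ K ∧ M.fn T 210 = 210) (h2 : allL Ts (fun T => Nat.beq (M.fn T c) c) = true)
    (H3 : band (allL reps fun p => orbRun M.h ((p.1 :: Ts).map M.fn) 417 c fun _ m => Nat.beq m n)
      (band (orbsRun M.h (Ts.map M.fn) 417 ((c, 1) :: reps.map fun p => (M.fn p.1 c, p.2)) 0)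
        (band (Nat.ble 2 n) (Nat.ble n (Nat.succ (reps.map Prod.snd).sum)))) = true) :
    IsCoatom ((H ⊓ stabilizer Suz.G (M.dec c)).subgroupOf H) :=
  (prim M hc (fun T hT => have := inH (h1 T (List.mem_append_left _ hT)); ⟨this.1, this.2, nbeq_iff.1 (allL_iff.1 h2 T hT)⟩)
    (fun p hp => inH (h1 _ (List.mem_append_right _ (List.mem_map_of_mem hp)))) (by
      rw [← eqH.1, ← genH]
      exact M.orbit_ncard (oks (by decide +kernel)) hc h0) H3).1

theorem main : IsCoatom (H.subgroupOf K) ∧ ∀ x ∈ K, x ∉ H →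
    IsCoatom ((H ⊓ stabilizer Suz.G (x • A0.c 210)).subgroupOf H) := by
  obtain ⟨h1, h2⟩ := prim M (K := K) (c := 210) (fuel := 417) (Ts := [0, 1, 2, 3, 4]) (reps := [(6, 100), (7, 315)])
    (show 210 < 1782 by norm_num) (mem _ _ (by decide +kernel))
    (by simp only [List.forall_mem_cons]
        exact ⟨⟨oks (Ts := [6]) (by decide +kernel) 6 (by simp), inK (by decide +kernel)⟩,
          ⟨oks (Ts := [7]) (by decide +kernel) 7 (by simp), inK (by decide +kernel)⟩, by simp⟩)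
    n416 (by decide +kernel)
  refine ⟨h1, fun x hx n => ?_⟩
  obtain ⟨p, hp, h⟩ := (h2 _ (mem_orbit_sub.2 ⟨x, hx, rfl⟩)).resolve_left fun e => n ⟨hx, e⟩
  refine co_orb ?_ h
  simp only [List.mem_cons, List.not_mem_nil, or_false] at hp
  rcases hp with rfl | rfl
  · rw [show M.fn 6 210 = 1 by decide +kernel]
    exact coH 1 100 (by norm_num) [9, 10] [(0, 63), (4, 36)] (by decide +kernel) (mem _ _ (by decide +kernel))
      (by decide +kernel) (by decide +kernel)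
  · rw [show M.fn 7 210 = 5 by decide +kernel]
    exact coH 5 315 (by norm_num) [11, 12] [(0, 10), (1, 160), (3, 32), (4, 80), (8, 32)] (by decide +kernel)
      (mem _ _ (by decide +kernel)) (by decide +kernel) (by decide +kernel)

theorem trans {T : Type*} [Group T] (f : T →* Suz.G) (hf : Function.Injective f) (hK : f.range = K) :
    ∃ L : Subgroup T, IsCoatom L ∧ Nonempty (L ≃* J2P.KJ.K) ∧
      ∀ x : T, x ∉ L → IsCoatom ((L ⊓ L.map (MulAut.conj x).toMonoidHom).subgroupOf L) := by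
  have hr : (f.comp (H.comap f).subtype).range = H := by
    rw [MonoidHom.range_comp, range_subtype, map_comap_eq_self (hK ▸ inf_le_left)]
  have hi : Function.Injective (f.comp (H.comap f).subtype) := hf.comp (subtype_injective _)
  obtain ⟨φ⟩ := eqH.2
  have mK : ∀ x, f x ∈ K := fun x => hK.le ⟨x, rfl⟩
  refine ⟨H.comap f, co_comap hf hK main.1, ⟨(MonoidHom.ofInjective hi).trans ((MulEquiv.subgroupCongr hr).trans φ)⟩,
    fun x hx => ?_⟩
  convert co_comap hi hr (main.2 (f x) (mK x) hx) using 1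
  ext y
  rw [mem_subgroupOf, mem_inf, mem_map_equiv, mem_comap, mem_comap, mem_comap, mem_inf, mem_inf (p' := stabilizer _ _)
    (p := H)]
  refine and_congr_right fun _ => ?_
  rw [mem_inf, and_iff_right (mK _), mem_stabilizer_iff, MulAut.conj_symm_apply, map_mul, map_mul, map_inv, mul_smul,
    mul_smul, inv_smul_eq_iff]
  rfl

end Cfsg.Agent.H28.G2J
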