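import Mathlib
import Cfsg.Agent.H28.HJ5
import Cfsg.Agent.H28.HJj

/-! One class of involutions: a subgroup isomorphic to the third Janko group. -/

set_option autoImplicit false

namespace Cfsg.Agent.H28.HJ
open Subgroup L1ES H15 Equiv

variable {G : Type*} [Group G] {z s r h u t g : G} {Q : Subgroup G}

local notation "C[" z "]" => centralizer ({z} : Set _)

theorem four_le {a b : G} {aa : a * a = 1} {bb : b * b = 1} {ba : b * a = a * b} {K : Subgroup G} (h1 : a ∈ K)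
    (h2 : b ∈ K) : four a b aa bb ba ≤ K := by
  rintro _ (rfl | rfl | rfl | rfl)
  exacts [one_mem _, h1, h2, mul_mem h2 h1]

theorem four_cj {a b k : G} {aa : a * a = 1} {bb : b * b = 1} {ba : b * a = a * b} {K : Subgroup G}
    (h1 : k * a * k⁻¹ ∈ K) (h2 : k * b * k⁻¹ ∈ K) : ∀ x ∈ four a b aa bb ba, k * x * k⁻¹ ∈ K := by
  rintro _ (rfl | rfl | rfl | rfl)
  exacts [by simp, h1, h2, by rw [← conj_mul]; exact mul_mem h2 h1]

theorem B2.exk (B : B2 z Q s r h u t g) (hc : IsConj t z) : ∃ k, k * k = 1 ∧ k * z * k = t ∧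
    k * (g * r * u⁻¹) * k = u⁻¹ ∧ k * s * k = u⁻¹ * t * u ∧ (k * (r * t * r)) ^ 3 = 1 := by
  obtain ⟨Y, M⟩ := B.mh
  obtain ⟨ss, rr, -, tt, zz, u3, us, ur, ts, -, -, -, -, -, ta, at', -⟩ := M.h8
  obtain ⟨-, -, -, -, -, -, -, n8, -, n10, -, n12, n13, -, -, -, -, n18, -⟩ := M.h6
  obtain ⟨ct, ca, cz, aa, as, az, ab, n1, n2, -⟩ := M.j1
  obtain ⟨-, -, -, -, -, cs, cc, -⟩ := M.h7
  obtain ⟨sz, -, -, uz, tz⟩ := B.gens
  obtain ⟨w, hw, wt, wu, wz, ws, wsz, w3⟩ := B.wf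
  have wa : w * (u * t * u⁻¹) = u * t * u⁻¹ * w := by simpa only [cjf wu.symm] using cjc u wt
  have cw : r * t * r * (w⁻¹ * u) = w⁻¹ * u * (r * t * r) := by
    have e : r * w * r⁻¹ = w⁻¹ * u := by
      have e1 : u * u = u⁻¹ := eq_inv_of_mul_eq_one_left (by rw [← u3]; simp [pow_succ])
      rw [hw, mul_inv_rev, mul_inv_rev, inv_inv, inv2 rr, inv2 B.gg]
      simp only [mul_assoc, kk ur, kk B.gu.symm, e1, (Commute.inv_left ur).eq, kk rr, one_mul]
    have := (cjc r wt).symm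
    rwa [e, inv2 rr] at this
  rw [← hw]
  have a2 := M.a2
  have a3 := M.a3
  have j2 := M.j2
  have j3 := M.j3
  generalize r * t * r = c at *
  generalize ha : u * t * u⁻¹ = a at *
  generalize hb : u⁻¹ * t * u = b at *
  have at2 : a * t = t * a := at'.trans ta.symm
  have w1 : w ≠ 1 := fun e => n8 (by rw [← wz, e]; simp)
  set V := four z s zz ss sz
  set U := four t a tt aa at2
  have zV : z ∈ V := .inr (.inl rfl)
  have sV : s ∈ V := .inr (.inr (.inl rfl))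
  have tU : t ∈ U := .inr (.inl rfl)
  have aU : a ∈ U := .inr (.inr (.inl rfl))
  have Uz : U ≤ C[z] := four_le (memC.2 tz) (memC.2 az)
  have Ut : U ≤ C[t] := four_le (memC.2 rfl) (memC.2 at2)
  have Uw : U ≤ C[w] := four_le (memC.2 wt.symm) (memC.2 wa.symm)
  have dec : ∀ x, x * z = z * x → x * t = t * x → ∃ p ∈ U, x * p ∈ V ∧ p * x = x * p := fun x h1 h2 => by
    obtain ⟨-, -, h3, h4⟩ := a3 x (memC.2 h1) h2
    have : U ≤ C[x] := four_le (memC.2 h2.symm) (memC.2 h3.symm)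
    rcases h4 with h | h | h | h
    exacts [⟨1, one_mem _, by rwa [mul_one], by simp⟩, ⟨t, tU, h, memC.1 (this tU)⟩, ⟨a, aU, h, memC.1 (this aU)⟩,
      ⟨b, ta ▸ mul_mem tU aU, h, memC.1 (this (ta ▸ mul_mem tU aU))⟩]
  have sw : ∀ k, k * z * k⁻¹ = t → k * t * k⁻¹ = z → k * a * k⁻¹ = s ∨ k * a * k⁻¹ = s * z := fun k h1 h2 => by
    have e1 := cjc k at2
    have e2 := cjc k az
    have e3 := cjc k wt
    rw [h2] at e1 e3
    rw [h1] at e2
    rcases a2 _ (memC.2 e1) e2 with e | e | e | e | ⟨y, hy, e, -⟩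
    exacts [absurd (cj1 e) n2, absurd (by simpa using e.trans h2.symm) n1, .inl e, .inr e,
      absurd (cj1 (B.no3 (a := y) (v := k * w * k⁻¹) (by rwa [cjf (memC.1 hy)]) (by rw [e]; exact cjc k wa)
        (by rw [conj_pow, w3]; group))) w1]
  have sw' : ∀ k, k * z * k⁻¹ = t → k * t * k⁻¹ = z → k * s * k⁻¹ = a ∨ k * s * k⁻¹ = b := fun k h1 h2 => by
    rcases sw k⁻¹ (cji h2) (cji h1) with e | e
    · exact .inl (by simpa only [inv_inv] using cji e)
    · have := cji e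
      rw [inv_inv, ← conj_mul, h1] at this
      exact .inr (by rw [← at', ← this, mul_assoc _ t, tt, mul_one])
  obtain ⟨k, kz, kt⟩ : ∃ k, k * z * k⁻¹ = t ∧ k * t * k⁻¹ = z := by
    obtain ⟨k, hk⟩ := isConj_iff.1 hc
    have e1 := cjc k tz
    rw [hk] at e1
    rcases M.h2 _ (memC.2 e1.symm) (cjs k zz) with e | e | ⟨y, hy, e | e⟩
    · exact absurd (cj1 e) n13
    · exact absurd (by simpa using hk.trans e.symm) n18
    · exact absurd (B.no3 (a := y * k) (by rwa [cjm, e]) (by rwa [cjm, hk, cjf (memC.1 hy)]) u3) n10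
    · exact ⟨y * k, by rw [cjm, e], by rw [cjm, hk, cjf (memC.1 hy)]⟩
  obtain ⟨k, kz, kt, kw⟩ : ∃ k, k * z * k⁻¹ = t ∧ k * t * k⁻¹ = z ∧ (k * w * k⁻¹ = u ∨ k * w * k⁻¹ = u⁻¹) := by
    have e1 := cjc k wt
    have e2 := cjc k wa
    rw [kt] at e1
    obtain ⟨y, hy, yt, e⟩ := j2 _ (memC.2 e1) (by
      rcases sw k kz kt with e | e <;> rw [e] at e2
      · exact e2
      · rwa [← mul_assoc, mul_assoc s, ← e1, ← mul_assoc, mul_left_inj] at e2) (by rw [conj_pow, w3]; group) (by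
      rw [show k * w * k⁻¹ * t * (k * w * k⁻¹)⁻¹ = k * (w * (k⁻¹ * t * k⁻¹⁻¹) * w⁻¹) * k⁻¹ by group, cji kz, wz]
      exact sw' k kz kt)
    exact ⟨y * k, by rw [cjm, kz, cjf yt], by rw [cjm, kt, cjf (memC.1 hy)], by rwa [cjm]⟩
  obtain ⟨k, kk', kz, kt, kw⟩ : ∃ k, k * k = 1 ∧ k * z * k⁻¹ = t ∧ k * t * k⁻¹ = z ∧
      (k * w * k⁻¹ = u ∨ k * w * k⁻¹ = u⁻¹) := by
    obtain ⟨p, hp, h1, h2⟩ := dec (k * k) (by rw [← mul_inv_eq_iff_eq_mul, cjm, kz, kt])
      (by rw [← mul_inv_eq_iff_eq_mul, cjm, kt, kz])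
    have h3 : k * p * k⁻¹ ∈ V := four_cj (kt ▸ zV) (by
      rcases sw k kz kt with e | e <;> rw [e]
      exacts [sV, mul_mem sV zV]) p hp
    have h4 : k * (k * k * p) * k⁻¹ ∈ U := four_cj (kz ▸ tU) (by
      rcases sw' k kz kt with e | e <;> rw [e]
      exacts [aU, ta ▸ mul_mem tU aU]) _ h1
    have h5 : k * k * p * (k * p * k⁻¹) = p⁻¹ * (k * (k * k * p) * k⁻¹) := by
      have pp : p * p = 1 := (a3 p (Uz hp) (memC.1 (Ut hp))).1
      calc _ = p * (k * k) * (k * p * k⁻¹) := by rw [h2]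
        _ = _ := by rw [inv2 pp]; group
    have h6 := j3 _ (four_le (memC.2 rfl) (memC.2 sz) (mul_mem h1 h3)) (mul_mem h1 h3)
      (h5 ▸ mul_mem (inv_mem hp) h4)
    refine ⟨k * p, ?_, by rw [cjm, cjf (memC.1 (Uz hp)), kz], by rw [cjm, cjf (memC.1 (Ut hp)), kt],
      by rwa [cjm, cjf (memC.1 (Uw hp))]⟩
    rw [← mul_eq_one_comm.1 h6]; group
  obtain ⟨f, hf⟩ : ∃ f : G →* G, ∀ x, f x = k * x * k⁻¹ := ⟨(MulAut.conj k).toMonoidHom, fun _ => rfl⟩
  obtain ⟨d, hd⟩ : ∃ d : G →* G, ∀ x, d x = c * x * c := ⟨(MulAut.conj c).toMonoidHom, fun _ => by simp [inv2 cc]⟩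
  have ff : ∀ x, f (f x) = x := fun x => by rw [hf, hf, ← cjm, kk']; simp
  have hβ : ∀ x, (k * c) ^ 3 * x * ((k * c) ^ 3)⁻¹ = f (d (f (d (f (d x))))) := fun x => by
    simp only [hf, hd, pow_succ, pow_zero, one_mul, mul_inv_rev, inv2 cc, mul_assoc]
  have ds : d s = s := by rw [hd, cs, mul_assoc, cc, mul_one]
  have dz : d z = z := by rw [hd, cz, mul_assoc, cc, mul_one]
  rw [← hd] at ct ca
  rw [← hf] at kz kt kw
  have βz : (k * c) ^ 3 * z = z * (k * c) ^ 3 := by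
    rw [← mul_inv_eq_iff_eq_mul, hβ]
    simp only [map_mul, ct, dz, kz, kt, mul_assoc, kk tz, tz, kk zz, zz, tt, one_mul, mul_one]
  have βt : (k * c) ^ 3 * t = t * (k * c) ^ 3 := by
    rw [← mul_inv_eq_iff_eq_mul, hβ]
    simp only [map_mul, ct, dz, kz, kt, mul_assoc, kk tz, tz, kk zz, zz, tt, one_mul, mul_one]
  have fs : f s = f w * t * (f w)⁻¹ := by rw [← wz, map_mul, map_mul, map_inv, kz]
  rcases kw with kw | kw <;> rw [kw] at fs
  · exfalso
    rw [ha] at fs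
    have fa : f a = s := by rw [← fs, ff]
    have := hβ s
    rw [cjf (a3 _ (memC.2 βz) βt).2.1] at this
    simp only [map_mul, ct, ca, ds, dz, kz, kt, fs, fa, mul_assoc, kk tz, tz, kk zz, zz, tt, one_mul, mul_one, kk sz, sz,
      kk ts, ts, kk az, az, kk as, as, kk at2, at2, kk ss, ss, kk tt, kk aa, aa] at this
    exact n13 (by simpa using this)
  rw [inv_inv, hb] at fs
  refine ⟨k, kk', by rw [← kz, hf, inv2 kk'], by rw [← kw, hf, inv2 kk'], by rw [← fs, hf, inv2 kk'], ?_⟩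
  have fu : f u = w⁻¹ := by rw [← ff w, kw, map_inv, inv_inv]
  have fw : f (w⁻¹ * u) = w⁻¹ * u := by rw [map_mul, map_inv, kw, fu, inv_inv, (Commute.inv_left wu).eq]
  have dw : d (w⁻¹ * u) = w⁻¹ * u := by rw [hd, cw, mul_assoc, cc, mul_one]
  have e1 := hβ (w⁻¹ * u)
  rw [dw, fw, dw, fw, dw, fw] at e1
  generalize (k * c) ^ 3 = β at *
  have e2 : u * β * u⁻¹ = w * β * w⁻¹ := by
    calc _ = w * (w⁻¹ * u) * β * u⁻¹ := by group
      _ = w * (β * (w⁻¹ * u) * β⁻¹) * β * u⁻¹ := by rw [e1]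
      _ = _ := by group
  obtain ⟨p, hp, h1, h2⟩ := dec β βz βt
  have e3 : β ∈ V := M.j4 β (memC.2 βz) βt (by
    have := mul_mem (inv_mem h1) (four_cj (k := w) (wz ▸ sV) (ws ▸ mul_mem sV zV) _ h1)
    rw [← h2, ← conj_mul, cjf (memC.1 (Uw hp)).symm, ← e2] at this
    rwa [show (p * β)⁻¹ * (p * (u * β * u⁻¹)) = β⁻¹ * (u * β * u⁻¹) by group] at this)
  rw [cjf (memC.1 (four_le (memC.2 uz.symm) (memC.2 us.symm) e3 : β ∈ C[u])).symm] at e2
  rcases e3 with e | e | e | e <;> rw [e] at e2 ⊢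
  · exact absurd (wz.symm.trans e2.symm) n8
  · exact absurd (by simpa using e2.trans ws) n13
  · exact absurd (by simpa using e2.trans wsz) n12

variable [Finite G]

theorem B2.exL (B : B2 z Q s r h u t g) (hc : IsConj t z) : ∃ L : Subgroup G, C[z] ≤ L ∧
    (∀ x ∈ L, x * x = 1 → x ≠ 1 → ∃ b ∈ L, b * x * b⁻¹ = z) ∧ Nonempty (L ≃* H25.J3.G0) := by
  obtain ⟨k, kk', kz, kw, ks, kc⟩ := B.exk hc
  obtain ⟨Y, M⟩ := B.mh
  obtain ⟨ss, rr, hh, tt, zz, u3, us, ur, -, -, -, -, -, sr, -⟩ := M.h8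
  obtain ⟨-, -, -, -, -, -, -, -, -, -, -, n12, -, -, -, -, -, n18, -⟩ := M.h6
  obtain ⟨sz, rz, -, uz, -⟩ := B.gens
  obtain ⟨w, hw, -, wu, wz, ws, wsz, w3⟩ := B.wf
  have gg := B.gg
  have uu : u * u = u⁻¹ := eq_inv_of_mul_eq_one_left (by rw [← u3]; simp [pow_succ])
  have gr : g * r = w * u := by rw [hw]; group
  have rw' : r * w * r = w⁻¹ * u := by
    rw [hw, mul_inv_rev, mul_inv_rev, inv_inv, inv2 rr, inv2 gg]
    simp only [mul_assoc, kk ur, kk B.gu.symm, uu, (Commute.inv_left ur).eq, kk rr, one_mul]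
  obtain ⟨f, hf⟩ : ∃ f : G →* G, ∀ x, f x = k * x * k := ⟨(MulAut.conj k).toMonoidHom, fun _ => by simp [inv2 kk']⟩
  obtain ⟨d, hd⟩ : ∃ d : G →* G, ∀ x, d x = r * x * r := ⟨(MulAut.conj r).toMonoidHom, fun _ => by simp [inv2 rr]⟩
  obtain ⟨y, ey⟩ : ∃ y, y = k * r * k * r * k := ⟨_, rfl⟩
  have yy : y * y = 1 := by simp only [ey, mul_assoc, kk kk', kk rr, one_mul, kk']
  have hy : ∀ x, y * x * y⁻¹ = f (d (f (d (f x)))) := fun x => by
    rw [inv2 yy]; simp only [ey, hf, hd, mul_assoc]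
  have fw : f w = u⁻¹ := by rw [hf, hw, kw]
  have fu : f u = w⁻¹ := by
    rw [← inv_inv u, ← fw, map_inv, hf, hf]; simp only [mul_assoc, kk kk', kk', one_mul, mul_one]
  have du : d u = u := by rw [hd, ← ur, mul_assoc, rr, mul_one]
  have dw : d w = w⁻¹ * u := by rw [hd, rw']
  have c1 := (Commute.inv_left wu).eq
  have yu := hy u
  have yw := hy w
  simp only [map_mul, map_inv, fu, fw, du, dw, mul_inv_rev, inv_inv, inv_mul_cancel_right, c1, mul_inv_cancel_left,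
    inv_mul_cancel_left] at yu yw
  have yz : (y * z) ^ 3 = 1 := by
    rw [show y * z = k * r * (k * (r * t * r)) * (k * r)⁻¹ by
      rw [← kz, ey]; simp only [mul_inv_rev, inv2 kk', inv2 rr, mul_assoc, kk kk', kk rr, kk', one_mul, mul_one],
      conj_pow, kc]; group
  have y1 : y * (g * r) * y⁻¹ = (g * r)⁻¹ := by
    rw [gr, ← conj_mul, yw, yu, mul_assoc, c1, kk uu, mul_inv_rev]
  have y2 : ((g * r)⁻¹ * y) ^ 2 = 1 := by
    calc _ = y * (g * r) * y⁻¹ * y * ((g * r)⁻¹ * y) := by rw [y1, sq]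
      _ = 1 := by rw [← yy]; group
  have y5 : (y * s) ^ 5 = 1 := by
    rw [show s = g * r * z * (g * r)⁻¹ by rw [gr, cjm, cjf uz, wz]]
    refine a5_five yy zz B.gr y2 ?_ yz
    have e1 : g * r * (s * z) * (g * r)⁻¹ = z := by rw [gr, cjm, cjf (Commute.mul_right us uz).eq, wsz]
    have e2 : g * r * s * (g * r)⁻¹ = s * z := by rw [gr, cjm, cjf us, ws]
    have e3 := B.gr
    generalize g * r = w at e1 e2 e3
    calc (w⁻¹ * z) ^ 3 = w⁻¹ * z * w⁻¹⁻¹ * (w⁻¹ * (w⁻¹ * z * w⁻¹⁻¹) * w⁻¹⁻¹) * ((w ^ 3)⁻¹ * z) := by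
          simp only [pow_succ, pow_zero]; group
      _ = 1 := by rw [cji e1, cji e2, e3, inv_one, one_mul, mul_assoc s, ← sz, kk ss, one_mul, zz]
  set E := lt 1 [s, r, h, u, u⁻¹, t, g, k]
  have mE : ∀ l < 8, E l ∈ gp E (sgl 8) := fun l hl => mem_gp_sgl hl
  have i8 : ∀ l < 8, E (invT 31204062535744 8 l) * E l = 1 := fun l hl => by
    interval_cases l
    exacts [ss, rr, hh, inv_mul_cancel u, mul_inv_cancel u, tt, gg, kk']
  have r8 : ∀ p ∈ BH ++ BG ++ BK, lprod E p.1 ^ p.2 = 1 := List.forall_mem_append.2 ⟨B.rel [k], by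
    simp only [E, BK, List.forall_mem_cons, lprod_cons, lprod_nil, lt, List.not_mem_nil, false_imp_iff, implies_true,
      mul_one, and_true, pow_one]
    refine ⟨?_, ?_, ?_, by simpa only [mul_assoc] using kc⟩
    · rw [← mul_assoc, ← mul_assoc, ← hf, fu, hw]; group
    · rw [← tt, ← kz, ← sr]; simp only [mul_assoc]
    · rw [← mul_assoc, ← mul_assoc, ks]; simp only [mul_assoc, mul_inv_cancel_left, kk tt, one_mul, inv_mul_cancel]⟩
  rcases B.cu yy (mul_inv_eq_iff_eq_mul.1 yu) (by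
    rw [show (y * g * r) ^ 2 = y * (g * r) * y⁻¹ * (y * y) * (g * r) by rw [sq]; group, y1, yy]; simp) yz y5 with e | e
  swap
  · have := colB1 (E := E) (sat_of rfl i8 (List.forall_mem_append.2 ⟨r8, by
      simp only [E, List.forall_mem_cons, lprod_cons, lprod_nil, lt, List.not_mem_nil, false_imp_iff, implies_true,
        mul_one, and_true, pow_one]
      nth_rewrite 2 [e] at yy
      simpa only [ey, mul_assoc] using yy⟩)) (mE 7 (by decide))
    rw [B.gen'] at this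
    exact absurd (by rw [← kz, show k * z = z * k from memC.1 this, mul_assoc, kk', mul_one]) n18
  have HL : C[z] ≤ gp E (sgl 8) := B.gen' [g, k] ▸ gp_sgl_le fun l hl => mE l (by omega)
  have gL : g ∈ gp E (sgl 8) := mE 6 (by decide)
  have kL : k ∈ gp E (sgl 8) := mE 7 (by decide)
  refine ⟨_, HL, fun x hx xx x1 => ?_, isoJ (E := E) (sat_of rfl i8 (List.forall_mem_append.2 ⟨r8, by
    simp only [E, List.forall_mem_cons, lprod_cons, lprod_nil, lt, List.not_mem_nil, false_imp_iff, implies_true,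
      mul_one, and_true, pow_one]
    nth_rewrite 2 [e] at yy
    simpa only [ey, mul_assoc] using yy⟩)) n12⟩
  obtain ⟨b, hb, e | e | e | e⟩ := B.into HL hx xx
  exacts [absurd e x1, ⟨b, hb, e⟩, ⟨g * b, mul_mem gL hb, by rw [cjm, e, inv2 gg, B.gs]⟩,
    ⟨k * b, mul_mem kL hb, by rw [cjm, e, inv2 kk', ← kz]; simp only [mul_assoc, kk kk', kk', one_mul, mul_one]⟩]

end Cfsg.Agent.H28.HJ
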