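import Mathlib
import Cfsg.Agent.H28.HJ6
import Cfsg.Agent.H20.Count

/-! One class of involutions: the third Janko group. -/

set_option autoImplicit false

namespace Cfsg.Agent.H28.HJ
open Subgroup L1ES H15 Equiv

variable {G : Type*} [Group G] [Finite G] {z s r h u t g : G} {Q : Subgroup G}

local notation "C[" z "]" => centralizer ({z} : Set _)

theorem syl_of {p k : ℕ} [Fact p.Prime] (h2 : ¬ p ^ (k + 1) ∣ Nat.card G) {X : Subgroup G} (hX : Nat.card X = p ^ k) :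
    ∃ P : Sylow p G, (P : Subgroup G) = X :=
  ⟨(IsPGroup.of_card hX).toSylow fun h => h2 (by
    rw [← X.card_mul_index, hX, pow_succ]; exact Nat.mul_dvd_mul_left _ h), rfl⟩

theorem syl_cj {p : ℕ} [Fact p.Prime] (h2 : ¬ p ^ 2 ∣ Nat.card G) {x : G} (hx : orderOf x = p) {X : Subgroup G}
    (hX : Nat.card X = p) : ∃ g, X = zpowers (g * x * g⁻¹) := by
  obtain ⟨P, hP⟩ := syl_of (k := 1) h2 (X := zpowers x) (by rw [Nat.card_zpowers, hx, pow_one])
  obtain ⟨R, rfl⟩ := syl_of (k := 1) h2 (hX.trans (pow_one p).symm)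
  obtain ⟨g, rfl⟩ := MulAction.exists_smul_eq G P R
  exact ⟨g, (congrArg (map (MulAut.conj g).toMonoidHom) hP).trans (MonoidHom.map_zpowers _ _)⟩

theorem syl_nc {p : ℕ} [hp : Fact p.Prime] (h2 : ¬ p ^ 2 ∣ Nat.card G) {X : Subgroup G} (hX : Nat.card X = p) :
    (normalizer (X : Set G)).index % p = 1 ∧ X ≤ centralizer (X : Set G) ∧
    IsCyclic (normalizer (X : Set G) ⧸ (centralizer (X : Set G)).subgroupOf (normalizer (X : Set G))) ∧
    ∃ r, r ∣ p - 1 ∧ Nat.card (normalizer (X : Set G) ⧸ (centralizer (X : Set G)).subgroupOf (normalizer (X : Set G))) = r ∧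
      Nat.card (normalizer (X : Set G)) = r * Nat.card (centralizer (X : Set G)) := by
  have := isCyclic_of_prime_card hX
  have e := (QuotientGroup.quotientMulEquivOfEq X.normalizerMonoidHom_ker.symm).trans
    (QuotientGroup.quotientKerEquivRange _)
  refine ⟨?_, fun x hx y hy => congrArg Subtype.val (mul_comm' (⟨y, hy⟩ : X) ⟨x, hx⟩), ?_, _, ?_, rfl, ?_⟩
  · obtain ⟨P, rfl⟩ := syl_of (k := 1) h2 (hX.trans (pow_one p).symm)
    have := card_sylow_modEq_one p G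
    rwa [P.card_eq_index_normalizer, Nat.ModEq, Nat.mod_eq_of_lt hp.out.one_lt] at this
  · have : IsCyclic (MulAut X) := (IsCyclic.mulAutMulEquiv X).isCyclic.2 (ZMod.isCyclic_units_prime (hX ▸ hp.out))
    exact e.isCyclic.2 inferInstance
  · rw [Nat.card_congr e.toEquiv, ← Nat.totient_prime hp.out, ← hX, ← IsCyclic.card_mulAut]
    exact card_subgroup_dvd_card _
  · rw [card_eq_card_quotient_mul_card_subgroup ((centralizer (X : Set G)).subgroupOf _),
      Nat.card_congr (subgroupOfEquivOfLe (centralizer_le_normalizer _)).toEquiv]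

omit [Finite G] in
theorem mem_Cz {x c : G} : c ∈ centralizer (zpowers x : Set G) ↔ c * x = x * c :=
  ⟨fun h => (h x (mem_zpowers x)).symm, fun h => by
    rintro _ ⟨k, rfl⟩
    exact (Commute.zpow_right h k).eq.symm⟩

structure J3L (G : Type*) [Group G] : Prop where
  card : Nat.card G = 50232960
  c2 : ∀ x : G, orderOf x = 2 → Nat.card C[x] = 1920
  o16 : ∀ x : G, ¬ 16 ∣ orderOf x
  e19 : ∃ x : G, orderOf x = 19 ∧ ∀ c, c * x = x * c → c ∈ zpowers x
  e17 : ∃ a b : G, a * a = 1 ∧ b * b = 1 ∧ orderOf (a * b) = 17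

namespace J3L
variable (J : J3L G)
include J

theorem c19 {X : Subgroup G} (hX : Nat.card X = 19) : centralizer (X : Set G) = X := by
  have : Fact (Nat.Prime 19) := ⟨by norm_num⟩
  have h2 : ¬ 19 ^ 2 ∣ Nat.card G := by rw [J.card]; norm_num
  refine le_antisymm (fun c hc => ?_) (syl_nc h2 hX).2.1
  obtain ⟨x, hx, h⟩ := J.e19
  obtain ⟨g, rfl⟩ := syl_cj h2 hx hX
  have := cjc g⁻¹ (mem_Cz.1 hc)
  rw [cji rfl] at this
  obtain ⟨k, e⟩ := h _ this
  exact ⟨k, by simp only [conj_zpow, e]; group⟩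

theorem n19 {X : Subgroup G} (hX : Nat.card X = 19) : Nat.card (normalizer (X : Set G)) = 9 * 19 := by
  have : Fact (Nat.Prime 19) := ⟨by norm_num⟩
  obtain ⟨h1, -, -, r, h2, -, h3⟩ := syl_nc (by rw [J.card]; norm_num) hX
  have h4 := (normalizer (X : Set G)).card_mul_index
  rw [J.c19 hX, hX] at h3
  rw [h3, J.card] at h4
  have := Nat.le_of_dvd (by norm_num) h2
  rw [h3]
  interval_cases r <;> omega

theorem s17 {X : Subgroup G} (hX : Nat.card X = 17) :
    centralizer (X : Set G) = X ∧ Nat.card (normalizer (X : Set G)) = 8 * 17 := by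
  have : Fact (Nat.Prime 17) := ⟨by norm_num⟩
  have : Fact (Nat.Prime 19) := ⟨by norm_num⟩
  have h0 : ¬ 17 ^ 2 ∣ Nat.card G := by rw [J.card]; norm_num
  obtain ⟨h1, le, cy, r, h2, h5, h3⟩ := syl_nc h0 hX
  have h4 := (normalizer (X : Set G)).card_mul_index
  obtain ⟨c, hc⟩ := hX ▸ card_dvd_of_le le
  have pr : ∀ q, q.Prime → q ∣ c → ∃ x : G, orderOf x = q ∧ 17 ∣ Nat.card C[x] := fun q hq h => by
    have := Fact.mk hq
    obtain ⟨x, hx⟩ := exists_prime_orderOf_dvd_card' (G := centralizer (X : Set G)) q (hc ▸ h.mul_left 17)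
    exact ⟨x, (orderOf_coe x).trans hx, hX ▸ card_dvd_of_le fun y hy => memC.2 (x.2 y hy)⟩
  have c2 : ¬ 2 ∣ c := fun h => by
    obtain ⟨x, h1, h2⟩ := pr 2 Nat.prime_two h
    rw [J.c2 x h1] at h2
    omega
  have c19 : ¬ 19 ∣ c := fun h => by
    obtain ⟨x, h1, h2⟩ := pr 19 (by norm_num) h
    have h3 := (Nat.card_zpowers x).trans h1
    have := h2.trans (card_dvd_of_le (K := zpowers x) fun y hy => J.c19 h3 ▸ mem_Cz.2 (memC.1 hy))
    omega
  have r16 : r ≠ 16 := fun e => by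
    obtain ⟨x, hx⟩ := cy.exists_ofOrder_eq_natCard
    obtain ⟨x, rfl⟩ := QuotientGroup.mk'_surjective _ x
    exact J.o16 x (by rw [orderOf_coe, ← e, ← h5, ← hx]; exact orderOf_map_dvd _ x)
  have r2 : 2 ∣ r * (17 * c) := by
    obtain ⟨a, b, aa, bb, ab⟩ := J.e17
    obtain ⟨g, rfl⟩ := syl_cj h0 ab hX
    have a1 : g * a * g⁻¹ ≠ 1 := fun e => by
      have := orderOf_dvd_of_pow_eq_one (show (a * b) ^ 2 = 1 by rw [cj1 e, one_mul, sq, bb])
      rw [ab] at this
      omega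
    rw [← hc, ← h3, ← H20.orderOf_two_of (cjs g aa) a1]
    refine Subgroup.orderOf_dvd_natCard _ (mem_normalizer_fintype ?_)
    rintro _ ⟨k, rfl⟩
    refine ⟨-k, ?_⟩
    simp only [← conj_zpow]
    rw [zpow_neg, ← inv_zpow]
    congr 1
    rw [conj_mul, conj_inv, conj_inv, conj_mul, mul_inv_rev, inv2 aa, inv2 bb, kk aa, one_mul]
  rw [h3, hc, J.card] at h4
  have hd : c ∣ 1215 := by
    have h6 : c ∣ 2 ^ 7 * (19 * 1215) := ⟨r * (normalizer (X : Set G)).index, by nlinarith⟩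
    exact ((Nat.coprime_comm.1 ((Nat.Prime.coprime_iff_not_dvd (by norm_num)).2 c19)).dvd_mul_left).1
      ((Nat.Coprime.pow_right 7 (Nat.coprime_comm.1 ((Nat.Prime.coprime_iff_not_dvd Nat.prime_two).2 c2))).dvd_mul_left.1 h6)
  have : ∀ c ∈ Nat.divisors 1215, ∀ r ∈ Nat.divisors 16, r ≠ 16 → 2 ∣ r * (17 * c) → 2954880 / (r * c) % 17 = 1 →
      c = 1 ∧ r = 8 := by decide +kernel
  obtain ⟨rfl, rfl⟩ := this c (Nat.mem_divisors.2 ⟨hd, by norm_num⟩) r (Nat.mem_divisors.2 ⟨h2, by norm_num⟩) r16 r2 (by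
    have h7 : 2954880 = r * c * (normalizer (X : Set G)).index := by nlinarith
    rw [← h1, Nat.div_eq_of_eq_mul_right (Nat.pos_of_ne_zero fun e => by rw [e] at h7; omega) h7])
  exact ⟨(eq_of_le_of_card_ge le (by omega)).symm, by omega⟩

omit [Finite G] in
theorem equiv {G' : Type*} [Group G'] (e : G ≃* G') : J3L G' := by
  obtain ⟨x, hx, h⟩ := J.e19
  obtain ⟨a, b, aa, bb, ab⟩ := J.e17
  refine ⟨(Nat.card_congr e.toEquiv).symm.trans J.card, fun x hx => ?_, fun x => e.symm.orderOf_eq x ▸ J.o16 _,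
    ⟨e x, by rw [MulEquiv.orderOf_eq, hx], fun c hc => ?_⟩, e a, e b, by rw [← map_mul, aa, map_one],
    by rw [← map_mul, bb, map_one], by rw [← map_mul, MulEquiv.orderOf_eq, ab]⟩
  · rw [← J.c2 (e.symm x) (by rw [MulEquiv.orderOf_eq, hx])]
    exact Nat.card_congr (e.symm.toEquiv.subtypeEquiv fun y => by
      rw [memC, memC]; exact ⟨fun h => by simpa using congrArg e.symm h, fun h => by simpa using congrArg e h⟩)
  · obtain ⟨k, h⟩ := h (e.symm c) (by simpa using congrArg e.symm hc)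
    exact ⟨k, by simp only [← map_zpow, h]; simp⟩

theorem fin {p n : ℕ} [Fact p.Prime] (h2 : ¬ p ^ 2 ∣ Nat.card G) {X : Subgroup G} (hX : Nat.card X = p)
    (hC : centralizer (X : Set G) = X) (hN : Nat.card (normalizer (X : Set G)) = n * p) :
    centralizer (X : Set G) = X ∧ ∃ _ : (X.subgroupOf (normalizer (X : Set G))).Normal,
      IsCyclic (normalizer (X : Set G) ⧸ X.subgroupOf _) ∧ Nat.card (normalizer (X : Set G) ⧸ X.subgroupOf _) = n := by
  obtain ⟨-, -, cy, r, -, h3, h4⟩ := syl_nc h2 hX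
  have e := QuotientGroup.quotientMulEquivOfEq (congrArg (·.subgroupOf (normalizer (X : Set G))) hC)
  rw [hC, hX, hN] at h4
  exact ⟨hC, inferInstance, e.isCyclic.1 cy, by
    rw [← Nat.card_congr e.toEquiv, h3]; exact (Nat.eq_of_mul_eq_mul_right (Fact.out : p.Prime).pos h4).symm⟩

end J3L

theorem B2.j3l (B : B2 z Q s r h u t g) {L : Subgroup G} (HL : C[z] ≤ L)
    (cl : ∀ x ∈ L, x * x = 1 → x ≠ 1 → ∃ b ∈ L, b * x * b⁻¹ = z) (e : L ≃* H25.J3.G0) : J3L L := by
  have ci : ∀ x : L, orderOf x = 2 → ∃ b : L, b * x * b⁻¹ = ⟨z, HL (memC.2 rfl)⟩ := fun x hx => by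
    obtain ⟨b, hb, e⟩ := cl x x.2 (congrArg Subtype.val (H20.mul_self_of_orderOf_two hx))
      fun e => H20.ne_one_of_orderOf_two hx (Subtype.ext e)
    exact ⟨⟨b, hb⟩, Subtype.ext e⟩
  refine ⟨(Nat.card_congr e.toEquiv).trans H25.J3.hcard, fun x hx => ?_, fun x hx => ?_, ?_, ?_⟩
  · obtain ⟨b, e⟩ := ci x hx
    rw [← B.cH, ← Nat.card_congr (subgroupOfEquivOfLe HL).toEquiv, ← H20.card_cent_conj b, e]
    congr 2
    ext y
    exact memC.trans (Subtype.ext_iff.trans (memC (z := z) (x := y)).symm)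
  · obtain ⟨n, hn⟩ := hx
    have n0 : n ≠ 0 := by rintro rfl; exact (orderOf_pos x).ne' hn
    have o : ∀ k, k ∣ 16 → orderOf (x ^ (n * k)) = 16 / k := fun k hk => by
      rw [orderOf_pow_of_dvd (by rintro e; obtain rfl | rfl := mul_eq_zero.1 e; exacts [n0 rfl, by omega])
        (hn ▸ mul_comm n k ▸ Nat.mul_dvd_mul_right hk n), hn, mul_comm n k, Nat.mul_div_mul_right _ _ (by omega)]
    obtain ⟨b, e⟩ := ci _ (o 8 (by norm_num))
    obtain ⟨Y, M⟩ := B.mh
    have h1 := M.j5 (b * x ^ n * b⁻¹ : L) (memC.2 (by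
      have := cjc b ((Commute.refl x).pow_pow n (n * 8)).eq
      rw [e] at this
      exact congrArg Subtype.val this)) (by
      rw [← pow_mul, ← coe_pow, conj_pow, ← pow_mul, mul_comm n, ← hn, pow_orderOf_eq_one]; simp)
    rw [← pow_mul, ← coe_pow, conj_pow, ← pow_mul, e] at h1
    exact B.z1 h1
  · obtain ⟨x, hx, h⟩ := ex19
    refine ⟨e.symm x, by rw [MulEquiv.orderOf_eq, hx], fun c hc => ?_⟩
    obtain ⟨k, h⟩ := h (e c) (by simpa using congrArg e hc)
    exact ⟨k, by simp only [← map_zpow, h]; simp⟩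
  · obtain ⟨a, -, b, -, aa, bb, ab⟩ := ex17
    exact ⟨e.symm a, e.symm b, by rw [← map_mul, aa, map_one], by rw [← map_mul, bb, map_one],
      by rw [← map_mul, MulEquiv.orderOf_eq, ab]⟩

theorem B2.j3 (B : B2 z Q s r h u t g) (hc : IsConj t z) : Nonempty (G ≃* H25.J3.G0) ∧ J3L G := by
  obtain ⟨L, HL, cl, ⟨e⟩⟩ := B.exL hc
  have J := B.j3l HL cl e
  suffices L = ⊤ by
    subst this
    exact ⟨⟨topEquiv.symm.trans e⟩, J.equiv topEquiv⟩
  by_contra hn
  have mz : ∀ a b : G, a * z * a⁻¹ = b * z * b⁻¹ → b ∈ L → a ∈ L := fun a b e hb =>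
    (mul_mem_cancel_left (inv_mem hb)).1 (HL (memC.2 (by rw [← mul_inv_eq_iff_eq_mul, cjm, e]; group)))
  obtain ⟨j, jj, hj⟩ : ∃ j, j * j = 1 ∧ j ∉ L := by
    by_contra! h
    refine hn (eq_top_iff.2 fun a _ => ?_)
    obtain ⟨b, hb, e⟩ := cl _ (h _ (cjs a B.zz)) (cjs a B.zz) fun e => B.z1 (cj1 e)
    exact mz a b⁻¹ (cji e).symm (inv_mem hb)
  have no2 : ∀ c ∈ L, j * c * j⁻¹ ∈ L → c * c = 1 → c = 1 := fun c h1 h2 cc => by
    by_contra c1
    obtain ⟨b, hb, e1⟩ := cl c h1 cc c1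
    obtain ⟨d, hd, e2⟩ := cl _ h2 (cjs j cc) fun e => c1 (cj1 e)
    have := mz (j * b⁻¹) d⁻¹ (by rw [cjm, cji e1, cji e2]) (inv_mem hd)
    exact hj ((mul_mem_cancel_right (inv_mem hb)).1 this)
  set K := L ⊓ L.comap (MulAut.conj j).toMonoidHom
  have odd : ¬ 2 ∣ Nat.card K := fun h => by
    obtain ⟨c, hc⟩ := exists_prime_orderOf_dvd_card' 2 h
    exact H20.ne_one_of_orderOf_two hc (Subtype.ext (no2 c c.2.1 c.2.2
      (congrArg Subtype.val (H20.mul_self_of_orderOf_two hc))))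
  have tr : ∀ b ∈ L, ∃ k ∈ K, k * z * k⁻¹ = b * z * b⁻¹ := fun b hb => by
    have yy := cjs j (cjs b B.zz)
    obtain ⟨v, vv, e, -⟩ := H13.exists_invol_conj B.zz yy (by
      by_contra h
      obtain ⟨c, c1, cc, h1, h2⟩ := H13.exists_invol_commute B.zz yy h
      refine c1 (no2 c (HL (memC.2 h1.symm)) ?_ cc)
      have := cjc (j * b)⁻¹ h2
      rw [← cjm j b, cji rfl] at this
      have := mul_mem (mul_mem hb (HL (memC.2 this.symm))) (inv_mem hb)
      rwa [show b * ((j * b)⁻¹ * c * (j * b)⁻¹⁻¹) * b⁻¹ = j⁻¹ * c * j by group, inv2 jj,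
        show j * c * j = j * c * j⁻¹ by rw [inv2 jj]] at this)
    have e1 : j * v * z * (j * v)⁻¹ = b * z * b⁻¹ := by
      rw [cjm, inv2 vv, e, ← cjm, jj]; simp
    have h1 := mz _ _ e1 hb
    refine ⟨j * v, ⟨h1, ?_⟩, e1⟩
    have := inv_mem h1
    rw [mul_inv_rev, inv2 vv] at this
    show j * (j * v) * j⁻¹ ∈ L
    rwa [kk jj, one_mul]
  have ix : (C[z]).relIndex K = (C[z]).relIndex L := Nat.card_congr (Equiv.ofBijective
    (quotientSubgroupOfEmbeddingOfLE C[z] (inf_le_left : K ≤ L)) ⟨Function.Embedding.injective _, fun q => by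
      obtain ⟨b, rfl⟩ := QuotientGroup.mk_surjective q
      obtain ⟨k, hk, e⟩ := tr b b.2
      exact ⟨(⟨k, hk⟩ : K), QuotientGroup.eq.2 (memC.2 (by
        show k⁻¹ * b * z = z * (k⁻¹ * b)
        rw [← mul_inv_eq_iff_eq_mul, cjm, ← e]; group))⟩⟩)
  have h1 := (C[z]).subgroupOf L |>.card_mul_index
  have h2 := (C[z]).subgroupOf K |>.card_mul_index
  rw [Nat.card_congr (subgroupOfEquivOfLe HL).toEquiv, B.cH, J.card, ← relIndex, ← ix] at h1
  rw [← relIndex, show (C[z]).relIndex K = 26163 by omega] at h2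
  have h3 : Nat.card ((C[z]).subgroupOf K) ∣ 2 ^ 7 * 15 := by
    rw [← card_map_of_injective K.subtype_injective, show 2 ^ 7 * 15 = 1920 by rfl, ← B.cH]
    exact card_dvd_of_le (map_le_iff_le_comap.2 le_rfl)
  generalize Nat.card ((C[z]).subgroupOf K) = m at h2 h3
  have h4 : m ∣ 15 := (Nat.Coprime.pow_right 7 (Nat.coprime_comm.1 ((Nat.Prime.coprime_iff_not_dvd Nat.prime_two).2
    fun h => odd (h2 ▸ h.mul_right _)))).dvd_mul_left.1 h3
  have : Fact (Nat.Prime 17) := ⟨by norm_num⟩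
  have m15 := Nat.le_of_dvd (by norm_num) h4
  obtain ⟨y, hy⟩ := exists_prime_orderOf_dvd_card' (G := K) 17 (by omega)
  have h5 := (Nat.card_zpowers y).trans hy
  have h6 := (syl_nc (by interval_cases m <;> omega) h5).1
  have h7 := (normalizer (zpowers y : Set K)).card_mul_index
  have h8 := h5 ▸ card_dvd_of_le (le_normalizer (H := zpowers y))
  have inj := inclusion_injective (inf_le_left : K ≤ L)
  have h9 := card_dvd_of_le (le_normalizer_map (H := zpowers y) (inclusion (inf_le_left : K ≤ L)))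
  rw [card_map_of_injective inj, (J.s17 ((card_map_of_injective inj).trans h5)).2] at h9
  have h10 : ¬ 2 ∣ Nat.card (normalizer (zpowers y : Set K)) := fun h => odd (h7 ▸ h.mul_right _)
  obtain ⟨c, hc⟩ := h8
  rw [hc] at h7 h9 h10
  have := Nat.le_of_dvd (by norm_num) h9
  have : c ≤ 8 := by omega
  interval_cases c <;> interval_cases m <;> omega

theorem Hyp.j3 [IsSimpleGroup G] (H : Hyp z Q) (hone : ∀ x y : G, orderOf x = 2 → orderOf y = 2 → IsConj x y) :
    Nonempty (G ≃* H25.J3.G0) ∧ J3L G := by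
  obtain ⟨s, r, h, u, t, g, B⟩ := H.b2 H.hx
  obtain ⟨Y, M⟩ := B.mh
  exact B.j3 (hone _ _ (H20.orderOf_two_of M.h8.2.2.2.1 M.h6.2.2.2.2.2.2.2.2.1) (H20.orderOf_two_of B.zz B.z1))

end Cfsg.Agent.H28.HJ
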