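import Cfsg.Agent.H15.Words
set_option autoImplicit false
set_option maxRecDepth 100000

namespace Cfsg.Agent.H28.HJa
open Cfsg.Agent.H15 Cfsg.Agent.H14

def tb : Tb := (.node (nat_lit 28) (.node (nat_lit 12) (.node (nat_lit 4) (.leaf (nat_lit 0x840f00091080021401103c00200020c8600040f00070180500000003c00100300801)) (.node (nat_lit 8) (.leaf (nat_lit 0xc81f00010441003c02207c0038450044200481f000d0048610c03103c00000c02c0a)) (.leaf (nat_lit 0x484f00970108c26400213c023c190600400c83f000305c160540320bc00081404c12)))) (.node (nat_lit 20) (.node (nat_lit 16) (.leaf (nat_lit 0xc7f004a0842001c0331bc00181f0781d00cc5f00050701b06802213c024c4b01098)) (.leaf (nat_lit 0x4c8f004c0209428c00323c04742308808008c7f009b140072800131fc027c07244a1))) (.node (nat_lit 24) (.leaf (nat_lit 0x8c9f004b1580929001327c03500925ca5000c9f011a0942402402323c045853020a2)) (.leaf (nat_lit 0x50df00510349c2a400437c0354290a00d008caf00271600a12c0132bc00980a2644c)))))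 (.node (nat_lit 44) (.node (nat_lit 36) (.node (nat_lit 32) (.leaf (nat_lit 0x90ef00501780e2a80143bc03700e27cab0010ef00d20ac2a03802437c04785b034a8)) (.leaf (nat_lit 0x912f002f1881214c0144bc00b81228c540090ff002d1800f1400143fc00b00f28451))) (.node (nat_lit 40) (.leaf (nat_lit 0xd19f00194b0334c003463c0060324b52f00915f00311901515801457c00c01529457)) (.leaf (nat_lit 0x95df00371a81d17801577c00d81d2ac5f0095af00351a01a16c0156bc00d01a2a45c)))) (.node (nat_lit 52) (.node (nat_lit 48) (.leaf (nat_lit 0xd63f00236d8393980358bc0088386ddb100d61f0021399724d803583c00817339d35)) (.leaf (nat_lit 0x567f00f209d2c6e80259bc04cd2d099b900d65f00256d03b5b803593c00903a6d4e7))) (.node (nat_lit 56) (.leaf (nat_lit 0xdabf002b5b9f85d0036abc00a9f95bced00da9f00295c1fa3b0036a3c00a1fb5c5b7)) (.leaf (nat_lit 0x5b1f00fa0c5b47e0026c3c04edb50c173005aff00f80bdb65c8026bbc04e5b70ba3b))))))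
def wt : Wt := (.node (nat_lit 7) (.node (nat_lit 3) (.node (nat_lit 1) (.leaf [nat_lit 2, nat_lit 2, nat_lit 2]) (.node (nat_lit 2) (.leaf [nat_lit 1, nat_lit 2]) (.leaf [nat_lit 0, nat_lit 1, nat_lit 0, nat_lit 1]))) (.node (nat_lit 5) (.node (nat_lit 4) (.leaf [nat_lit 0, nat_lit 0]) (.leaf [nat_lit 0, nat_lit 2, nat_lit 0, nat_lit 2])) (.node (nat_lit 6) (.leaf [nat_lit 3, nat_lit 0, nat_lit 3, nat_lit 0, nat_lit 3, nat_lit 0]) (.leaf [nat_lit 3, nat_lit 3])))) (.node (nat_lit 10) (.node (nat_lit 8) (.leaf [nat_lit 3, nat_lit 1, nat_lit 3, nat_lit 1, nat_lit 3, nat_lit 1]) (.node (nat_lit 9) (.leaf [nat_lit 3, nat_lit 2, nat_lit 3, nat_lit 2, nat_lit 3, nat_lit 2]) (.leaf [nat_lit 1, nat_lit 3, nat_lit 1, nat_lit 3, nat_lit 1, nat_lit 3]))) (.node (nat_lit 12) (.node (nat_lit 11) (.leaf [nat_lit 2, nat_lit 1]) (.leaf [nat_lit 2, nat_lit 3, nat_lit 2, nat_lit 3, nat_lit 2, nat_lit 3])) (.node (nat_lit 13) (.leaf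 [nat_lit 0, nat_lit 3, nat_lit 0, nat_lit 3, nat_lit 0, nat_lit 3]) (.leaf [nat_lit 1, nat_lit 1, nat_lit 1])))))
noncomputable def P : TCP where
  lk := tlk tb (nat_lit 3) (nat_lit 7) (nat_lit 10) (nat_lit 1023)
  inv := invT (nat_lit 790656) (nat_lit 4)
  wt := wt.get
  gens := [nat_lit 0, nat_lit 1, nat_lit 2, nat_lit 3]
  N := nat_lit 60
  n := nat_lit 60
  eps := nat_lit 4
  VM := nat_lit 63
  Wv := nat_lit 6
  MAXB := nat_lit 960
  JM := nat_lit 63
  Wj := nat_lit 6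
  Hm := nat_lit 0
def ls : List Nat := [nat_lit 0, nat_lit 1, nat_lit 2, nat_lit 3, nat_lit 4]
noncomputable def ap : Nat → Nat → Nat := tlk tb (nat_lit 3) (nat_lit 7) (nat_lit 10) (nat_lit 63)
def bases : List (List Nat × Nat) := [([2], 3), ([2, 0], 2), ([2, 3], 3), ([0, 3], 3)]
theorem c0 : RowsGood P ls 0 60 :=
  rowsGood_of (Js := [nat_lit 0x41041, nat_lit 0x41040, nat_lit 0x4018a, nat_lit 0x4400a, nat_lit 0x1041, nat_lit 0x40188, nat_lit 0x4400c, nat_lit 0x1041, nat_lit 0x1041, nat_lit 0x1041, nat_lit 0x401040, nat_lit 0x40018a, nat_lit 0x40400a, nat_lit 0x1041, nat_lit 0x1041, nat_lit 0x381040, nat_lit 0x40018a, nat_lit 0x40400a, nat_lit 0x401040, nat_lit 0x48018a, nat_lit 0x40400a, nat_lit 0x401040, nat_lit 0x48018a, nat_lit 0x50400a, nat_lit 0x40188, nat_lit 0x4400c, nat_lit 0x381040, nat_lit 0x48018a, nat_lit 0x40400a, nat_lit 0x381040, nat_lit 0x48018a, nat_lit 0x50400a, nat_lit 0x40188, nat_lit 0x4400c,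 nat_lit 0x40188, nat_lit 0x4400c, nat_lit 0x40188, nat_lit 0x4400c, nat_lit 0x118a, nat_lit 0x1804a, nat_lit 0x40188, nat_lit 0x4400c, nat_lit 0x40188, nat_lit 0x4400c, nat_lit 0x1858a, nat_lit 0x1a18a, nat_lit 0x118a, nat_lit 0x1805c, nat_lit 0x119c, nat_lit 0x1805c, nat_lit 0x40400a, nat_lit 0x48078a, nat_lit 0x1858a, nat_lit 0x1a19c, nat_lit 0x1859c, nat_lit 0x1a19c, nat_lit 0x40400a, nat_lit 0x480788, nat_lit 0x40400c, nat_lit 0x480788]) (by decide +kernel)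
theorem f0 : RowsGood P ls 0 60 :=
  c0
theorem good : RowsGood P (List.range (P.eps + 1)) 0 P.N :=
  (f0 : RowsGood P ls 0 60)
theorem idx {G : Type*} [Group G] {E : ℕ → G} {inv : ℕ → ℕ} (hi : ∀ l, E (inv l) = (E l)⁻¹)
    {B : List (List ℕ × ℕ)} (hB : ∀ p ∈ B, lprod E p.1 ^ p.2 = 1) (σ : List (List ℕ))
    {hs ks : List (List ℕ)} (hc : certOk P wt bases inv B σ hs ks = true) :
    (gp E hs).relIndex (gp E ks) ≠ 0 ∧ (gp E hs).relIndex (gp E ks) ≤ 60 :=
  tc_gp hi hB rfl (fun _ h => invT_of_le h) good σ hc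

end Cfsg.Agent.H28.HJa
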