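import Cfsg.Agent.H15.Words
set_option autoImplicit false
set_option maxRecDepth 100000

namespace Cfsg.Agent.H28.HJc
open Cfsg.Agent.H15 Cfsg.Agent.H14

def tb : Tb := (.node (nat_lit 4) (.leaf (nat_lit 0xc43812001c993464c290e0011862488912084380508008914244000e00c1010000000)) (.node (nat_lit 8) (.leaf (nat_lit 0x88f828160d3b78e9c222e0294824c99b260c8781402252b58a942a1e00528848d1224)) (.leaf (nat_lit 0xadf80750e9ddb96ec336e0a434b752ad3a08d78167415cd9d2e4234e0ecb8470e2438))))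
def wt : Wt := (.node (nat_lit 9) (.node (nat_lit 4) (.node (nat_lit 2) (.node (nat_lit 1) (.leaf [nat_lit 0, nat_lit 4, nat_lit 0, nat_lit 4]) (.leaf [nat_lit 3, nat_lit 4, nat_lit 3, nat_lit 4])) (.node (nat_lit 3) (.leaf [nat_lit 2, nat_lit 4, nat_lit 1, nat_lit 4]) (.leaf [nat_lit 1, nat_lit 2]))) (.node (nat_lit 6) (.node (nat_lit 5) (.leaf [nat_lit 0, nat_lit 6, nat_lit 0, nat_lit 5]) (.leaf [nat_lit 3, nat_lit 6, nat_lit 3, nat_lit 5])) (.node (nat_lit 7) (.leaf [nat_lit 1, nat_lit 6, nat_lit 2, nat_lit 5]) (.node (nat_lit 8) (.leaf [nat_lit 2, nat_lit 1]) (.leaf [nat_lit 6, nat_lit 6, nat_lit 6]))))) (.node (nat_lit 14) (.node (nat_lit 11) (.node (nat_lit 10) (.leaf [nat_lit 5, nat_lit 6]) (.leaf [nat_lit 0, nat_lit 5, nat_lit 0, nat_lit 6])) (.node (nat_lit 12) (.leaf [nat_lit 3, nat_lit 5, nat_lit 3, nat_lit 6]) (.node (nat_lit 13) (.leaf [nat_lit 2, nat_lit 5, nat_lit 1, nat_lit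 6]) (.leaf [nat_lit 5, nat_lit 4, nat_lit 5, nat_lit 4, nat_lit 5, nat_lit 4])))) (.node (nat_lit 16) (.node (nat_lit 15) (.leaf [nat_lit 6, nat_lit 5]) (.leaf [nat_lit 6, nat_lit 4, nat_lit 6, nat_lit 4, nat_lit 6, nat_lit 4])) (.node (nat_lit 17) (.leaf [nat_lit 5, nat_lit 5, nat_lit 5]) (.node (nat_lit 18) (.leaf [nat_lit 4, nat_lit 5, nat_lit 4, nat_lit 5, nat_lit 4, nat_lit 5]) (.leaf [nat_lit 4, nat_lit 4]))))))
noncomputable def P : TCP where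
  lk := tlk tb (nat_lit 3) (nat_lit 10) (nat_lit 7) (nat_lit 127)
  inv := invT (nat_lit 350107734144) (nat_lit 7)
  wt := wt.get
  gens := [nat_lit 0, nat_lit 1, nat_lit 2, nat_lit 3, nat_lit 4, nat_lit 5, nat_lit 6]
  N := nat_lit 12
  n := nat_lit 12
  eps := nat_lit 7
  VM := nat_lit 15
  Wv := nat_lit 4
  MAXB := nat_lit 112
  JM := nat_lit 63
  Wj := nat_lit 6
  Hm := nat_lit 15
def ls : List Nat := [nat_lit 0, nat_lit 1, nat_lit 2, nat_lit 3, nat_lit 4, nat_lit 5, nat_lit 6, nat_lit 7]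
noncomputable def ap : Nat → Nat → Nat := tlk tb (nat_lit 3) (nat_lit 10) (nat_lit 7) (nat_lit 15)
def bases : List (List Nat × Nat) := [([2], 3), ([2, 0], 2), ([2, 3], 3), ([0, 3], 3), ([6], 3), ([6, 4], 3), ([0, 4], 2), ([3, 4], 2), ([1, 4, 2, 4], 1), ([6, 0, 5, 0], 1), ([6, 3, 5, 3], 1), ([6, 2, 5, 1], 1)]
theorem c0 : RowsGood P ls 0 12 :=
  rowsGood_of (Js := [nat_lit 0x1041082082, nat_lit 0x1040188284, nat_lit 0x58139240c, nat_lit 0x1400169c298, nat_lit 0x58139240c, nat_lit 0x1400169c298, nat_lit 0x1580188284, nat_lit 0x20040188284, nat_lit 0x20780188284, nat_lit 0x22580188284, nat_lit 0x1402869c298, nat_lit 0x92639240c]) (by decide +kernel)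
theorem f0 : RowsGood P ls 0 12 :=
  c0
theorem good : RowsGood P (List.range (P.eps + 1)) 0 P.N :=
  (f0 : RowsGood P ls 0 12)
theorem idx {G : Type*} [Group G] {E : ℕ → G} {inv : ℕ → ℕ} (hi : ∀ l, E (inv l) = (E l)⁻¹)
    {B : List (List ℕ × ℕ)} (hB : ∀ p ∈ B, lprod E p.1 ^ p.2 = 1) (σ : List (List ℕ))
    {hs ks : List (List ℕ)} (hc : certOk P wt bases inv B σ hs ks = true) :
    (gp E hs).relIndex (gp E ks) ≠ 0 ∧ (gp E hs).relIndex (gp E ks) ≤ 12 :=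
  tc_gp hi hB rfl (fun _ h => invT_of_le h) good σ hc

end Cfsg.Agent.H28.HJc
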