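import Cfsg.Agent.H15.Words
set_option autoImplicit false
set_option maxRecDepth 100000

namespace Cfsg.Agent.H28.HJh
open Cfsg.Agent.H15 Cfsg.Agent.H14

def tb : Tb := (.node (nat_lit 20) (.node (nat_lit 8) (.node (nat_lit 4) (.leaf (nat_lit 0x2207e000720630c8200100c004207c000a2082104100001000040f801044084110400c00000001f000000000000001001)) (.leaf (nat_lit 0xa30fe00030240440800f11c00061fc001c618a318801a00c02882f800080600b18a02844800105f000490418830c04002))) (.node (nat_lit 12) (.leaf (nat_lit 0x6317e010c00a230a609622800462fc032005c0b10900b23c028c4f800100a81429404c22801189f01c41882905180208d)) (.node (nat_lit 16) (.leaf (nat_lit 0x241fe03d303606a29807994014837c000c0640c30e6a011c00906f80d35069cd39a0182400418bf006584b00a42c4b915)) (.leaf (nat_lit 0x2427e03cf03e07a478098a001083fc02a21440389c13646401907f806480389213a2688c00220ff00a501d03801d87453))))) (.node (nat_lit 28) (.node (nat_lit 24) (.leaf (nat_lit 0x842be025b0ac028ca04c4b600c857c08bc0284b995096b6802109f805502a0093ac27c66003213f00ca80912a75c4f0cb))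 (.leaf (nat_lit 0x853fe02170b403e6f05252e00ca7fc043803c4dcdf0a2a580214ef807602c00e530a746900329df010c80e132b654e0d1))) (.node (nat_lit 32) (.leaf (nat_lit 0x854fe041d0bc04e4d05593a00ca9fc082c04c4fc9b0a927002150f8117c2e0100a29666f8032a1f00ed01013a1496c4de)) (.node (nat_lit 36) (.leaf (nat_lit 0x2539887c0f81f03e000ef80014a6b0d01ab8be07c0f803800010a89e69be07c0327f0005005210d20047c0f81f03e07c0)) (.leaf (nat_lit 0xa53dc980ff81f03e07c0f80008a7c133c3f03e000ff801400014f915f03e07c0f81f000780229cb3be07c0f80038687c0))))))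
def wt : Wt := (.node (nat_lit 16) (.node (nat_lit 8) (.node (nat_lit 4) (.node (nat_lit 2) (.node (nat_lit 1) (.leaf [nat_lit 3, nat_lit 0, nat_lit 4, nat_lit 0]) (.leaf [nat_lit 4, nat_lit 3])) (.node (nat_lit 3) (.leaf [nat_lit 5, nat_lit 0, nat_lit 5, nat_lit 0]) (.leaf [nat_lit 3, nat_lit 1, nat_lit 4, nat_lit 1]))) (.node (nat_lit 6) (.node (nat_lit 5) (.leaf [nat_lit 2, nat_lit 0, nat_lit 2, nat_lit 1]) (.leaf [nat_lit 2, nat_lit 2])) (.node (nat_lit 7) (.leaf [nat_lit 2, nat_lit 1, nat_lit 2, nat_lit 0]) (.leaf [nat_lit 2, nat_lit 5, nat_lit 2, nat_lit 5, nat_lit 2, nat_lit 5])))) (.node (nat_lit 12) (.node (nat_lit 10) (.node (nat_lit 9) (.leaf [nat_lit 0, nat_lit 5, nat_lit 0, nat_lit 5]) (.leaf [nat_lit 0, nat_lit 0])) (.node (nat_lit 11) (.leaf [nat_lit 4, nat_lit 4, nat_lit 4]) (.leaf [nat_lit 3, nat_lit 4]))) (.node (nat_lit 14) (.node (nat_lit 13) (.leaf [nat_lit 2, nat_lit 4, nat_lit 2, nat_lit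 4]) (.leaf [nat_lit 5, nat_lit 4, nat_lit 5, nat_lit 4, nat_lit 5, nat_lit 4])) (.node (nat_lit 15) (.leaf [nat_lit 5, nat_lit 5]) (.leaf [nat_lit 0, nat_lit 1, nat_lit 0, nat_lit 1, nat_lit 0, nat_lit 1, nat_lit 0, nat_lit 1]))))) (.node (nat_lit 24) (.node (nat_lit 20) (.node (nat_lit 18) (.node (nat_lit 17) (.leaf [nat_lit 5, nat_lit 2, nat_lit 5, nat_lit 2, nat_lit 5, nat_lit 2]) (.leaf [nat_lit 0, nat_lit 4, nat_lit 0, nat_lit 3])) (.node (nat_lit 19) (.leaf [nat_lit 0, nat_lit 3, nat_lit 0, nat_lit 4]) (.leaf [nat_lit 2, nat_lit 3, nat_lit 2, nat_lit 3]))) (.node (nat_lit 22) (.node (nat_lit 21) (.leaf [nat_lit 1, nat_lit 4, nat_lit 1, nat_lit 3]) (.leaf [nat_lit 1, nat_lit 1])) (.node (nat_lit 23) (.leaf [nat_lit 1, nat_lit 3, nat_lit 1, nat_lit 4]) (.leaf [nat_lit 1, nat_lit 2, nat_lit 0, nat_lit 2])))) (.node (nat_lit 28) (.node (nat_lit 26) (.node (nat_lit 25) (.leaf [nat_lit 0, nat_lit 2, nat_lit 1,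 nat_lit 2]) (.leaf [nat_lit 5, nat_lit 1, nat_lit 5, nat_lit 3, nat_lit 5, nat_lit 1, nat_lit 5, nat_lit 0, nat_lit 1, nat_lit 3, nat_lit 5, nat_lit 1, nat_lit 5, nat_lit 4, nat_lit 4])) (.node (nat_lit 27) (.leaf [nat_lit 1, nat_lit 0, nat_lit 5, nat_lit 1, nat_lit 5, nat_lit 4, nat_lit 5, nat_lit 1, nat_lit 5, nat_lit 3, nat_lit 3, nat_lit 5, nat_lit 1, nat_lit 5, nat_lit 4]) (.leaf [nat_lit 4, nat_lit 1, nat_lit 3, nat_lit 1]))) (.node (nat_lit 30) (.node (nat_lit 29) (.leaf [nat_lit 4, nat_lit 5, nat_lit 1, nat_lit 5, nat_lit 3, nat_lit 3, nat_lit 5, nat_lit 1, nat_lit 5, nat_lit 4, nat_lit 1, nat_lit 0, nat_lit 5, nat_lit 1, nat_lit 5]) (.leaf [nat_lit 5, nat_lit 3, nat_lit 5, nat_lit 3, nat_lit 5, nat_lit 3])) (.node (nat_lit 31) (.leaf [nat_lit 1, nat_lit 5, nat_lit 4, nat_lit 1, nat_lit 0, nat_lit 5, nat_lit 1, nat_lit 5, nat_lit 4, nat_lit 5, nat_lit 1, nat_lit 5, nat_lit 3, nat_lit 3, nat_lit 5]) (.leaf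 [nat_lit 0, nat_lit 1, nat_lit 3, nat_lit 5, nat_lit 1, nat_lit 5, nat_lit 4, nat_lit 4, nat_lit 5, nat_lit 1, nat_lit 5, nat_lit 3, nat_lit 5, nat_lit 1, nat_lit 5]))))))
noncomputable def P : TCP where
  lk := tlk tb (nat_lit 3) (nat_lit 9) (nat_lit 11) (nat_lit 2047)
  inv := invT (nat_lit 5420097600) (nat_lit 6)
  wt := wt.get
  gens := [nat_lit 0, nat_lit 1, nat_lit 2, nat_lit 3, nat_lit 4, nat_lit 5]
  N := nat_lit 40
  n := nat_lit 32
  eps := nat_lit 6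
  VM := nat_lit 63
  Wv := nat_lit 6
  MAXB := nat_lit 1984
  JM := nat_lit 127
  Wj := nat_lit 7
  Hm := nat_lit 60
def ls : List Nat := [nat_lit 0, nat_lit 1, nat_lit 2, nat_lit 3, nat_lit 4, nat_lit 5, nat_lit 6]
noncomputable def ap : Nat → Nat → Nat := tlk tb (nat_lit 3) (nat_lit 9) (nat_lit 11) (nat_lit 63)
def bases : List (List Nat × Nat) := [([4], 3), ([4, 2], 2), ([4, 5], 3), ([2, 5], 3), ([4, 1, 3, 1], 1), ([2, 1, 2, 0], 1), ([0, 1, 3, 5, 1, 5, 4, 4, 5, 1, 5, 3, 5, 1, 5], 1), ([4, 0, 3, 0], 1), ([0, 5], 2), ([0, 1], 4)]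
theorem c0 : RowsGood P ls 0 40 :=
  rowsGood_of (Js := [nat_lit 0x1020408081, nat_lit 0x4060838080, nat_lit 0x861430001, nat_lit 0x861438001, nat_lit 0x860840080, nat_lit 0x10248096, nat_lit 0x860838080, nat_lit 0x10204096, nat_lit 0x20c00280090861430016, nat_lit 0x10238094, nat_lit 0x400408c0043800500117, nat_lit 0x10003439716, nat_lit 0xf180071716, nat_lit 0x22c00280090861440022, nat_lit 0x1024980050010f23c0028009794, nat_lit 0x27c0028009081024d80050010f004b800500117, nat_lit 0x1201020093000a0025e4d800500117, nat_lit 0x10003439716, nat_lit 0xf180039716, nat_lit 0x6780028009081024380050010f00cd000500117, nat_lit 0x10003439726, nat_lit 0xf180039728, nat_lit 0x100034a9616, nat_lit 0x10180071842, nat_lit 0x10003439826, nat_lit 0xf180031728, nat_lit 0x10003439628, nat_lit 0x1f180039816, nat_lit 0x1b0034a9716, nat_lit 0x10180071c16, nat_lit 0x1f0034a9626, nat_lit 0xf180071828, nat_lit 0x22cd8004800cb80, nat_lit 0x2199a00120031f0c0001800626180003000c880,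 nat_lit 0x8a8a3622a2800a8019f808a00000000088039ec50000600195, nat_lit 0x8e648004800d780, nat_lit 0x4900001c008ec04900006001b3, nat_lit 0x96618004800cb80, nat_lit 0x9a026800180064a8004d00006001b5, nat_lit 0x2780000000009003e080]) (by decide +kernel)
theorem f0 : RowsGood P ls 0 40 :=
  c0
theorem good : RowsGood P (List.range (P.eps + 1)) 0 P.N :=
  (f0 : RowsGood P ls 0 40)
theorem idx {G : Type*} [Group G] {E : ℕ → G} {inv : ℕ → ℕ} (hi : ∀ l, E (inv l) = (E l)⁻¹)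
    {B : List (List ℕ × ℕ)} (hB : ∀ p ∈ B, lprod E p.1 ^ p.2 = 1) (σ : List (List ℕ))
    {hs ks : List (List ℕ)} (hc : certOk P wt bases inv B σ hs ks = true) :
    (gp E hs).relIndex (gp E ks) ≠ 0 ∧ (gp E hs).relIndex (gp E ks) ≤ 32 :=
  tc_gp hi hB rfl (fun _ h => invT_of_le h) good σ hc

end Cfsg.Agent.H28.HJh
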