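import Cfsg.Agent.H15.Words
set_option autoImplicit false
set_option maxRecDepth 100000

namespace Cfsg.Agent.H28.HJq
open Cfsg.Agent.H15 Cfsg.Agent.H14

def tb : Tb := (.node (nat_lit 16) (.node (nat_lit 8) (.node (nat_lit 4) (.leaf (nat_lit 0x4103e001502804c00012022004207c002003c0700d00003000040f8002c0500901001c00000001f000300500800c01001)) (.leaf (nat_lit 0x2207e008c230451ef001220014207c000027c4d09512022c02040f8007c0001e03a0700d803081f000d0190000600b816))) (.node (nat_lit 12) (.leaf (nat_lit 0xa207e00011362584888c08c01040fc013600446a5722647c01881f80258c900131eb748d002103f004890e2380056c915)) (.leaf (nat_lit 0x820be025c004344a4adf3b000c417c04ae520012db5b475001082f80248eb04a0044548f000105f00238933bad6425802)))) (.node (nat_lit 24) (.node (nat_lit 20) (.leaf (nat_lit 0x620fe02d809800dad0ca2b800441fc009a7244d85000696400083f801212b90f096b7801805105f000109c12e248230c7)) (.leaf (nat_lit 0x2213e020e5221410500453a000427c00928342591c32801002883f8000c4e89808c33464004107f01ae80318ef7cab18e)))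 (.node (nat_lit 28) (.leaf (nat_lit 0x217e004a0963498705800a014427c00082782331351c32402084f80a780231f618a2109002109f01499470aa0104d98f)) (.leaf (nat_lit 0xa217e000508cb65ca28f19400c42fc04b216802b8752233401085f80c502a98c00aa252b80110bf010785029035802913)))))
def wt : Wt := (.node (nat_lit 26) (.node (nat_lit 13) (.node (nat_lit 6) (.node (nat_lit 3) (.node (nat_lit 1) (.leaf [nat_lit 0, nat_lit 5, nat_lit 0, nat_lit 5]) (.node (nat_lit 2) (.leaf [nat_lit 0, nat_lit 0]) (.leaf [nat_lit 1, nat_lit 5, nat_lit 0, nat_lit 1, nat_lit 0]))) (.node (nat_lit 4) (.leaf [nat_lit 1, nat_lit 1]) (.node (nat_lit 5) (.leaf [nat_lit 5, nat_lit 1, nat_lit 0, nat_lit 1, nat_lit 0]) (.leaf [nat_lit 5, nat_lit 5])))) (.node (nat_lit 9) (.node (nat_lit 7) (.leaf [nat_lit 3, nat_lit 4, nat_lit 0, nat_lit 1, nat_lit 2]) (.node (nat_lit 8) (.leaf [nat_lit 3, nat_lit 3]) (.leaf [nat_lit 1, nat_lit 5, nat_lit 1, nat_lit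 5]))) (.node (nat_lit 11) (.node (nat_lit 10) (.leaf [nat_lit 2, nat_lit 5, nat_lit 0, nat_lit 2, nat_lit 0]) (.leaf [nat_lit 2, nat_lit 2])) (.node (nat_lit 12) (.leaf [nat_lit 5, nat_lit 2, nat_lit 0, nat_lit 2, nat_lit 0]) (.leaf [nat_lit 3, nat_lit 2, nat_lit 1, nat_lit 0, nat_lit 4]))))) (.node (nat_lit 19) (.node (nat_lit 16) (.node (nat_lit 14) (.leaf [nat_lit 2, nat_lit 3, nat_lit 5, nat_lit 2, nat_lit 3]) (.node (nat_lit 15) (.leaf [nat_lit 4, nat_lit 3, nat_lit 4, nat_lit 3, nat_lit 5]) (.leaf [nat_lit 4, nat_lit 4]))) (.node (nat_lit 17) (.leaf [nat_lit 2, nat_lit 5, nat_lit 1, nat_lit 2, nat_lit 1]) (.node (nat_lit 18) (.leaf [nat_lit 5, nat_lit 2, nat_lit 1, nat_lit 2, nat_lit 1]) (.leaf [nat_lit 4, nat_lit 5, nat_lit 2, nat_lit 4, nat_lit 2])))) (.node (nat_lit 22) (.node (nat_lit 20) (.leaf [nat_lit 1, nat_lit 3, nat_lit 5, nat_lit 1, nat_lit 3]) (.node (nat_lit 21) (.leaf [nat_lit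 4, nat_lit 0, nat_lit 1, nat_lit 2, nat_lit 3]) (.leaf [nat_lit 0, nat_lit 4, nat_lit 5, nat_lit 0, nat_lit 4]))) (.node (nat_lit 24) (.node (nat_lit 23) (.leaf [nat_lit 3, nat_lit 5, nat_lit 4, nat_lit 3, nat_lit 4]) (.leaf [nat_lit 2, nat_lit 5, nat_lit 2, nat_lit 5])) (.node (nat_lit 25) (.leaf [nat_lit 3, nat_lit 5, nat_lit 0, nat_lit 3, nat_lit 0]) (.leaf [nat_lit 5, nat_lit 3, nat_lit 0, nat_lit 3, nat_lit 0])))))) (.node (nat_lit 39) (.node (nat_lit 32) (.node (nat_lit 29) (.node (nat_lit 27) (.leaf [nat_lit 4, nat_lit 5, nat_lit 4, nat_lit 5]) (.node (nat_lit 28) (.leaf [nat_lit 1, nat_lit 5, nat_lit 3, nat_lit 1, nat_lit 3]) (.leaf [nat_lit 5, nat_lit 0, nat_lit 1, nat_lit 0, nat_lit 1]))) (.node (nat_lit 30) (.leaf [nat_lit 3, nat_lit 5, nat_lit 1, nat_lit 3, nat_lit 1]) (.node (nat_lit 31) (.leaf [nat_lit 2, nat_lit 3, nat_lit 4, nat_lit 0, nat_lit 1]) (.leaf [nat_lit 4, nat_lit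 2, nat_lit 4, nat_lit 5, nat_lit 2])))) (.node (nat_lit 35) (.node (nat_lit 33) (.leaf [nat_lit 0, nat_lit 2, nat_lit 5, nat_lit 0, nat_lit 2]) (.node (nat_lit 34) (.leaf [nat_lit 5, nat_lit 1, nat_lit 2, nat_lit 1, nat_lit 2]) (.leaf [nat_lit 3, nat_lit 5, nat_lit 2, nat_lit 3, nat_lit 2]))) (.node (nat_lit 37) (.node (nat_lit 36) (.leaf [nat_lit 4, nat_lit 3, nat_lit 5, nat_lit 4, nat_lit 3]) (.leaf [nat_lit 1, nat_lit 4, nat_lit 5, nat_lit 1, nat_lit 4])) (.node (nat_lit 38) (.leaf [nat_lit 2, nat_lit 4, nat_lit 5, nat_lit 2, nat_lit 4]) (.leaf [nat_lit 3, nat_lit 5, nat_lit 3, nat_lit 5]))))) (.node (nat_lit 45) (.node (nat_lit 42) (.node (nat_lit 40) (.leaf [nat_lit 4, nat_lit 5, nat_lit 0, nat_lit 4, nat_lit 0]) (.node (nat_lit 41) (.leaf [nat_lit 5, nat_lit 4, nat_lit 0, nat_lit 4, nat_lit 0]) (.leaf [nat_lit 1, nat_lit 2, nat_lit 3, nat_lit 4, nat_lit 0]))) (.node (nat_lit 43) (.leaf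 [nat_lit 2, nat_lit 1, nat_lit 2, nat_lit 5, nat_lit 1]) (.node (nat_lit 44) (.leaf [nat_lit 3, nat_lit 1, nat_lit 3, nat_lit 5, nat_lit 1]) (.leaf [nat_lit 0, nat_lit 1, nat_lit 5, nat_lit 0, nat_lit 1])))) (.node (nat_lit 48) (.node (nat_lit 46) (.leaf [nat_lit 4, nat_lit 5, nat_lit 1, nat_lit 4, nat_lit 1]) (.node (nat_lit 47) (.leaf [nat_lit 3, nat_lit 2, nat_lit 3, nat_lit 5, nat_lit 2]) (.leaf [nat_lit 5, nat_lit 0, nat_lit 2, nat_lit 0, nat_lit 2]))) (.node (nat_lit 50) (.node (nat_lit 49) (.leaf [nat_lit 1, nat_lit 2, nat_lit 5, nat_lit 1, nat_lit 2]) (.leaf [nat_lit 0, nat_lit 3, nat_lit 5, nat_lit 0, nat_lit 3])) (.node (nat_lit 51) (.leaf [nat_lit 5, nat_lit 0, nat_lit 3, nat_lit 0, nat_lit 3]) (.leaf [nat_lit 4, nat_lit 5, nat_lit 3, nat_lit 4, nat_lit 3])))))))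
noncomputable def P : TCP where
  lk := tlk tb (nat_lit 3) (nat_lit 9) (nat_lit 11) (nat_lit 2047)
  inv := invT (nat_lit 5436612672) (nat_lit 6)
  wt := wt.get
  gens := [nat_lit 0, nat_lit 1, nat_lit 2, nat_lit 3, nat_lit 4, nat_lit 5]
  N := nat_lit 32
  n := nat_lit 32
  eps := nat_lit 6
  VM := nat_lit 63
  Wv := nat_lit 6
  MAXB := nat_lit 1984
  JM := nat_lit 127
  Wj := nat_lit 7
  Hm := nat_lit 0
def ls : List Nat := [nat_lit 0, nat_lit 1, nat_lit 2, nat_lit 3, nat_lit 4, nat_lit 5, nat_lit 6]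
noncomputable def ap : Nat → Nat → Nat := tlk tb (nat_lit 3) (nat_lit 9) (nat_lit 11) (nat_lit 63)
def bases : List (List Nat × Nat) := [([0, 1, 0, 1, 5], 1), ([0, 2, 0, 2, 5], 1), ([0, 3, 0, 3, 5], 1), ([0, 4, 0, 4, 5], 1), ([1, 2, 1, 2, 5], 1), ([1, 3, 1, 3, 5], 1), ([1, 4, 1, 4, 5], 1), ([2, 3, 2, 3, 5], 1), ([2, 4, 2, 4, 5], 1), ([3, 4, 3, 4, 5], 1), ([0, 1, 2, 3, 4], 1), ([0, 5], 2), ([1, 5], 2), ([2, 5], 2), ([3, 5], 2), ([4, 5], 2)]
theorem c0 : RowsGood P ls 0 32 :=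
  rowsGood_of (Js := [nat_lit 0x810204081, nat_lit 0x810204080, nat_lit 0x810204001, nat_lit 0x810200081, nat_lit 0x810004081, nat_lit 0x800204081, nat_lit 0x222460506, nat_lit 0x74a2460006, nat_lit 0x720c000506, nat_lit 0x7280060506, nat_lit 0x7002460506, nat_lit 0x222460504, nat_lit 0x6222460400, nat_lit 0x7382000506, nat_lit 0x7220160506, nat_lit 0x7003878506, nat_lit 0x222460a04, nat_lit 0xd422458500, nat_lit 0x1322b490006, nat_lit 0x72c0061506, nat_lit 0x7006061d2e, nat_lit 0x2224c8a04, nat_lit 0x1b226860500, nat_lit 0x1e227d00006, nat_lit 0x23229000544, nat_lit 0x700253a62e, nat_lit 0x22a0c8a04, nat_lit 0x2a522462b00, nat_lit 0x1e5e250005c, nat_lit 0x31282003244, nat_lit 0x346a0079566, nat_lit 0x38a0c8a04]) (by decide +kernel)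
theorem f0 : RowsGood P ls 0 32 :=
  c0
theorem good : RowsGood P (List.range (P.eps + 1)) 0 P.N :=
  (f0 : RowsGood P ls 0 32)
theorem idx {G : Type*} [Group G] {E : ℕ → G} {inv : ℕ → ℕ} (hi : ∀ l, E (inv l) = (E l)⁻¹)
    {B : List (List ℕ × ℕ)} (hB : ∀ p ∈ B, lprod E p.1 ^ p.2 = 1) (σ : List (List ℕ))
    {hs ks : List (List ℕ)} (hc : certOk P wt bases inv B σ hs ks = true) :
    (gp E hs).relIndex (gp E ks) ≠ 0 ∧ (gp E hs).relIndex (gp E ks) ≤ 32 :=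
  tc_gp hi hB rfl (fun _ h => invT_of_le h) good σ hc

end Cfsg.Agent.H28.HJq
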