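import Mathlib
import Cfsg.Agent.H28.Util3
import Cfsg.Agent.H1.Field
import Cfsg.Agent.H27.Misc

/-! Irreducible actions of abelian groups: coordinates in a field; minimal non-`p`-closed groups. -/

set_option autoImplicit false
set_option linter.style.haveILetI false
set_option linter.unusedSectionVars false

namespace Cfsg.Agent.H28

open Cfsg Subgroup Cfsg.Agent.FT
open scoped Pointwise commutatorElement

variable {G : Type*} [Group G] [Finite G] {p q : ℕ} {A X P : Subgroup G} {x : G}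

/-- an abelian group acting irreducibly on an abelian group: coordinates in a field -/
theorem exists_field_coord (hA : Ab A) (hX : Ab X) (h : MinNml A X) :
    ∃ (K : Type) (_ : Field K) (_ : Fintype K) (e : K → G) (χ : G → K), Function.Injective e ∧ (∀ a, e a ∈ A) ∧
      (∀ a ∈ A, ∃ b, e b = a) ∧ (∀ a b, e (a + b) = e a * e b) ∧ ∀ x ∈ X, ∀ a, x * e a * x⁻¹ = e (χ x * a) := by
  classical
  letI : CommGroup A := { (inferInstance : Group A) with mul_comm := fun a b => Subtype.ext (hA.comm a.2 b.2) }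
  let ρ : X →* AddMonoid.End (Additive A) :=
    { toFun := fun g => MonoidHom.toAdditive (A.normalizerMonoidHom (inclusion h.nrm g)).toMonoidHom
      map_one' := by rw [map_one, map_one]; rfl
      map_mul' := fun x y => by rw [map_mul, map_mul]; rfl }
  have hρ : ∀ (g : X) (v : Additive A), ((ρ g v).toMul : G) = g * v.toMul * (g : G)⁻¹ := fun _ _ => rfl
  obtain ⟨s, hs, hs1⟩ := exists_ne_one h.ne
  obtain ⟨K, _, _, f, -, -, h2, -⟩ := H1.exists_field_of_irreducible ρ ⊤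
    (fun u _ v _ => by rw [← map_mul, ← map_mul, show u * v = v * u from Subtype.ext (hX.comm u.2 v.2)])
    (fun W hW => by
      refine (h.eq_bot_or_eq (map_subtype_le (AddSubgroup.toSubgroup' W)) (le_nrm_iff.2 ?_)).imp (fun e => ?_) fun e => ?_
      · rintro g hg _ ⟨w, hw, rfl⟩
        exact ⟨_, hW ⟨g, hg⟩ trivial (Additive.ofMul w) hw, rfl⟩
      · rw [map_eq_bot_iff_of_injective _ A.subtype_injective] at e
        exact AddSubgroup.toSubgroup'.injective (e.trans (OrderIso.map_bot _).symm)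
      · refine eq_top_iff.2 fun w _ => ?_
        obtain ⟨w', hw', e⟩ := e.ge w.toMul.2
        obtain rfl : Additive.ofMul w' = w := congrArg Additive.ofMul (show w' = w.toMul from Subtype.ext e)
        exact hw')
    (Additive.ofMul ⟨s, hs⟩) fun e => hs1 (congrArg Subtype.val (congrArg Additive.toMul e))
  refine ⟨K, inferInstance, inferInstance, fun a => (f.symm a).toMul,
    fun x => if hx : x ∈ X then f (ρ ⟨x, hx⟩ (Additive.ofMul ⟨s, hs⟩)) else 0,
    fun a b e => f.symm.injective (Additive.toMul.injective (Subtype.ext e)), fun a => Subtype.prop _,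
    fun a ha => ⟨f (Additive.ofMul ⟨a, ha⟩), by simp⟩, fun a b => by simp, fun x hx a => ?_⟩
  simp only [dif_pos hx]
  rw [← f.apply_symm_apply a, ← h2 _ trivial, f.symm_apply_apply, f.symm_apply_apply, hρ]

/-- the order of an irreducible module for a group of prime order -/
theorem card_of_irred (hp : p.Prime) (hq : q.Prime) (hA : Abelem q A) (hX : #X = p) (h : MinNml A X) (hc : ¬ X ≤ C(A)) :
    #A = q ^ orderOf (q : ZMod p) := by
  obtain ⟨K, _, _, e, χ, h1, h2, h3, h4, h5⟩ := exists_field_coord hA.ab (cyc_of_prime (hX ▸ hp)).ab h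
  obtain ⟨x, hx, rfl, hxp⟩ := (cyc_of_prime (hX ▸ hp)).exists_gen
  have e0 : e 0 = 1 := by simpa using h4 0 0
  have hK : Fintype.card K = #A := by
    rw [← Nat.card_eq_fintype_card]
    exact Nat.card_eq_of_bijective (fun a => (⟨e a, h2 a⟩ : A)) ⟨fun a b h => h1 (congrArg Subtype.val h),
      fun a => (h3 a a.2).imp fun b hb => Subtype.ext hb⟩
  have hi : ∀ (i : ℕ) a, x ^ i * e a * (x ^ i)⁻¹ = e (χ x ^ i * a) := fun i a => by
    induction i with
    | zero => simp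
    | succ i ih => rw [pow_succ' x, pow_succ', mul_assoc (χ x), ← h5 x hx, ← ih]; group
  have hs : ∀ n : ℕ, e n = e 1 ^ n := fun n => by
    induction n with
    | zero => simpa using e0
    | succ n ih => rw [Nat.cast_succ, h4, ih, pow_succ]
  haveI := Fact.mk hq
  haveI := Fact.mk hp
  haveI : CharP K q := (CharP.charP_iff_prime_eq_zero hq).2 (h1 (by rw [hs, hA.pow (h2 1), e0]))
  have hc1 : χ x ≠ 1 := fun e' => hc (zpowers_le.2 (mem_cen.2 fun a ha => by
    obtain ⟨b, rfl⟩ := h3 a ha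
    rw [mul_inv_eq_iff_eq_mul.1 (h5 x hx b), e', one_mul]))
  have hcp : χ x ^ p = 1 := h1 (by rw [← mul_one (χ x ^ p), ← hi, ← hX, ← hxp, pow_orderOf_eq_one]; simp)
  have ho : orderOf (χ x) = p := orderOf_eq_prime hcp hc1
  obtain ⟨n, hn⟩ := hA.card hq
  have hn0 : n ≠ 0 := by rintro rfl; exact h.ne (card_eq_one.1 hn)
  have hd : ∀ m, χ x ^ q ^ m = χ x ↔ orderOf (q : ZMod p) ∣ m := fun m => by
    have h0 : χ x ≠ 0 := fun e' => by simp [e', hp.ne_zero] at hcp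
    have h6 := Nat.one_le_pow m q hq.pos
    rw [orderOf_dvd_iff_pow_eq_one, ← Nat.cast_pow, ← Nat.cast_one (R := ZMod p), eq_comm (a := ((q ^ m : ℕ) : ZMod p)),
      ZMod.natCast_eq_natCast_iff, Nat.modEq_iff_dvd' h6, ← ho, orderOf_dvd_iff_pow_eq_one, ← mul_eq_right₀ h0, ← pow_succ,
      Nat.sub_add_cancel h6]
  have h6 := (hd n).1 (by rw [← hn, ← hK, FiniteField.pow_card])
  have h7 := (hd _).2 dvd_rfl
  set m := orderOf (q : ZMod p)
  let W : Subgroup G :=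
    { carrier := {g | ∃ a, a ^ q ^ m = a ∧ e a = g}
      one_mem' := ⟨0, zero_pow (pow_ne_zero _ hq.ne_zero), e0⟩
      mul_mem' := by
        rintro _ _ ⟨a, ha, rfl⟩ ⟨b, hb, rfl⟩
        exact ⟨a + b, by rw [add_pow_char_pow, ha, hb], h4 a b⟩
      inv_mem' := by
        rintro _ ⟨a, ha, rfl⟩
        exact ⟨-a, by rw [neg_pow, neg_one_pow_char_pow, ha, neg_one_mul], eq_inv_of_mul_eq_one_left (by rw [← h4, neg_add_cancel, e0])⟩ }
  have hW := (h.eq_bot_or_eq (K := W) (by rintro _ ⟨a, -, rfl⟩; exact h2 a) (zpowers_le.2 (mem_nrm.2 (by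
    rintro _ ⟨a, ha, rfl⟩
    exact ⟨χ x * a, by rw [mul_pow, h7, ha], (h5 x hx a).symm⟩)))).resolve_left fun e' =>
      one_ne_zero (h1 ((mem_bot.1 (e'.le ⟨1, one_pow _, rfl⟩)).trans e0.symm))
  have h8 : Fintype.card K - 1 ∣ q ^ m - 1 := (FiniteField.forall_pow_eq_one_iff K _).1 fun a => by
    obtain ⟨b, hb, e'⟩ := hW.ge (h2 a)
    rw [h1 e', ← Nat.sub_add_cancel (Nat.one_le_pow m q hq.pos), pow_succ] at hb
    exact Units.ext (by simpa using hb)
  have hm : m ≠ 0 := by rintro e'; rw [e'] at h6; exact hn0 (zero_dvd_iff.1 h6)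
  have h9 := Nat.le_of_dvd (Nat.sub_pos_of_lt (Nat.one_lt_pow hm hq.one_lt)) h8
  have := Nat.one_le_pow m q hq.pos
  rw [hK] at h9
  refine le_antisymm (by omega) (hn ▸ Nat.pow_le_pow_right hq.pos (Nat.le_of_dvd (Nat.pos_of_ne_zero hn0) h6))

theorem min_nonclosed (hp : p.Prime) (hns : ¬ IsSimpleGroup G) (hP : Syl p P ⊤) (hP1 : P ≠ ⊥)
    (h1 : ∀ B : Subgroup G, B ⊴ ⊤ → B ≠ ⊤ → PiGrp {p}ᶜ B) (h2 : ∀ B : Subgroup G, B ⊴ ⊤ → B ≠ ⊥ → B ⊔ P = ⊤)
    (h3 : ∀ K X : Subgroup G, K ≠ ⊤ → #X = p → Syl p X K → K ≤ N(X)) :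
    ∃ q : ℕ, q.Prime ∧ q ≠ p ∧ Nat.card G = p * q ^ orderOf (q : ZMod p) ∧
      ∃ A : Subgroup G, A.Normal ∧ Nat.card ↥A = q ^ orderOf (q : ZMod p) ∧ Cfsg.IsElementaryAbelian q A ∧
        ∀ B : Subgroup G, B.Normal → B ≤ A → B = ⊥ ∨ B = A := by
  haveI : Nontrivial G := by
    obtain ⟨x, -, hx⟩ := exists_ne_one hP1
    exact ⟨x, 1, hx⟩
  obtain ⟨N, hN, hN1, hN2⟩ : ∃ N : Subgroup G, N.Normal ∧ N ≠ ⊥ ∧ N ≠ ⊤ := by
    by_contra! hc
    exact hns ⟨fun N hN => or_iff_not_imp_left.2 (hc N hN)⟩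
  have hN' := h1 N (nml_top N) hN2
  obtain ⟨X, hXP, hX⟩ := exists_card_prime_le hp (hP.pi.dvd hP1)
  have hXp := pGrp_of_card_prime hp hX
  have hc : ¬ X ≤ C(N) := fun e => by
    have h4 : C(N) = ⊤ := by_contra fun hne => (h1 _ ⟨le_top, norms_cent (le_nrm_of_normal N _)⟩ hne).not_dvd hp rfl (hX ▸ card_dvd e)
    have h5 : P ⊴ ⊤ := ⟨le_top, h2 N (nml_top N) hN1 ▸ sup_le (cents_norm (centsC (h4 ▸ le_top))) (le_nrm P)⟩
    by_cases h6 : P = ⊤
    · exact hN1 ((hP.pi.mono (h6 ▸ le_top)).eq_bot hN')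
    · exact hP1 (hP.pi.eq_bot (h1 P h5 h6))
  have key : ∀ Q ≤ N, X ≤ N(Q) → Q ⊔ X ≠ ⊤ → Q ≤ C(X) := fun Q hQ hn hne => by
    have := le_sup_left.trans (h3 _ X hne hX (Hall.sup_right (hN'.mono hQ) hXp hn))
    rw [← inf_eq_left, coprime_norm_cent hn ((hN'.mono hQ).cop' hXp), inf_eq_left] at this
    exact this
  obtain ⟨q, Q, hq, hQ, hn, e⟩ : ∃ q Q, q.Prime ∧ Syl q Q N ∧ X ≤ N(Q) ∧ Q ⊔ X = ⊤ := by
    by_contra! hc'
    refine hc (centsC (le_of_forall_syl fun q hq _ => ?_))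
    obtain ⟨Q, hQ, hn⟩ := coprime_Sylow_exists q (le_nrm_of_normal N X) (hN'.cop' hXp) (Or.inr hXp.sol)
    exact ⟨Q, hQ, key Q hQ.le hn (hc' q Q hq hQ hn)⟩
  have hsd := sd_sup hn ((hN'.mono hQ.le).inf_eq_bot' hXp)
  rw [e] at hsd
  obtain rfl : Q = N := ((hsd.hall_left (hN'.mono hQ.le) (piGrp_compl_compl.2 hXp)).max hN' hQ.le le_top).symm
  have hm : ∀ B : Subgroup G, B.Normal → B ≤ Q → B = ⊥ ∨ B = Q := fun B hB hle => or_iff_not_imp_left.2 fun hB1 =>
    (((h2 B (nml_top B) hB1 ▸ Hall.sup_left (hN'.mono hle) (piGrp_compl_compl.2 hP.pi) (le_nrm_of_normal B P) :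
      Hall {p}ᶜ B ⊤)).max hN' hle le_top).symm
  have hm' : MinNml Q ⊤ := ⟨hN1, le_nrm_of_normal _ _, fun B hB hB1 hn => (hm B (normal_of_top_le hn) hB).resolve_left hB1⟩
  obtain ⟨r, hr, hab⟩ := hm'.abelem hQ.pi.sol
  have := card_of_irred hp hr hab hX ⟨hN1, hn, fun B hB hB1 hn' => (hm B (normal_of_top_le (e ▸ sup_le (hab.ab.nml hB).nrm hn')) hB).resolve_left hB1⟩ hc
  exact ⟨r, hr, hN' r hr ((hab.pGrp hr).dvd hN1), by rw [← card_top, hsd.card, this, hX, mul_comm], Q, hN, this, hab, hm⟩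

end Cfsg.Agent.H28
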