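import Mathlib
import Cfsg.Agent.H28.Util3
import Cfsg.Agent.H27.Count
import Cfsg.Agent.H3.Two

/-! The number of subgroups of given order of a `p`-group modulo `p ^ 2` (Kulakoff, P. Hall). -/

set_option autoImplicit false
set_option linter.style.haveILetI false
set_option linter.unusedSectionVars false

namespace Cfsg.Agent.H28
open Subgroup Cfsg.Agent.FT
open scoped Pointwise commutatorElement

universe u
variable {G : Type u} [Group G] [Finite G] {p : ℕ}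

theorem ncard_split {α : Type*} [Finite α] (S : Set α) (R : α → Prop) :
    S.ncard = {a | a ∈ S ∧ R a}.ncard + {a | a ∈ S ∧ ¬ R a}.ncard :=
  (Set.ncard_inter_add_ncard_sdiff_eq_ncard S {a | R a}).symm

theorem ncard_elt (P : Subgroup G) (n : ℕ) (R : Subgroup G → Prop) :
    {x | x ∈ P ∧ orderOf x = n ∧ R ⟪x⟫}.ncard =
      n.totient * {H | H ≤ P ∧ #H = n ∧ Cyc H ∧ R H}.ncard := by
  rw [H27.ncard_eq_totient_mul (n := n) (S := {x | x ∈ P ∧ orderOf x = n ∧ R ⟪x⟫})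
    (fun x hx => hx.2.1) fun x hx y e =>
    ⟨zpowers_le.1 (e ▸ zpowers_le.2 hx.1), by rw [← card_zpowers', e, card_zpowers', hx.2.1],
      e ▸ hx.2.2⟩]
  congr 2
  ext H
  constructor
  · rintro ⟨x, hx, rfl⟩
    exact ⟨zpowers_le.2 hx.1, (card_zpowers' x).trans hx.2.1, cyc_zpowers x, hx.2.2⟩
  · rintro ⟨h1, h2, h3, h4⟩
    obtain ⟨x, rfl⟩ := cyc_iff.1 h3
    exact ⟨x, ⟨zpowers_le.1 h1, (card_zpowers' x).symm.trans h2, h4⟩, rfl⟩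

theorem ncard_coset_pre {K M : Subgroup G} (hK : K ⊴ M) (R : Quo K → Prop) :
    {x | x ∈ M ∧ R coset(K, x)}.ncard = #K * {u | u ∈ M /ₛ K ∧ R u}.ncard := by
  refine ncard_eq_mul_of_fibers (fun x => coset(K, x)) ?_ ?_
  · exact fun x hx => ⟨mem_quo_of_mem (hK.nrm hx.1) hx.1, hx.2⟩
  · rintro u ⟨h1, h2⟩
    obtain ⟨y, hy, hy', rfl⟩ := mem_quo.1 h1
    rw [← ncard_leftCoset K y]
    congr 1
    ext x
    constructor
    · rintro ⟨h3, h4⟩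
      exact (coset_eq_iff hy' (hK.nrm h3.1)).1 h4.symm
    · intro h
      have h3 : x ∈ M := by simpa using mul_mem hy (hK.le h)
      have h4 := ((coset_eq_iff hy' (hK.nrm h3)).2 h).symm
      exact ⟨⟨h3, h4 ▸ h2⟩, h4⟩

theorem cyc_count (hp : p.Prime) {P Z : Subgroup G} (hZ : Z ⊴ P) (hc : #Z = p) (j : ℕ) :
    p * {U | U ≤ P /ₛ Z ∧ #U = p ^ (j + 1) ∧ Cyc U}.ncard =
      {H | H ≤ P ∧ #H = p ^ (j + 1) ∧ Cyc H ∧ ¬ Z ≤ H}.ncard +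
        p * {H | H ≤ P ∧ #H = p ^ (j + 2) ∧ Cyc H ∧ Z ≤ H}.ncard := by
  have h1 := ncard_coset_pre hZ fun u => orderOf u = p ^ (j + 1)
  have h2 := ncard_elt (P /ₛ Z) (p ^ (j + 1)) fun _ => True
  simp only [and_true] at h2
  rw [h2, ncard_split _ fun x => Z ≤ ⟪x⟫, hc] at h1
  have h3 := ncard_elt P (p ^ (j + 1)) fun H => ¬ Z ≤ H
  have h4 := ncard_elt P (p ^ (j + 2)) fun H => Z ≤ H
  have e : ∀ x ∈ P, #(Z ⊓ ⟪x⟫) * orderOf coset(Z, x) = orderOf x := fun x hx => by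
    rw [orderOf_coset (hZ.nrm hx), FT.card_inf_mul_relIndex, card_zpowers']
  have e3 : {a | a ∈ {x | x ∈ P ∧ orderOf coset(Z, x) = p ^ (j + 1)} ∧ ¬ Z ≤ ⟪a⟫} =
      {x | x ∈ P ∧ orderOf x = p ^ (j + 1) ∧ ¬ Z ≤ ⟪x⟫} := by
    ext x
    have : x ∈ P → ¬ Z ≤ ⟪x⟫ → orderOf coset(Z, x) = orderOf x := fun h h' => by
      rw [← e x h, prime_inf_of_not_le (hc ▸ hp) h', card_bot', one_mul]
    exact ⟨fun h => ⟨h.1.1, this h.1.1 h.2 ▸ h.1.2, h.2⟩,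
      fun h => ⟨⟨h.1, (this h.1 h.2.2).trans h.2.1⟩, h.2.2⟩⟩
  have e4 : {a | a ∈ {x | x ∈ P ∧ orderOf coset(Z, x) = p ^ (j + 1)} ∧ Z ≤ ⟪a⟫} =
      {x | x ∈ P ∧ orderOf x = p ^ (j + 2) ∧ Z ≤ ⟪x⟫} := by
    ext x
    have : x ∈ P → Z ≤ ⟪x⟫ → p * orderOf coset(Z, x) = orderOf x := fun h h' => by
      rw [← e x h, inf_eq_left.2 h', hc]
    exact ⟨fun h => ⟨h.1.1, by rw [← this h.1.1 h.2, h.1.2, ← pow_succ'], h.2⟩,
      fun h => ⟨⟨h.1, Nat.eq_of_mul_eq_mul_left hp.pos (by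
        rw [this h.1 h.2.2, h.2.1, ← pow_succ'])⟩, h.2.2⟩⟩
  rw [e3, e4, h3, h4, Nat.totient_prime_pow_succ hp, Nat.totient_prime_pow_succ hp] at h1
  refine Nat.eq_of_mul_eq_mul_left (Nat.mul_pos (pow_pos hp.pos j) (Nat.sub_pos_of_lt hp.one_lt)) ?_
  linear_combination -h1

theorem cmp_step (hp : p.Prime) {F Z L K : Subgroup G} (h1 : ⁅K, K⁆ ≤ F) (h2 : ∀ x ∈ K, x ^ p ∈ F)
    (hF : F ≤ L) (hZ : Z ≤ L) (hL : L ≤ K) (hi : #K = p * #L) (hc : #Z = p) :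
    {H | F ≤ H ∧ H ≤ K ∧ p * #H = #K ∧ ¬ Z ≤ H}.ncard =
      p * {W | F ≤ W ∧ W ≤ L ∧ p * #W = #L ∧ ¬ Z ≤ W}.ncard := by
  have hn : ∀ {A B : Subgroup G}, F ≤ A → A ≤ K → B ≤ K → B ≤ N(A) := fun a b c =>
    c.trans (nml_of_der_le (h1.trans a) b).nrm
  have hs : ∀ {A : Subgroup G}, F ≤ A → A ≤ K → ¬ Z ≤ A → #(A ⊔ Z) = #A * p := fun a b c => by
    rw [card_sup_of_inf (hn a b (hZ.trans hL)) (by
      rw [inf_comm]; exact prime_inf_of_not_le (hc ▸ hp) c), hc]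
  have hm : ∀ {H : Subgroup G}, F ≤ H → H ≤ K → p * #H = #K → ¬ Z ≤ H → p * #(H ⊓ L) = #L := by
    intro H a b c d
    have e1 : H ⊔ L = K := by
      refine le_antisymm (sup_le b hL) (le_trans (eq_of_card_eq (sup_le b (hZ.trans hL)) ?_).ge
        (sup_le_sup_left hZ _))
      rw [hs a b d, mul_comm, c]
    have e2 := card_sup_mul_card_inf (hn a b hL)
    rw [e1, ← c] at e2
    refine Nat.eq_of_mul_eq_mul_left (card_pos H) ?_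
    linarith
  refine ncard_eq_mul_of_fibers (fun H => H ⊓ L) ?_ ?_
  · rintro H ⟨a, b, c, d⟩
    exact ⟨le_inf a hF, inf_le_right, hm a b c d, fun h => d (h.trans inf_le_left)⟩
  rintro W ⟨a, b, c, d⟩
  have e0 : W ⊔ Z = L := eq_of_card_eq (sup_le b hZ) (by rw [hs a (b.trans hL) d, mul_comm, c])
  have hy : ∀ y ∈ K, y ∉ W → #(W ⊔ ⟪y⟫) = #L := fun y y1 y2 => by
    rw [← card_mul_relIndex le_sup_left, H3.relIndex_sup_zpowers hp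
      (hn a (b.trans hL) le_rfl y1) y2 (a (h2 y y1)), mul_comm, c]
  have key := ncard_eq_mul_of_fibers (s := (K : Set G) \ L)
    (t := {H | H ∈ {H | F ≤ H ∧ H ≤ K ∧ p * #H = #K ∧ ¬ Z ≤ H} ∧ H ⊓ L = W})
    (fun y => W ⊔ ⟪y⟫) ?_ (n := #L - #W) ?_
  · have e : ((K : Set G) \ L).ncard = (#L - #W) * p := by
      rw [Set.ncard_sdiff (SetLike.coe_subset_coe.2 hL), ncard_coe, ncard_coe, hi, Nat.sub_mul,
        mul_comm (#W), c, mul_comm]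
    refine (Nat.eq_of_mul_eq_mul_left (Nat.sub_pos_of_lt ?_) (e.symm.trans key)).symm
    rw [← c]; exact lt_mul_of_one_lt_left (card_pos W) hp.one_lt
  · rintro y ⟨y1, y2⟩
    have e1 := hy y y1 fun h => y2 (b h)
    have a1 : F ≤ W ⊔ ⟪y⟫ := a.trans le_sup_left
    have a2 : W ⊔ ⟪y⟫ ≤ K := sup_le (b.trans hL) (zpowers_le.2 y1)
    have a3 : p * #(W ⊔ ⟪y⟫) = #K := by rw [e1, hi]
    have a4 : ¬ Z ≤ W ⊔ ⟪y⟫ := fun h => y2 ((eq_of_card_eq (e0.ge.trans (sup_le le_sup_left h))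
      e1.symm).ge (mem_sup_right (mem_zpowers y)))
    exact ⟨⟨a1, a2, a3, a4⟩, (eq_of_card_eq (le_inf le_sup_left b)
      (Nat.eq_of_mul_eq_mul_left hp.pos (c.trans (hm a1 a2 a3 a4).symm))).symm⟩
  · rintro H ⟨⟨a1, a2, a3, a4⟩, rfl⟩
    have e1 : #H = #L := Nat.eq_of_mul_eq_mul_left hp.pos (a3.trans hi)
    rw [← e1, ← ncard_coe, ← ncard_coe, ← Set.ncard_sdiff (SetLike.coe_subset_coe.2 inf_le_left)]
    congr 1
    ext y
    constructor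
    · rintro ⟨⟨-, y2⟩, e⟩
      exact ⟨e ▸ mem_sup_right (mem_zpowers y), fun h => y2 h.2⟩
    · rintro ⟨y1, y2⟩
      exact ⟨⟨a2 y1, fun h => y2 ⟨y1, h⟩⟩, eq_of_card_eq (sup_le inf_le_left (zpowers_le.2 y1))
        ((hy y (a2 y1) y2).trans e1.symm)⟩

theorem sq_dvd_ncyc (hp : p.Prime) {P Z : Subgroup G} (hZ : Z ⊴ P) (hc : #Z = p) (j : ℕ) :
    p ^ 2 ∣ {H | H ≤ P ∧ #H = p ^ (j + 1) ∧ ¬ Cyc H ∧ ¬ Z ≤ H}.ncard := by
  refine H27.dvd_ncard_of_fibers (fun H => Z ⊔ H) ?_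
  have hs : ∀ H, H ≤ P → ¬ Z ≤ H → SD Z H (Z ⊔ H) := fun H h1 h2 =>
    sd_sup (h1.trans hZ.nrm) (prime_inf_of_not_le (hc ▸ hp) h2)
  rintro H0 ⟨a1, a2, a3, a4⟩
  have sd := hs H0 a1 a4
  set K := Z ⊔ H0
  have hK : #K = p ^ (j + 2) := by rw [sd.card, hc, a2, ← pow_succ']
  have pK := pGrp_of_card hp hK
  have hnc : ¬ Cyc (K /ₛ Z) := fun h => a3 (sd.cyc_quo.1 h)
  have e : {H | H ∈ {H | H ≤ P ∧ #H = p ^ (j + 1) ∧ ¬ Cyc H ∧ ¬ Z ≤ H} ∧ Z ⊔ H = K} =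
      {H | Phi K ≤ H ∧ H ≤ K ∧ p * #H = #K ∧ ¬ Z ≤ H} := by
    ext H
    constructor
    · rintro ⟨⟨b1, b2, b3, b4⟩, e⟩
      have b5 : H ≤ K := e ▸ le_sup_right
      have b6 : p * #H = #K := by rw [b2, hK, ← pow_succ']
      exact ⟨(maxIn_of_prime_relIndex (by
        rwa [H3.relIndex_of_card_mul b5 b6.symm]) b5).Phi_le, b5, b6, b4⟩
    · rintro ⟨-, b1, b2, b3⟩
      have b4 := b1.trans (sup_le hZ.le a1)
      have b5 : Z ⊔ H = K := eq_of_card_eq (sup_le le_sup_left b1) (by rw [(hs H b4 b3).card, hc, b2])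
      refine ⟨⟨b4, Nat.eq_of_mul_eq_mul_left hp.pos (by rw [b2, hK, ← pow_succ']), fun h => hnc ?_,
        b3⟩, b5⟩
      rw [← b5]; exact (hs H b4 b3).cyc_quo.2 h
  have hT : Phi K ⊔ Z ⊴ K := (Phi_nml K).sup sd.nml
  have h1 : #(Phi K ⊔ Z) ≤ p ^ j := by
    by_contra h
    obtain ⟨n, hn⟩ := (pK.mono hT.le).card
    rw [hn, Nat.pow_le_pow_iff_right hp.one_lt] at h
    obtain ⟨y, y1, y2⟩ := (cyc_quo_iff hT.nrm).1 (cyc_of_card_dvd_prime hp (by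
      rw [card_quo hT.nrm, (H3.relIndex_eq_pow hp hT.le hK hn).2]
      simpa using pow_dvd_pow p (show j + 2 - n ≤ 1 by omega)))
    rw [sup_assoc] at y2
    exact hnc ((cyc_quo_iff sd.nml.nrm).2
      ⟨y, y1, (Phi_nongen (sup_le sd.left (zpowers_le.2 y1)) y2).ge⟩)
  obtain ⟨L2, b1, b2, b3⟩ := pK.exists_between hp hT.le h1
    (hK ▸ Nat.pow_le_pow_right hp.pos (by omega))
  obtain ⟨L1, c1, c2, c3⟩ := pK.exists_between (n := j + 1) hp b2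
    (b3 ▸ Nat.pow_le_pow_right hp.pos (by omega)) (hK ▸ Nat.pow_le_pow_right hp.pos (by omega))
  rw [e, cmp_step hp pK.der_le_Phi (fun x => pK.pow_mem_Phi) ((le_sup_left.trans b1).trans c1)
    ((le_sup_right.trans b1).trans c1) c2 (by rw [hK, c3, ← pow_succ']) hc,
    cmp_step hp ((der_mono c2).trans pK.der_le_Phi) (fun x hx => pK.pow_mem_Phi (c2 hx))
    (le_sup_left.trans b1) (le_sup_right.trans b1) c1 (by rw [b3, c3, ← pow_succ']) hc,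
    ← mul_assoc, ← pow_two]
  exact dvd_mul_right _ _

/-- subgroups of order `p ^ k` and cyclic subgroups of order `p ^ (k + 1)` -/
theorem sub_add_cyc (hp : p.Prime) (k : ℕ) : ∀ {G : Type u} [Group G] [Finite G] (P : Subgroup G),
    PGrp p P → p ^ (k + 1) ∣ #P → {H | H ≤ P ∧ #H = p ^ k}.ncard +
      p * {H | H ≤ P ∧ #H = p ^ (k + 1) ∧ Cyc H}.ncard ≡ 1 + p [MOD p ^ 2] := by
  induction k with
  | zero =>
    intro G _ _ P hP hd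
    have e1 : {H | H ≤ P ∧ #H = p ^ 0} = {⊥} := by
      ext H
      exact ⟨fun h => eq_bot_iff_card'.2 h.2, fun h => h ▸ ⟨bot_le, card_bot'⟩⟩
    have e2 : {H | H ≤ P ∧ #H = p ^ (0 + 1) ∧ Cyc H} = {H | H ≤ P ∧ #H = p ^ (0 + 1)} := by
      ext H
      exact ⟨fun h => ⟨h.1, h.2.1⟩, fun h => ⟨h.1, h.2, cyc_of_prime (by simpa [h.2] using hp)⟩⟩
    rw [e1, e2, Set.ncard_singleton, pow_two]
    simpa using ((H27.ncard_sub_modEq hp hd).mul_left' p).add_left 1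
  | succ k ih =>
    intro G _ _ P hP hd
    obtain ⟨Z, hZ, -, hc⟩ := normal_pgroup (n := 1) hP hp (Nml.refl P)
      (Nat.le_of_dvd (card_pos P) ((pow_dvd_pow p (by omega)).trans hd))
    rw [pow_one] at hc
    have h0 := ih (P /ₛ Z) (hP.quo Z) (Nat.dvd_of_mul_dvd_mul_left hp.pos (by
      rw [← pow_succ']; nth_rewrite 2 [← hc]; rwa [card_quo_mul hZ]))
    have h1 := cyc_count hp hZ hc k
    have h2 := cyc_count hp hZ hc (k + 1)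
    obtain ⟨c, h3⟩ := sq_dvd_ncyc hp hZ hc k
    have h4 := H27.ncard_quo hZ (fun H => #H = p ^ (k + 1)) (fun U => #U = p ^ k) fun H a b => by
      rw [← card_quo_mul (hZ.mono a b), hc, pow_succ', Nat.mul_right_inj hp.ne_zero]
    have h5 : {H | H ≤ P ∧ #H = p ^ (k + 1)}.ncard = {H | Z ≤ H ∧ H ≤ P ∧ #H = p ^ (k + 1)}.ncard +
        ({H | H ≤ P ∧ #H = p ^ (k + 1) ∧ Cyc H ∧ ¬ Z ≤ H}.ncard +
          {H | H ≤ P ∧ #H = p ^ (k + 1) ∧ ¬ Cyc H ∧ ¬ Z ≤ H}.ncard) := by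
      rw [ncard_split _ fun H => Z ≤ H, ncard_split {a | a ∈ _ ∧ ¬ Z ≤ a} fun H => Cyc H]
      congr 3 <;> ext H <;> simp only [Set.mem_ofPred_eq] <;> tauto
    have h6 : {H | H ≤ P ∧ #H = p ^ (k + 1 + 1) ∧ Cyc H}.ncard =
        {H | H ≤ P ∧ #H = p ^ (k + 2) ∧ Cyc H ∧ Z ≤ H}.ncard +
          {H | H ≤ P ∧ #H = p ^ (k + 1 + 1) ∧ Cyc H ∧ ¬ Z ≤ H}.ncard := by
      rw [ncard_split _ fun H => Z ≤ H]
      congr 2 <;> ext H <;> simp only [Set.mem_ofPred_eq] <;> tauto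
    obtain ⟨d, h7⟩ := (Nat.dvd_add_left (dvd_mul_right p _)).1 (h2 ▸ dvd_mul_right p _)
    refine Nat.ModEq.trans ?_ h0
    rw [h5, h6, h4, h1, h3, h7]
    refine (Nat.modEq_iff_dvd' ?_).2 ⟨c + d, ?_⟩ |>.symm
    · nlinarith [Nat.zero_le (p ^ 2 * c), Nat.zero_le (p * (p * d))]
    · rw [Nat.sub_eq_iff_eq_add (by nlinarith [Nat.zero_le (p ^ 2 * c), Nat.zero_le (p * (p * d))])]
      ring

end Cfsg.Agent.H28
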