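import Mathlib
import Cfsg.Agent.H28.Kulak
import Cfsg.Agent.H28.AutP

/-! Cyclic subgroups of `2`-groups (Miller, Berkovich); reduction of subgroup counts to a Sylow
subgroup. -/

set_option autoImplicit false
set_option linter.style.haveILetI false
set_option linter.unusedSectionVars false

namespace Cfsg.Agent.H28
open Subgroup Cfsg.Agent.FT
open scoped Pointwise commutatorElement

universe u
variable {G : Type u} [Group G] [Finite G] {p : ℕ}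

theorem dvd_cyc_of_elt (hp : p.Prime) {P : Subgroup G} {s : ℕ}
    (h : p ^ (s + 1) ∣ {x | x ∈ P ∧ orderOf x = p ^ (s + 1)}.ncard) :
    p ∣ {H | H ≤ P ∧ #H = p ^ (s + 1) ∧ Cyc H}.ncard := by
  have h2 := ncard_elt P (p ^ (s + 1)) fun _ => True
  simp only [and_true] at h2
  rw [h2, Nat.totient_prime_pow_succ hp, mul_assoc] at h
  have := Nat.dvd_of_mul_dvd_mul_left (pow_pos hp.pos s) h
  exact (hp.dvd_mul.1 this).resolve_left
    (Nat.not_dvd_of_pos_of_lt (Nat.sub_pos_of_lt hp.one_lt) (Nat.sub_one_lt hp.ne_zero))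

theorem pow_dvd_ncard_gen (hp : p.Prime) {P E : Subgroup G} (hP : PGrp p P) (hE : ¬ Cyc E)
    (hn : E ⊴ P) {n : ℕ} (h : ∀ x ∈ P, ∀ e ∈ E, (e * x) ^ p ^ n = x ^ p ^ n) :
    p ^ (n + 1) ∣ {x | x ∈ P ∧ orderOf x = p ^ (n + 1)}.ncard := by
  haveI := Fact.mk hp
  refine H27.dvd_ncard_of_fibers (fun x => E ⊔ ⟪x⟫) ?_
  rintro x ⟨hx, ho⟩
  have hxN : ∀ y ∈ P, ⟪y⟫ ≤ N(E) := fun y hy => (zpowers_le.2 hy).trans hn.nrm
  have hle : E ⊔ ⟪x ^ p⟫ ≤ E ⊔ ⟪x⟫ := sup_le_sup_left (zpowers_le.2 (pow_mem (mem_zpowers x) p)) _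
  have hR : E ⊔ ⟪x⟫ ≤ P := sup_le hn.le (zpowers_le.2 hx)
  have hxp : orderOf (x ^ p) = p ^ n := by
    rw [orderOf_pow_of_dvd hp.ne_zero (ho ▸ dvd_pow_self p (by omega)), ho, pow_succ,
      Nat.mul_div_cancel _ hp.pos]
  have e : {y | y ∈ {x | x ∈ P ∧ orderOf x = p ^ (n + 1)} ∧ E ⊔ ⟪y⟫ = E ⊔ ⟪x⟫} =
      ((E ⊔ ⟪x⟫ : Subgroup G) : Set G) \ (E ⊔ ⟪x ^ p⟫ : Subgroup G) := by
    ext y
    constructor
    · rintro ⟨⟨hy, hyo⟩, h0⟩
      refine ⟨h0 ▸ mem_sup_right (mem_zpowers y), fun h' => ?_⟩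
      obtain ⟨a, ha, b, hb, rfl⟩ := (mem_sup_norm (hxN _ (pow_mem hx p))).1 h'
      have h1 : (a * b) ^ p ^ n = 1 := by
        rw [h b (zpowers_le.2 (pow_mem hx p) hb) a ha, ← hxp, ← card_zpowers', pow_card hb]
      have := orderOf_dvd_of_pow_eq_one h1
      rw [hyo, Nat.pow_dvd_pow_iff_le_right hp.one_lt] at this
      omega
    · rintro ⟨h1, h2⟩
      obtain ⟨a, ha, b, hb, rfl⟩ := (mem_sup_norm (hxN _ hx)).1 h1
      obtain ⟨k, rfl⟩ := (mem_powers_iff_mem_zpowers.2 hb)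
      have hk : ¬ p ∣ k := by
        rintro ⟨j, rfl⟩
        exact h2 (mul_mem (mem_sup_left ha) (mem_sup_right (by
          show x ^ (p * j) ∈ _
          rw [pow_mul]; exact pow_mem (mem_zpowers _) j)))
      have hkc : k.Coprime (orderOf x) := by
        rw [ho]; exact ((Nat.Prime.coprime_iff_not_dvd hp).2 hk).symm.pow_right _
      have h3 := h _ (pow_mem hx k) a ha
      have h4 : orderOf (x ^ k) = p ^ (n + 1) := by rw [hkc.symm.orderOf_pow, ho]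
      refine ⟨⟨hR h1, orderOf_eq_prime_pow ?_ ?_⟩, le_antisymm
        (sup_le le_sup_left (zpowers_le.2 h1)) (sup_le le_sup_left ?_)⟩
      · intro h5
        have := orderOf_dvd_of_pow_eq_one (h3.symm.trans h5)
        rw [h4, Nat.pow_dvd_pow_iff_le_right hp.one_lt] at this
        omega
      · rw [pow_succ, pow_mul, h3, ← pow_mul, ← pow_succ, ← h4, pow_orderOf_eq_one]
      · rw [← zpowers_pow_of_coprime hkc, zpowers_le]
        have := mul_mem (inv_mem (mem_sup_left (T := ⟪a * x ^ k⟫) ha))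
          (mem_sup_right (S := E) (mem_zpowers (a * x ^ k)))
        simpa using this
  have hd : p ^ (n + 1) ∣ #(E ⊔ ⟪x ^ p⟫) := by
    have hlt : ⟪x ^ p⟫ < E ⊔ ⟪x ^ p⟫ := lt_of_le_of_ne le_sup_right fun h =>
      hE ((cyc_zpowers _).mono (le_sup_left.trans h.ge))
    rw [← card_mul_relIndex hlt.le, card_zpowers', hxp, pow_succ]
    exact Nat.mul_dvd_mul_left _ ((hP.mono (hle.trans hR)).dvd_relIndex (not_le_of_gt hlt))
  rw [e, Set.ncard_sdiff (SetLike.coe_subset_coe.2 hle)]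
  exact Nat.dvd_sub (hd.trans (card_dvd hle)) hd

section Two
variable {P E : Subgroup G} (hP : PGrp 2 P) (hE : PnElem 2 2 E P) (hn : E ⊴ P)
include hP hE hn

theorem mul_sq_four {x e : G} (he : e ∈ E) : (e * x) ^ 2 = ⁅e, x⁆ * x ^ 2 := by
  have : e⁻¹ = e := inv_eq_of_mul_eq_one_right (by rw [← pow_two, hE.abelem.pow he])
  rw [commutatorElement_def, this, pow_two, pow_two]; group

theorem mul_pow_four {x e : G} (hx : x ∈ P) (he : e ∈ E) : (e * x) ^ 4 = x ^ 4 := by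
  have h1 := commutator_mem_commutator he hx
  have h2 : Commute (x ^ 2) ⁅e, x⁆ :=
    mem_cen.1 (H27.comm_le_center_of_sq hP hE hn h1).2 _ (pow_mem hx 2)
  rw [show 4 = 2 * 2 from rfl, pow_mul, mul_sq_four hP hE hn he, h2.symm.mul_pow,
    hE.abelem.pow (comm_le_left hn.nrm h1), one_mul, ← pow_mul]

theorem four_dvd_ncard_sq (hC : ¬ P ⊓ C(E) ≤ E) : 4 ∣ {x | x ∈ P ∧ x ^ 2 = 1}.ncard := by
  have hT : E ⊴ P ⊓ C(E) := hn.mono (le_inf hn.le hE.ab.le_cen) inf_le_left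
  have c4 : #E = 4 := hE.card
  rw [ncard_split _ fun x => x ∈ C(E)]
  refine dvd_add ?_ ?_
  · rw [← c4]
    refine card_dvd_ncard_of_free E _ ?_ fun u _ x _ h => mul_right_cancel (h.trans (one_mul x).symm)
    rintro u hu x ⟨⟨h1, h2⟩, h3⟩
    refine ⟨⟨mul_mem (hn.le hu) h1, ?_⟩, mul_mem (hE.ab.le_cen hu) h3⟩
    rw [smul_eq_mul, Commute.mul_pow (mem_cen.1 h3 u hu), hE.abelem.pow hu, h2, one_mul]
  have h1 := ncard_coset_pre hn fun u => u ^ 2 = 1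
  have h2 := ncard_coset_pre hT fun u => u ^ 2 = 1
  have h3 : ∀ {M : Subgroup G}, M ≤ P → ¬ M ≤ E → 2 ∣ {u | u ∈ M /ₛ E ∧ u ^ 2 = 1}.ncard :=
    fun a b => H27.dvd_ncard_pow_eq_one_of_le
      (((hP.mono a).quo E).dvd (quo_ne_bot (a.trans hn.nrm) b))
  obtain ⟨a, ha⟩ := h3 le_rfl fun h => hC (inf_le_left.trans h)
  obtain ⟨b, hb⟩ := h3 inf_le_left hC
  rw [ha, c4, ncard_split _ fun x => x ∈ C(E)] at h1
  rw [hb, c4] at h2
  have e1 : {a | a ∈ {x | x ∈ P ∧ coset(E, x) ^ 2 = 1} ∧ a ∈ C(E)} =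
      {x | x ∈ P ⊓ C(E) ∧ coset(E, x) ^ 2 = 1} := by
    ext x; simp only [Set.mem_ofPred_eq, mem_inf]; tauto
  rw [e1, h2, ncard_split _ fun x => x ^ 2 = 1] at h1
  have hsq : ∀ x ∈ P, coset(E, x) ^ 2 = 1 ↔ x ^ 2 ∈ E := fun x hx => by
    rw [← coset_pow (hn.nrm hx), coset_eq_one_iff (pow_mem (hn.nrm hx) 2)]
  have e2 : {a | a ∈ {a | a ∈ {x | x ∈ P ∧ coset(E, x) ^ 2 = 1} ∧ a ∉ C(E)} ∧ a ^ 2 = 1} =
      {a | a ∈ {x | x ∈ P ∧ x ^ 2 = 1} ∧ a ∉ C(E)} := by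
    ext x
    exact ⟨fun h => ⟨⟨h.1.1.1, h.2⟩, h.1.2⟩, fun h =>
      ⟨⟨⟨h.1.1, (hsq x h.1.1).2 (h.1.2 ▸ one_mem E)⟩, h.2⟩, h.1.2⟩⟩
  have hlt := hP.comm_lt hE.pGrp hn.nrm hE.ne_bot
  obtain ⟨r, r1, r2⟩ := SetLike.exists_of_lt hlt
  have hZ := H27.comm_le_center_of_sq hP hE hn
  have key : ∀ x ∈ P, x ∉ C(E) → #⁅E, P⁆ = 2 ∧ ∀ e ∈ E, e ∉ ⁅E, P⁆ → ⁅e, x⁆ ≠ 1 := by
    intro x hx hx'
    have h4 := hE.one_of_lt hlt fun h => hx' (comm_eq_bot'.1 h hx)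
    refine ⟨h4.card_one, fun e he he' h => hx' ?_⟩
    rw [← H3.sup_zpowers_eq_of_prime (by
      rw [PnElem.relIndex (m := 1) (n := 1) hE h4 hlt.le]; norm_num) hlt.le he he', cen_sup,
      cen_zpowers]
    exact ⟨centsC (hZ.trans inf_le_right) hx,
      mem_cen1.2 (commutatorElement_eq_one_iff_mul_comm.1 h).symm⟩
  have hr : ∀ x ∈ P, x ∉ C(E) → r * x ∈ P ∧ r * x ∉ C(E) := fun x h h' =>
    ⟨mul_mem (hn.le r1) h, fun e => h' ((mul_mem_cancel_left (hE.ab.le_cen r1)).1 e)⟩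
  have e3 : {a | a ∈ {a | a ∈ {x | x ∈ P ∧ coset(E, x) ^ 2 = 1} ∧ a ∉ C(E)} ∧ ¬ a ^ 2 = 1}.ncard =
      {a | a ∈ {x | x ∈ P ∧ x ^ 2 = 1} ∧ a ∉ C(E)}.ncard := by
    refine le_antisymm (Set.ncard_le_ncard_of_injOn (r * ·) ?_ (mul_right_injective r).injOn)
      (Set.ncard_le_ncard_of_injOn (r * ·) ?_ (mul_right_injective r).injOn)
    · rintro x ⟨⟨⟨a1, a2⟩, a3⟩, a4⟩
      obtain ⟨k1, k2⟩ := key x a1 a3
      refine ⟨⟨(hr x a1 a3).1, ?_⟩, (hr x a1 a3).2⟩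
      have a5 : x ^ 2 ∈ ⁅E, P⁆ := by
        by_contra hc
        exact k2 _ ((hsq x a1).1 a2) hc (commutatorElement_eq_one_iff_mul_comm.2
          ((Commute.refl x).pow_left 2))
      have a6 := commutator_mem_commutator r1 a1
      have a7 := hE.abelem.pow (hlt.le a6)
      rw [eq_zpowers_of_prime (k1 ▸ Nat.prime_two) a6 (k2 r r1 r2), H3.mem_zpowers_two a7] at a5
      rw [mul_sq_four hP hE hn r1, a5.resolve_left a4, ← pow_two, a7]
    · rintro x ⟨⟨a1, a2⟩, a3⟩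
      have a4 : (r * x) ^ 2 = ⁅r, x⁆ := by rw [mul_sq_four hP hE hn r1, a2, mul_one]
      exact ⟨⟨⟨(hr x a1 a3).1, (hsq _ (hr x a1 a3).1).2
        (a4 ▸ hlt.le (commutator_mem_commutator r1 a1))⟩, (hr x a1 a3).2⟩,
        a4 ▸ (key x a1 a3).2 r r1 r2⟩
  rw [e2, e3] at h1
  omega

theorem two_pow_dvd_ncard (hC : ¬ P ⊓ C(E) ≤ E) (s : ℕ) :
    2 ^ (s + 2) ∣ {x | x ∈ P ∧ orderOf x = 2 ^ (s + 2)}.ncard := by
  rcases s with _ | s
  · have h1 := H27.dvd_ncard_pow_eq_one_of_le (n := 4) (H := P) (hE.card.symm.dvd.trans (card_dvd hn.le))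
    rw [ncard_split _ fun x => x ^ 2 = 1] at h1
    have e1 : {a | a ∈ {x | x ∈ P ∧ x ^ 4 = 1} ∧ a ^ 2 = 1} = {x | x ∈ P ∧ x ^ 2 = 1} := by
      ext x
      exact ⟨fun h => ⟨h.1.1, h.2⟩, fun h => ⟨⟨h.1, by
        rw [show 4 = 2 * 2 from rfl, pow_mul, h.2, one_pow]⟩, h.2⟩⟩
    have e2 : {a | a ∈ {x | x ∈ P ∧ x ^ 4 = 1} ∧ ¬ a ^ 2 = 1} =
        {x | x ∈ P ∧ orderOf x = 2 ^ (0 + 2)} := by
      ext x
      refine ⟨fun h => ⟨h.1.1, orderOf_eq_prime_pow (n := 1) (by simpa using h.2) h.1.2⟩,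
        fun h => ⟨⟨h.1, orderOf_dvd_iff_pow_eq_one.1 (h.2 ▸ dvd_rfl)⟩, fun e => ?_⟩⟩
      have := orderOf_dvd_of_pow_eq_one e
      rw [h.2] at this
      norm_num at this
    rw [e1, e2] at h1
    exact (Nat.dvd_add_right (four_dvd_ncard_sq hP hE hn hC)).1 h1
  · refine pow_dvd_ncard_gen Nat.prime_two hP hE.not_cyc hn fun x hx e he => ?_
    rw [pow_add, mul_comm, pow_mul, pow_mul]
    exact congrArg (· ^ 2 ^ s) (mul_pow_four hP hE hn hx he)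

end Two

theorem ncard_sub_modEq_syl (hp : p.Prime) {P : Subgroup G} (hP : Syl p P ⊤) {a : ℕ}
    (hd : p ^ (a + 1) ∣ #P) :
    {H : Subgroup G | #H = p ^ a}.ncard ≡ {H | H ≤ P ∧ #H = p ^ a}.ncard [MOD p ^ 2] := by
  rw [ncard_split _ fun H => H ≤ P, ncard_split {a | a ∈ _ ∧ ¬ a ≤ P}
    fun H => N(H).relIndex P = p]
  have e0 : {H | H ∈ {H : Subgroup G | #H = p ^ a} ∧ H ≤ P} = {H | H ≤ P ∧ #H = p ^ a} := by
    ext H; exact and_comm
  rw [e0]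
  have hnn : ∀ H : Subgroup G, PGrp p H → ¬ H ≤ P → ¬ P ≤ N(H) := fun H h1 h2 h3 =>
    h2 (hP.le_of_normed h1 le_top h3)
  have hcj : ∀ g ∈ P, ∀ H : Subgroup G, N(cj g H).relIndex P = N(H).relIndex P := fun g hg H => by
    rw [← cj_nrm]; nth_rewrite 1 [← cj_of_mem hg]; rw [relIndex_cj]
  refine ((Nat.modEq_zero_iff_dvd.2 (dvd_add ?_ ?_)).add_left _).trans (by rw [add_zero])
  · have hS : ∀ H : Subgroup G, #H = p ^ a → ¬ H ≤ P → N(H).relIndex P = p →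
        p * #(P ⊓ N(H)) = #P ∧ Syl p (H ⊔ (P ⊓ N(H))) ⊤ := by
      intro H h1 h2 h3
      have h4 := FT.card_inf_mul_relIndex N(H) P
      rw [h3, inf_comm, mul_comm] at h4
      have h5 : PGrp p (H ⊔ (P ⊓ N(H))) :=
        (pGrp_of_card hp h1).sup (hP.pi.inf_left _) inf_le_right
      refine ⟨h4, hP.of_card_le h5 le_top (h4 ▸ h5.mul_card_le ?_)⟩
      exact lt_of_le_of_ne le_sup_right fun e => h2 (le_sup_left.trans (e.ge.trans inf_le_left))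
    have hI : ∀ H : Subgroup G, #H = p ^ a → ¬ H ≤ P → N(H).relIndex P = p →
        P ⊓ (H ⊔ (P ⊓ N(H))) = P ⊓ N(H) := fun H h1 h2 h3 => by
      rw [FT.inf_sup_right inf_le_right inf_le_left]
      refine le_antisymm (sup_le (inf_le_inf_left _ (le_nrm H)) le_rfl) le_sup_right
    refine H27.dvd_ncard_of_fibers (fun H => {K | ∃ g ∈ P, K = cj g (H ⊔ (P ⊓ N(H)))}) ?_
    rintro H0 ⟨⟨a1, a2⟩, a3⟩
    obtain ⟨a4, a5⟩ := hS H0 a1 a2 a3
    have a6 := hI H0 a1 a2 a3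
    set Q := H0 ⊔ (P ⊓ N(H0))
    have hQ : ¬ Q ≤ P := fun h => a2 (le_sup_left.trans h)
    let c : Subgroup G → ℕ := fun K => {H | H ⊴ K ∧ #H = p ^ a ∧ ¬ H ≤ P}.ncard
    have hc : ∀ g ∈ P, c (cj g Q) = c Q := fun g hg => by
      refine (Set.ncard_congr (fun H _ => cj g H) ?_ (fun _ _ _ _ h => cj_injective g h) ?_).symm
      · exact fun H h => ⟨h.1.cj g, (card_cj g H).trans h.2.1,
          fun e => h.2.2 ((cj_le_iff_of_mem hg).1 e)⟩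
      · exact fun H h => ⟨cj g⁻¹ H, ⟨cj_inv_cj g Q ▸ h.1.cj g⁻¹, (card_cj _ H).trans h.2.1,
          fun e => h.2.2 ((cj_le_iff_of_mem (inv_mem hg)).1 e)⟩, cj_cj_inv g H⟩
    rw [ncard_eq_mul_of_fibers (t := {K | ∃ g ∈ P, K = cj g Q}) (fun H => H ⊔ (P ⊓ N(H))) ?_
      (n := c Q) ?_, pow_two]
    · refine mul_dvd_mul ?_ ?_
      · have b1 : #Q = #P := a5.card_eq hP
        have b2 : P ⊓ Q ⊴ Q := a5.pi.nml_of_relIndex hp inf_le_right
          (H3.relIndex_of_card_mul inf_le_right (by rw [a6, a4, b1]))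
        have b3 := H27.ncard_nml_modEq hp a5.pi (Nml.refl Q) (s := a)
          (b1 ▸ (pow_dvd_pow p (by omega)).trans hd)
        have b4 := H27.ncard_nml_modEq hp a5.pi b2 (s := a) (Nat.dvd_of_mul_dvd_mul_left hp.pos
          (by rwa [a6, a4, ← pow_succ']))
        rw [ncard_split _ fun H => H ≤ P] at b3
        have e1 : {H | H ∈ {H | H ≤ Q ∧ H ⊴ Q ∧ #H = p ^ a} ∧ H ≤ P} =
            {H | H ≤ P ⊓ Q ∧ H ⊴ Q ∧ #H = p ^ a} := by
          ext H; simp only [Set.mem_ofPred_eq, le_inf_iff]; tauto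
        have e2 : {H | H ∈ {H | H ≤ Q ∧ H ⊴ Q ∧ #H = p ^ a} ∧ ¬ H ≤ P} =
            {H | H ⊴ Q ∧ #H = p ^ a ∧ ¬ H ≤ P} := by
          ext H
          exact ⟨fun h => ⟨h.1.2.1, h.1.2.2, h.2⟩, fun h => ⟨⟨h.1.le, h.1, h.2.1⟩, h.2.2⟩⟩
        rw [e1, e2] at b3
        exact Nat.modEq_zero_iff_dvd.1 (Nat.ModEq.add_left_cancel b4 b3)
      · rw [H27.ncard_conj_sub]
        exact hP.pi.dvd_relIndex (hnn Q a5.pi hQ)
    · rintro H ⟨-, h⟩
      rw [← h]; exact ⟨1, one_mem _, (cj_one _).symm⟩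
    · rintro _ ⟨g, hg, rfl⟩
      rw [← hc g hg]
      congr 1
      ext H
      constructor
      · rintro ⟨⟨⟨⟨b1, b2⟩, -⟩, -⟩, b3⟩
        exact ⟨b3 ▸ nml_sup_left inf_le_right, b1, b2⟩
      · rintro ⟨b1, b2, b3⟩
        have b4 : P ⊓ cj g Q ≤ P ⊓ N(H) := inf_le_inf_left _ b1.nrm
        have b5 : p * #(P ⊓ cj g Q) = #P := by
          nth_rewrite 1 [← cj_of_mem hg]
          rw [← cj_inf, card_cj, a6, a4]
        have b6 : P ⊓ cj g Q = P ⊓ N(H) := eq_of_card_le b4 (Nat.le_of_mul_le_mul_left (b5 ▸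
          hP.pi.mul_card_le (lt_of_le_of_ne inf_le_left fun e =>
            hnn H (pGrp_of_card hp b2) b3 (e.ge.trans inf_le_right))) hp.pos)
        have b7 : N(H).relIndex P = p := by
          rw [← inf_relIndex_left, ← b6]
          exact H3.relIndex_of_card_mul inf_le_left b5.symm
        have b8 : H ⊔ (P ⊓ N(H)) = cj g Q := eq_of_card_eq (sup_le b1.le (b6 ▸ inf_le_right))
          ((hS H b2 b3 b7).2.card_eq (a5.cj_mem (mem_top g)))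
        refine ⟨⟨⟨⟨b2, b3⟩, b7⟩, ?_⟩, b8⟩
        ext K
        simp only [b8, cj_cj, Set.mem_ofPred_eq]
        exact ⟨fun ⟨x, hx, e⟩ => ⟨_, mul_mem hx hg, e⟩, fun ⟨x, hx, e⟩ =>
          ⟨x * g⁻¹, mul_mem hx (inv_mem hg), by simpa using e⟩⟩
  · refine dvd_ncard_of_partition (fun H => {K | ∃ g ∈ P, K = cj g H}) ?_ _ _ (Set.toFinite _) rfl ?_
    · rintro H _ ⟨g, hg, rfl⟩
      ext K
      simp only [cj_cj, Set.mem_ofPred_eq]
      exact ⟨fun ⟨x, hx, e⟩ => ⟨_, mul_mem hx hg, e⟩, fun ⟨x, hx, e⟩ =>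
        ⟨x * g⁻¹, mul_mem hx (inv_mem hg), by simpa using e⟩⟩
    · rintro H ⟨⟨a1, a2⟩, a3⟩
      refine ⟨⟨1, one_mem _, (cj_one _).symm⟩, ?_, ?_⟩
      · rintro _ ⟨g, hg, rfl⟩
        exact ⟨⟨(card_cj g H).trans a1, fun e => a2 ((cj_le_iff_of_mem hg).1 e)⟩,
          fun e => a3 ((hcj g hg H).symm.trans e)⟩
      · rw [H27.ncard_conj_sub]
        obtain ⟨k, hk⟩ := (hP.pi.relIndex N(H)).exists_pow (relIndex_pos _ _).ne'
        have := hnn H (pGrp_of_card hp a1) a2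
        rw [← relIndex_eq_one] at this
        rw [hk] at this a3 ⊢
        refine pow_dvd_pow p ?_
        rcases k with _ | _ | k
        · simp at this
        · simp at a3
        · omega

end Cfsg.Agent.H28
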