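import Mathlib
import Cfsg.Agent.H28.ChevM
import Cfsg.Prelude.Def_ChevG2

set_option maxRecDepth 100000
set_option linter.all false
set_option autoImplicit false

namespace Cfsg.Agent.H28.L32
open Cfsg.Agent.H25 Cfsg.Agent.H28

noncomputable def T_tbl : NT :=
(.leaf (nat_lit 0) (nat_lit 0xcd739ae5b54b62d2c6b18a52569429084a1))

noncomputable def T : PT where
  N := nat_lit 7
  G := nat_lit 4
  W := nat_lit 5
  mask := nat_lit 31
  sb := nat_lit 2
  sm := nat_lit 3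
  tbl := T_tbl

def Ms : List (List ℕ) :=
  [[nat_lit 17, nat_lit 16, nat_lit 256],
  [nat_lit 1, nat_lit 17, nat_lit 256],
  [nat_lit 257, nat_lit 16, nat_lit 256],
  [nat_lit 1, nat_lit 16, nat_lit 272]]

noncomputable def vs_tbl : NT :=
(.leaf (nat_lit 0) (nat_lit 0x100101110111010011001))

noncomputable def vs : ℕ → ℕ := tabF vs_tbl (nat_lit 12) (nat_lit 4095)

noncomputable def look_tbl : NT :=
(.node (nat_lit 767)
(.node (nat_lit 47)
(.leaf (nat_lit 3) (nat_lit 0x6))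
(.leaf (nat_lit 48) (nat_lit 0x22)))
(.node (nat_lit 815)
(.leaf (nat_lit 768) (nat_lit 0x28))
(.leaf (nat_lit 816) (nat_lit 0x19))))

noncomputable def look : ℕ → ℕ := tabF look_tbl (nat_lit 3) (nat_lit 7)

theorem am_0 : K2.amOK 3 T Ms vs (nat_lit 0) (nat_lit 7) = true := by decide +kernel
theorem hAm : ∀ i < T.N, K2.AmP 3 T Ms vs i := rng_all (FT.amOK_sound _ am_0)
theorem hInj : K2.injOK 3 vs look T.N = true := by decide +kernel

theorem hm : allL (K2.slOK 3) Ms = true := by decide +kernel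

noncomputable def l32l0_tbl : NT :=
(.leaf (nat_lit 0) (nat_lit 0xb20badc2e14052982e610b4541397095c41c510b054120001a0c155004800054608c4c124204c000414044000310040843100008c419000040008000200008))

noncomputable def l32l0_par : NT :=
(.leaf (nat_lit 0) (nat_lit 0x45ca41460))

noncomputable def l32l0_rt : RT :=
(.node (nat_lit 3)
(.node (nat_lit 1)
(.node (nat_lit 0)
(.leaf (nat_lit 0) [nat_lit 3, nat_lit 3] (nat_lit 1) (nat_lit 255) (nat_lit 0))
(.leaf (nat_lit 1) [nat_lit 0, nat_lit 2, nat_lit 3, nat_lit 2, nat_lit 3] (nat_lit 4) (nat_lit 975800) (nat_lit 0)))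
(.node (nat_lit 2)
(.leaf (nat_lit 2) [nat_lit 0, nat_lit 1, nat_lit 3, nat_lit 0, nat_lit 1, nat_lit 3, nat_lit 0, nat_lit 1, nat_lit 3] (nat_lit 8) (nat_lit 0xd34d34d34) (nat_lit 0))
(.leaf (nat_lit 0) [nat_lit 0, nat_lit 0] (nat_lit 1) (nat_lit 0) (nat_lit 0))))
(.node (nat_lit 5)
(.node (nat_lit 4)
(.leaf (nat_lit 0) [nat_lit 1, nat_lit 1] (nat_lit 1) (nat_lit 85) (nat_lit 0))
(.leaf (nat_lit 0) [nat_lit 2, nat_lit 2] (nat_lit 1) (nat_lit 170) (nat_lit 0)))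
(.node (nat_lit 6)
(.leaf (nat_lit 0) [nat_lit 0, nat_lit 1, nat_lit 0, nat_lit 1, nat_lit 0, nat_lit 1] (nat_lit 5) (nat_lit 0x444444) (nat_lit 0))
(.leaf (nat_lit 0) [nat_lit 0, nat_lit 1, nat_lit 2, nat_lit 0, nat_lit 1, nat_lit 2, nat_lit 0, nat_lit 1, nat_lit 2] (nat_lit 8) (nat_lit 0x924924924) (nat_lit 0)))))

def l32l0_P : List (List ℕ) :=
  [[nat_lit 3, nat_lit 3],
  [nat_lit 0, nat_lit 2, nat_lit 3, nat_lit 2, nat_lit 3],
  [nat_lit 0, nat_lit 1, nat_lit 3, nat_lit 0, nat_lit 1, nat_lit 3, nat_lit 0, nat_lit 1, nat_lit 3]]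

noncomputable def l32l0_C : TC where
  G := nat_lit 4
  N := nat_lit 7
  W := nat_lit 18
  mask := nat_lit 262143
  VM := nat_lit 0
  TV := nat_lit 0
  vb := nat_lit 0
  TM := nat_lit 7
  rb := nat_lit 3
  RM := nat_lit 2047
  BIG := nat_lit 196608
  b := nat_lit 2
  lm := nat_lit 3
  Y := nat_lit 7
  n := nat_lit 1
  K := nat_lit 0
  K0 := nat_lit 0
  QM := nat_lit 0
  k := nat_lit 0
  w := nat_lit 1
  c := nat_lit 0
  cq := nat_lit 0
  Lmax := nat_lit 9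
  PW := nat_lit 5
  PM := nat_lit 31
  tbl := l32l0_tbl
  par := l32l0_par
  rt := l32l0_rt

noncomputable def l32l0 : Lv where
  C := l32l0_C
  df := [[nat_lit 0],
  [nat_lit 1],
  [nat_lit 2],
  [nat_lit 3]]
  X0 := nat_lit 7
  X := nat_lit 15
  Xl := nat_lit 15
  GG := nat_lit 4
  back := [nat_lit 0, nat_lit 1, nat_lit 2, nat_lit 3]
  P := l32l0_P

theorem l32l0_e0 : l32l0_C.edges (nat_lit 0) (nat_lit 7) = true := by decide +kernel
theorem l32l0_cl : l32l0_C.closed l32l0.Xl (nat_lit 0) (nat_lit 7) = true := by decide +kernel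
theorem l32l0_tab : l32l0.Tab :=
  ⟨rng_all (TC.edges_sound l32l0_e0), rng_all (TC.closed_sound l32l0_cl)⟩

noncomputable def l32l1_tbl : NT :=
(.leaf (nat_lit 0) (nat_lit 0x8014e84cb05340b3012000c8040002442a00040020004))

noncomputable def l32l1_par : NT :=
(.leaf (nat_lit 0) (nat_lit 0x6420))

noncomputable def l32l1_rt : RT :=
(.node (nat_lit 2)
(.node (nat_lit 0)
(.leaf (nat_lit 0) [nat_lit 2, nat_lit 2] (nat_lit 1) (nat_lit 170) (nat_lit 0))
(.node (nat_lit 1)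
(.leaf (nat_lit 1) [nat_lit 0, nat_lit 2, nat_lit 0, nat_lit 2] (nat_lit 3) (nat_lit 34952) (nat_lit 0))
(.leaf (nat_lit 2) [nat_lit 0, nat_lit 1, nat_lit 2, nat_lit 0, nat_lit 1, nat_lit 2, nat_lit 0, nat_lit 1, nat_lit 2] (nat_lit 8) (nat_lit 0x924924924) (nat_lit 0))))
(.node (nat_lit 3)
(.leaf (nat_lit 0) [nat_lit 0, nat_lit 0] (nat_lit 1) (nat_lit 0) (nat_lit 0))
(.node (nat_lit 4)
(.leaf (nat_lit 0) [nat_lit 1, nat_lit 1] (nat_lit 1) (nat_lit 85) (nat_lit 0))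
(.leaf (nat_lit 0) [nat_lit 0, nat_lit 1, nat_lit 0, nat_lit 1, nat_lit 0, nat_lit 1] (nat_lit 5) (nat_lit 0x444444) (nat_lit 0)))))

def l32l1_P : List (List ℕ) :=
  [[nat_lit 2, nat_lit 2],
  [nat_lit 0, nat_lit 2, nat_lit 0, nat_lit 2],
  [nat_lit 0, nat_lit 1, nat_lit 2, nat_lit 0, nat_lit 1, nat_lit 2, nat_lit 0, nat_lit 1, nat_lit 2]]

noncomputable def l32l1_C : TC where
  G := nat_lit 3
  N := nat_lit 4
  W := nat_lit 15
  mask := nat_lit 32767
  VM := nat_lit 0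
  TV := nat_lit 0
  vb := nat_lit 0
  TM := nat_lit 3
  rb := nat_lit 2
  RM := nat_lit 1023
  BIG := nat_lit 20480
  b := nat_lit 2
  lm := nat_lit 3
  Y := nat_lit 3
  n := nat_lit 1
  K := nat_lit 0
  K0 := nat_lit 0
  QM := nat_lit 0
  k := nat_lit 0
  w := nat_lit 1
  c := nat_lit 0
  cq := nat_lit 0
  Lmax := nat_lit 9
  PW := nat_lit 4
  PM := nat_lit 15
  tbl := l32l1_tbl
  par := l32l1_par
  rt := l32l1_rt

noncomputable def l32l1 : Lv where
  C := l32l1_C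
  df := [[nat_lit 0],
  [nat_lit 1],
  [nat_lit 2]]
  X0 := nat_lit 3
  X := nat_lit 7
  Xl := nat_lit 7
  GG := nat_lit 4
  back := [nat_lit 0, nat_lit 1, nat_lit 2, nat_lit 0]
  P := l32l1_P

theorem l32l1_e0 : l32l1_C.edges (nat_lit 0) (nat_lit 4) = true := by decide +kernel
theorem l32l1_cl : l32l1_C.closed l32l1.Xl (nat_lit 0) (nat_lit 4) = true := by decide +kernel
theorem l32l1_tab : l32l1.Tab :=
  ⟨rng_all (TC.edges_sound l32l1_e0), rng_all (TC.closed_sound l32l1_cl)⟩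

noncomputable def l32l2_tbl : NT :=
(.leaf (nat_lit 0) (nat_lit 0x2424c094040008002004))

noncomputable def l32l2_par : NT :=
(.leaf (nat_lit 0) (nat_lit 0x88))

noncomputable def l32l2_rt : RT :=
(.node (nat_lit 0)
(.leaf (nat_lit 0) [nat_lit 1, nat_lit 1] (nat_lit 1) (nat_lit 15) (nat_lit 0))
(.node (nat_lit 1)
(.leaf (nat_lit 1) [nat_lit 0, nat_lit 1, nat_lit 0, nat_lit 1, nat_lit 0, nat_lit 1] (nat_lit 5) (nat_lit 2730) (nat_lit 0))
(.leaf (nat_lit 0) [nat_lit 0, nat_lit 0] (nat_lit 1) (nat_lit 0) (nat_lit 0))))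

def l32l2_P : List (List ℕ) :=
  [[nat_lit 1, nat_lit 1],
  [nat_lit 0, nat_lit 1, nat_lit 0, nat_lit 1, nat_lit 0, nat_lit 1]]

noncomputable def l32l2_C : TC where
  G := nat_lit 2
  N := nat_lit 3
  W := nat_lit 13
  mask := nat_lit 8191
  VM := nat_lit 0
  TV := nat_lit 0
  vb := nat_lit 0
  TM := nat_lit 3
  rb := nat_lit 2
  RM := nat_lit 511
  BIG := nat_lit 6144
  b := nat_lit 1
  lm := nat_lit 1
  Y := nat_lit 1
  n := nat_lit 1
  K := nat_lit 0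
  K0 := nat_lit 0
  QM := nat_lit 0
  k := nat_lit 0
  w := nat_lit 1
  c := nat_lit 0
  cq := nat_lit 0
  Lmax := nat_lit 6
  PW := nat_lit 3
  PM := nat_lit 7
  tbl := l32l2_tbl
  par := l32l2_par
  rt := l32l2_rt

noncomputable def l32l2 : Lv where
  C := l32l2_C
  df := [[nat_lit 0],
  [nat_lit 1]]
  X0 := nat_lit 1
  X := nat_lit 3
  Xl := nat_lit 3
  GG := nat_lit 4
  back := [nat_lit 0, nat_lit 1, nat_lit 0, nat_lit 0]
  P := l32l2_P

theorem l32l2_e0 : l32l2_C.edges (nat_lit 0) (nat_lit 3) = true := by decide +kernel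
theorem l32l2_cl : l32l2_C.closed l32l2.Xl (nat_lit 0) (nat_lit 3) = true := by decide +kernel
theorem l32l2_tab : l32l2.Tab :=
  ⟨rng_all (TC.edges_sound l32l2_e0), rng_all (TC.closed_sound l32l2_cl)⟩

noncomputable def l32l3_tbl : NT :=
(.leaf (nat_lit 0) (nat_lit 0x102001))

noncomputable def l32l3_par : NT :=
(.leaf (nat_lit 0) (nat_lit 0x0))

noncomputable def l32l3_rt : RT :=
(.leaf (nat_lit 0) [nat_lit 0, nat_lit 0] (nat_lit 1) (nat_lit 0) (nat_lit 0))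

def l32l3_P : List (List ℕ) :=
  [[nat_lit 0, nat_lit 0]]

noncomputable def l32l3_C : TC where
  G := nat_lit 1
  N := nat_lit 2
  W := nat_lit 11
  mask := nat_lit 2047
  VM := nat_lit 0
  TV := nat_lit 0
  vb := nat_lit 0
  TM := nat_lit 1
  rb := nat_lit 1
  RM := nat_lit 255
  BIG := nat_lit 1024
  b := nat_lit 1
  lm := nat_lit 1
  Y := nat_lit 0
  n := nat_lit 1
  K := nat_lit 0
  K0 := nat_lit 0
  QM := nat_lit 0
  k := nat_lit 0
  w := nat_lit 1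
  c := nat_lit 0
  cq := nat_lit 0
  Lmax := nat_lit 2
  PW := nat_lit 2
  PM := nat_lit 3
  tbl := l32l3_tbl
  par := l32l3_par
  rt := l32l3_rt

noncomputable def l32l3 : Lv where
  C := l32l3_C
  df := [[nat_lit 0]]
  X0 := nat_lit 0
  X := nat_lit 1
  Xl := nat_lit 1
  GG := nat_lit 4
  back := [nat_lit 0, nat_lit 0, nat_lit 0, nat_lit 0]
  P := l32l3_P

theorem l32l3_e0 : l32l3_C.edges (nat_lit 0) (nat_lit 2) = true := by decide +kernel
theorem l32l3_cl : l32l3_C.closed l32l3.Xl (nat_lit 0) (nat_lit 2) = true := by decide +kernel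
theorem l32l3_tab : l32l3.Tab :=
  ⟨rng_all (TC.edges_sound l32l3_e0), rng_all (TC.closed_sound l32l3_cl)⟩

noncomputable def l32ch_0 : OL where
  b := nat_lit 1
  n := nat_lit 7
  S := [[nat_lit 1],
  [nat_lit 3],
  [nat_lit 2]]
  O := ⟨nat_lit 0, nat_lit 4, nat_lit 3, nat_lit 7, nat_lit 0, nat_lit 0,
(.leaf (nat_lit 0) (nat_lit 0xa6269e894415c43000201))⟩

noncomputable def l32ch_1 : OL where
  b := nat_lit 3
  n := nat_lit 6
  S := [[nat_lit 2],
  [nat_lit 0, nat_lit 1, nat_lit 0],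
  [nat_lit 1, nat_lit 3, nat_lit 1]]
  O := ⟨nat_lit 0, nat_lit 4, nat_lit 3, nat_lit 7, nat_lit 0, nat_lit 0,
(.leaf (nat_lit 0) (nat_lit 0x80049021608a64d004a03))⟩

noncomputable def l32ch_2 : OL where
  b := nat_lit 0
  n := nat_lit 4
  S := [[nat_lit 0, nat_lit 1, nat_lit 0],
  [nat_lit 1, nat_lit 3, nat_lit 1]]
  O := ⟨nat_lit 0, nat_lit 4, nat_lit 3, nat_lit 7, nat_lit 0, nat_lit 0,
(.leaf (nat_lit 0) (nat_lit 0x40060004c245002000))⟩

noncomputable def l32ch : List OL := [l32ch_0, l32ch_1, l32ch_2]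

theorem hch : chainOK T (nat_lit 15) l32ch [] = true := by decide +kernel
noncomputable def chk : List ℕ → Bool := T.chk [nat_lit 0, nat_lit 3, nat_lit 1]
theorem l32l0_ok : l32l0.ok chk = true := by decide +kernel
theorem l32l0_hP : allL chk l32l0.P = true := by decide +kernel
theorem l32l1_ok : l32l1.ok chk = true := by decide +kernel
theorem l32l1_hP : allL chk l32l1.P = true := by decide +kernel
theorem l32l2_ok : l32l2.ok chk = true := by decide +kernel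
theorem l32l2_hP : allL chk l32l2.P = true := by decide +kernel
theorem l32l3_ok : l32l3.ok chk = true := by decide +kernel
theorem l32l3_hP : allL chk l32l3.P = true := by decide +kernel
def P : List (List ℕ) := l32l3_P ++ l32l2_P ++ l32l1_P ++ l32l0_P
theorem hP0 : allL chk P = true := by decide +kernel
def Q : List (List ℕ × List ℕ) := [([nat_lit 2], [nat_lit 0])]

theorem hQ0 : allL (fun q => T.chk2 [nat_lit 0, nat_lit 3, nat_lit 1] (app q.1 q.2) (app q.2 q.1)) Q = true := by decide +kernel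

noncomputable def l32p2_ru : RuT :=
(.node (nat_lit 6)
(.node (nat_lit 0)
(.leaf (nat_lit 0) (nat_lit 0) (nat_lit 0) [])
(.node (nat_lit 5)
(.leaf (nat_lit 1) (nat_lit 0) (nat_lit 1) [nat_lit 0, nat_lit 1, nat_lit 2])
(.leaf (nat_lit 1) (nat_lit 1) (nat_lit 2) [])))
(.node (nat_lit 10)
(.leaf (nat_lit 2) (nat_lit 0) (nat_lit 3) [nat_lit 0, nat_lit 2])
(.node (nat_lit 11)
(.leaf (nat_lit 2) (nat_lit 1) (nat_lit 4) [nat_lit 1, nat_lit 2])
(.leaf (nat_lit 2) (nat_lit 2) (nat_lit 5) []))))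

def l32p2_E : List (List ℕ × List ℕ) :=
  [([nat_lit 0, nat_lit 0], []),
    ([nat_lit 1, nat_lit 0], [nat_lit 0, nat_lit 1, nat_lit 2]),
    ([nat_lit 1, nat_lit 1], []),
    ([nat_lit 2, nat_lit 0], [nat_lit 0, nat_lit 2]),
    ([nat_lit 2, nat_lit 1], [nat_lit 1, nat_lit 2]),
    ([nat_lit 2, nat_lit 2], [])]

def l32p2_A : List ℕ :=
  [nat_lit 0x30000000000000000000000000000020000,
    nat_lit 0xc0000000000000000000020000,
    nat_lit 131072]

def l32p2_co : List ℕ :=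
  [nat_lit 0x1000000000000,
    nat_lit 0,
    nat_lit 0x1003001000000,
    nat_lit 0x3001000001000,
    nat_lit 0x10030000c2003,
    nat_lit 0x1003000000000]

noncomputable def l32p2 : PCD where
  G := nat_lit 5
  w := nat_lit 17
  k := nat_lit 10
  n := nat_lit 4
  fuel := nat_lit 13
  o := nat_lit 0x200010000800040002000100008000400020001
  c0 := nat_lit 14745
  cq := nat_lit 16383
  cA := nat_lit 3
  Lm := nat_lit 3
  np := nat_lit 6
  rules := l32p2_ru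
  E := l32p2_E
  C := [(nat_lit 3, [nat_lit 1], [nat_lit 2]),
    (nat_lit 3, [nat_lit 2], [nat_lit 1]),
    (nat_lit 4, [nat_lit 0], [nat_lit 2]),
    (nat_lit 4, [nat_lit 2], [nat_lit 0])]
  RA := [([nat_lit 2], [nat_lit 0, nat_lit 0]),
    ([nat_lit 2], [nat_lit 1, nat_lit 1]),
    ([nat_lit 1], [nat_lit 0, nat_lit 0]),
    ([nat_lit 1], [nat_lit 1, nat_lit 0])]
  RB := [(nat_lit 3, [nat_lit 0, nat_lit 0]),
    (nat_lit 3, [nat_lit 1, nat_lit 1]),
    (nat_lit 4, [nat_lit 2, nat_lit 2]),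
    (nat_lit 4, [nat_lit 3, nat_lit 3])]
  A := l32p2_A
  β := [(nat_lit 0x20000000000000000000000000000040001, nat_lit 2, nat_lit 0x2000002003)]
  co := l32p2_co
  lay := [(nat_lit 6, [nat_lit 0]),
    (nat_lit 4, [nat_lit 1]),
    (nat_lit 0, [nat_lit 2])]

theorem l32p2_1 : l32p2.ok1 (nat_lit 7) = true := by decide +kernel
theorem l32p2_2 : l32p2.ok2 = true := by decide +kernel

noncomputable def l32p2T_tbl : NT :=
(.leaf (nat_lit 0) (nat_lit 0x65996cec6f3765942471250400))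

noncomputable def l32p2T : PT where
  N := nat_lit 7
  G := nat_lit 5
  W := nat_lit 3
  mask := nat_lit 7
  sb := nat_lit 0
  sm := nat_lit 0
  tbl := l32p2T_tbl

def l32p2_df : List (List ℕ) :=
  [[nat_lit 0],
  [nat_lit 2, nat_lit 1, nat_lit 2, nat_lit 1],
  [nat_lit 2],
  [nat_lit 0, nat_lit 2, nat_lit 1, nat_lit 0],
  [nat_lit 3, nat_lit 1, nat_lit 2, nat_lit 1, nat_lit 3]]

theorem l32p2_x_0 : extOK T l32p2T l32p2_df (fun i => i) (nat_lit 0) (nat_lit 7) = true := by decide +kernel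
theorem l32p2_ext : ∀ i < l32p2T.N, ExtP T l32p2T l32p2_df (fun i => i) i := rng_all (extOK_sound l32p2_x_0)

noncomputable def l32p2ch_0 : OL where
  b := nat_lit 1
  n := nat_lit 2
  S := [[nat_lit 0]]
  O := ⟨nat_lit 0, nat_lit 4, nat_lit 2, nat_lit 3, nat_lit 0, nat_lit 0,
(.leaf (nat_lit 0) (nat_lit 0x400201))⟩

noncomputable def l32p2ch_1 : OL where
  b := nat_lit 3
  n := nat_lit 4
  S := [[nat_lit 1],
  [nat_lit 2]]
  O := ⟨nat_lit 0, nat_lit 4, nat_lit 3, nat_lit 7, nat_lit 0, nat_lit 0,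
(.leaf (nat_lit 0) (nat_lit 0x60020040004e044005003))⟩

noncomputable def l32p2ch : List OL := [l32p2ch_0, l32p2ch_1]

theorem l32p2_hE : allL (fun e => l32p2T.chk2 [nat_lit 0, nat_lit 3, nat_lit 1] e.1 e.2) l32p2.eqs = true := by decide +kernel
theorem l32p2_hc : chainOK l32p2T (nat_lit 7) l32p2ch [] = true := by decide +kernel

noncomputable def c2_tbl : NT :=
(.leaf (nat_lit 0) (nat_lit 0xb9dc65efe3861eb5d12b3c184a718642))

noncomputable def c2 : PT where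
  N := nat_lit 8
  G := nat_lit 4
  W := nat_lit 4
  mask := nat_lit 15
  sb := nat_lit 1
  sm := nat_lit 1
  tbl := c2_tbl

def c2_PE : List (List ℕ × ℕ) :=
  [([nat_lit 0, nat_lit 0], nat_lit 1),
  ([nat_lit 1, nat_lit 1], nat_lit 1),
  ([nat_lit 0, nat_lit 1, nat_lit 0, nat_lit 1, nat_lit 0, nat_lit 1], nat_lit 0),
  ([nat_lit 2, nat_lit 2], nat_lit 1),
  ([nat_lit 0, nat_lit 2, nat_lit 0, nat_lit 2], nat_lit 1),
  ([nat_lit 0, nat_lit 1, nat_lit 2, nat_lit 0, nat_lit 1, nat_lit 2, nat_lit 0, nat_lit 1, nat_lit 2], nat_lit 0),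
  ([nat_lit 3, nat_lit 3], nat_lit 1),
  ([nat_lit 0, nat_lit 2, nat_lit 3, nat_lit 2, nat_lit 3], nat_lit 0),
  ([nat_lit 0, nat_lit 1, nat_lit 3, nat_lit 0, nat_lit 1, nat_lit 3, nat_lit 0, nat_lit 1, nat_lit 3], nat_lit 0)]

instance c2_nz : NeZero c2.N := ⟨by decide⟩

theorem c2_r0 : c2.relsOK (nat_lit 2) c2_PE (nat_lit 0) (nat_lit 8) = true := by decide +kernel
theorem c2_rng : c2.rng 0 (nat_lit 8) = true := by decide +kernel
theorem c2_rels : ∀ i < c2.N, ∀ p ∈ c2_PE, c2.tr p.1 i = i ∧ c2.tv p.1 i % nat_lit 2 = p.2 :=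
  rng_all (PT.relsOK_sound _ _ c2_r0)
def c2_iv : List ℕ := [nat_lit 0, nat_lit 1, nat_lit 3, nat_lit 6]
def c2_E : List ℕ := [nat_lit 1]

theorem c2_cov : HasCov P 4 (Multiplicative (ZMod 2)) Q fun i => Multiplicative.ofAdd ((gd 0 c2_E i : ℕ) : ZMod 2) :=
  PT.hasCov (T := c2) (m := nat_lit 2) (c2.rng_sound c2_rng le_rfl) (iv := c2_iv) (by decide +kernel) (by decide +kernel) c2_rels
    (subL_sound (by decide +kernel)) (by decide +kernel)

universe u
variable {G0 : Type u} [Group G0] [Finite G0] {Ω : Type*} [MulAction G0 Ω] {g : ℕ → G0} {pt : ℕ → Ω}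
  (h : Md T 168 g pt)
include h

theorem htb : Lc (nat_lit 15) g = ⊤ ∧ IsBase G0 T.N pt [nat_lit 0, nat_lit 3, nat_lit 1] :=
  base_of_chain h.am h.inj hch (h.card.trans_le (by decide +kernel))
theorem hchk : ∀ w, chk w = true → ev g w = 1 := h.am.chk (htb h).2
theorem l32l0_le : Nat.card (Lc (nat_lit 15) g) ≤ 7 * Nat.card (Lc (nat_lit 7) g) :=
  card_step' (hchk h) l32l0_ok l32l0_tab l32l0_hP ⟨rfl, rfl, rfl⟩
theorem l32l1_le : Nat.card (Lc (nat_lit 7) g) ≤ 4 * Nat.card (Lc (nat_lit 3) g) :=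
  card_step' (hchk h) l32l1_ok l32l1_tab l32l1_hP ⟨rfl, rfl, rfl⟩
theorem l32l2_le : Nat.card (Lc (nat_lit 3) g) ≤ 3 * Nat.card (Lc (nat_lit 1) g) :=
  card_step' (hchk h) l32l2_ok l32l2_tab l32l2_hP ⟨rfl, rfl, rfl⟩
theorem l32l3_le : Nat.card (Lc (nat_lit 1) g) ≤ 2 * Nat.card (Lc (nat_lit 0) g) :=
  card_step' (hchk h) l32l3_ok l32l3_tab l32l3_hP ⟨rfl, rfl, rfl⟩
theorem up4 : Nat.card (Lc (nat_lit 0) g) ≤ 1 := (fun _ => card_Lc_zero g) h
theorem up3 : Nat.card (Lc (nat_lit 1) g) ≤ 2 := chain_up (n := 1) (l32l3_le h) (up4 h)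
theorem up2 : Nat.card (Lc (nat_lit 3) g) ≤ 6 := chain_up (n := 2) (l32l2_le h) (up3 h)
theorem up1 : Nat.card (Lc (nat_lit 7) g) ≤ 24 := chain_up (n := 6) (l32l1_le h) (up2 h)
theorem up0 : Nat.card (Lc (nat_lit 15) g) ≤ 168 := chain_up (n := 24) (l32l0_le h) (up1 h)
theorem lo0 : 168 ≤ Nat.card (Lc (nat_lit 15) g) := by rw [(htb h).1, Subgroup.card_top, h.card]
theorem lo1 : 24 ≤ Nat.card (Lc (nat_lit 7) g) := chain_down (N := 7) (l32l0_le h) (lo0 h) (by norm_num)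
theorem rel0 : Rel g l32l0_P (nat_lit 7) (nat_lit 15) :=
  rel_step' (N := 7) (hchk h) l32l0_ok l32l0_tab l32l0_hP ⟨rfl, rfl, rfl⟩ rfl (chain_eq (up1 h) (lo0 h))
theorem lo2 : 6 ≤ Nat.card (Lc (nat_lit 3) g) := chain_down (N := 4) (l32l1_le h) (lo1 h) (by norm_num)
theorem rel1 : Rel g l32l1_P (nat_lit 3) (nat_lit 7) :=
  rel_step' (N := 4) (hchk h) l32l1_ok l32l1_tab l32l1_hP ⟨rfl, rfl, rfl⟩ rfl (chain_eq (up2 h) (lo1 h))
theorem lo3 : 2 ≤ Nat.card (Lc (nat_lit 1) g) := chain_down (N := 3) (l32l2_le h) (lo2 h) (by norm_num)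
theorem rel2 : Rel g l32l2_P (nat_lit 1) (nat_lit 3) :=
  rel_step' (N := 3) (hchk h) l32l2_ok l32l2_tab l32l2_hP ⟨rfl, rfl, rfl⟩ rfl (chain_eq (up3 h) (lo2 h))
theorem lo4 : 1 ≤ Nat.card (Lc (nat_lit 0) g) := chain_down (N := 2) (l32l3_le h) (lo3 h) (by norm_num)
theorem rel3 : Rel g l32l3_P (nat_lit 0) (nat_lit 1) :=
  rel_step' (N := 2) (hchk h) l32l3_ok l32l3_tab l32l3_hP ⟨rfl, rfl, rfl⟩ rfl (chain_eq (up4 h) (lo3 h))
theorem relP : Rel g P 0 (2 ^ 4 - 1) := ((((rel3 h).trans (rel2 h)).trans (rel1 h)).trans (rel0 h))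
theorem hP : ∀ w ∈ P, ev g w = 1 := fun w hw => hchk h w (allL_sound hP0 w hw)
theorem hQ : ∀ q ∈ Q, ev g (q.1 ++ q.2) = ev g (q.2 ++ q.1) := pairs_sound h.am (htb h).2 hQ0
theorem pb2 : PB G0 2 1 :=
  h.pcpb (htb h).2 (e := 2) (by norm_num) l32p2_ext l32p2_1 l32p2_2 l32p2_hE l32p2_hc (by decide +kernel)
theorem bound (Γ : Type u) [Group Γ] [Finite Γ] (σ : Γ →* G0) (hσ : IsStemExtension σ) :
    Nat.card σ.ker ≤ 2 :=
  card_ker_dvd (B := 7) [(2, 1)] h.card (by decide +kernel) (by decide +kernel) (by norm_num) (by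
    simp only [List.mem_cons, List.not_mem_nil, or_false, forall_eq_or_imp, forall_eq]
    exact ⟨pb2 h, by decide⟩) Γ σ hσ

theorem mult : HasCyclicSchurMultiplier G0 2 :=
  hasSchur_cyc1 (GG := 4) (relP h) (htb h).1 h.one (hP h) (hQ h) c2_cov (by decide +kernel) (bound h)

end Cfsg.Agent.H28.L32
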