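import Mathlib
import Cfsg.Agent.H28.PCM
import Cfsg.Agent.H28.FM2

set_option maxRecDepth 100000
set_option linter.all false
set_option autoImplicit false

namespace Cfsg.Agent.H28.L34
open Cfsg.Agent.H25 Cfsg.Agent.H28

noncomputable def T_tbl : NT :=
(.leaf (nat_lit 0) (nat_lit 0x7a33a4ce9ec69b5643e4bfa2994a18b1629f3a64eae5e9651594855ad726db912d34b339ac48d27e55ca52519d1152ecbbd4ab5f3a8a350a38704ec16c6ccc132ad3ad6ef4f136aa58c296350851c0c083021a9850a3410b122848a))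

noncomputable def T : PT where
  N := nat_lit 21
  G := nat_lit 5
  W := nat_lit 7
  mask := nat_lit 127
  sb := nat_lit 2
  sm := nat_lit 3
  tbl := T_tbl

def Ms : List (List ℕ) :=
  [[nat_lit 2, nat_lit 51, nat_lit 257],
  [nat_lit 1, nat_lit 17, nat_lit 257],
  [nat_lit 19, nat_lit 51, nat_lit 291],
  [nat_lit 1, nat_lit 257, nat_lit 17],
  [nat_lit 3, nat_lit 531, nat_lit 291]]

noncomputable def vs_tbl : NT :=
(.leaf (nat_lit 0) (nat_lit 0x101311011100331301210201021031310121010221110211131231111321001))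

noncomputable def vs : ℕ → ℕ := tabF vs_tbl (nat_lit 12) (nat_lit 4095)

noncomputable def look_tbl : NT :=
(.node (nat_lit 2559)
(.node (nat_lit 1279)
(.node (nat_lit 159)
(.node (nat_lit 79)
(.leaf (nat_lit 5) (nat_lit 0x4631))
(.leaf (nat_lit 80) (nat_lit 0x538c8)))
(.node (nat_lit 239)
(.leaf (nat_lit 160) (nat_lit 0x71948))
(.leaf (nat_lit 240) (nat_lit 0x329c8))))
(.node (nat_lit 1439)
(.node (nat_lit 1359)
(.leaf (nat_lit 1280) (nat_lit 0x7b680))
(.leaf (nat_lit 1360) (nat_lit 0x99452)))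
(.node (nat_lit 1519)
(.leaf (nat_lit 1440) (nat_lit 0x9d2c))
(.leaf (nat_lit 1520) (nat_lit 0x80c8b)))))
(.node (nat_lit 3839)
(.node (nat_lit 2719)
(.node (nat_lit 2639)
(.leaf (nat_lit 2560) (nat_lit 0x6d1e0))
(.leaf (nat_lit 2640) (nat_lit 0x1920b)))
(.node (nat_lit 2799)
(.leaf (nat_lit 2720) (nat_lit 0x28a72))
(.leaf (nat_lit 2800) (nat_lit 0x3a42c))))
(.node (nat_lit 3999)
(.node (nat_lit 3919)
(.leaf (nat_lit 3840) (nat_lit 0xa3da0))
(.leaf (nat_lit 3920) (nat_lit 0x484ec)))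
(.node (nat_lit 4079)
(.leaf (nat_lit 4000) (nat_lit 0x2406b))
(.leaf (nat_lit 4080) (nat_lit 0x14cb2))))))

noncomputable def look : ℕ → ℕ := tabF look_tbl (nat_lit 5) (nat_lit 31)

theorem am_0 : K4.amOK 3 T Ms vs (nat_lit 0) (nat_lit 21) = true := by decide +kernel
theorem hAm : ∀ i < T.N, K4.AmP 3 T Ms vs i := rng_all (FT.amOK_sound _ am_0)
theorem hInj : K4.injOK 3 vs look T.N = true := by decide +kernel

theorem hm : allL (K4.slOK 3) Ms = true := by decide +kernel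

noncomputable def l34l0_tbl : NT :=
(.node (nat_lit 4079)
(.node (nat_lit 2039)
(.leaf (nat_lit 0) (nat_lit 0x1e14c08a00001d19808d0d009a15e08d04c0c514c0962c609b00001c05008500001b00001a38c0990400841041470000190ce09700001810c08500001711a10500001604e08411408d4cc0950c21094d81030dc10904e0834d411004c0831000940000150961040000140d410600001304008215208b0000120ce08e00001110c08810009000001005008200000f09614300000d00000e15208a00000c04e0820de0ca0cc08200000b1120820d008800000a04c0c10cc08608610351208905008100000900000804c0810000070d8084000006000005094084000004040080084141000003082141000002000040000001000040000040000040000040))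
(.leaf (nat_lit 2040) (nat_lit 0x4da0e41580e34cc09e30008c4d20a409c10f04e08c45e1ce04c08c00002900002809610d0000271541163cc0984400913d209105008b48e0a33482cb04c08b4440981981133d609800002639409900002504008a18414e5500a408214b00002418c09a4820a300002305008a44e09111614c14c09018009205208812015020e09249e1494cc0a10c81481840d23e00d104e0884561520cc09140a1931d20980d00a100002204c0c748c0941460951d20940500871da15500002104c08740611939809941009441c15609409350c0890ca18605208615009528e09f1180d54cc09f28209f29a09f0d009b04e08600002048c09b0400851d209700001f082147)))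
(.node (nat_lit 6119)
(.leaf (nat_lit 4080) (nat_lit 0x6d00ae61a16a0940ac00003404009a0d20b25100b30ce0b10000331cc0a300003205209a2160a85ce0ab09815c4cc0a20000315580ab19c12704e09a5960ed54c0ab48212621a1225560ac04e0986580ee0cc0a46000ad21209e5960a568e0ae04c0d704c09750009c49811b50615750e09c0940a518c09c4c00960520961a015c45a1591940a860c0ad4421222520a65900ad04e09349e0e704c0920000304d812109611351e12049411404c08f00002f5181204d611e54e0a14d411f50c0a02c008f2d208f05008e25c15049614f04c08e00002e1d80a55100a000002d49409b00002c04008d1c415d00002b18215d00002a0cc0a84c40a405208c1d00a3))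
(.leaf (nat_lit 6120) (nat_lit 0xcc0b68841375d20b68500b185c17604c0ef04c0af8460b65980b77d613288e0b70940b77cc0b20400aa7441746c616f6421757d41310cc0b37000ac7920b55560b469e0b404c0e904c0a95400ab5841714ca1296021720940b460c0b10400a80841698100b664e0b37980f580c0b50400a75d20b38160b70821695d817260c0b00400a150417044617058216f5c81f00000370400a054416f7100b55ce0b000003668c0a604009e60416d69612a64216569412b5cc0a75c81656520ae55c12204e09e5d41220cc0aa6c83742520aa5900a65dc16c04c0dd6cc0ae5060b35920a705009d59a1685081e604c09d0000352180ac))))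

noncomputable def l34l0_par : NT :=
(.leaf (nat_lit 0) (nat_lit 0x8fc6a00fb7b3d1dcca622e16ab3582b9409f4ea451e8a439ccd85a2b150a44b249208842200f86631178b054271288846200e0642612080381a0b040180800))

noncomputable def l34l0_rt : RT :=
(.node (nat_lit 7)
(.node (nat_lit 3)
(.node (nat_lit 1)
(.node (nat_lit 0)
(.leaf (nat_lit 0) [nat_lit 4, nat_lit 4] (nat_lit 1) (nat_lit 2340) (nat_lit 0))
(.leaf (nat_lit 1) [nat_lit 1, nat_lit 4, nat_lit 1, nat_lit 4] (nat_lit 3) (nat_lit 0x861861) (nat_lit 0)))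
(.node (nat_lit 2)
(.leaf (nat_lit 2) [nat_lit 3, nat_lit 4, nat_lit 3, nat_lit 4] (nat_lit 3) (nat_lit 0x8e38e3) (nat_lit 0))
(.leaf (nat_lit 3) [nat_lit 2, nat_lit 4, nat_lit 2, nat_lit 4, nat_lit 2, nat_lit 4] (nat_lit 5) (nat_lit 0x8a28a28a2) (nat_lit 0))))
(.node (nat_lit 5)
(.node (nat_lit 4)
(.leaf (nat_lit 4) [nat_lit 0, nat_lit 1, nat_lit 4, nat_lit 2, nat_lit 0, nat_lit 1, nat_lit 4, nat_lit 2, nat_lit 0, nat_lit 1, nat_lit 4, nat_lit 2] (nat_lit 11) (nat_lit 0x508508508508508508) (nat_lit 0))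
(.leaf (nat_lit 5) [nat_lit 0, nat_lit 2, nat_lit 3, nat_lit 4, nat_lit 0, nat_lit 2, nat_lit 3, nat_lit 4, nat_lit 0, nat_lit 2, nat_lit 3, nat_lit 4] (nat_lit 11) (nat_lit 0x8d08d08d08d08d08d0) (nat_lit 0)))
(.node (nat_lit 6)
(.leaf (nat_lit 0) [nat_lit 0, nat_lit 5] (nat_lit 1) (nat_lit 2600) (nat_lit 0))
(.leaf (nat_lit 0) [nat_lit 1, nat_lit 1] (nat_lit 1) (nat_lit 585) (nat_lit 0)))))
(.node (nat_lit 11)
(.node (nat_lit 9)
(.node (nat_lit 8)
(.leaf (nat_lit 0) [nat_lit 2, nat_lit 2] (nat_lit 1) (nat_lit 1170) (nat_lit 0))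
(.leaf (nat_lit 0) [nat_lit 3, nat_lit 3] (nat_lit 1) (nat_lit 1755) (nat_lit 0)))
(.node (nat_lit 10)
(.leaf (nat_lit 0) [nat_lit 0, nat_lit 0, nat_lit 0] (nat_lit 2) (nat_lit 0) (nat_lit 0))
(.leaf (nat_lit 0) [nat_lit 0, nat_lit 2, nat_lit 0, nat_lit 2] (nat_lit 3) (nat_lit 0x410410) (nat_lit 0))))
(.node (nat_lit 13)
(.node (nat_lit 12)
(.leaf (nat_lit 0) [nat_lit 0, nat_lit 3, nat_lit 0, nat_lit 3] (nat_lit 3) (nat_lit 0x618618) (nat_lit 0))
(.leaf (nat_lit 0) [nat_lit 1, nat_lit 3, nat_lit 1, nat_lit 3] (nat_lit 3) (nat_lit 0x659659) (nat_lit 0)))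
(.node (nat_lit 14)
(.leaf (nat_lit 0) [nat_lit 1, nat_lit 2, nat_lit 1, nat_lit 2, nat_lit 1, nat_lit 2] (nat_lit 5) (nat_lit 0x451451451) (nat_lit 0))
(.node (nat_lit 15)
(.leaf (nat_lit 0) [nat_lit 0, nat_lit 1, nat_lit 0, nat_lit 1, nat_lit 0, nat_lit 1] (nat_lit 5) (nat_lit 0x208208208) (nat_lit 0))
(.leaf (nat_lit 0) [nat_lit 2, nat_lit 3, nat_lit 2, nat_lit 3, nat_lit 2, nat_lit 3] (nat_lit 5) (nat_lit 0x69a69a69a) (nat_lit 0)))))))

def l34l0_P : List (List ℕ) :=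
  [[nat_lit 4, nat_lit 4],
  [nat_lit 1, nat_lit 4, nat_lit 1, nat_lit 4],
  [nat_lit 3, nat_lit 4, nat_lit 3, nat_lit 4],
  [nat_lit 2, nat_lit 4, nat_lit 2, nat_lit 4, nat_lit 2, nat_lit 4],
  [nat_lit 0, nat_lit 1, nat_lit 4, nat_lit 2, nat_lit 0, nat_lit 1, nat_lit 4, nat_lit 2, nat_lit 0, nat_lit 1, nat_lit 4, nat_lit 2],
  [nat_lit 0, nat_lit 2, nat_lit 3, nat_lit 4, nat_lit 0, nat_lit 2, nat_lit 3, nat_lit 4, nat_lit 0, nat_lit 2, nat_lit 3, nat_lit 4]]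

noncomputable def l34l0_C : TC where
  G := nat_lit 6
  N := nat_lit 56
  W := nat_lit 24
  mask := nat_lit 0xffffff
  VM := nat_lit 0
  TV := nat_lit 0
  vb := nat_lit 0
  TM := nat_lit 63
  rb := nat_lit 6
  RM := nat_lit 4095
  BIG := nat_lit 0x8c0000
  b := nat_lit 3
  lm := nat_lit 7
  Y := nat_lit 47
  n := nat_lit 1
  K := nat_lit 0
  K0 := nat_lit 0
  QM := nat_lit 0
  k := nat_lit 0
  w := nat_lit 1
  c := nat_lit 0
  cq := nat_lit 0
  Lmax := nat_lit 12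
  PW := nat_lit 9
  PM := nat_lit 511
  tbl := l34l0_tbl
  par := l34l0_par
  rt := l34l0_rt

noncomputable def l34l0 : Lv where
  C := l34l0_C
  df := [[nat_lit 0],
  [nat_lit 1],
  [nat_lit 2],
  [nat_lit 3],
  [nat_lit 4],
  [nat_lit 0, nat_lit 0]]
  X0 := nat_lit 15
  X := nat_lit 31
  Xl := nat_lit 31
  GG := nat_lit 5
  back := [nat_lit 0, nat_lit 1, nat_lit 2, nat_lit 3, nat_lit 4]
  P := l34l0_P

theorem l34l0_e0 : l34l0_C.edges (nat_lit 0) (nat_lit 56) = true := by decide +kernel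
theorem l34l0_cl : l34l0_C.closed l34l0.Xl (nat_lit 0) (nat_lit 56) = true := by decide +kernel
theorem l34l0_tab : l34l0.Tab :=
  ⟨rng_all (TC.edges_sound l34l0_e0), rng_all (TC.closed_sound l34l0_cl)⟩

noncomputable def l34l1_tbl : NT :=
(.leaf (nat_lit 0) (nat_lit 0x1a0294014ac0a55050a0365013820ac8056482a9c150002b208dd0465412000244049184458110001b80a9a02240100001220a50852000800008002000100008))

noncomputable def l34l1_par : NT :=
(.leaf (nat_lit 0) (nat_lit 0x26f59c60))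

noncomputable def l34l1_rt : RT :=
(.node (nat_lit 4)
(.node (nat_lit 1)
(.node (nat_lit 0)
(.leaf (nat_lit 0) [nat_lit 3, nat_lit 3] (nat_lit 1) (nat_lit 1755) (nat_lit 0))
(.leaf (nat_lit 1) [nat_lit 0, nat_lit 3, nat_lit 0, nat_lit 3] (nat_lit 3) (nat_lit 0x618618) (nat_lit 0)))
(.node (nat_lit 2)
(.leaf (nat_lit 2) [nat_lit 1, nat_lit 3, nat_lit 1, nat_lit 3] (nat_lit 3) (nat_lit 0x659659) (nat_lit 0))
(.node (nat_lit 3)
(.leaf (nat_lit 3) [nat_lit 2, nat_lit 3, nat_lit 2, nat_lit 3, nat_lit 2, nat_lit 3] (nat_lit 5) (nat_lit 0x69a69a69a) (nat_lit 0))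
(.leaf (nat_lit 0) [nat_lit 0, nat_lit 4] (nat_lit 1) (nat_lit 2080) (nat_lit 0)))))
(.node (nat_lit 7)
(.node (nat_lit 5)
(.leaf (nat_lit 0) [nat_lit 1, nat_lit 1] (nat_lit 1) (nat_lit 585) (nat_lit 0))
(.node (nat_lit 6)
(.leaf (nat_lit 0) [nat_lit 2, nat_lit 2] (nat_lit 1) (nat_lit 1170) (nat_lit 0))
(.leaf (nat_lit 0) [nat_lit 0, nat_lit 0, nat_lit 0] (nat_lit 2) (nat_lit 0) (nat_lit 0))))
(.node (nat_lit 8)
(.leaf (nat_lit 0) [nat_lit 0, nat_lit 2, nat_lit 0, nat_lit 2] (nat_lit 3) (nat_lit 0x410410) (nat_lit 0))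
(.node (nat_lit 9)
(.leaf (nat_lit 0) [nat_lit 0, nat_lit 1, nat_lit 0, nat_lit 1, nat_lit 0, nat_lit 1] (nat_lit 5) (nat_lit 0x208208208) (nat_lit 0))
(.leaf (nat_lit 0) [nat_lit 1, nat_lit 2, nat_lit 1, nat_lit 2, nat_lit 1, nat_lit 2] (nat_lit 5) (nat_lit 0x451451451) (nat_lit 0))))))

def l34l1_P : List (List ℕ) :=
  [[nat_lit 3, nat_lit 3],
  [nat_lit 0, nat_lit 3, nat_lit 0, nat_lit 3],
  [nat_lit 1, nat_lit 3, nat_lit 1, nat_lit 3],
  [nat_lit 2, nat_lit 3, nat_lit 2, nat_lit 3, nat_lit 2, nat_lit 3]]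

noncomputable def l34l1_C : TC where
  G := nat_lit 5
  N := nat_lit 6
  W := nat_lit 17
  mask := nat_lit 131071
  VM := nat_lit 0
  TV := nat_lit 0
  vb := nat_lit 0
  TM := nat_lit 7
  rb := nat_lit 3
  RM := nat_lit 2047
  BIG := nat_lit 98304
  b := nat_lit 3
  lm := nat_lit 7
  Y := nat_lit 23
  n := nat_lit 1
  K := nat_lit 0
  K0 := nat_lit 0
  QM := nat_lit 0
  k := nat_lit 0
  w := nat_lit 1
  c := nat_lit 0
  cq := nat_lit 0
  Lmax := nat_lit 6
  PW := nat_lit 5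
  PM := nat_lit 31
  tbl := l34l1_tbl
  par := l34l1_par
  rt := l34l1_rt

noncomputable def l34l1 : Lv where
  C := l34l1_C
  df := [[nat_lit 0],
  [nat_lit 1],
  [nat_lit 2],
  [nat_lit 3],
  [nat_lit 0, nat_lit 0]]
  X0 := nat_lit 7
  X := nat_lit 15
  Xl := nat_lit 15
  GG := nat_lit 5
  back := [nat_lit 0, nat_lit 1, nat_lit 2, nat_lit 3, nat_lit 0]
  P := l34l1_P

theorem l34l1_e0 : l34l1_C.edges (nat_lit 0) (nat_lit 6) = true := by decide +kernel
theorem l34l1_cl : l34l1_C.closed l34l1.Xl (nat_lit 0) (nat_lit 6) = true := by decide +kernel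
theorem l34l1_tab : l34l1.Tab :=
  ⟨rng_all (TC.edges_sound l34l1_e0), rng_all (TC.closed_sound l34l1_cl)⟩

noncomputable def l34l2_tbl : NT :=
(.leaf (nat_lit 0) (nat_lit 0x6c13801390132c1a2c1264147814541400044822301100036c112010000244290008000100080008))

noncomputable def l34l2_par : NT :=
(.leaf (nat_lit 0) (nat_lit 0xb41440))

noncomputable def l34l2_rt : RT :=
(.node (nat_lit 2)
(.node (nat_lit 0)
(.leaf (nat_lit 0) [nat_lit 2, nat_lit 2] (nat_lit 1) (nat_lit 170) (nat_lit 0))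
(.node (nat_lit 1)
(.leaf (nat_lit 1) [nat_lit 0, nat_lit 2, nat_lit 0, nat_lit 2] (nat_lit 3) (nat_lit 34952) (nat_lit 0))
(.leaf (nat_lit 2) [nat_lit 1, nat_lit 2, nat_lit 1, nat_lit 2, nat_lit 1, nat_lit 2] (nat_lit 5) (nat_lit 0x999999) (nat_lit 0))))
(.node (nat_lit 4)
(.node (nat_lit 3)
(.leaf (nat_lit 0) [nat_lit 0, nat_lit 3] (nat_lit 1) (nat_lit 204) (nat_lit 0))
(.leaf (nat_lit 0) [nat_lit 1, nat_lit 1] (nat_lit 1) (nat_lit 85) (nat_lit 0)))
(.node (nat_lit 5)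
(.leaf (nat_lit 0) [nat_lit 0, nat_lit 0, nat_lit 0] (nat_lit 2) (nat_lit 0) (nat_lit 0))
(.leaf (nat_lit 0) [nat_lit 0, nat_lit 1, nat_lit 0, nat_lit 1, nat_lit 0, nat_lit 1] (nat_lit 5) (nat_lit 0x444444) (nat_lit 0)))))

def l34l2_P : List (List ℕ) :=
  [[nat_lit 2, nat_lit 2],
  [nat_lit 0, nat_lit 2, nat_lit 0, nat_lit 2],
  [nat_lit 1, nat_lit 2, nat_lit 1, nat_lit 2, nat_lit 1, nat_lit 2]]

noncomputable def l34l2_C : TC where
  G := nat_lit 4
  N := nat_lit 5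
  W := nat_lit 16
  mask := nat_lit 65535
  VM := nat_lit 0
  TV := nat_lit 0
  vb := nat_lit 0
  TM := nat_lit 7
  rb := nat_lit 3
  RM := nat_lit 1023
  BIG := nat_lit 40960
  b := nat_lit 2
  lm := nat_lit 3
  Y := nat_lit 11
  n := nat_lit 1
  K := nat_lit 0
  K0 := nat_lit 0
  QM := nat_lit 0
  k := nat_lit 0
  w := nat_lit 1
  c := nat_lit 0
  cq := nat_lit 0
  Lmax := nat_lit 6
  PW := nat_lit 5
  PM := nat_lit 31
  tbl := l34l2_tbl
  par := l34l2_par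
  rt := l34l2_rt

noncomputable def l34l2 : Lv where
  C := l34l2_C
  df := [[nat_lit 0],
  [nat_lit 1],
  [nat_lit 2],
  [nat_lit 0, nat_lit 0]]
  X0 := nat_lit 3
  X := nat_lit 7
  Xl := nat_lit 7
  GG := nat_lit 5
  back := [nat_lit 0, nat_lit 1, nat_lit 2, nat_lit 0, nat_lit 0]
  P := l34l2_P

theorem l34l2_e0 : l34l2_C.edges (nat_lit 0) (nat_lit 5) = true := by decide +kernel
theorem l34l2_cl : l34l2_C.closed l34l2.Xl (nat_lit 0) (nat_lit 5) = true := by decide +kernel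
theorem l34l2_tab : l34l2.Tab :=
  ⟨rng_all (TC.edges_sound l34l2_e0), rng_all (TC.closed_sound l34l2_cl)⟩

noncomputable def l34l3_tbl : NT :=
(.leaf (nat_lit 0) (nat_lit 0x6814c028a0694094416982c0019008000400100008004))

noncomputable def l34l3_par : NT :=
(.leaf (nat_lit 0) (nat_lit 0x5310))

noncomputable def l34l3_rt : RT :=
(.node (nat_lit 1)
(.node (nat_lit 0)
(.leaf (nat_lit 0) [nat_lit 1, nat_lit 1] (nat_lit 1) (nat_lit 85) (nat_lit 0))
(.leaf (nat_lit 1) [nat_lit 0, nat_lit 1, nat_lit 0, nat_lit 1, nat_lit 0, nat_lit 1] (nat_lit 5) (nat_lit 0x444444) (nat_lit 0)))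
(.node (nat_lit 2)
(.leaf (nat_lit 0) [nat_lit 0, nat_lit 2] (nat_lit 1) (nat_lit 136) (nat_lit 0))
(.leaf (nat_lit 0) [nat_lit 0, nat_lit 0, nat_lit 0] (nat_lit 2) (nat_lit 0) (nat_lit 0))))

def l34l3_P : List (List ℕ) :=
  [[nat_lit 1, nat_lit 1],
  [nat_lit 0, nat_lit 1, nat_lit 0, nat_lit 1, nat_lit 0, nat_lit 1]]

noncomputable def l34l3_C : TC where
  G := nat_lit 3
  N := nat_lit 4
  W := nat_lit 15
  mask := nat_lit 32767
  VM := nat_lit 0
  TV := nat_lit 0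
  vb := nat_lit 0
  TM := nat_lit 3
  rb := nat_lit 2
  RM := nat_lit 1023
  BIG := nat_lit 16384
  b := nat_lit 2
  lm := nat_lit 3
  Y := nat_lit 5
  n := nat_lit 1
  K := nat_lit 0
  K0 := nat_lit 0
  QM := nat_lit 0
  k := nat_lit 0
  w := nat_lit 1
  c := nat_lit 0
  cq := nat_lit 0
  Lmax := nat_lit 6
  PW := nat_lit 4
  PM := nat_lit 15
  tbl := l34l3_tbl
  par := l34l3_par
  rt := l34l3_rt

noncomputable def l34l3 : Lv where
  C := l34l3_C
  df := [[nat_lit 0],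
  [nat_lit 1],
  [nat_lit 0, nat_lit 0]]
  X0 := nat_lit 1
  X := nat_lit 3
  Xl := nat_lit 3
  GG := nat_lit 5
  back := [nat_lit 0, nat_lit 1, nat_lit 0, nat_lit 0, nat_lit 0]
  P := l34l3_P

theorem l34l3_e0 : l34l3_C.edges (nat_lit 0) (nat_lit 4) = true := by decide +kernel
theorem l34l3_cl : l34l3_C.closed l34l3.Xl (nat_lit 0) (nat_lit 4) = true := by decide +kernel
theorem l34l3_tab : l34l3.Tab :=
  ⟨rng_all (TC.edges_sound l34l3_e0), rng_all (TC.closed_sound l34l3_cl)⟩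

noncomputable def l34l4_tbl : NT :=
(.leaf (nat_lit 0) (nat_lit 0x602480c202120a0008001))

noncomputable def l34l4_par : NT :=
(.leaf (nat_lit 0) (nat_lit 0x40))

noncomputable def l34l4_rt : RT :=
(.node (nat_lit 0)
(.leaf (nat_lit 0) [nat_lit 0, nat_lit 1] (nat_lit 1) (nat_lit 10) (nat_lit 0))
(.leaf (nat_lit 0) [nat_lit 0, nat_lit 0, nat_lit 0] (nat_lit 2) (nat_lit 0) (nat_lit 0)))

def l34l4_P : List (List ℕ) :=
  [[nat_lit 0, nat_lit 0, nat_lit 0]]

noncomputable def l34l4_C : TC where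
  G := nat_lit 2
  N := nat_lit 3
  W := nat_lit 14
  mask := nat_lit 16383
  VM := nat_lit 0
  TV := nat_lit 0
  vb := nat_lit 0
  TM := nat_lit 3
  rb := nat_lit 2
  RM := nat_lit 511
  BIG := nat_lit 8192
  b := nat_lit 1
  lm := nat_lit 1
  Y := nat_lit 0
  n := nat_lit 1
  K := nat_lit 0
  K0 := nat_lit 0
  QM := nat_lit 0
  k := nat_lit 0
  w := nat_lit 1
  c := nat_lit 0
  cq := nat_lit 0
  Lmax := nat_lit 3
  PW := nat_lit 3
  PM := nat_lit 7
  tbl := l34l4_tbl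
  par := l34l4_par
  rt := l34l4_rt

noncomputable def l34l4 : Lv where
  C := l34l4_C
  df := [[nat_lit 0],
  [nat_lit 0, nat_lit 0]]
  X0 := nat_lit 0
  X := nat_lit 1
  Xl := nat_lit 1
  GG := nat_lit 5
  back := [nat_lit 0, nat_lit 0, nat_lit 0, nat_lit 0, nat_lit 0]
  P := l34l4_P

theorem l34l4_e0 : l34l4_C.edges (nat_lit 0) (nat_lit 3) = true := by decide +kernel
theorem l34l4_cl : l34l4_C.closed l34l4.Xl (nat_lit 0) (nat_lit 3) = true := by decide +kernel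
theorem l34l4_tab : l34l4.Tab :=
  ⟨rng_all (TC.edges_sound l34l4_e0), rng_all (TC.closed_sound l34l4_cl)⟩

noncomputable def l34ch_0 : OL where
  b := nat_lit 0
  n := nat_lit 21
  S := [[nat_lit 0],
  [nat_lit 1],
  [nat_lit 2],
  [nat_lit 4]]
  O := ⟨nat_lit 0, nat_lit 4, nat_lit 5, nat_lit 31, nat_lit 0, nat_lit 0,
(.leaf (nat_lit 0) (nat_lit 0x20e31381e7309b0a01aa9056450d254090b60106584ed700ec888cf480c928cae9809368c727886880c5418443080211000200000))⟩

noncomputable def l34ch_1 : OL where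
  b := nat_lit 1
  n := nat_lit 20
  S := [[nat_lit 0, nat_lit 1],
  [nat_lit 2, nat_lit 1],
  [nat_lit 4, nat_lit 1]]
  O := ⟨nat_lit 0, nat_lit 4, nat_lit 5, nat_lit 31, nat_lit 0, nat_lit 0,
(.leaf (nat_lit 0) (nat_lit 0x2800060a31185a7981aa585447812f4050948106504f3300f0880cc700ad2088e904656806b388548044810812084030000200001))⟩

noncomputable def l34ch_2 : OL where
  b := nat_lit 2
  n := nat_lit 16
  S := [[nat_lit 0, nat_lit 1, nat_lit 0, nat_lit 2],
  [nat_lit 0, nat_lit 3, nat_lit 0, nat_lit 2],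
  [nat_lit 0, nat_lit 4, nat_lit 0, nat_lit 2]]
  O := ⟨nat_lit 0, nat_lit 4, nat_lit 5, nat_lit 31, nat_lit 0, nat_lit 0,
(.leaf (nat_lit 0) (nat_lit 0x1000038000580002000028000680e6004ca308af404a7500b27088b488690884c604537804d008300043118023008140000800002))⟩

noncomputable def l34ch_3 : OL where
  b := nat_lit 3
  n := nat_lit 3
  S := [[nat_lit 3, nat_lit 2]]
  O := ⟨nat_lit 0, nat_lit 4, nat_lit 5, nat_lit 31, nat_lit 0, nat_lit 0,
(.node (nat_lit 174)
(.leaf (nat_lit 0) (nat_lit 0x310000800003))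
(.node (nat_lit 354)
(.leaf (nat_lit 175) (nat_lit 0x1))
(.leaf (nat_lit 355) (nat_lit 0x2))))⟩

noncomputable def l34ch : List OL := [l34ch_0, l34ch_1, l34ch_2, l34ch_3]

theorem hch : chainOK T (nat_lit 31) l34ch [] = true := by decide +kernel
noncomputable def chk : List ℕ → Bool := T.chk [nat_lit 3, nat_lit 2, nat_lit 1, nat_lit 0]
theorem l34l0_ok : l34l0.ok chk = true := by decide +kernel
theorem l34l0_hP : allL chk l34l0.P = true := by decide +kernel
theorem l34l1_ok : l34l1.ok chk = true := by decide +kernel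
theorem l34l1_hP : allL chk l34l1.P = true := by decide +kernel
theorem l34l2_ok : l34l2.ok chk = true := by decide +kernel
theorem l34l2_hP : allL chk l34l2.P = true := by decide +kernel
theorem l34l3_ok : l34l3.ok chk = true := by decide +kernel
theorem l34l3_hP : allL chk l34l3.P = true := by decide +kernel
theorem l34l4_ok : l34l4.ok chk = true := by decide +kernel
theorem l34l4_hP : allL chk l34l4.P = true := by decide +kernel
def P : List (List ℕ) := l34l4_P ++ l34l3_P ++ l34l2_P ++ l34l1_P ++ l34l0_P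
theorem hP0 : allL chk P = true := by decide +kernel
def Q : List (List ℕ × List ℕ) := [([nat_lit 2, nat_lit 3], [nat_lit 0]), ([nat_lit 2, nat_lit 4, nat_lit 0, nat_lit 1], [nat_lit 0, nat_lit 1, nat_lit 2, nat_lit 4]), ([nat_lit 1, nat_lit 2, nat_lit 3, nat_lit 4, nat_lit 0, nat_lit 4], [nat_lit 0, nat_lit 2, nat_lit 1, nat_lit 3, nat_lit 2, nat_lit 4])]

theorem hQ0 : allL (fun q => T.chk2 [nat_lit 3, nat_lit 2, nat_lit 1, nat_lit 0] (app q.1 q.2) (app q.2 q.1)) Q = true := by decide +kernel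

noncomputable def l34p2_ru : RuT :=
(.node (nat_lit 27)
(.node (nat_lit 17)
(.node (nat_lit 8)
(.node (nat_lit 0)
(.leaf (nat_lit 0) (nat_lit 0) (nat_lit 0) [])
(.leaf (nat_lit 1) (nat_lit 0) (nat_lit 1) [nat_lit 0, nat_lit 1]))
(.node (nat_lit 9)
(.leaf (nat_lit 1) (nat_lit 1) (nat_lit 2) [])
(.node (nat_lit 16)
(.leaf (nat_lit 2) (nat_lit 0) (nat_lit 3) [nat_lit 0, nat_lit 2, nat_lit 4, nat_lit 5])
(.leaf (nat_lit 2) (nat_lit 1) (nat_lit 4) [nat_lit 1, nat_lit 2, nat_lit 5]))))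
(.node (nat_lit 24)
(.node (nat_lit 18)
(.leaf (nat_lit 2) (nat_lit 2) (nat_lit 5) [])
(.leaf (nat_lit 3) (nat_lit 0) (nat_lit 6) [nat_lit 0, nat_lit 3, nat_lit 5]))
(.node (nat_lit 25)
(.leaf (nat_lit 3) (nat_lit 1) (nat_lit 7) [nat_lit 1, nat_lit 3, nat_lit 4])
(.node (nat_lit 26)
(.leaf (nat_lit 3) (nat_lit 2) (nat_lit 8) [nat_lit 2, nat_lit 3])
(.leaf (nat_lit 3) (nat_lit 3) (nat_lit 9) [])))))
(.node (nat_lit 36)
(.node (nat_lit 33)
(.node (nat_lit 32)
(.leaf (nat_lit 4) (nat_lit 0) (nat_lit 10) [nat_lit 0, nat_lit 4])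
(.leaf (nat_lit 4) (nat_lit 1) (nat_lit 11) [nat_lit 1, nat_lit 4]))
(.node (nat_lit 34)
(.leaf (nat_lit 4) (nat_lit 2) (nat_lit 12) [nat_lit 2, nat_lit 4])
(.node (nat_lit 35)
(.leaf (nat_lit 4) (nat_lit 3) (nat_lit 13) [nat_lit 3, nat_lit 4])
(.leaf (nat_lit 4) (nat_lit 4) (nat_lit 14) []))))
(.node (nat_lit 42)
(.node (nat_lit 40)
(.leaf (nat_lit 5) (nat_lit 0) (nat_lit 15) [nat_lit 0, nat_lit 5])
(.node (nat_lit 41)
(.leaf (nat_lit 5) (nat_lit 1) (nat_lit 16) [nat_lit 1, nat_lit 5])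
(.leaf (nat_lit 5) (nat_lit 2) (nat_lit 17) [nat_lit 2, nat_lit 5])))
(.node (nat_lit 43)
(.leaf (nat_lit 5) (nat_lit 3) (nat_lit 18) [nat_lit 3, nat_lit 5])
(.node (nat_lit 44)
(.leaf (nat_lit 5) (nat_lit 4) (nat_lit 19) [nat_lit 4, nat_lit 5])
(.leaf (nat_lit 5) (nat_lit 5) (nat_lit 20) []))))))

def l34p2_E : List (List ℕ × List ℕ) :=
  [([nat_lit 0, nat_lit 0], []),
    ([nat_lit 1, nat_lit 0], [nat_lit 0, nat_lit 1]),
    ([nat_lit 1, nat_lit 1], []),
    ([nat_lit 2, nat_lit 0], [nat_lit 0, nat_lit 2, nat_lit 4, nat_lit 5]),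
    ([nat_lit 2, nat_lit 1], [nat_lit 1, nat_lit 2, nat_lit 5]),
    ([nat_lit 2, nat_lit 2], []),
    ([nat_lit 3, nat_lit 0], [nat_lit 0, nat_lit 3, nat_lit 5]),
    ([nat_lit 3, nat_lit 1], [nat_lit 1, nat_lit 3, nat_lit 4]),
    ([nat_lit 3, nat_lit 2], [nat_lit 2, nat_lit 3]),
    ([nat_lit 3, nat_lit 3], []),
    ([nat_lit 4, nat_lit 0], [nat_lit 0, nat_lit 4]),
    ([nat_lit 4, nat_lit 1], [nat_lit 1, nat_lit 4]),
    ([nat_lit 4, nat_lit 2], [nat_lit 2, nat_lit 4]),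
    ([nat_lit 4, nat_lit 3], [nat_lit 3, nat_lit 4]),
    ([nat_lit 4, nat_lit 4], []),
    ([nat_lit 5, nat_lit 0], [nat_lit 0, nat_lit 5]),
    ([nat_lit 5, nat_lit 1], [nat_lit 1, nat_lit 5]),
    ([nat_lit 5, nat_lit 2], [nat_lit 2, nat_lit 5]),
    ([nat_lit 5, nat_lit 3], [nat_lit 3, nat_lit 5]),
    ([nat_lit 5, nat_lit 4], [nat_lit 4, nat_lit 5]),
    ([nat_lit 5, nat_lit 5], [])]

def l34p2_A : List ℕ :=
  [nat_lit 0xf800000000000000000000000000000000000000000000000000000000000000000000000000000000000000000000000000000000000000000000000000000200000000000000000,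
    nat_lit 0x7c00007800000000000000000000000000000000000000000000000000000000000000000000000000000000000000000000000000000000000000000000000000002200000000000000000,
    nat_lit 0x22000000000000000000000000000000000000000000000000000000000000000000000000000000000000000000000000000000000001f00000200000000000000000,
    nat_lit 0x3e000000000088000000000000000000000000000000000000000000000000000000000000000000000000000000000000000000780001100001e00000000000000000,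
    nat_lit 0x1f00000200000000000000000,
    nat_lit 0x100000000000000000000000]

def l34p2_co : List ℕ :=
  [nat_lit 0x10e59714715041a2445822db5d56cb3ca192018000010000000,
    nat_lit 0x71269a2d92c00161dc69d55568b14504628e018000000000000,
    nat_lit 0x10e59714715041a2445832db5d56cb3ca192018000010000000,
    nat_lit 0,
    nat_lit 0,
    nat_lit 0x9850c0dc0d041c51069831d31375f60c108011000010000000,
    nat_lit 0x1000000000000000000000000000000000000000000000000,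
    nat_lit 0xc1000000000000000000000000000000000000000000000000,
    nat_lit 0x7883c53d54000116cc45645014f0156913d6012000000000000,
    nat_lit 0x78870435434001471058851210d0d120431800f000000000000,
    nat_lit 0x78a6c430431041571120811415c5005c42d8016000010000000,
    nat_lit 0x6067043443400147105884d310d0d164431801f000000000000,
    nat_lit 0x7883c53d54000516cc45640f14f0156913d6012000000000000,
    nat_lit 0x6067043543400147105884d310c0d120431800f000000000000,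
    nat_lit 0x9850c0dc0d041c51069835d31375f60c108011000010000000,
    nat_lit 0x7883c53d53c00116cc09645114f4556923d6012000000000000,
    nat_lit 0x78a3c53d53c00116cc09645114f455691416012000000000000,
    nat_lit 0x78a3c53d53c00116cc49645114f0546913d6012000000000000,
    nat_lit 0x7883c53d53c00116cc49645114f0156913d6012000000000000,
    nat_lit 0x4004005041f01f3803df0113d105f040009000010000000,
    nat_lit 0x9604b04b05041f55438a3df2d13db59f04a01e000010000000]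

noncomputable def l34p2 : PCD where
  G := nat_lit 8
  w := nat_lit 23
  k := nat_lit 29
  n := nat_lit 32
  fuel := nat_lit 19
  o := nat_lit 0x100000200000400000800001000002000004000008000010000020000040000080000100000200000400000800001000002000004000008000010000020000040000080000100000200000400000800001
  c0 := nat_lit 81400
  cq := nat_lit 131071
  cA := nat_lit 31
  Lm := nat_lit 4
  np := nat_lit 21
  rules := l34p2_ru
  E := l34p2_E
  C := [(nat_lit 6, [nat_lit 2], [nat_lit 3]),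
    (nat_lit 6, [nat_lit 3], [nat_lit 3, nat_lit 5]),
    (nat_lit 6, [nat_lit 4], [nat_lit 2]),
    (nat_lit 6, [nat_lit 5], [nat_lit 2, nat_lit 3, nat_lit 4]),
    (nat_lit 7, [nat_lit 0], [nat_lit 4, nat_lit 5]),
    (nat_lit 7, [nat_lit 1], [nat_lit 0]),
    (nat_lit 7, [nat_lit 4], [nat_lit 0, nat_lit 1]),
    (nat_lit 7, [nat_lit 5], [nat_lit 1, nat_lit 5])]
  RA := [([nat_lit 1], [nat_lit 0, nat_lit 0]),
    ([nat_lit 3], [nat_lit 2, nat_lit 2]),
    ([nat_lit 4], [nat_lit 0, nat_lit 0]),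
    ([nat_lit 4], [nat_lit 1, nat_lit 1]),
    ([nat_lit 4], [nat_lit 2, nat_lit 2]),
    ([nat_lit 4], [nat_lit 3, nat_lit 3]),
    ([nat_lit 5], [nat_lit 0, nat_lit 0]),
    ([nat_lit 5], [nat_lit 1, nat_lit 1]),
    ([nat_lit 5], [nat_lit 2, nat_lit 2]),
    ([nat_lit 5], [nat_lit 3, nat_lit 3]),
    ([nat_lit 5], [nat_lit 4, nat_lit 4]),
    ([nat_lit 2], [nat_lit 1, nat_lit 1]),
    ([nat_lit 3], [nat_lit 0, nat_lit 0]),
    ([nat_lit 3], [nat_lit 1, nat_lit 1]),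
    ([nat_lit 2], [nat_lit 2, nat_lit 1]),
    ([nat_lit 3], [nat_lit 3, nat_lit 0]),
    ([nat_lit 3], [nat_lit 3, nat_lit 1]),
    ([nat_lit 2], [nat_lit 0, nat_lit 0])]
  RB := [(nat_lit 6, [nat_lit 0, nat_lit 0]),
    (nat_lit 6, [nat_lit 2, nat_lit 2]),
    (nat_lit 7, [nat_lit 5, nat_lit 5]),
    (nat_lit 6, [nat_lit 1, nat_lit 1]),
    (nat_lit 7, [nat_lit 4, nat_lit 4]),
    (nat_lit 7, [nat_lit 6, nat_lit 6]),
    (nat_lit 7, [nat_lit 7, nat_lit 7]),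
    (nat_lit 6, [nat_lit 0, nat_lit 2, nat_lit 0, nat_lit 2]),
    (nat_lit 6, [nat_lit 3, nat_lit 3]),
    (nat_lit 6, [nat_lit 0, nat_lit 1, nat_lit 0, nat_lit 1]),
    (nat_lit 7, [nat_lit 5, nat_lit 6, nat_lit 5, nat_lit 6]),
    (nat_lit 6, [nat_lit 1, nat_lit 2, nat_lit 1, nat_lit 2]),
    (nat_lit 7, [nat_lit 4, nat_lit 5, nat_lit 4, nat_lit 5]),
    (nat_lit 7, [nat_lit 4, nat_lit 7, nat_lit 4, nat_lit 7])]
  A := l34p2_A
  β := [(nat_lit 0x40000000001f00000000000000000000000, nat_lit 4, nat_lit 0x8030031040e00e61011400270409e4973180000d0000000),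
    (nat_lit 0x160000540000000001600002a00000000000000000, nat_lit 4, nat_lit 0x20a68a69041858e70c58629839c79821770b0001d0000000)]
  co := l34p2_co
  lay := [(nat_lit 62, [nat_lit 0]),
    (nat_lit 60, [nat_lit 1]),
    (nat_lit 56, [nat_lit 2]),
    (nat_lit 48, [nat_lit 3]),
    (nat_lit 32, [nat_lit 4]),
    (nat_lit 0, [nat_lit 5])]

theorem l34p2_1 : l34p2.ok1 (nat_lit 63) = true := by decide +kernel
theorem l34p2_2 : l34p2.ok2 = true := by decide +kernel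

noncomputable def l34p2T_tbl : NT :=
(.leaf (nat_lit 0) (nat_lit 0x824f39326b9197480a8765130a46505c8ca648c67b1b29aa122344342d8f715ce739ce1c2095a1a909c628d1ec4ae676bcf49c5111410812a4d3992d3cd467b54a6be8b48d73a0a281a631404a52942030084210012a18f31c4300dec54c6251021084a48b80000085))

noncomputable def l34p2T : PT where
  N := nat_lit 21
  G := nat_lit 8
  W := nat_lit 5
  mask := nat_lit 31
  sb := nat_lit 0
  sm := nat_lit 0
  tbl := l34p2T_tbl

def l34p2_df : List (List ℕ) :=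
  [[nat_lit 1, nat_lit 0, nat_lit 4, nat_lit 0, nat_lit 1, nat_lit 0],
  [nat_lit 1, nat_lit 0, nat_lit 4, nat_lit 0, nat_lit 0, nat_lit 1],
  [nat_lit 2, nat_lit 4, nat_lit 0, nat_lit 2, nat_lit 4, nat_lit 2],
  [nat_lit 0, nat_lit 1, nat_lit 4, nat_lit 2, nat_lit 3, nat_lit 1, nat_lit 0, nat_lit 2],
  [nat_lit 0, nat_lit 4, nat_lit 0, nat_lit 3],
  [nat_lit 0, nat_lit 1, nat_lit 4, nat_lit 0, nat_lit 0],
  [nat_lit 1, nat_lit 0, nat_lit 4, nat_lit 0, nat_lit 3, nat_lit 1, nat_lit 2, nat_lit 1, nat_lit 0, nat_lit 1],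
  [nat_lit 2, nat_lit 3, nat_lit 2, nat_lit 1, nat_lit 4, nat_lit 0, nat_lit 1, nat_lit 2, nat_lit 3]]

theorem l34p2_x_0 : extOK T l34p2T l34p2_df (fun i => i) (nat_lit 0) (nat_lit 21) = true := by decide +kernel
theorem l34p2_ext : ∀ i < l34p2T.N, ExtP T l34p2T l34p2_df (fun i => i) i := rng_all (extOK_sound l34p2_x_0)

noncomputable def l34p2ch_0 : OL where
  b := nat_lit 0
  n := nat_lit 4
  S := [[nat_lit 0],
  [nat_lit 1]]
  O := ⟨nat_lit 0, nat_lit 4, nat_lit 3, nat_lit 7, nat_lit 0, nat_lit 0,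
(.leaf (nat_lit 0) (nat_lit 0x200400049044605000))⟩

noncomputable def l34p2ch_1 : OL where
  b := nat_lit 2
  n := nat_lit 16
  S := [[nat_lit 2],
  [nat_lit 3],
  [nat_lit 4],
  [nat_lit 5]]
  O := ⟨nat_lit 0, nat_lit 4, nat_lit 5, nat_lit 31, nat_lit 0, nat_lit 0,
(.leaf (nat_lit 0) (nat_lit 0x300000800058000400002800020d6900d0660cc718cad388b210c6378c484885168c2b708340043000c0f5080c0040a0001300002))⟩

noncomputable def l34p2ch : List OL := [l34p2ch_0, l34p2ch_1]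

theorem l34p2_hE : allL (fun e => l34p2T.chk2 [nat_lit 3, nat_lit 2, nat_lit 1, nat_lit 0] e.1 e.2) l34p2.eqs = true := by decide +kernel
theorem l34p2_hc : chainOK l34p2T (nat_lit 63) l34p2ch [] = true := by decide +kernel

noncomputable def l34p3_ru : RuT :=
(.node (nat_lit 11)
(.node (nat_lit 5)
(.node (nat_lit 0)
(.leaf (nat_lit 0) (nat_lit 0) (nat_lit 0) [nat_lit 1])
(.node (nat_lit 1)
(.leaf (nat_lit 0) (nat_lit 1) (nat_lit 1) [])
(.leaf (nat_lit 1) (nat_lit 0) (nat_lit 2) [])))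
(.node (nat_lit 6)
(.leaf (nat_lit 1) (nat_lit 1) (nat_lit 3) [nat_lit 0])
(.node (nat_lit 10)
(.leaf (nat_lit 2) (nat_lit 0) (nat_lit 4) [nat_lit 0, nat_lit 2])
(.leaf (nat_lit 2) (nat_lit 1) (nat_lit 5) [nat_lit 1, nat_lit 2]))))
(.node (nat_lit 15)
(.node (nat_lit 12)
(.leaf (nat_lit 2) (nat_lit 2) (nat_lit 6) [nat_lit 3])
(.node (nat_lit 13)
(.leaf (nat_lit 2) (nat_lit 3) (nat_lit 7) [])
(.leaf (nat_lit 3) (nat_lit 0) (nat_lit 8) [nat_lit 0, nat_lit 3])))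
(.node (nat_lit 16)
(.leaf (nat_lit 3) (nat_lit 1) (nat_lit 9) [nat_lit 1, nat_lit 3])
(.node (nat_lit 17)
(.leaf (nat_lit 3) (nat_lit 2) (nat_lit 10) [])
(.leaf (nat_lit 3) (nat_lit 3) (nat_lit 11) [nat_lit 2])))))

def l34p3_E : List (List ℕ × List ℕ) :=
  [([nat_lit 0, nat_lit 0], [nat_lit 1]),
    ([nat_lit 0, nat_lit 1], []),
    ([nat_lit 1, nat_lit 0], []),
    ([nat_lit 1, nat_lit 1], [nat_lit 0]),
    ([nat_lit 2, nat_lit 0], [nat_lit 0, nat_lit 2]),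
    ([nat_lit 2, nat_lit 1], [nat_lit 1, nat_lit 2]),
    ([nat_lit 2, nat_lit 2], [nat_lit 3]),
    ([nat_lit 2, nat_lit 3], []),
    ([nat_lit 3, nat_lit 0], [nat_lit 0, nat_lit 3]),
    ([nat_lit 3, nat_lit 1], [nat_lit 1, nat_lit 3]),
    ([nat_lit 3, nat_lit 2], []),
    ([nat_lit 3, nat_lit 3], [nat_lit 2])]

def l34p3_A : List ℕ :=
  [nat_lit 0x200004000000000000000000000000000000000000000000000000000000005,
    nat_lit 0x400008000000000000000000000000000000000000000000000000000000002,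
    nat_lit 0x2000080000000000000000000000000000c0000000000000000000000000002,
    nat_lit 0x4000070000000000000000000000000001c0000000000000000000000000004]

def l34p3_co : List ℕ :=
  [nat_lit 0,
    nat_lit 0x208000000008008,
    nat_lit 0x208000000008007,
    nat_lit 0x208000000000008,
    nat_lit 0x1000000000000000,
    nat_lit 0x8000000001000000,
    nat_lit 0,
    nat_lit 0x207000000008047,
    nat_lit 0x8000008000000000,
    nat_lit 0x1000001040000000,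
    nat_lit 0x207000000008007,
    nat_lit 0x207000000048047]

noncomputable def l34p3 : PCD where
  G := nat_lit 5
  w := nat_lit 19
  k := nat_lit 14
  n := nat_lit 9
  fuel := nat_lit 10
  o := nat_lit 0x80001000020000400008000100002000040000800010000200004000080001
  c0 := nat_lit 13864
  cq := nat_lit 16383
  cA := nat_lit 15
  Lm := nat_lit 2
  np := nat_lit 12
  rules := l34p3_ru
  E := l34p3_E
  C := [(nat_lit 4, [nat_lit 0], [nat_lit 2]),
    (nat_lit 4, [nat_lit 2], [nat_lit 1])]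
  RA := [([nat_lit 0], [nat_lit 1, nat_lit 0]),
    ([nat_lit 2], [nat_lit 3, nat_lit 2]),
    ([nat_lit 0], [nat_lit 0, nat_lit 1]),
    ([nat_lit 2], [nat_lit 2, nat_lit 3]),
    ([nat_lit 2], [nat_lit 0, nat_lit 1]),
    ([nat_lit 3], [nat_lit 0, nat_lit 1]),
    ([nat_lit 2], [nat_lit 3, nat_lit 0]),
    ([nat_lit 2], [nat_lit 0, nat_lit 0])]
  RB := [(nat_lit 4, [nat_lit 0, nat_lit 0, nat_lit 0]),
    (nat_lit 4, [nat_lit 1, nat_lit 1, nat_lit 1])]
  A := l34p3_A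
  β := [(nat_lit 0x10000000000000000000, nat_lit 3, nat_lit 0x40001000000)]
  co := l34p3_co
  lay := [(nat_lit 12, [nat_lit 0, nat_lit 1]),
    (nat_lit 0, [nat_lit 2, nat_lit 3])]

theorem l34p3_1 : l34p3.ok1 (nat_lit 15) = true := by decide +kernel
theorem l34p3_2 : l34p3.ok2 = true := by decide +kernel

noncomputable def l34p3T_tbl : NT :=
(.leaf (nat_lit 0) (nat_lit 0xf64e6c9518ca512f4bc281c62531d649c9324a8a432a0b514e99d293229a482dab7198f93e421c5083c0cd2b4f0538c471dae7160b0450318c42082210804800041))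

noncomputable def l34p3T : PT where
  N := nat_lit 21
  G := nat_lit 5
  W := nat_lit 5
  mask := nat_lit 31
  sb := nat_lit 0
  sm := nat_lit 0
  tbl := l34p3T_tbl

def l34p3_df : List (List ℕ) :=
  [[nat_lit 0, nat_lit 0],
  [nat_lit 0],
  [nat_lit 3, nat_lit 2],
  [nat_lit 2, nat_lit 3],
  [nat_lit 1, nat_lit 0, nat_lit 2, nat_lit 3, nat_lit 1, nat_lit 2, nat_lit 0, nat_lit 1]]

theorem l34p3_x_0 : extOK T l34p3T l34p3_df (fun i => i) (nat_lit 0) (nat_lit 21) = true := by decide +kernel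
theorem l34p3_ext : ∀ i < l34p3T.N, ExtP T l34p3T l34p3_df (fun i => i) i := rng_all (extOK_sound l34p3_x_0)

noncomputable def l34p3ch_0 : OL where
  b := nat_lit 0
  n := nat_lit 3
  S := [[nat_lit 0]]
  O := ⟨nat_lit 0, nat_lit 4, nat_lit 2, nat_lit 3, nat_lit 0, nat_lit 0,
(.leaf (nat_lit 0) (nat_lit 0x864100))⟩

noncomputable def l34p3ch_1 : OL where
  b := nat_lit 3
  n := nat_lit 3
  S := [[nat_lit 2]]
  O := ⟨nat_lit 0, nat_lit 4, nat_lit 5, nat_lit 31, nat_lit 0, nat_lit 0,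
(.node (nat_lit 174)
(.leaf (nat_lit 0) (nat_lit 0x310000800003))
(.node (nat_lit 354)
(.leaf (nat_lit 175) (nat_lit 0x1))
(.leaf (nat_lit 355) (nat_lit 0x2))))⟩

noncomputable def l34p3ch : List OL := [l34p3ch_0, l34p3ch_1]

theorem l34p3_hE : allL (fun e => l34p3T.chk2 [nat_lit 3, nat_lit 2, nat_lit 1, nat_lit 0] e.1 e.2) l34p3.eqs = true := by decide +kernel
theorem l34p3_hc : chainOK l34p3T (nat_lit 15) l34p3ch [] = true := by decide +kernel

noncomputable def ca_tbl : NT :=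
(.leaf (nat_lit 0) (nat_lit 0x4a13644c98c2934603243ea091420891231c3860e2d5a92494908142c7061a102b30a3098c08507c59c262511c1150e0a3c48b5e3888310218100e406860c4030a122d6cf0e1068a984090310041800002001280408300081024408))

noncomputable def ca : PT where
  N := nat_lit 21
  G := nat_lit 5
  W := nat_lit 7
  mask := nat_lit 127
  sb := nat_lit 2
  sm := nat_lit 3
  tbl := ca_tbl

def ca_PE : List (List ℕ × ℕ) :=
  [([nat_lit 0, nat_lit 0, nat_lit 0], nat_lit 0),
  ([nat_lit 1, nat_lit 1], nat_lit 0),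
  ([nat_lit 0, nat_lit 1, nat_lit 0, nat_lit 1, nat_lit 0, nat_lit 1], nat_lit 0),
  ([nat_lit 2, nat_lit 2], nat_lit 0),
  ([nat_lit 0, nat_lit 2, nat_lit 0, nat_lit 2], nat_lit 1),
  ([nat_lit 1, nat_lit 2, nat_lit 1, nat_lit 2, nat_lit 1, nat_lit 2], nat_lit 0),
  ([nat_lit 3, nat_lit 3], nat_lit 0),
  ([nat_lit 0, nat_lit 3, nat_lit 0, nat_lit 3], nat_lit 0),
  ([nat_lit 1, nat_lit 3, nat_lit 1, nat_lit 3], nat_lit 0),
  ([nat_lit 2, nat_lit 3, nat_lit 2, nat_lit 3, nat_lit 2, nat_lit 3], nat_lit 0),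
  ([nat_lit 4, nat_lit 4], nat_lit 0),
  ([nat_lit 1, nat_lit 4, nat_lit 1, nat_lit 4], nat_lit 0),
  ([nat_lit 3, nat_lit 4, nat_lit 3, nat_lit 4], nat_lit 0),
  ([nat_lit 2, nat_lit 4, nat_lit 2, nat_lit 4, nat_lit 2, nat_lit 4], nat_lit 0),
  ([nat_lit 0, nat_lit 1, nat_lit 4, nat_lit 2, nat_lit 0, nat_lit 1, nat_lit 4, nat_lit 2, nat_lit 0, nat_lit 1, nat_lit 4, nat_lit 2], nat_lit 0),
  ([nat_lit 0, nat_lit 2, nat_lit 3, nat_lit 4, nat_lit 0, nat_lit 2, nat_lit 3, nat_lit 4, nat_lit 0, nat_lit 2, nat_lit 3, nat_lit 4], nat_lit 0)]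

instance ca_nz : NeZero ca.N := ⟨by decide⟩

theorem ca_r0 : ca.relsOK (nat_lit 3) ca_PE (nat_lit 0) (nat_lit 21) = true := by decide +kernel
theorem ca_rng : ca.rng 0 (nat_lit 21) = true := by decide +kernel
theorem ca_rels : ∀ i < ca.N, ∀ p ∈ ca_PE, ca.tr p.1 i = i ∧ ca.tv p.1 i % nat_lit 3 = p.2 :=
  rng_all (PT.relsOK_sound _ _ ca_r0)
def ca_iv : List ℕ := [nat_lit 0, nat_lit 1, nat_lit 3, nat_lit 6, nat_lit 10]
def ca_E : List ℕ := [nat_lit 1, nat_lit 0, nat_lit 0]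

theorem ca_cov : HasCov P 5 (Multiplicative (ZMod 3)) Q fun i => Multiplicative.ofAdd ((gd 0 ca_E i : ℕ) : ZMod 3) :=
  PT.hasCov (T := ca) (m := nat_lit 3) (ca.rng_sound ca_rng le_rfl) (iv := ca_iv) (by decide +kernel) (by decide +kernel) ca_rels
    (subL_sound (by decide +kernel)) (by decide +kernel)

noncomputable def cb_tbl : NT :=
(.node (nat_lit 2047)
(.leaf (nat_lit 0) (nat_lit 0xd89a9cd3ced696cedd9ccadbb991c384cf95869991d4c1aabbc082b7b5afb4b193a07e957aafd5b7d072a3b8a6bea273a7a858a4abb272b366cacdc6ccc86699bd6cc4bd9766a093b3c15ea96f6a5b6ea455566f619a5285bc85b8b4817e79487f5f80b01cac79718177393a363e39a8a779a06b8f328b8c8a318c3a32359c9852945640432f892c5d7f5f90602a378f2c8c89882a4232845364531446223f452423454222444c491e4d80626348547c1b1a4f744c7574681a78165b741c70696c166864121f635a5c5815541252250e270e3c4b4c1248180a2f4436403f3c0a380c3429300a2a2c092028040f240624201c1118141002050c07080403010100))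
(.leaf (nat_lit 2048) (nat_lit 0xddd3c5d1acc3d4d9d99cbadaadd5c4d3dfcbdddcbfc49dc8)))

noncomputable def cb : PT where
  N := nat_lit 56
  G := nat_lit 5
  W := nat_lit 8
  mask := nat_lit 255
  sb := nat_lit 2
  sm := nat_lit 3
  tbl := cb_tbl

def cb_PE : List (List ℕ × ℕ) :=
  [([nat_lit 0, nat_lit 0, nat_lit 0], nat_lit 0),
  ([nat_lit 1, nat_lit 1], nat_lit 2),
  ([nat_lit 0, nat_lit 1, nat_lit 0, nat_lit 1, nat_lit 0, nat_lit 1], nat_lit 3),
  ([nat_lit 2, nat_lit 2], nat_lit 2),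
  ([nat_lit 0, nat_lit 2, nat_lit 0, nat_lit 2], nat_lit 2),
  ([nat_lit 1, nat_lit 2, nat_lit 1, nat_lit 2, nat_lit 1, nat_lit 2], nat_lit 2),
  ([nat_lit 3, nat_lit 3], nat_lit 2),
  ([nat_lit 0, nat_lit 3, nat_lit 0, nat_lit 3], nat_lit 2),
  ([nat_lit 1, nat_lit 3, nat_lit 1, nat_lit 3], nat_lit 0),
  ([nat_lit 2, nat_lit 3, nat_lit 2, nat_lit 3, nat_lit 2, nat_lit 3], nat_lit 0),
  ([nat_lit 4, nat_lit 4], nat_lit 2),
  ([nat_lit 1, nat_lit 4, nat_lit 1, nat_lit 4], nat_lit 2),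
  ([nat_lit 3, nat_lit 4, nat_lit 3, nat_lit 4], nat_lit 2),
  ([nat_lit 2, nat_lit 4, nat_lit 2, nat_lit 4, nat_lit 2, nat_lit 4], nat_lit 0),
  ([nat_lit 0, nat_lit 1, nat_lit 4, nat_lit 2, nat_lit 0, nat_lit 1, nat_lit 4, nat_lit 2, nat_lit 0, nat_lit 1, nat_lit 4, nat_lit 2], nat_lit 0),
  ([nat_lit 0, nat_lit 2, nat_lit 3, nat_lit 4, nat_lit 0, nat_lit 2, nat_lit 3, nat_lit 4, nat_lit 0, nat_lit 2, nat_lit 3, nat_lit 4], nat_lit 0)]

instance cb_nz : NeZero cb.N := ⟨by decide⟩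

theorem cb_r0 : cb.relsOK (nat_lit 4) cb_PE (nat_lit 0) (nat_lit 56) = true := by decide +kernel
theorem cb_rng : cb.rng 0 (nat_lit 56) = true := by decide +kernel
theorem cb_rels : ∀ i < cb.N, ∀ p ∈ cb_PE, cb.tr p.1 i = i ∧ cb.tv p.1 i % nat_lit 4 = p.2 :=
  rng_all (PT.relsOK_sound _ _ cb_r0)
def cb_iv : List ℕ := [nat_lit 0, nat_lit 1, nat_lit 3, nat_lit 6, nat_lit 10]
def cb_E : List ℕ := [nat_lit 0, nat_lit 1, nat_lit 0]

theorem cb_cov : HasCov P 5 (Multiplicative (ZMod 4)) Q fun i => Multiplicative.ofAdd ((gd 0 cb_E i : ℕ) : ZMod 4) :=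
  PT.hasCov (T := cb) (m := nat_lit 4) (cb.rng_sound cb_rng le_rfl) (iv := cb_iv) (by decide +kernel) (by decide +kernel) cb_rels
    (subL_sound (by decide +kernel)) (by decide +kernel)

noncomputable def cc_tbl : NT :=
(.node (nat_lit 2047)
(.leaf (nat_lit 0) (nat_lit 0xb2dcdca4cb64cca68a855c7e7cc0c180d37880d3c0bababa76b878d3707870b264b268dcdad4d1d6d45caaaa60a88ac6c892c4806cd85bdad4da54d86c5870d681d34c509495b5488792a4a387488cce6ba6ccc64aca8d9144c59ca040bc99bcc2c0747f78b4bc3cb64074747cb81c3898b4439740a034398468304db24d66b05c328a2c6051aaaca85e642ea4983828a32c2a369c2a44249463539994246b4f8c908c20882444468420346c801c737c181c781c747058186d5814566c16543068106449602c0c5c385614585418504c0825332220484613043c403e3c3c0438060c34280434000009300d0909002c11280f132402201c18141814100c000804))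
(.leaf (nat_lit 2048) (nat_lit 0xc8c8ccddceae9ea09e939cac9aac60bdb5afbf50c488dc8c)))

noncomputable def cc : PT where
  N := nat_lit 56
  G := nat_lit 5
  W := nat_lit 8
  mask := nat_lit 255
  sb := nat_lit 2
  sm := nat_lit 3
  tbl := cc_tbl

def cc_PE : List (List ℕ × ℕ) :=
  [([nat_lit 0, nat_lit 0, nat_lit 0], nat_lit 0),
  ([nat_lit 1, nat_lit 1], nat_lit 2),
  ([nat_lit 0, nat_lit 1, nat_lit 0, nat_lit 1, nat_lit 0, nat_lit 1], nat_lit 0),
  ([nat_lit 2, nat_lit 2], nat_lit 0),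
  ([nat_lit 0, nat_lit 2, nat_lit 0, nat_lit 2], nat_lit 0),
  ([nat_lit 1, nat_lit 2, nat_lit 1, nat_lit 2, nat_lit 1, nat_lit 2], nat_lit 3),
  ([nat_lit 3, nat_lit 3], nat_lit 0),
  ([nat_lit 0, nat_lit 3, nat_lit 0, nat_lit 3], nat_lit 0),
  ([nat_lit 1, nat_lit 3, nat_lit 1, nat_lit 3], nat_lit 0),
  ([nat_lit 2, nat_lit 3, nat_lit 2, nat_lit 3, nat_lit 2, nat_lit 3], nat_lit 0),
  ([nat_lit 4, nat_lit 4], nat_lit 0),
  ([nat_lit 1, nat_lit 4, nat_lit 1, nat_lit 4], nat_lit 0),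
  ([nat_lit 3, nat_lit 4, nat_lit 3, nat_lit 4], nat_lit 0),
  ([nat_lit 2, nat_lit 4, nat_lit 2, nat_lit 4, nat_lit 2, nat_lit 4], nat_lit 0),
  ([nat_lit 0, nat_lit 1, nat_lit 4, nat_lit 2, nat_lit 0, nat_lit 1, nat_lit 4, nat_lit 2, nat_lit 0, nat_lit 1, nat_lit 4, nat_lit 2], nat_lit 0),
  ([nat_lit 0, nat_lit 2, nat_lit 3, nat_lit 4, nat_lit 0, nat_lit 2, nat_lit 3, nat_lit 4, nat_lit 0, nat_lit 2, nat_lit 3, nat_lit 4], nat_lit 2)]

instance cc_nz : NeZero cc.N := ⟨by decide⟩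

theorem cc_r0 : cc.relsOK (nat_lit 4) cc_PE (nat_lit 0) (nat_lit 56) = true := by decide +kernel
theorem cc_rng : cc.rng 0 (nat_lit 56) = true := by decide +kernel
theorem cc_rels : ∀ i < cc.N, ∀ p ∈ cc_PE, cc.tr p.1 i = i ∧ cc.tv p.1 i % nat_lit 4 = p.2 :=
  rng_all (PT.relsOK_sound _ _ cc_r0)
def cc_iv : List ℕ := [nat_lit 0, nat_lit 1, nat_lit 3, nat_lit 6, nat_lit 10]
def cc_E : List ℕ := [nat_lit 0, nat_lit 0, nat_lit 1]

theorem cc_cov : HasCov P 5 (Multiplicative (ZMod 4)) Q fun i => Multiplicative.ofAdd ((gd 0 cc_E i : ℕ) : ZMod 4) :=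
  PT.hasCov (T := cc) (m := nat_lit 4) (cc.rng_sound cc_rng le_rfl) (iv := cc_iv) (by decide +kernel) (by decide +kernel) cc_rels
    (subL_sound (by decide +kernel)) (by decide +kernel)

universe u
variable {G0 : Type u} [Group G0] [Finite G0] {Ω : Type*} [MulAction G0 Ω] {g : ℕ → G0} {pt : ℕ → Ω}
  (h : Md T 20160 g pt)
include h

theorem htb : Lc (nat_lit 31) g = ⊤ ∧ IsBase G0 T.N pt [nat_lit 3, nat_lit 2, nat_lit 1, nat_lit 0] :=
  base_of_chain h.am h.inj hch (h.card.trans_le (by decide +kernel))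
theorem hchk : ∀ w, chk w = true → ev g w = 1 := h.am.chk (htb h).2
theorem l34l0_le : Nat.card (Lc (nat_lit 31) g) ≤ 56 * Nat.card (Lc (nat_lit 15) g) :=
  card_step' (hchk h) l34l0_ok l34l0_tab l34l0_hP ⟨rfl, rfl, rfl⟩
theorem l34l1_le : Nat.card (Lc (nat_lit 15) g) ≤ 6 * Nat.card (Lc (nat_lit 7) g) :=
  card_step' (hchk h) l34l1_ok l34l1_tab l34l1_hP ⟨rfl, rfl, rfl⟩
theorem l34l2_le : Nat.card (Lc (nat_lit 7) g) ≤ 5 * Nat.card (Lc (nat_lit 3) g) :=
  card_step' (hchk h) l34l2_ok l34l2_tab l34l2_hP ⟨rfl, rfl, rfl⟩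
theorem l34l3_le : Nat.card (Lc (nat_lit 3) g) ≤ 4 * Nat.card (Lc (nat_lit 1) g) :=
  card_step' (hchk h) l34l3_ok l34l3_tab l34l3_hP ⟨rfl, rfl, rfl⟩
theorem l34l4_le : Nat.card (Lc (nat_lit 1) g) ≤ 3 * Nat.card (Lc (nat_lit 0) g) :=
  card_step' (hchk h) l34l4_ok l34l4_tab l34l4_hP ⟨rfl, rfl, rfl⟩
theorem up5 : Nat.card (Lc (nat_lit 0) g) ≤ 1 := (fun _ => card_Lc_zero g) h
theorem up4 : Nat.card (Lc (nat_lit 1) g) ≤ 3 := chain_up (n := 1) (l34l4_le h) (up5 h)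
theorem up3 : Nat.card (Lc (nat_lit 3) g) ≤ 12 := chain_up (n := 3) (l34l3_le h) (up4 h)
theorem up2 : Nat.card (Lc (nat_lit 7) g) ≤ 60 := chain_up (n := 12) (l34l2_le h) (up3 h)
theorem up1 : Nat.card (Lc (nat_lit 15) g) ≤ 360 := chain_up (n := 60) (l34l1_le h) (up2 h)
theorem up0 : Nat.card (Lc (nat_lit 31) g) ≤ 20160 := chain_up (n := 360) (l34l0_le h) (up1 h)
theorem lo0 : 20160 ≤ Nat.card (Lc (nat_lit 31) g) := by rw [(htb h).1, Subgroup.card_top, h.card]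
theorem lo1 : 360 ≤ Nat.card (Lc (nat_lit 15) g) := chain_down (N := 56) (l34l0_le h) (lo0 h) (by norm_num)
theorem rel0 : Rel g l34l0_P (nat_lit 15) (nat_lit 31) :=
  rel_step' (N := 56) (hchk h) l34l0_ok l34l0_tab l34l0_hP ⟨rfl, rfl, rfl⟩ rfl (chain_eq (up1 h) (lo0 h))
theorem lo2 : 60 ≤ Nat.card (Lc (nat_lit 7) g) := chain_down (N := 6) (l34l1_le h) (lo1 h) (by norm_num)
theorem rel1 : Rel g l34l1_P (nat_lit 7) (nat_lit 15) :=
  rel_step' (N := 6) (hchk h) l34l1_ok l34l1_tab l34l1_hP ⟨rfl, rfl, rfl⟩ rfl (chain_eq (up2 h) (lo1 h))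
theorem lo3 : 12 ≤ Nat.card (Lc (nat_lit 3) g) := chain_down (N := 5) (l34l2_le h) (lo2 h) (by norm_num)
theorem rel2 : Rel g l34l2_P (nat_lit 3) (nat_lit 7) :=
  rel_step' (N := 5) (hchk h) l34l2_ok l34l2_tab l34l2_hP ⟨rfl, rfl, rfl⟩ rfl (chain_eq (up3 h) (lo2 h))
theorem lo4 : 3 ≤ Nat.card (Lc (nat_lit 1) g) := chain_down (N := 4) (l34l3_le h) (lo3 h) (by norm_num)
theorem rel3 : Rel g l34l3_P (nat_lit 1) (nat_lit 3) :=
  rel_step' (N := 4) (hchk h) l34l3_ok l34l3_tab l34l3_hP ⟨rfl, rfl, rfl⟩ rfl (chain_eq (up4 h) (lo3 h))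
theorem lo5 : 1 ≤ Nat.card (Lc (nat_lit 0) g) := chain_down (N := 3) (l34l4_le h) (lo4 h) (by norm_num)
theorem rel4 : Rel g l34l4_P (nat_lit 0) (nat_lit 1) :=
  rel_step' (N := 3) (hchk h) l34l4_ok l34l4_tab l34l4_hP ⟨rfl, rfl, rfl⟩ rfl (chain_eq (up5 h) (lo4 h))
theorem relP : Rel g P 0 (2 ^ 5 - 1) := (((((rel4 h).trans (rel3 h)).trans (rel2 h)).trans (rel1 h)).trans (rel0 h))
theorem hP : ∀ w ∈ P, ev g w = 1 := fun w hw => hchk h w (allL_sound hP0 w hw)
theorem hQ : ∀ q ∈ Q, ev g (q.1 ++ q.2) = ev g (q.2 ++ q.1) := pairs_sound h.am (htb h).2 hQ0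
theorem pb2 : PB G0 2 4 :=
  h.pcpb (htb h).2 (e := 5) (by norm_num) l34p2_ext l34p2_1 l34p2_2 l34p2_hE l34p2_hc (by decide +kernel)
theorem pb3 : PB G0 3 1 :=
  h.pcpb (htb h).2 (e := 2) (by norm_num) l34p3_ext l34p3_1 l34p3_2 l34p3_hE l34p3_hc (by decide +kernel)
theorem bound (Γ : Type u) [Group Γ] [Finite Γ] (σ : Γ →* G0) (hσ : IsStemExtension σ) :
    Nat.card σ.ker ≤ 48 :=
  card_ker_dvd (B := 7) [(2, 4), (3, 1)] h.card (by decide +kernel) (by decide +kernel) (by norm_num) (by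
    simp only [List.mem_cons, List.not_mem_nil, or_false, forall_eq_or_imp, forall_eq]
    exact ⟨⟨pb2 h, by decide⟩,
      ⟨pb3 h, by decide⟩⟩) Γ σ hσ

theorem mult : HasSchurMultiplier G0 (Multiplicative (ZMod 3 × ZMod 4 × ZMod 4)) :=
  hasSchur_three (GG := 5) (relP h) (htb h).1 h.one (hP h) (hQ h) ca_cov cb_cov cc_cov (by decide +kernel) (bound h)

end Cfsg.Agent.H28.L34
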