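import Cfsg.Agent.H15.Words
set_option autoImplicit false
set_option maxRecDepth 100000

namespace Cfsg.Agent.H28.MZa8x
open Cfsg.Agent.H15 Cfsg.Agent.H14

def tb : Tb := (.node (nat_lit 28) (.node (nat_lit 12) (.node (nat_lit 4) (.leaf (nat_lit 0x9040580000085fc0fc000d043004043043043004081fc008a0421c2109088001102fc0182082008040800005000041fc0006002041041041041000000fc05c0840000000000000000000000000)) (.node (nat_lit 8) (.leaf (nat_lit 0x70c6fc00a00c7006146081fc01471071090c70050817c101e109007001107fc0186086008086009081541001043085fc001100a00b085085085003083fc004410b18411008ffc0003104144144)) (.leaf (nat_lit 0x30c5505fc00c418bfc0017016fc0fc0fc0fc00040c55020420cafc011c09b00500cfc0fc00ca005108fc0022146fc00080c21c92091090c71090010c6fc009ffc01090420091461480c80060c8)))) (.node (nat_lit 20) (.node (nat_lit 16) (.leaf (nat_lit 0xcdfc0fc0fc0fc004401014ffc00cffc000d0050cdfc0fc02dafc000d043fc0fc0fc00cefc0005083fc0fc0fc0fc000300e10dfc008d08d00f00310a4ca14c10c20cfc0126fc000a18c1ccfc0))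 (.leaf (nat_lit 0x8152fc0fc0012fc0fc0014fc0fc0199fc0fc0007111fc0fc0013011fc00c5fc0fc0fc015c1180050c5fc0fc0fc00120051121dbfc00d101b09700510ffc0fc0215fc000f0c4fc0fc0fc019008e))) (.node (nat_lit 24) (.leaf (nat_lit 0x510bfc0fc0fc0018fc0118266fc0fc00e605100410b10cfc0fc0fc0fc0fc000bfc0fc0fc0fc00071d4254fc01d0014fc0fc0fc0fc0fc0fc0fc0005193fc0fc0290015013fc0fc0fc0fc0fc0fc0)) (.leaf (nat_lit 0x1111fc0fc0fc015c04a01c191fc011b0110260051d9fc0fc030e35afc001dfc0fc01d4fc0fc0008198fc0fc0fc03ddfc001afc0fc0153fc0fc00071574d2fc0019fc01571cbfc0fc0fc0fc00d2))))) (.node (nat_lit 44) (.node (nat_lit 36) (.node (nat_lit 32) (.leaf (nat_lit 0x211e69e048fc0fc0fc026d1de02401efc01a20090c67060061a20defc002819f02101ffc002000521afc0fc0427399fc0059fc0fc0fc0fc0fc000515bfc0fc0fc019b01b0cafc015c15c112fc0)) (.leaf (nat_lit 0x3160fc01a3163fc012c0abfc0020fc026512100914966100915e162fc003022202516016215f00311e6de1e1fc0223fc002ffc001efc0436fc000011efc0047120fc0fc002afc00231a2fc0fc0)))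 (.node (nat_lit 40) (.leaf (nat_lit 0x51a649cfc045dfc0fc014cfc0fc0fc029811c00015bfc0fc0fc01e70cc027217fc016609701b0031a265f2651e13b61390b8fc0022fc0fc0fc000315f6221a4fc042543503afc001ffc0421237)) (.leaf (nat_lit 0x1aafc0fc0fc0fc006302c3f8fc02b8fc002a005160fc0fc0fc0fc0020fc0fc0fc0230fc002b005168fc0fc0fc0fc0fc005efc0fc0fc0fc00ec00511efc0fc0fc0fc001e029fc0fc0fc002dfc0)))) (.node (nat_lit 52) (.node (nat_lit 48) (.leaf (nat_lit 0x5161747fc0fc02ac021fc0fc0fc0fc0fc00680051adfc0fc0fc0fc0fc029ffc0fc0fc0fc0339001168fc0fc0fc0fc021f02efc0fc0fc0fc0fc00051ebfc0fc0fc026f02b0e3fc0fc0fc04790a9)) (.leaf (nat_lit 0x52725b2fc0fc0034fc0374fc0fc0fc0fc0fc0008231fc0fc00312f2fc0033fc0fc0fc0fc0fc00071f0fc0fc00320303301a2fc0fc0fc02b1fc00051a26affc0fc00310222f1370fc01ea270038))) (.node (nat_lit 56) (.leaf (nat_lit 0x7376365fc0fc0036fc0fc0fc0fc0fc0fc01e40053353e4fc0fc0037035fc0fc0fc0fc03e1fc00082f45f1fc00343f84fa036fc0fc0fc0535fc00072b3573fc0035033fc0332fc0fc0fc0fc0fc0))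 (.leaf (nat_lit 0x51a4630fc0fc04b90244b5fc0fc0fc04af26d005238786fc0fc047afc00e5fc0fc0fc042c2ee0001f0630fc0fc0fc00650393abfc026bfc0030))))))
def wt : Wt := (.node (nat_lit 33) (.node (nat_lit 16) (.node (nat_lit 8) (.node (nat_lit 4) (.node (nat_lit 2) (.node (nat_lit 1) (.leaf [nat_lit 2, nat_lit 8, nat_lit 0, nat_lit 8]) (.leaf [nat_lit 0, nat_lit 8, nat_lit 2, nat_lit 8])) (.node (nat_lit 3) (.leaf [nat_lit 1, nat_lit 8, nat_lit 7, nat_lit 8]) (.leaf [nat_lit 7, nat_lit 8, nat_lit 1, nat_lit 8]))) (.node (nat_lit 6) (.node (nat_lit 5) (.leaf [nat_lit 3, nat_lit 8, nat_lit 3, nat_lit 8]) (.leaf [nat_lit 0, nat_lit 4, nat_lit 2, nat_lit 0, nat_lit 4])) (.node (nat_lit 7) (.leaf [nat_lit 8, nat_lit 4, nat_lit 8, nat_lit 4, nat_lit 8, nat_lit 4]) (.leaf [nat_lit 2, nat_lit 9, nat_lit 1, nat_lit 9])))) (.node (nat_lit 12) (.node (nat_lit 10) (.node (nat_lit 9) (.leaf [nat_lit 1, nat_lit 9,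 nat_lit 2, nat_lit 9]) (.leaf [nat_lit 0, nat_lit 9, nat_lit 7, nat_lit 9])) (.node (nat_lit 11) (.leaf [nat_lit 4, nat_lit 9, nat_lit 4, nat_lit 9]) (.leaf [nat_lit 9, nat_lit 3, nat_lit 9, nat_lit 3, nat_lit 9, nat_lit 3]))) (.node (nat_lit 14) (.node (nat_lit 13) (.leaf [nat_lit 7, nat_lit 9, nat_lit 0, nat_lit 9]) (.leaf [nat_lit 8, nat_lit 9, nat_lit 8, nat_lit 9])) (.node (nat_lit 15) (.leaf [nat_lit 8, nat_lit 8]) (.leaf [nat_lit 0, nat_lit 6, nat_lit 3, nat_lit 5]))))) (.node (nat_lit 24) (.node (nat_lit 20) (.node (nat_lit 18) (.node (nat_lit 17) (.leaf [nat_lit 2, nat_lit 6, nat_lit 2, nat_lit 5]) (.leaf [nat_lit 5, nat_lit 7, nat_lit 5, nat_lit 7])) (.node (nat_lit 19) (.leaf [nat_lit 0, nat_lit 7, nat_lit 0, nat_lit 7]) (.leaf [nat_lit 8, nat_lit 5, nat_lit 7, nat_lit 8, nat_lit 5, nat_lit 7, nat_lit 0, nat_lit 3, nat_lit 2, nat_lit 8, nat_lit 5, nat_lit 7]))) (.node (nat_lit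 22) (.node (nat_lit 21) (.leaf [nat_lit 3, nat_lit 2, nat_lit 8, nat_lit 5, nat_lit 7, nat_lit 8, nat_lit 5, nat_lit 7, nat_lit 8, nat_lit 5, nat_lit 7, nat_lit 0]) (.leaf [nat_lit 5, nat_lit 0, nat_lit 5, nat_lit 0, nat_lit 5, nat_lit 0])) (.node (nat_lit 23) (.leaf [nat_lit 6, nat_lit 5]) (.leaf [nat_lit 3, nat_lit 5, nat_lit 0, nat_lit 6])))) (.node (nat_lit 28) (.node (nat_lit 26) (.node (nat_lit 25) (.leaf [nat_lit 0, nat_lit 1, nat_lit 0, nat_lit 1]) (.leaf [nat_lit 6, nat_lit 4, nat_lit 5, nat_lit 1])) (.node (nat_lit 27) (.leaf [nat_lit 5, nat_lit 6]) (.leaf [nat_lit 2, nat_lit 1, nat_lit 2, nat_lit 1]))) (.node (nat_lit 30) (.node (nat_lit 29) (.leaf [nat_lit 5, nat_lit 5, nat_lit 5]) (.leaf [nat_lit 0, nat_lit 5, nat_lit 0, nat_lit 5, nat_lit 0, nat_lit 5])) (.node (nat_lit 31) (.leaf [nat_lit 1, nat_lit 5, nat_lit 1, nat_lit 5, nat_lit 1, nat_lit 5]) (.node (nat_lit 32) (.leaf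 [nat_lit 1, nat_lit 1]) (.leaf [nat_lit 4, nat_lit 5, nat_lit 1, nat_lit 6]))))))) (.node (nat_lit 49) (.node (nat_lit 41) (.node (nat_lit 37) (.node (nat_lit 35) (.node (nat_lit 34) (.leaf [nat_lit 7, nat_lit 1, nat_lit 7, nat_lit 1]) (.leaf [nat_lit 8, nat_lit 1, nat_lit 8, nat_lit 7])) (.node (nat_lit 36) (.leaf [nat_lit 1, nat_lit 6, nat_lit 1, nat_lit 6, nat_lit 1, nat_lit 6]) (.leaf [nat_lit 9, nat_lit 4, nat_lit 9, nat_lit 4]))) (.node (nat_lit 39) (.node (nat_lit 38) (.leaf [nat_lit 9, nat_lit 9]) (.leaf [nat_lit 8, nat_lit 3, nat_lit 8, nat_lit 3])) (.node (nat_lit 40) (.leaf [nat_lit 1, nat_lit 6, nat_lit 4, nat_lit 5]) (.leaf [nat_lit 6, nat_lit 3, nat_lit 5, nat_lit 0])))) (.node (nat_lit 45) (.node (nat_lit 43) (.node (nat_lit 42) (.leaf [nat_lit 2, nat_lit 0, nat_lit 2, nat_lit 0]) (.leaf [nat_lit 4, nat_lit 0, nat_lit 4, nat_lit 2, nat_lit 0])) (.node (nat_lit 44) (.leaf [nat_lit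 2, nat_lit 5, nat_lit 2, nat_lit 6]) (.leaf [nat_lit 0, nat_lit 6, nat_lit 0, nat_lit 6, nat_lit 0, nat_lit 6]))) (.node (nat_lit 47) (.node (nat_lit 46) (.leaf [nat_lit 8, nat_lit 5, nat_lit 7, nat_lit 0, nat_lit 3, nat_lit 2, nat_lit 8, nat_lit 5, nat_lit 7, nat_lit 8, nat_lit 5, nat_lit 7]) (.leaf [nat_lit 0, nat_lit 0])) (.node (nat_lit 48) (.leaf [nat_lit 2, nat_lit 2]) (.leaf [nat_lit 8, nat_lit 2, nat_lit 8, nat_lit 0]))))) (.node (nat_lit 57) (.node (nat_lit 53) (.node (nat_lit 51) (.node (nat_lit 50) (.leaf [nat_lit 4, nat_lit 4]) (.leaf [nat_lit 7, nat_lit 7])) (.node (nat_lit 52) (.leaf [nat_lit 7, nat_lit 5, nat_lit 7, nat_lit 5]) (.leaf [nat_lit 9, nat_lit 1, nat_lit 9, nat_lit 2]))) (.node (nat_lit 55) (.node (nat_lit 54) (.leaf [nat_lit 9, nat_lit 7, nat_lit 9, nat_lit 0]) (.leaf [nat_lit 1, nat_lit 0, nat_lit 1, nat_lit 0])) (.node (nat_lit 56) (.leaf [nat_lit 5, nat_lit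 1, nat_lit 6, nat_lit 4]) (.leaf [nat_lit 7, nat_lit 0, nat_lit 7, nat_lit 0])))) (.node (nat_lit 61) (.node (nat_lit 59) (.node (nat_lit 58) (.leaf [nat_lit 2, nat_lit 3, nat_lit 0, nat_lit 7, nat_lit 6, nat_lit 8, nat_lit 7, nat_lit 6, nat_lit 8, nat_lit 7, nat_lit 6, nat_lit 8]) (.leaf [nat_lit 7, nat_lit 6, nat_lit 7, nat_lit 6])) (.node (nat_lit 60) (.leaf [nat_lit 1, nat_lit 7, nat_lit 1, nat_lit 7]) (.leaf [nat_lit 5, nat_lit 1, nat_lit 5, nat_lit 1, nat_lit 5, nat_lit 1]))) (.node (nat_lit 63) (.node (nat_lit 62) (.leaf [nat_lit 0, nat_lit 3, nat_lit 2, nat_lit 8, nat_lit 5, nat_lit 7, nat_lit 8, nat_lit 5, nat_lit 7, nat_lit 8, nat_lit 5, nat_lit 7]) (.leaf [nat_lit 4, nat_lit 2, nat_lit 0, nat_lit 4, nat_lit 0])) (.node (nat_lit 64) (.leaf [nat_lit 6, nat_lit 0, nat_lit 6, nat_lit 0, nat_lit 6, nat_lit 0]) (.node (nat_lit 65) (.leaf [nat_lit 9, nat_lit 0, nat_lit 9, nat_lit 7])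 (.leaf [nat_lit 3, nat_lit 3]))))))))
noncomputable def P : TCP where
  lk := tlk tb (nat_lit 3) (nat_lit 13) (nat_lit 12) (nat_lit 4095)
  inv := invT (nat_lit 164412522832339008) (nat_lit 10)
  wt := wt.get
  gens := [nat_lit 0, nat_lit 1, nat_lit 2, nat_lit 3, nat_lit 4, nat_lit 5, nat_lit 6, nat_lit 7, nat_lit 8, nat_lit 9]
  N := nat_lit 59
  n := nat_lit 1
  eps := nat_lit 10
  VM := nat_lit 63
  Wv := nat_lit 6
  MAXB := nat_lit 4032
  JM := nat_lit 255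
  Wj := nat_lit 8
  Hm := nat_lit 255
def ls : List Nat := [nat_lit 0, nat_lit 1, nat_lit 2, nat_lit 3, nat_lit 4, nat_lit 5, nat_lit 6, nat_lit 7, nat_lit 8, nat_lit 9, nat_lit 10]
noncomputable def ap : Nat → Nat → Nat := tlk tb (nat_lit 3) (nat_lit 13) (nat_lit 12) (nat_lit 63)
def bases : List (List Nat × Nat) := [([5], 3), ([0, 5], 3), ([1, 5], 3), ([0, 1], 2), ([3, 5, 0, 6], 1), ([4, 5, 1, 6], 1), ([0, 4, 0, 4, 2], 1), ([2, 5, 2, 6], 1), ([2, 0], 2), ([2, 1], 2), ([7, 5, 7, 5], 1), ([7, 0], 2), ([7, 1], 2), ([8, 2, 8, 0], 1), ([8, 1, 8, 7], 1), ([8, 3], 2), ([8, 4], 3), ([9, 2, 9, 1], 1), ([9, 0, 9, 7], 1), ([9, 4], 2), ([9, 3], 3), ([8, 9], 2), ([8, 5, 7, 8, 5, 7, 8, 5, 7, 0, 3, 2], 1)]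
theorem c0 : RowsGood P ls 0 59 :=
  rowsGood_of (Js := [nat_lit 0x3c00280093c07000a002210202020202020202, nat_lit 0x54977f7b1b060030009210100060000c0030b0101060000c0030d060000c00305060000c00309060000c00307, nat_lit 0x4e01800010005110a303800324a0e, nat_lit 0x17060012003210020010e0000c00319010e0000c003130e0000c003150e0000c00317, nat_lit 0x38000100051b201c3038005a145c, nat_lit 0x12e5b332b0a002a0066700018000c0031f1c010101121416, nat_lit 0x4e3c3bf1e002400631014801002e32240122, nat_lit 0x4e0060000001c00b2b0030260018000001c00b2d044228, nat_lit 0x4e46360144323a0034, nat_lit 0x120003c442c24403e, nat_lit 0x4332a00140044f4c10303800010e, nat_lit 0x634a001200331500a0101, nat_lit 0x9f720012003311a500a38005a14, nat_lit 0x144245201, nat_lit 0x64003c40, nat_lit 0x5401585600, nat_lit 0x20003c523e, nat_lit 0x1003c66240160, nat_lit 0x100264260, nat_lit 0x162, nat_lit 0x156000a002210100, nat_lit 0x5642425600200040b5e00,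 nat_lit 0x5a2e5e9a00200047300, nat_lit 0x12e664222, nat_lit 0x9f7200120034301302628, nat_lit 0x680104, nat_lit 0x200a0124, nat_lit 0x463601443a0001, nat_lit 0x68003c322440, nat_lit 0x486a3c, nat_lit 0x54938b877a00280084f00201c0118010101, nat_lit 0x938b86001a004876c3866010060, nat_lit 0x6e1e010162, nat_lit 0x592977f7a0024006691a1c010042, nat_lit 0x192000c00343001e1c011801121416, nat_lit 0x1a50303800083e, nat_lit 0x135f180050010c469dadf0012003697680028008c40401da000a0024360, nat_lit 0x124e280050011846941de000a00269303800, nat_lit 0x74540158567000, nat_lit 0x9e7666769e3232329a9e7272006000c77203c523e, nat_lit 0x101, nat_lit 0x3c60, nat_lit 0x6201, nat_lit 0x5401666200, nat_lit 0x78003c423e, nat_lit 0x3601, nat_lit 0x3c60, nat_lit 0x5ea938b877b1a003400831680022, nat_lit 0x4938b86001c0053101007c44245201, nat_lit 0x10030267a, nat_lit 0xa01, nat_lit 0x11d2000e00431013c, nat_lit 0xd2d6d6d200200040b010026,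 nat_lit 0xd3cfca001a0042100783001100000c0064b, nat_lit 0x10000a0058501007a, nat_lit 0xde92eab6bae6003000683007e, nat_lit 0xd7c60012003695401805600, nat_lit 0xebc3bf1e002200569783c523e, nat_lit 0xd7c60012003396800267a22]) (by decide +kernel)
theorem f0 : RowsGood P ls 0 59 :=
  c0
theorem good : RowsGood P (List.range (P.eps + 1)) 0 P.N :=
  (f0 : RowsGood P ls 0 59)
theorem idx {G : Type*} [Group G] {E : ℕ → G} {inv : ℕ → ℕ} (hi : ∀ l, E (inv l) = (E l)⁻¹)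
    {B : List (List ℕ × ℕ)} (hB : ∀ p ∈ B, lprod E p.1 ^ p.2 = 1) (σ : List (List ℕ))
    {hs ks : List (List ℕ)} (hc : certOk P wt bases inv B σ hs ks = true) :
    (gp E hs).relIndex (gp E ks) ≠ 0 ∧ (gp E hs).relIndex (gp E ks) ≤ 1 :=
  tc_gp hi hB rfl (fun _ h => invT_of_le h) good σ hc

end Cfsg.Agent.H28.MZa8x
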