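import Mathlib
import Cfsg.Agent.H28.PCM
import Cfsg.Agent.H28.FM2

set_option maxRecDepth 100000
set_option linter.all false
set_option autoImplicit false

namespace Cfsg.Agent.H28.O8
open Cfsg.Agent.H25 Cfsg.Agent.H28

noncomputable def T_tbl : NT :=
(.node (nat_lit 4085)
(.node (nat_lit 2042)
(.leaf (nat_lit 0) (nat_lit 0x346822954a356b6546a951a8d56e14d269409a6aa6932a25136d44a266a5d30e05a26142b04c239408f47b591e8f47a6560cc4b25918964b259088d46b511a8d71a3528ce4a2511c946c28548d145a2d168b72a7568924932910926e24900d344a25128944a2520904832114904829552974bb3d2e974ba8950d540a39288570a611a954ab352a956da5518d741a312c87462315ac949a4d26936fa99588a42b4920814527112cb48a45229148a45108843b41248373a2142ba442f10e8c7421d62b8432f90c86432cd0abe452e10a8e42ac12abc422e90884752114a834620d068841a0d6a82412090482762dd028147205028a772d1228040201008040201))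
(.leaf (nat_lit 2043) (nat_lit 0x5242ae170b8742996eb75badd6eb7412d9e8af7bad55eaf57a09eea37a2d94ead56a4968985a2d138b440a89d0b3752cd66ba432c956ab55ac556c455a1952a754ac946c754a59d49c742c130bc42a79dab677ab56cb65b27d5ca0572b948c05722dde9b76abd3eb55aa2958ac562b158c35626964b2592a564b95926de0a479aa940aa5523d629f58aad36bf58a39e6a8782a150a85429dcab14fa7d6ad14faddc89d4ea753a9d45a0d4aa56e2714aca4824d48aa6f2795ca45228d36b57126d629b4dacd329971a6532d447a1db4a150a6142a14a25db0ae5026954ce502b9bea953a9d5ac953abd3c9e732913c9e4f275baa6532994ca649a7138b073a95)))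
(.node (nat_lit 6128)
(.leaf (nat_lit 4086) (nat_lit 0x60793359a9566b1944cd612458acb65b2d96cb69349708a64349a4e77324d8ec964b254edd7b34178886534138d05f359ac8f6b2e5ace35fa5180ce6ab3940da6d351a88d6a2f532d46da5984cc6bb3198cc65a2576d369b4da6d3653299492683054aca77a2d7ed168b453ee47732190906930d90dc63afda2bf622fd62eb6baf57abd62b517abd71aeda6bb632ed76bb79ae572b963b5964e961b0d86c361b2158f669b0998c26130984c273b0582c160b2982c17bb019cc0603015cf56731d92c75cb1d52f267a157c865f3557cea5eb198cc65db358cc65e211a0875e2f160bc7531596c55eb158ac575a1d74845d35d66ba6cb1188c45fb3d56f16c219))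
(.node (nat_lit 8171)
(.leaf (nat_lit 6129) (nat_lit 0x7271ba572f0553c150f06c3c1e0c956bdd5eed6fbddeec877385dcee77205dcde57b655aef7a3d1e8df763b1d8ec73209d8ba79375e4e9793c98ebb583a966ea702117ce978bc5e2eb6dbc588e859b9d60e87421d70c173ba138dc73a21a4d1733993cde76399cce553b7dbedf7ba4dbef5533c9badd6eb7592c56db6d44db78a559ed56cbd146d96cb65b2e14d3b9c2d870a39c2f14c381c0da75381aaec4fb95cae577a2dcaed6f3cd48e66f379bcdd4ebadc8e472391a2dc6e3714ae77b24990cc71b8d32e374a35accd50bd5b4e06d3699cb9713b536e271389c4b850361b0e178251b0c64635daecc5d35daed667b3d2ecf6233db6e247355aace5f269))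
(.leaf (nat_lit 8172) (nat_lit 0x80b577ad9e8e577bbda0f67b3d9ecdc7b30dc8f56d3d5eaf57ab01e8b6712d5eeed76bb588a86f2a9e6f379bcda8eb723ade2eb75afdc0e974ba5)))))

noncomputable def T : PT where
  N := nat_lit 120
  G := nat_lit 8
  W := nat_lit 9
  mask := nat_lit 511
  sb := nat_lit 2
  sm := nat_lit 3
  tbl := T_tbl

def Ms : List (List ℕ) :=
  [[nat_lit 1, nat_lit 0x1100111, nat_lit 0x1100001, nat_lit 0x10000000, nat_lit 0x1110101, nat_lit 0x100000, nat_lit 0x100101, nat_lit 4096],
  [nat_lit 0x11111010, nat_lit 0x11111001, nat_lit 0x11111111, nat_lit 0x1111011, nat_lit 0x11101011, nat_lit 0x11011011, nat_lit 0x1000000, nat_lit 0x11110011],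
  [nat_lit 1, nat_lit 16, nat_lit 0x11001110, nat_lit 0x1001010, nat_lit 65536, nat_lit 0x11101010, nat_lit 0x1000000, nat_lit 0x11000010],
  [nat_lit 1, nat_lit 16, nat_lit 256, nat_lit 4368, nat_lit 65536, nat_lit 0x10101110, nat_lit 0x11001110, nat_lit 0x10000110],
  [nat_lit 0x10011101, nat_lit 16, nat_lit 256, nat_lit 69888, nat_lit 65536, nat_lit 0x100000, nat_lit 0x11011100, nat_lit 0x10010100],
  [nat_lit 1, nat_lit 16, nat_lit 0x11001111, nat_lit 0x1001011, nat_lit 0x11011011, nat_lit 0x11101011, nat_lit 0x1000000, nat_lit 0x11000011],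
  [nat_lit 0x10011011, nat_lit 16, nat_lit 256, nat_lit 69648, nat_lit 65536, nat_lit 0x10111010, nat_lit 0x1000000, nat_lit 0x10010010],
  [nat_lit 1, nat_lit 0x100001, nat_lit 0x1001000, nat_lit 4096, nat_lit 0x110011, nat_lit 17, nat_lit 4352, nat_lit 0x11001100]]

noncomputable def vs_tbl : NT :=
(.node (nat_lit 2047)
(.leaf (nat_lit 0) (nat_lit 0x11110001011100011011000100110001110100010101000110010001000100011111111000111110010111101001111011101110001011100100111010001110101101100011011011010110010101101010011000100110110001100100011001111010001110101101101010011010011010100010101011001010100010101111001001110010101100100011001011100010011000101010001000100010011111001011110001011100100111000110110010101100010011001000110011110100011101001101010001010100111001000110010011000100010001001111100010111000110110001001100011101000101010001100100010001000))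
(.leaf (nat_lit 2048) (nat_lit 0x111111110111111110111110001111111101111001011110100111110001111111101110111011110010111000101111010011100100111110001110100011111111011101110110101101100011011011010110010101111001011100010111101001101010011100100110001001111100011011000111010001100100011111111010011110111011101000111010110110110101101010011011000110110110101001101011001010100010101111001010110010111000101010001010111100100111001010110010001100111101001101010011100100110001001)))

noncomputable def vs : ℕ → ℕ := tabF vs_tbl (nat_lit 32) (nat_lit 0xffffffff)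

noncomputable def look_tbl : NT :=
(.node (nat_lit 0x700076ff)
(.node (nat_lit 0x700776f)
(.node (nat_lit 0x70776f)
(.node (nat_lit 487542)
(.node (nat_lit 460550)
(.node (nat_lit 458870)
(.leaf (nat_lit 458759) (nat_lit 0x0))
(.leaf (nat_lit 458871) (nat_lit 0x1)))
(.node (nat_lit 460662)
(.leaf (nat_lit 460551) (nat_lit 0x2))
(.node (nat_lit 487430)
(.leaf (nat_lit 460663) (nat_lit 0x3))
(.leaf (nat_lit 487431) (nat_lit 0x4)))))
(.node (nat_lit 0x70006f)
(.node (nat_lit 489222)
(.leaf (nat_lit 487543) (nat_lit 0x5))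
(.node (nat_lit 489334)
(.leaf (nat_lit 489223) (nat_lit 0x6))
(.leaf (nat_lit 489335) (nat_lit 0x7))))
(.node (nat_lit 0x70076f)
(.leaf (nat_lit 0x700070) (nat_lit 0x488))
(.node (nat_lit 0x70706f)
(.leaf (nat_lit 0x700770) (nat_lit 0x58a))
(.leaf (nat_lit 0x707070) (nat_lit 0x68c))))))
(.node (nat_lit 0x77706f)
(.node (nat_lit 0x770706)
(.node (nat_lit 0x770006)
(.leaf (nat_lit 0x707770) (nat_lit 0x78e))
(.node (nat_lit 0x77006f)
(.leaf (nat_lit 0x770007) (nat_lit 0x10))
(.leaf (nat_lit 0x770070) (nat_lit 0x11))))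
(.node (nat_lit 0x77076f)
(.leaf (nat_lit 0x770707) (nat_lit 0x12))
(.node (nat_lit 0x777006)
(.leaf (nat_lit 0x770770) (nat_lit 0x13))
(.leaf (nat_lit 0x777007) (nat_lit 0x14)))))
(.node (nat_lit 0x70006ff)
(.node (nat_lit 0x777706)
(.leaf (nat_lit 0x777070) (nat_lit 0x15))
(.node (nat_lit 0x77776f)
(.leaf (nat_lit 0x777707) (nat_lit 0x16))
(.leaf (nat_lit 0x777770) (nat_lit 0x17))))
(.node (nat_lit 0x700076f)
(.leaf (nat_lit 0x7000700) (nat_lit 0xc98))
(.node (nat_lit 0x70076ff)
(.leaf (nat_lit 0x7000770) (nat_lit 0xd9a))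
(.leaf (nat_lit 0x7007700) (nat_lit 0xe9c)))))))
(.node (nat_lit 0x770706f)
(.node (nat_lit 0x7077006)
(.node (nat_lit 0x7070076)
(.node (nat_lit 0x7070006)
(.leaf (nat_lit 0x7007770) (nat_lit 0xf9e))
(.leaf (nat_lit 0x7070007) (nat_lit 0x20)))
(.node (nat_lit 0x70706ff)
(.leaf (nat_lit 0x7070077) (nat_lit 0x21))
(.node (nat_lit 0x707076f)
(.leaf (nat_lit 0x7070700) (nat_lit 0x22))
(.leaf (nat_lit 0x7070770) (nat_lit 0x23)))))
(.node (nat_lit 0x707776f)
(.node (nat_lit 0x7077076)
(.leaf (nat_lit 0x7077007) (nat_lit 0x24))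
(.node (nat_lit 0x70776ff)
(.leaf (nat_lit 0x7077077) (nat_lit 0x25))
(.leaf (nat_lit 0x7077700) (nat_lit 0x26))))
(.node (nat_lit 0x770006f)
(.leaf (nat_lit 0x7077770) (nat_lit 0x27))
(.node (nat_lit 0x77006ff)
(.leaf (nat_lit 0x7700070) (nat_lit 0x14a8))
(.leaf (nat_lit 0x7700700) (nat_lit 0x15aa))))))
(.node (nat_lit 0x7777006)
(.node (nat_lit 0x777006f)
(.node (nat_lit 0x77076ff)
(.leaf (nat_lit 0x7707070) (nat_lit 0x16ac))
(.node (nat_lit 0x7770006)
(.leaf (nat_lit 0x7707700) (nat_lit 0x17ae))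
(.leaf (nat_lit 0x7770007) (nat_lit 0x30))))
(.node (nat_lit 0x77706ff)
(.leaf (nat_lit 0x7770070) (nat_lit 0x31))
(.node (nat_lit 0x7770776)
(.leaf (nat_lit 0x7770700) (nat_lit 0x32))
(.leaf (nat_lit 0x7770777) (nat_lit 0x33)))))
(.node (nat_lit 0x7777776)
(.node (nat_lit 0x777706f)
(.leaf (nat_lit 0x7777007) (nat_lit 0x34))
(.node (nat_lit 0x77776ff)
(.leaf (nat_lit 0x7777070) (nat_lit 0x35))
(.leaf (nat_lit 0x7777700) (nat_lit 0x36))))
(.node (nat_lit 0x70006fff)
(.leaf (nat_lit 0x7777777) (nat_lit 0x37))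
(.node (nat_lit 0x7000706f)
(.leaf (nat_lit 0x70007000) (nat_lit 0x1cb8))
(.leaf (nat_lit 0x70007070) (nat_lit 0x1dba))))))))
(.node (nat_lit 0x7700076f)
(.node (nat_lit 0x7070076f)
(.node (nat_lit 0x70070776)
(.node (nat_lit 0x70070006)
(.node (nat_lit 0x7000776f)
(.leaf (nat_lit 0x70007700) (nat_lit 0x1ebc))
(.leaf (nat_lit 0x70007770) (nat_lit 0x1fbe)))
(.node (nat_lit 0x70070076)
(.leaf (nat_lit 0x70070007) (nat_lit 0x40))
(.node (nat_lit 0x70070706)
(.leaf (nat_lit 0x70070077) (nat_lit 0x41))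
(.leaf (nat_lit 0x70070707) (nat_lit 0x42)))))
(.node (nat_lit 0x700776ff)
(.node (nat_lit 0x70076fff)
(.leaf (nat_lit 0x70070777) (nat_lit 0x43))
(.node (nat_lit 0x7007706f)
(.leaf (nat_lit 0x70077000) (nat_lit 0x44))
(.leaf (nat_lit 0x70077070) (nat_lit 0x45))))
(.node (nat_lit 0x7007776f)
(.leaf (nat_lit 0x70077700) (nat_lit 0x46))
(.node (nat_lit 0x7070006f)
(.leaf (nat_lit 0x70077770) (nat_lit 0x47))
(.leaf (nat_lit 0x70700070) (nat_lit 0x24c8))))))
(.node (nat_lit 0x7077076f)
(.node (nat_lit 0x70770006)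
(.node (nat_lit 0x70706fff)
(.leaf (nat_lit 0x70700770) (nat_lit 0x25ca))
(.node (nat_lit 0x707076ff)
(.leaf (nat_lit 0x70707000) (nat_lit 0x26cc))
(.leaf (nat_lit 0x70707700) (nat_lit 0x27ce))))
(.node (nat_lit 0x7077006f)
(.leaf (nat_lit 0x70770007) (nat_lit 0x50))
(.node (nat_lit 0x70770706)
(.leaf (nat_lit 0x70770070) (nat_lit 0x51))
(.leaf (nat_lit 0x70770707) (nat_lit 0x52)))))
(.node (nat_lit 0x707776ff)
(.node (nat_lit 0x70776fff)
(.leaf (nat_lit 0x70770770) (nat_lit 0x53))
(.node (nat_lit 0x70777076)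
(.leaf (nat_lit 0x70777000) (nat_lit 0x54))
(.leaf (nat_lit 0x70777077) (nat_lit 0x55))))
(.node (nat_lit 0x70777776)
(.leaf (nat_lit 0x70777700) (nat_lit 0x56))
(.node (nat_lit 0x770006ff)
(.leaf (nat_lit 0x70777777) (nat_lit 0x57))
(.leaf (nat_lit 0x77000700) (nat_lit 0x2cd8)))))))
(.node (nat_lit 0x7770006f)
(.node (nat_lit 0x770706ff)
(.node (nat_lit 0x7700706f)
(.node (nat_lit 0x77006fff)
(.leaf (nat_lit 0x77000770) (nat_lit 0x2dda))
(.leaf (nat_lit 0x77007000) (nat_lit 0x2edc)))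
(.node (nat_lit 0x77070006)
(.leaf (nat_lit 0x77007070) (nat_lit 0x2fde))
(.node (nat_lit 0x77070076)
(.leaf (nat_lit 0x77070007) (nat_lit 0x60))
(.leaf (nat_lit 0x77070077) (nat_lit 0x61)))))
(.node (nat_lit 0x7707706f)
(.node (nat_lit 0x7707076f)
(.leaf (nat_lit 0x77070700) (nat_lit 0x62))
(.node (nat_lit 0x77076fff)
(.leaf (nat_lit 0x77070770) (nat_lit 0x63))
(.leaf (nat_lit 0x77077000) (nat_lit 0x64))))
(.node (nat_lit 0x77077706)
(.leaf (nat_lit 0x77077070) (nat_lit 0x65))
(.node (nat_lit 0x77077776)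
(.leaf (nat_lit 0x77077707) (nat_lit 0x66))
(.leaf (nat_lit 0x77077777) (nat_lit 0x67))))))
(.node (nat_lit 0x777706ff)
(.node (nat_lit 0x7770776f)
(.node (nat_lit 0x777006ff)
(.leaf (nat_lit 0x77700070) (nat_lit 0x34e8))
(.node (nat_lit 0x77706fff)
(.leaf (nat_lit 0x77700700) (nat_lit 0x35ea))
(.leaf (nat_lit 0x77707000) (nat_lit 0x36ec))))
(.node (nat_lit 0x77770006)
(.leaf (nat_lit 0x77707770) (nat_lit 0x37ee))
(.node (nat_lit 0x7777006f)
(.leaf (nat_lit 0x77770007) (nat_lit 0x70))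
(.leaf (nat_lit 0x77770070) (nat_lit 0x71)))))
(.node (nat_lit 0x77777076)
(.node (nat_lit 0x77770776)
(.leaf (nat_lit 0x77770700) (nat_lit 0x72))
(.node (nat_lit 0x77776fff)
(.leaf (nat_lit 0x77770777) (nat_lit 0x73))
(.leaf (nat_lit 0x77777000) (nat_lit 0x74))))
(.node (nat_lit 0x77777706)
(.leaf (nat_lit 0x77777077) (nat_lit 0x75))
(.node (nat_lit 0x7777776f)
(.leaf (nat_lit 0x77777707) (nat_lit 0x76))
(.leaf (nat_lit 0x77777770) (nat_lit 0x77)))))))))

noncomputable def look : ℕ → ℕ := tabF look_tbl (nat_lit 7) (nat_lit 127)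

theorem am_0 : K2.amOK 8 T Ms vs (nat_lit 0) (nat_lit 117) = true := by decide +kernel
theorem am_1 : K2.amOK 8 T Ms vs (nat_lit 117) (nat_lit 120) = true := by decide +kernel
theorem hAm : ∀ i < T.N, K2.AmP 8 T Ms vs i := rng_all (rng_join (FT.amOK_sound _ am_0) (FT.amOK_sound _ am_1))
theorem hInj : K2.injOK 8 vs look T.N = true := by decide +kernel

def QM : List ℕ := [nat_lit 65536, nat_lit 0x100000, nat_lit 0x1000000, nat_lit 0x10000000, nat_lit 0, nat_lit 0, nat_lit 0, nat_lit 0]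
def CC : List (List ℕ × List ℕ × List ℕ × List ℕ) :=
  [([nat_lit 1, nat_lit 0x1100111, nat_lit 0x1100001, nat_lit 4096, nat_lit 0x1110101, nat_lit 0x100000, nat_lit 0x100101, nat_lit 0x10000000], [nat_lit 1, nat_lit 0x1100111, nat_lit 0x1100001, nat_lit 4096, nat_lit 0x1110101, nat_lit 0x100000, nat_lit 0x100101, nat_lit 0x10000000], [nat_lit 1, nat_lit 0x10100001, nat_lit 0x1001010, nat_lit 0x10101011, nat_lit 0x10110011, nat_lit 0x11001101, nat_lit 4368, nat_lit 0x11001110], [nat_lit 1, nat_lit 0x10100001, nat_lit 0x1001010, nat_lit 0x10101011, nat_lit 0x10110011, nat_lit 0x11001101, nat_lit 4368, nat_lit 0x11001110]),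
  ([nat_lit 0x11111010, nat_lit 0x11111001, nat_lit 0x11111111, nat_lit 0x11110011, nat_lit 0x11101011, nat_lit 0x11011011, nat_lit 0x1000000, nat_lit 0x1111011], [nat_lit 0x11111010, nat_lit 0x11111001, nat_lit 0x11111111, nat_lit 0x11110011, nat_lit 0x11101011, nat_lit 0x11011011, nat_lit 0x1000000, nat_lit 0x1111011], [nat_lit 0x111100, nat_lit 0x111111, nat_lit 0x1001010, nat_lit 4096, nat_lit 0x101101, nat_lit 0x1101110, nat_lit 0x110011, nat_lit 0x11110011], [nat_lit 0x111100, nat_lit 0x111111, nat_lit 0x1001010, nat_lit 4096, nat_lit 0x101101, nat_lit 0x1101110, nat_lit 0x110011, nat_lit 0x11110011]),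
  ([nat_lit 1, nat_lit 16, nat_lit 0x11001110, nat_lit 0x11000010, nat_lit 65536, nat_lit 0x11101010, nat_lit 0x1000000, nat_lit 0x1001010], [nat_lit 1, nat_lit 16, nat_lit 0x11001110, nat_lit 0x11000010, nat_lit 65536, nat_lit 0x11101010, nat_lit 0x1000000, nat_lit 0x1001010], [nat_lit 1, nat_lit 0x1000000, nat_lit 0x1101000, nat_lit 4096, nat_lit 65536, nat_lit 4368, nat_lit 16, nat_lit 0x11000010], [nat_lit 1, nat_lit 0x1000000, nat_lit 0x1101000, nat_lit 4096, nat_lit 65536, nat_lit 4368, nat_lit 16, nat_lit 0x11000010]),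
  ([nat_lit 1, nat_lit 16, nat_lit 256, nat_lit 0x10000110, nat_lit 65536, nat_lit 0x10101110, nat_lit 0x11001110, nat_lit 4368], [nat_lit 1, nat_lit 16, nat_lit 256, nat_lit 0x10000110, nat_lit 65536, nat_lit 0x10101110, nat_lit 0x11001110, nat_lit 4368], [nat_lit 1, nat_lit 256, nat_lit 16, nat_lit 4096, nat_lit 65536, nat_lit 0x1001010, nat_lit 0x101100, nat_lit 0x10000110], [nat_lit 1, nat_lit 256, nat_lit 16, nat_lit 4096, nat_lit 65536, nat_lit 0x1001010, nat_lit 0x101100, nat_lit 0x10000110]),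
  ([nat_lit 0x10011101, nat_lit 16, nat_lit 256, nat_lit 0x10010100, nat_lit 65536, nat_lit 0x100000, nat_lit 0x11011100, nat_lit 69888], [nat_lit 0x10011101, nat_lit 16, nat_lit 256, nat_lit 0x10010100, nat_lit 65536, nat_lit 0x100000, nat_lit 0x11011100, nat_lit 69888], [nat_lit 0x1011000, nat_lit 16, nat_lit 65536, nat_lit 4096, nat_lit 256, nat_lit 0x100000, nat_lit 4353, nat_lit 0x10010100], [nat_lit 0x1011000, nat_lit 16, nat_lit 65536, nat_lit 4096, nat_lit 256, nat_lit 0x100000, nat_lit 4353, nat_lit 0x10010100]),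
  ([nat_lit 1, nat_lit 16, nat_lit 0x11001111, nat_lit 0x11000011, nat_lit 0x11011011, nat_lit 0x11101011, nat_lit 0x1000000, nat_lit 0x1001011], [nat_lit 1, nat_lit 16, nat_lit 0x11001111, nat_lit 0x11000011, nat_lit 0x11011011, nat_lit 0x11101011, nat_lit 0x1000000, nat_lit 0x1001011], [nat_lit 1, nat_lit 0x1000001, nat_lit 0x1101001, nat_lit 4096, nat_lit 0x1111101, nat_lit 4368, nat_lit 17, nat_lit 0x11000011], [nat_lit 1, nat_lit 0x1000001, nat_lit 0x1101001, nat_lit 4096, nat_lit 0x1111101, nat_lit 4368, nat_lit 17, nat_lit 0x11000011]),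
  ([nat_lit 0x10011011, nat_lit 16, nat_lit 256, nat_lit 0x10010010, nat_lit 65536, nat_lit 0x10111010, nat_lit 0x1000000, nat_lit 69648], [nat_lit 0x10011011, nat_lit 16, nat_lit 256, nat_lit 0x10010010, nat_lit 65536, nat_lit 0x10111010, nat_lit 0x1000000, nat_lit 69648], [nat_lit 0x1011111, nat_lit 16, nat_lit 65808, nat_lit 4096, nat_lit 65536, nat_lit 0x1111110, nat_lit 0x1010010, nat_lit 0x10010010], [nat_lit 0x1011111, nat_lit 16, nat_lit 65808, nat_lit 4096, nat_lit 65536, nat_lit 0x1111110, nat_lit 0x1010010, nat_lit 0x10010010]),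
  ([nat_lit 1, nat_lit 0x100001, nat_lit 256, nat_lit 4096, nat_lit 0x110011, nat_lit 17, nat_lit 0x1000000, nat_lit 0x10000000], [nat_lit 1, nat_lit 0x100001, nat_lit 256, nat_lit 4096, nat_lit 0x110011, nat_lit 17, nat_lit 0x1000000, nat_lit 0x10000000], [nat_lit 1, nat_lit 0x11100111, nat_lit 0x11100001, nat_lit 0x1100111, nat_lit 0x11110101, nat_lit 0x10101010, nat_lit 0x10100101, nat_lit 4112], [nat_lit 1, nat_lit 0x11100111, nat_lit 0x11100001, nat_lit 0x1100111, nat_lit 0x11110101, nat_lit 0x10101010, nat_lit 0x10100101, nat_lit 4112])]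
theorem hm : K2.omOK 8 QM CC Ms = true := by decide +kernel

noncomputable def o8l0_tbl : NT :=
(.node (nat_lit 12149)
(.node (nat_lit 6074)
(.node (nat_lit 2024)
(.leaf (nat_lit 0) (nat_lit 0x44000008000000f000001c34f042c59c085b38810b026020a0000034414085872410b000001829e081409c0820b5c28500000162130a142b214284502850200206a1e0c18000005285c286141050c9d30a193b2143275028600000122cf041c09c0818c34107000001024b041c3140838524107061850804f0408000003896828310e05061900a0c1b01418248283000000c04f04040000028a3410412602081cb041021408203241041010204000001040c080871c4810c282021040e0419408081241010200200000000c49c08108341020e6020414b040810e0c10000002000000200002000000400000080000010000002000000400000080))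
(.node (nat_lit 4049)
(.leaf (nat_lit 2025) (nat_lit 0x9ce042400001181301095700744b4a04856be14f2a001186478244b4e048991a091281849b0258212000008819208fae145176478242b590485922086ad6c121122024204a0424000010ae10516607823cbce04780000102f3011e000003e00000780920848100108000003a3010a39234147253010a00000386980a38ca4147000001b1e7822a34e045599a0880b301150258210f180a4c49208a810010700000341010a3000000c8b0828c0000030000005c00000b0a1828b18e04102a10821a1a0840130107000002a1db0a2032c1442600112000002804e041938e245242058e4d0031499b062932c0c50100105609022498106480000098000012))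
(.leaf (nat_lit 4050) (nat_lit 0x6920a70080086b44812d000005cd4712b5498088aa2c12d000005a00000b148008a013c10c00000560cd04a863814d032c12906502500c9049e186209800002a0ab843204d0430eac08c958839942c05380c9049948408880000290a984305110460698092012c10c1e288300c9049578008800000280ac842e9cd047063610b90743170250218444105d78008780000270aa042c000009862c10b000002524f862c04904300000120e4020d189841ac471284540106812c10b78502462150a3540a14d013c10a4f08428a1a0a5131808ea7402944ec05289d20a5220008cb23c123507024604d0425eb6091b1541237a5021a0c90481284085313c109))))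
(.node (nat_lit 8099)
(.leaf (nat_lit 6075) (nat_lit 0x3cc04d809608b000003904a8530040045400001c000003734882483060c607400d2106c2a4000006cf440a8d8a4089a75c1130268224f8c044d916089bb201155e48264b8104898a0088ac4c2116288222a8c04b561608901281116248262d8414858b00882e38110646822ab8c04405160882c74192024822000000d58340992f50132026821efcc04c98960993d7c132048852600000d1820098af4c1315e38962a8c04b0096087800003304a8522c010479786107ae5020f0000064b96083c000018812810f5c482245410c7409e0870000030463893a95c0a50196097996429d30a053ab450ab40000178d4c21c4cd052e8db08700960872228119))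
(.node (nat_lit 10124)
(.leaf (nat_lit 8100) (nat_lit 0x11809c08db7341455b0878aa930b141940a283241445c00238d4f046c000022b63411b52d8244a45126c09408dab24143681886cd0f050c000022373414352b023e000010e19409a812411b481065615e08ac09c08d0534141000008414b050029409f852413e3a3055404f0464000020826829a38b02545900aa9094097852413c2e28a5204f046000002015682a91e602700900a68830154852413a2c3825004f045c00001fa55c2af1ad82504500aa013014d12482a8181854e04f045800001f054413c1ab024e0cb04e89b0153824829a000007a00000f0328093013411638e054c5950498f301530244299000007600000e8326112931c4a5))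
(.leaf (nat_lit 10125) (nat_lit 0x4580ae01920a78e0422e1e4116e04e0490da209b8e842b71e9856e4590adc1920a7350012c000009e0000138cb415b0e582251ea846cfc413280920920100120887827a000013681a09ec2301339c5829709b0ab212c15e810011f9a184760000130000025b63013b9a5827738a04ee69209db0001396478290c4e052218e26441082b5065829004a047d8be1e4000004a6278240c0e048009a08f3e581206110740f8a04817221518000049627823ec0e047d81a08fb230143025823c000012182815114001421af046004e047522e15823185b00a5828e60706c0b8625822001380278238000011d31a094226c12f048053a8190aa8ca81578f00137)))))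
(.node (nat_lit 18224)
(.node (nat_lit 14174)
(.leaf (nat_lit 12150) (nat_lit 0x1170aac00002e974c2c13e2888e1c9055400002e064014002702525970b008c2160044c2ab22c85801c9054400002d866013f0270250907131c00002d124c2bf08c85564d40afc00002c864813e027024e1d1055400002c052c15128c857c1140aac080093436013500000af3d70ad59b61244f402d35e502870c904d400002b013c12600000aa18d049cdc21de17402bc3ac85781120aa8080092ce3c13400000a8000014da841da4c4c2b49ac85693140ad0000029013c12500000a259104e87ac0a782402a706502a01120aa578829980000500ec84728da0ae60980a51374239025024a41f0ae5088157813c12420f057065104e07381548f402b8))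
(.node (nat_lit 16199)
(.leaf (nat_lit 14175) (nat_lit 0x4004ca03012b000006684d039501b08e61160b24028136849039404004c599e0a9000006500000c8d1c0b25a20164b4602c96890592d4209218b0099b0641338868266d0c04f413a119812813164482668440b1c7200a3813812f483897e95b0570226158202814130a858e000018c09e09736381626ed05c4bcc05896160b105281620a482c0bc20914000031013812d6cb855cb8c04b959609702642ae56a05be0000184000030013812c6e882bebcc057c1960afc3642cd04a055cd420d0d9b8096000005f6c88258c5604c40960962e104bd54a835a4c82ac03381210d8424246682ba04c04ac940161072815a0e482b000001783340a0813812a))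
(.leaf (nat_lit 16200) (nat_lit 0x130b05326940a64c2414ca4205a739a052c000036813413ba10029740b04f68940a5ce2414b0200274c831524a02169000006c22105a45461148b0a0e917101d226305a21d0054409c09d174415124b02a21130af82940b586502c02e205a004f04e4000035a21c4d03a602ac5100b4013015d11482d0201859e04f04d88a80a7981c4cf20602744100b3ceb60eb02482b800000d4412053809c09b1a5c2ce1eb029c4130b3a0940b302502b762002cc00001a409c09ace682d788d84af307119e2140a2442415762002ca00001a009c09a033416796602c32e00b5263616a4b582d4a420ac93cf054c0000338134134a2602a73530ad6832169cd442d3))))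
(.node (nat_lit 22274)
(.node (nat_lit 20249)
(.leaf (nat_lit 18225) (nat_lit 0x6d4057511072101301413e582b694a05704920b781001404cc02b86010b7138e26d26301474ce82b890707753ac16e010013f40802b65c10b6d10e26d98082db3c407ba7c40d6d3aa0f897102da10c02b4399056941a0ae013013f40582bc19b0b08a2c16d010013ea8417b23410b66b0e26c97082d930308b200001c6a860ec961455810902b039405611a20b7813013e26a82b055b0b6032c161070425700000e004e04f679a0a6c53014da0582dabd90b7e1a8166810013c82782946c10f58fc412b1c185d03c582d878a053cf2c0eb1a0835510902aa04e04f041a09f000006f30985aa71b0b54328160870425400000dc04e04ec19a0b6c92036a))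
(.leaf (nat_lit 20250) (nat_lit 0x134905b58021a6c26016602702950d70b9a1360b3442c17580c859d0d40b998021a6347836502702920cd05d66980b9b54c2e56ac85cad540b969800a5b36816c00000ea04d0525ab80f241401ca6ac03c8d510b900800a33a208e370087c6ec8398dc041f1b91846374283c600001d1b90131013c1456af078ce0d05197381632b402c608c058cb4905c80800a24e3c1676c702d539a0ba2542166484c2e994383d528905aa8000b3813c1446ca02e4e5105c97ac0b9052c1728a502d21120b1800003980000720270286e0d051172c0a2024c2c460502aeb0905140800a0a14015e3c087bca620d78d841ef1f1845a42e83bc8550778d0622e877025d)))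
(.node (nat_lit 24299)
(.leaf (nat_lit 22275) (nat_lit 0x115c0ba639053531281728a905d264005ac5240b79a042ef48682b004c05553960b89b1c1ef10b05bb3430bb809e0aa4e783e89e882d540c05b66201744d602e898905d13c005d279e0b5013815304b85a93d605ba7a016bcf601e798885ce8040bb1a1e0b2155c26c02682a47e005b0e8e2ab1f741ec30885d86070bbc4300b5813815046b85d64db05acaa617584642d124a05d6040053a7240b6b5043e1a0682dd28c05524160b84b2816192a85c200001dc09e0a6c6381709c682e118c05c24960b0c4602e08c482e000001d809e0a64f3816e9e682c339c079e6960b74e2816e9a482dd3c30b826a0130813814b04b85993cc05a26960a6d02816d))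
(.leaf (nat_lit 24300) (nat_lit 0x2002d321805de38217bd9882778e105ef44b05ce3081ba487c1f702002d159c05da80217b5834173a8105eb5a007dab360fb56581f6a6084e515005d409c0b2025c2e5aa602ed0d30b99b3217ab6502f59c185daed209d1ca813a3c4427472b04e8e9509d23940bb812416302002bf39c05cdb02179d720e7698105cb40405de7360f9ce581f3a8002ea04f057db9c0b03a3416060602c01100b818301782c482e2ac185e355809c4732138a94427130d84e29840fbc0940aca82415b8c185e004f055e2bc174cd1c4e9))))))

noncomputable def o8l0_par : NT :=
(.leaf (nat_lit 0) (nat_lit 0xd3f47c9718bfefeb26beaaea6a7694a16779ba66976559364c8de2e89e268760f82e077fdfb7ddf37b5e7795dd771d7755ce6d9b56b5a56919763d895f5765b5655895b5554d5153d4dd364bd2e4a5264952041cff3e4f43c8ed398dd364d8354ce318be2d8b42c8af250892007c1e8791d8721bc661906218460168561304b12849120471083f0ec350bc2b0941f074160380801c00))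

noncomputable def o8l0_rt : RT :=
(.node (nat_lit 16)
(.node (nat_lit 7)
(.node (nat_lit 3)
(.node (nat_lit 1)
(.node (nat_lit 0)
(.leaf (nat_lit 0) [nat_lit 7, nat_lit 7] (nat_lit 1) (nat_lit 4095) (nat_lit 0))
(.leaf (nat_lit 1) [nat_lit 5, nat_lit 7, nat_lit 5, nat_lit 7, nat_lit 5, nat_lit 7] (nat_lit 5) (nat_lit 0xf7df7df7d) (nat_lit 0)))
(.node (nat_lit 2)
(.leaf (nat_lit 2) [nat_lit 3, nat_lit 7, nat_lit 3, nat_lit 7, nat_lit 3, nat_lit 7] (nat_lit 5) (nat_lit 0xefbefbefb) (nat_lit 0))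
(.leaf (nat_lit 3) [nat_lit 0, nat_lit 6, nat_lit 7, nat_lit 0, nat_lit 6, nat_lit 7, nat_lit 0, nat_lit 6, nat_lit 7] (nat_lit 8) (nat_lit 0x3e1f0f87c3e1f0) (nat_lit 0))))
(.node (nat_lit 5)
(.node (nat_lit 4)
(.leaf (nat_lit 4) [nat_lit 0, nat_lit 1, nat_lit 7, nat_lit 1, nat_lit 2, nat_lit 0, nat_lit 1, nat_lit 7, nat_lit 1, nat_lit 2] (nat_lit 9) (nat_lit 0x47908f211e423c8) (nat_lit 0))
(.leaf (nat_lit 5) [nat_lit 1, nat_lit 2, nat_lit 7, nat_lit 2, nat_lit 3, nat_lit 1, nat_lit 2, nat_lit 7, nat_lit 2, nat_lit 3] (nat_lit 9) (nat_lit 0x6ba2d745ae8b5d1) (nat_lit 0)))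
(.node (nat_lit 6)
(.leaf (nat_lit 6) [nat_lit 2, nat_lit 3, nat_lit 7, nat_lit 3, nat_lit 5, nat_lit 2, nat_lit 3, nat_lit 7, nat_lit 3, nat_lit 5] (nat_lit 9) (nat_lit 0xafb55f6abed57da) (nat_lit 0))
(.leaf (nat_lit 7) [nat_lit 1, nat_lit 0, nat_lit 7, nat_lit 0, nat_lit 3, nat_lit 2, nat_lit 4, nat_lit 2, nat_lit 3, nat_lit 1, nat_lit 0, nat_lit 7] (nat_lit 11) (nat_lit 0xe0b5131c1e0b5131c1) (nat_lit 0)))))
(.node (nat_lit 11)
(.node (nat_lit 9)
(.node (nat_lit 8)
(.leaf (nat_lit 8) [nat_lit 6, nat_lit 7, nat_lit 5, nat_lit 3, nat_lit 2, nat_lit 6, nat_lit 7, nat_lit 5, nat_lit 3, nat_lit 2, nat_lit 6, nat_lit 5, nat_lit 7, nat_lit 5, nat_lit 6, nat_lit 5, nat_lit 3, nat_lit 2, nat_lit 7, nat_lit 5, nat_lit 6, nat_lit 5, nat_lit 7, nat_lit 3, nat_lit 5, nat_lit 4, nat_lit 1] (nat_lit 26) (nat_lit 0xcafdd7a775f7277e4efc657eebd3bafb93bf277e) (nat_lit 0))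
(.leaf (nat_lit 0) [nat_lit 0, nat_lit 0] (nat_lit 1) (nat_lit 0) (nat_lit 0)))
(.node (nat_lit 10)
(.leaf (nat_lit 0) [nat_lit 1, nat_lit 1] (nat_lit 1) (nat_lit 585) (nat_lit 0))
(.leaf (nat_lit 0) [nat_lit 2, nat_lit 2] (nat_lit 1) (nat_lit 1170) (nat_lit 0))))
(.node (nat_lit 13)
(.node (nat_lit 12)
(.leaf (nat_lit 0) [nat_lit 3, nat_lit 3] (nat_lit 1) (nat_lit 1755) (nat_lit 0))
(.leaf (nat_lit 0) [nat_lit 4, nat_lit 4] (nat_lit 1) (nat_lit 2340) (nat_lit 0)))
(.node (nat_lit 14)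
(.leaf (nat_lit 0) [nat_lit 5, nat_lit 5] (nat_lit 1) (nat_lit 2925) (nat_lit 0))
(.node (nat_lit 15)
(.leaf (nat_lit 0) [nat_lit 6, nat_lit 6] (nat_lit 1) (nat_lit 3510) (nat_lit 0))
(.leaf (nat_lit 0) [nat_lit 2, nat_lit 6, nat_lit 2, nat_lit 6] (nat_lit 3) (nat_lit 0xcb2cb2) (nat_lit 0)))))))
(.node (nat_lit 25)
(.node (nat_lit 20)
(.node (nat_lit 18)
(.node (nat_lit 17)
(.leaf (nat_lit 0) [nat_lit 0, nat_lit 4, nat_lit 0, nat_lit 4] (nat_lit 3) (nat_lit 0x820820) (nat_lit 0))
(.leaf (nat_lit 0) [nat_lit 0, nat_lit 6, nat_lit 0, nat_lit 6] (nat_lit 3) (nat_lit 0xc30c30) (nat_lit 0)))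
(.node (nat_lit 19)
(.leaf (nat_lit 0) [nat_lit 2, nat_lit 5, nat_lit 2, nat_lit 5] (nat_lit 3) (nat_lit 0xaaaaaa) (nat_lit 0))
(.leaf (nat_lit 0) [nat_lit 0, nat_lit 5, nat_lit 0, nat_lit 5] (nat_lit 3) (nat_lit 0xa28a28) (nat_lit 0))))
(.node (nat_lit 22)
(.node (nat_lit 21)
(.leaf (nat_lit 0) [nat_lit 0, nat_lit 2, nat_lit 0, nat_lit 2] (nat_lit 3) (nat_lit 0x410410) (nat_lit 0))
(.leaf (nat_lit 0) [nat_lit 0, nat_lit 3, nat_lit 0, nat_lit 3] (nat_lit 3) (nat_lit 0x618618) (nat_lit 0)))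
(.node (nat_lit 23)
(.leaf (nat_lit 0) [nat_lit 4, nat_lit 5, nat_lit 4, nat_lit 5] (nat_lit 3) (nat_lit 0xb2cb2c) (nat_lit 0))
(.node (nat_lit 24)
(.leaf (nat_lit 0) [nat_lit 1, nat_lit 6, nat_lit 1, nat_lit 6] (nat_lit 3) (nat_lit 0xc71c71) (nat_lit 0))
(.leaf (nat_lit 0) [nat_lit 1, nat_lit 5, nat_lit 1, nat_lit 5] (nat_lit 3) (nat_lit 0xa69a69) (nat_lit 0))))))
(.node (nat_lit 29)
(.node (nat_lit 27)
(.node (nat_lit 26)
(.leaf (nat_lit 0) [nat_lit 4, nat_lit 6, nat_lit 4, nat_lit 6] (nat_lit 3) (nat_lit 0xd34d34) (nat_lit 0))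
(.leaf (nat_lit 0) [nat_lit 1, nat_lit 3, nat_lit 1, nat_lit 3] (nat_lit 3) (nat_lit 0x659659) (nat_lit 0)))
(.node (nat_lit 28)
(.leaf (nat_lit 0) [nat_lit 3, nat_lit 6, nat_lit 3, nat_lit 6] (nat_lit 3) (nat_lit 0xcf3cf3) (nat_lit 0))
(.leaf (nat_lit 0) [nat_lit 1, nat_lit 2, nat_lit 1, nat_lit 2, nat_lit 1, nat_lit 2] (nat_lit 5) (nat_lit 0x451451451) (nat_lit 0))))
(.node (nat_lit 31)
(.node (nat_lit 30)
(.leaf (nat_lit 0) [nat_lit 5, nat_lit 6, nat_lit 5, nat_lit 6, nat_lit 5, nat_lit 6] (nat_lit 5) (nat_lit 0xd75d75d75) (nat_lit 0))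
(.leaf (nat_lit 0) [nat_lit 0, nat_lit 1, nat_lit 0, nat_lit 1, nat_lit 0, nat_lit 1] (nat_lit 5) (nat_lit 0x208208208) (nat_lit 0)))
(.node (nat_lit 32)
(.leaf (nat_lit 0) [nat_lit 2, nat_lit 3, nat_lit 2, nat_lit 3, nat_lit 2, nat_lit 3] (nat_lit 5) (nat_lit 0x69a69a69a) (nat_lit 0))
(.node (nat_lit 33)
(.leaf (nat_lit 0) [nat_lit 3, nat_lit 5, nat_lit 3, nat_lit 5, nat_lit 3, nat_lit 5] (nat_lit 5) (nat_lit 0xaebaebaeb) (nat_lit 0))
(.leaf (nat_lit 0) [nat_lit 2, nat_lit 4, nat_lit 2, nat_lit 4, nat_lit 2, nat_lit 4] (nat_lit 5) (nat_lit 0x8a28a28a2) (nat_lit 0))))))))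

def o8l0_P : List (List ℕ) :=
  [[nat_lit 7, nat_lit 7],
  [nat_lit 5, nat_lit 7, nat_lit 5, nat_lit 7, nat_lit 5, nat_lit 7],
  [nat_lit 3, nat_lit 7, nat_lit 3, nat_lit 7, nat_lit 3, nat_lit 7],
  [nat_lit 0, nat_lit 6, nat_lit 7, nat_lit 0, nat_lit 6, nat_lit 7, nat_lit 0, nat_lit 6, nat_lit 7],
  [nat_lit 0, nat_lit 1, nat_lit 7, nat_lit 1, nat_lit 2, nat_lit 0, nat_lit 1, nat_lit 7, nat_lit 1, nat_lit 2],
  [nat_lit 1, nat_lit 2, nat_lit 7, nat_lit 2, nat_lit 3, nat_lit 1, nat_lit 2, nat_lit 7, nat_lit 2, nat_lit 3],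
  [nat_lit 2, nat_lit 3, nat_lit 7, nat_lit 3, nat_lit 5, nat_lit 2, nat_lit 3, nat_lit 7, nat_lit 3, nat_lit 5],
  [nat_lit 1, nat_lit 0, nat_lit 7, nat_lit 0, nat_lit 3, nat_lit 2, nat_lit 4, nat_lit 2, nat_lit 3, nat_lit 1, nat_lit 0, nat_lit 7],
  [nat_lit 6, nat_lit 7, nat_lit 5, nat_lit 3, nat_lit 2, nat_lit 6, nat_lit 7, nat_lit 5, nat_lit 3, nat_lit 2, nat_lit 6, nat_lit 5, nat_lit 7, nat_lit 5, nat_lit 6, nat_lit 5, nat_lit 3, nat_lit 2, nat_lit 7, nat_lit 5, nat_lit 6, nat_lit 5, nat_lit 7, nat_lit 3, nat_lit 5, nat_lit 4, nat_lit 1]]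

noncomputable def o8l0_C : TC where
  G := nat_lit 8
  N := nat_lit 120
  W := nat_lit 27
  mask := nat_lit 0x7ffffff
  VM := nat_lit 0
  TV := nat_lit 0
  vb := nat_lit 0
  TM := nat_lit 127
  rb := nat_lit 7
  RM := nat_lit 8191
  BIG := nat_lit 0x5a00000
  b := nat_lit 3
  lm := nat_lit 7
  Y := nat_lit 127
  n := nat_lit 1
  K := nat_lit 0
  K0 := nat_lit 0
  QM := nat_lit 0
  k := nat_lit 0
  w := nat_lit 1
  c := nat_lit 0
  cq := nat_lit 0
  Lmax := nat_lit 27
  PW := nat_lit 10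
  PM := nat_lit 1023
  tbl := o8l0_tbl
  par := o8l0_par
  rt := o8l0_rt

noncomputable def o8l0 : Lv where
  C := o8l0_C
  df := [[nat_lit 0],
  [nat_lit 1],
  [nat_lit 2],
  [nat_lit 3],
  [nat_lit 4],
  [nat_lit 5],
  [nat_lit 6],
  [nat_lit 7]]
  X0 := nat_lit 127
  X := nat_lit 255
  Xl := nat_lit 255
  GG := nat_lit 8
  back := [nat_lit 0, nat_lit 1, nat_lit 2, nat_lit 3, nat_lit 4, nat_lit 5, nat_lit 6, nat_lit 7]
  P := o8l0_P

theorem o8l0_e0 : o8l0_C.edges (nat_lit 0) (nat_lit 120) = true := by decide +kernel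
theorem o8l0_cl : o8l0_C.closed o8l0.Xl (nat_lit 0) (nat_lit 120) = true := by decide +kernel
theorem o8l0_tab : o8l0.Tab :=
  ⟨rng_all (TC.edges_sound o8l0_e0), rng_all (TC.closed_sound o8l0_cl)⟩

noncomputable def o8l1_tbl : NT :=
(.node (nat_lit 2046)
(.leaf (nat_lit 0) (nat_lit 0x3ae04c0560943e42b1f39a60e804e20811644412ddb82580000e054092000034478550e408a1ea114f381280000602a04878ec542a012c718448f104905808e3c012400005a580e909c15030c2206a02402c0451a40900000282985306804918210e34421c000048d008719e10e9cc29c140228a308616c10c0b01105b8533f80c60d2090338298510428b40850000102c82145c04282904400000e2102104a8420000061321080a810c000028af0a40ca1061e820c4b84182b04200000824828c4805184608205a0821d8288000018750a20e81441c428810020000002086142114284220508420a10821420000040001000002000004000008000010000020))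
(.node (nat_lit 4093)
(.leaf (nat_lit 2047) (nat_lit 0x1a40792e8172c382e41002a1b40586e60b06142e05502d8c20b55c217000006c1682986c0590000341542d0aa05baef0b730612c000064160299fa0b63aa16c54c2d97705b0200513220aad1db54b285a9640b51d20b05042c80000c02d0507061685c81503502b8940b15a216859024c0000b80001642e1660a81409c059acf0b304009e4982c9b70291250b2248164f9c2c8b402a80001505a09cd8c2c4a802894f0511520a84442bca28480000147660a00ac134000098520ae560160000048168263830af23415e4542be0105792805124a11c000045cb05702b04b21e09c1a41406805612208d26811af4c134000082390ed052096a1c8348284600000f))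
(.leaf (nat_lit 4094) (nat_lit 0x1002b9d505b2d80b441d4644205c1620bb602176500164fb02d1430bb0560ae6642e8b905d3210ba24a1340b41582b05b92b05b))))

noncomputable def o8l1_par : NT :=
(.leaf (nat_lit 0) (nat_lit 0xa7a49f928a897d75726f675e59504e49413a352723201d17110c0600))

noncomputable def o8l1_rt : RT :=
(.node (nat_lit 12)
(.node (nat_lit 5)
(.node (nat_lit 2)
(.node (nat_lit 0)
(.leaf (nat_lit 0) [nat_lit 6, nat_lit 6] (nat_lit 1) (nat_lit 3510) (nat_lit 0))
(.node (nat_lit 1)
(.leaf (nat_lit 1) [nat_lit 0, nat_lit 6, nat_lit 0, nat_lit 6] (nat_lit 3) (nat_lit 0xc30c30) (nat_lit 0))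
(.leaf (nat_lit 2) [nat_lit 1, nat_lit 6, nat_lit 1, nat_lit 6] (nat_lit 3) (nat_lit 0xc71c71) (nat_lit 0))))
(.node (nat_lit 3)
(.leaf (nat_lit 3) [nat_lit 4, nat_lit 6, nat_lit 4, nat_lit 6] (nat_lit 3) (nat_lit 0xd34d34) (nat_lit 0))
(.node (nat_lit 4)
(.leaf (nat_lit 4) [nat_lit 2, nat_lit 6, nat_lit 2, nat_lit 6] (nat_lit 3) (nat_lit 0xcb2cb2) (nat_lit 0))
(.leaf (nat_lit 5) [nat_lit 3, nat_lit 6, nat_lit 3, nat_lit 6] (nat_lit 3) (nat_lit 0xcf3cf3) (nat_lit 0)))))
(.node (nat_lit 8)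
(.node (nat_lit 6)
(.leaf (nat_lit 6) [nat_lit 5, nat_lit 6, nat_lit 5, nat_lit 6, nat_lit 5, nat_lit 6] (nat_lit 5) (nat_lit 0xd75d75d75) (nat_lit 0))
(.node (nat_lit 7)
(.leaf (nat_lit 7) [nat_lit 3, nat_lit 0, nat_lit 1, nat_lit 0, nat_lit 2, nat_lit 1, nat_lit 0, nat_lit 3, nat_lit 2, nat_lit 1, nat_lit 4, nat_lit 2, nat_lit 1, nat_lit 0, nat_lit 3, nat_lit 2, nat_lit 1, nat_lit 4, nat_lit 2, nat_lit 5, nat_lit 6, nat_lit 3, nat_lit 2, nat_lit 1, nat_lit 0, nat_lit 5, nat_lit 3, nat_lit 2, nat_lit 1, nat_lit 0, nat_lit 4, nat_lit 2, nat_lit 3, nat_lit 5, nat_lit 6, nat_lit 1, nat_lit 2, nat_lit 3, nat_lit 5, nat_lit 4, nat_lit 2, nat_lit 3, nat_lit 1, nat_lit 2, nat_lit 4, nat_lit 0, nat_lit 1, nat_lit 2, nat_lit 3, nat_lit 5, nat_lit 6, nat_lit 4, nat_lit 2, nat_lit 3, nat_lit 1, nat_lit 2, nat_lit 4, nat_lit 0, nat_lit 1, nat_lit 2, nat_lit 3, nat_lit 5, nat_lit 4] (nat_lit 62) (nat_lit 0x2568888b53568888b52b4756a029d053d542982a14c140872b44445a9ab44445a95a3ab5014e829eaa14c150a60a043)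 (nat_lit 0))
(.leaf (nat_lit 0) [nat_lit 0, nat_lit 0] (nat_lit 1) (nat_lit 0) (nat_lit 0))))
(.node (nat_lit 10)
(.node (nat_lit 9)
(.leaf (nat_lit 0) [nat_lit 1, nat_lit 1] (nat_lit 1) (nat_lit 585) (nat_lit 0))
(.leaf (nat_lit 0) [nat_lit 2, nat_lit 2] (nat_lit 1) (nat_lit 1170) (nat_lit 0)))
(.node (nat_lit 11)
(.leaf (nat_lit 0) [nat_lit 3, nat_lit 3] (nat_lit 1) (nat_lit 1755) (nat_lit 0))
(.leaf (nat_lit 0) [nat_lit 4, nat_lit 4] (nat_lit 1) (nat_lit 2340) (nat_lit 0))))))
(.node (nat_lit 19)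
(.node (nat_lit 15)
(.node (nat_lit 13)
(.leaf (nat_lit 0) [nat_lit 5, nat_lit 5] (nat_lit 1) (nat_lit 2925) (nat_lit 0))
(.node (nat_lit 14)
(.leaf (nat_lit 0) [nat_lit 0, nat_lit 4, nat_lit 0, nat_lit 4] (nat_lit 3) (nat_lit 0x820820) (nat_lit 0))
(.leaf (nat_lit 0) [nat_lit 0, nat_lit 2, nat_lit 0, nat_lit 2] (nat_lit 3) (nat_lit 0x410410) (nat_lit 0))))
(.node (nat_lit 17)
(.node (nat_lit 16)
(.leaf (nat_lit 0) [nat_lit 0, nat_lit 3, nat_lit 0, nat_lit 3] (nat_lit 3) (nat_lit 0x618618) (nat_lit 0))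
(.leaf (nat_lit 0) [nat_lit 0, nat_lit 5, nat_lit 0, nat_lit 5] (nat_lit 3) (nat_lit 0xa28a28) (nat_lit 0)))
(.node (nat_lit 18)
(.leaf (nat_lit 0) [nat_lit 1, nat_lit 3, nat_lit 1, nat_lit 3] (nat_lit 3) (nat_lit 0x659659) (nat_lit 0))
(.leaf (nat_lit 0) [nat_lit 1, nat_lit 4, nat_lit 1, nat_lit 4] (nat_lit 3) (nat_lit 0x861861) (nat_lit 0)))))
(.node (nat_lit 22)
(.node (nat_lit 20)
(.leaf (nat_lit 0) [nat_lit 1, nat_lit 5, nat_lit 1, nat_lit 5] (nat_lit 3) (nat_lit 0xa69a69) (nat_lit 0))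
(.node (nat_lit 21)
(.leaf (nat_lit 0) [nat_lit 2, nat_lit 5, nat_lit 2, nat_lit 5] (nat_lit 3) (nat_lit 0xaaaaaa) (nat_lit 0))
(.leaf (nat_lit 0) [nat_lit 4, nat_lit 5, nat_lit 4, nat_lit 5] (nat_lit 3) (nat_lit 0xb2cb2c) (nat_lit 0))))
(.node (nat_lit 24)
(.node (nat_lit 23)
(.leaf (nat_lit 0) [nat_lit 3, nat_lit 4, nat_lit 3, nat_lit 4] (nat_lit 3) (nat_lit 0x8e38e3) (nat_lit 0))
(.leaf (nat_lit 0) [nat_lit 1, nat_lit 2, nat_lit 1, nat_lit 2, nat_lit 1, nat_lit 2] (nat_lit 5) (nat_lit 0x451451451) (nat_lit 0)))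
(.node (nat_lit 25)
(.leaf (nat_lit 0) [nat_lit 2, nat_lit 3, nat_lit 2, nat_lit 3, nat_lit 2, nat_lit 3] (nat_lit 5) (nat_lit 0x69a69a69a) (nat_lit 0))
(.leaf (nat_lit 0) [nat_lit 3, nat_lit 5, nat_lit 3, nat_lit 5, nat_lit 3, nat_lit 5] (nat_lit 5) (nat_lit 0xaebaebaeb) (nat_lit 0)))))))

def o8l1_P : List (List ℕ) :=
  [[nat_lit 6, nat_lit 6],
  [nat_lit 0, nat_lit 6, nat_lit 0, nat_lit 6],
  [nat_lit 1, nat_lit 6, nat_lit 1, nat_lit 6],
  [nat_lit 4, nat_lit 6, nat_lit 4, nat_lit 6],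
  [nat_lit 2, nat_lit 6, nat_lit 2, nat_lit 6],
  [nat_lit 3, nat_lit 6, nat_lit 3, nat_lit 6],
  [nat_lit 5, nat_lit 6, nat_lit 5, nat_lit 6, nat_lit 5, nat_lit 6],
  [nat_lit 3, nat_lit 0, nat_lit 1, nat_lit 0, nat_lit 2, nat_lit 1, nat_lit 0, nat_lit 3, nat_lit 2, nat_lit 1, nat_lit 4, nat_lit 2, nat_lit 1, nat_lit 0, nat_lit 3, nat_lit 2, nat_lit 1, nat_lit 4, nat_lit 2, nat_lit 5, nat_lit 6, nat_lit 3, nat_lit 2, nat_lit 1, nat_lit 0, nat_lit 5, nat_lit 3, nat_lit 2, nat_lit 1, nat_lit 0, nat_lit 4, nat_lit 2, nat_lit 3, nat_lit 5, nat_lit 6, nat_lit 1, nat_lit 2, nat_lit 3, nat_lit 5, nat_lit 4, nat_lit 2, nat_lit 3, nat_lit 1, nat_lit 2, nat_lit 4, nat_lit 0, nat_lit 1, nat_lit 2, nat_lit 3, nat_lit 5, nat_lit 6, nat_lit 4, nat_lit 2, nat_lit 3, nat_lit 1, nat_lit 2, nat_lit 4, nat_lit 0, nat_lit 1, nat_lit 2, nat_lit 3, nat_lit 5, nat_lit 4]]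

noncomputable def o8l1_C : TC where
  G := nat_lit 7
  N := nat_lit 28
  W := nat_lit 23
  mask := nat_lit 0x7fffff
  VM := nat_lit 0
  TV := nat_lit 0
  vb := nat_lit 0
  TM := nat_lit 31
  rb := nat_lit 5
  RM := nat_lit 4095
  BIG := nat_lit 0x420000
  b := nat_lit 3
  lm := nat_lit 7
  Y := nat_lit 63
  n := nat_lit 1
  K := nat_lit 0
  K0 := nat_lit 0
  QM := nat_lit 0
  k := nat_lit 0
  w := nat_lit 1
  c := nat_lit 0
  cq := nat_lit 0
  Lmax := nat_lit 63
  PW := nat_lit 8
  PM := nat_lit 255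
  tbl := o8l1_tbl
  par := o8l1_par
  rt := o8l1_rt

noncomputable def o8l1 : Lv where
  C := o8l1_C
  df := [[nat_lit 0],
  [nat_lit 1],
  [nat_lit 2],
  [nat_lit 3],
  [nat_lit 4],
  [nat_lit 5],
  [nat_lit 6]]
  X0 := nat_lit 63
  X := nat_lit 127
  Xl := nat_lit 127
  GG := nat_lit 8
  back := [nat_lit 0, nat_lit 1, nat_lit 2, nat_lit 3, nat_lit 4, nat_lit 5, nat_lit 6, nat_lit 0]
  P := o8l1_P

theorem o8l1_e0 : o8l1_C.edges (nat_lit 0) (nat_lit 28) = true := by decide +kernel
theorem o8l1_cl : o8l1_C.closed o8l1.Xl (nat_lit 0) (nat_lit 28) = true := by decide +kernel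
theorem o8l1_tab : o8l1.Tab :=
  ⟨rng_all (TC.edges_sound o8l1_e0), rng_all (TC.closed_sound o8l1_cl)⟩

noncomputable def o8l2_tbl : NT :=
(.node (nat_lit 2045)
(.leaf (nat_lit 0) (nat_lit 0x111382b4ed0af08012ce30ae3942b8e40ae3882b9260500000410b04d0a41290c04d19c13ccd0ab408230ef08c00003cf208c09c128d10ac000038d008b0a4124d30ab3382ace604d390228cb04a000034280480000308c0a9310224b408900002c280472c82a4a604a30c2202a0463341200000a33c2a04b0a728c21c2a0442b811c0000913c29466048284218000082b4218ac0862c42182604420c2142a043240294940a519c11cab0a5208210000072382109208409c10c0000619020c000051cc20c280420000108c0a3114208700820a4104000031b82886d0a2080100430a1000008440a1108284410a1000004000200000800002000008000020))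
(.leaf (nat_lit 2046) (nat_lit 0x1a109a7ac269cd09a730269b109a0981658209973c265ae0996c826427058000069640986d0261930980a015c000196302e143057240258290550000618e0b75b42dd250962a815c2905464c2d96e0b65342d82005310c2d0000175902d5620b55042d4200511a8154000161102c9420b44842d0000150a8145300b35502cd4f0b34ac2cc2004f50c2c96e0521a0150820b04042c80001400004d130910a013d320b14302c42004d48c2c14d0504902c0a70524042b8000124bc13c2904c)))

noncomputable def o8l2_par : NT :=
(.leaf (nat_lit 0) (nat_lit 0x96918c817b776b6a5f5c534b473f3d39322c281c1816130e090500))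

noncomputable def o8l2_rt : RT :=
(.node (nat_lit 9)
(.node (nat_lit 4)
(.node (nat_lit 1)
(.node (nat_lit 0)
(.leaf (nat_lit 0) [nat_lit 5, nat_lit 5] (nat_lit 1) (nat_lit 2925) (nat_lit 0))
(.leaf (nat_lit 1) [nat_lit 0, nat_lit 5, nat_lit 0, nat_lit 5] (nat_lit 3) (nat_lit 0xa28a28) (nat_lit 0)))
(.node (nat_lit 2)
(.leaf (nat_lit 2) [nat_lit 1, nat_lit 5, nat_lit 1, nat_lit 5] (nat_lit 3) (nat_lit 0xa69a69) (nat_lit 0))
(.node (nat_lit 3)
(.leaf (nat_lit 3) [nat_lit 4, nat_lit 5, nat_lit 4, nat_lit 5] (nat_lit 3) (nat_lit 0xb2cb2c) (nat_lit 0))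
(.leaf (nat_lit 4) [nat_lit 2, nat_lit 5, nat_lit 2, nat_lit 5] (nat_lit 3) (nat_lit 0xaaaaaa) (nat_lit 0)))))
(.node (nat_lit 6)
(.node (nat_lit 5)
(.leaf (nat_lit 5) [nat_lit 3, nat_lit 5, nat_lit 3, nat_lit 5, nat_lit 3, nat_lit 5] (nat_lit 5) (nat_lit 0xaebaebaeb) (nat_lit 0))
(.leaf (nat_lit 0) [nat_lit 0, nat_lit 0] (nat_lit 1) (nat_lit 0) (nat_lit 0)))
(.node (nat_lit 7)
(.leaf (nat_lit 0) [nat_lit 1, nat_lit 1] (nat_lit 1) (nat_lit 585) (nat_lit 0))
(.node (nat_lit 8)
(.leaf (nat_lit 0) [nat_lit 2, nat_lit 2] (nat_lit 1) (nat_lit 1170) (nat_lit 0))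
(.leaf (nat_lit 0) [nat_lit 3, nat_lit 3] (nat_lit 1) (nat_lit 1755) (nat_lit 0))))))
(.node (nat_lit 14)
(.node (nat_lit 11)
(.node (nat_lit 10)
(.leaf (nat_lit 0) [nat_lit 4, nat_lit 4] (nat_lit 1) (nat_lit 2340) (nat_lit 0))
(.leaf (nat_lit 0) [nat_lit 0, nat_lit 4, nat_lit 0, nat_lit 4] (nat_lit 3) (nat_lit 0x820820) (nat_lit 0)))
(.node (nat_lit 12)
(.leaf (nat_lit 0) [nat_lit 0, nat_lit 2, nat_lit 0, nat_lit 2] (nat_lit 3) (nat_lit 0x410410) (nat_lit 0))
(.node (nat_lit 13)
(.leaf (nat_lit 0) [nat_lit 0, nat_lit 3, nat_lit 0, nat_lit 3] (nat_lit 3) (nat_lit 0x618618) (nat_lit 0))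
(.leaf (nat_lit 0) [nat_lit 1, nat_lit 3, nat_lit 1, nat_lit 3] (nat_lit 3) (nat_lit 0x659659) (nat_lit 0)))))
(.node (nat_lit 17)
(.node (nat_lit 15)
(.leaf (nat_lit 0) [nat_lit 1, nat_lit 4, nat_lit 1, nat_lit 4] (nat_lit 3) (nat_lit 0x861861) (nat_lit 0))
(.node (nat_lit 16)
(.leaf (nat_lit 0) [nat_lit 3, nat_lit 4, nat_lit 3, nat_lit 4] (nat_lit 3) (nat_lit 0x8e38e3) (nat_lit 0))
(.leaf (nat_lit 0) [nat_lit 0, nat_lit 1, nat_lit 0, nat_lit 1, nat_lit 0, nat_lit 1] (nat_lit 5) (nat_lit 0x208208208) (nat_lit 0))))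
(.node (nat_lit 18)
(.leaf (nat_lit 0) [nat_lit 1, nat_lit 2, nat_lit 1, nat_lit 2, nat_lit 1, nat_lit 2] (nat_lit 5) (nat_lit 0x451451451) (nat_lit 0))
(.node (nat_lit 19)
(.leaf (nat_lit 0) [nat_lit 2, nat_lit 3, nat_lit 2, nat_lit 3, nat_lit 2, nat_lit 3] (nat_lit 5) (nat_lit 0x69a69a69a) (nat_lit 0))
(.leaf (nat_lit 0) [nat_lit 2, nat_lit 4, nat_lit 2, nat_lit 4, nat_lit 2, nat_lit 4] (nat_lit 5) (nat_lit 0x8a28a28a2) (nat_lit 0)))))))

def o8l2_P : List (List ℕ) :=
  [[nat_lit 5, nat_lit 5],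
  [nat_lit 0, nat_lit 5, nat_lit 0, nat_lit 5],
  [nat_lit 1, nat_lit 5, nat_lit 1, nat_lit 5],
  [nat_lit 4, nat_lit 5, nat_lit 4, nat_lit 5],
  [nat_lit 2, nat_lit 5, nat_lit 2, nat_lit 5],
  [nat_lit 3, nat_lit 5, nat_lit 3, nat_lit 5, nat_lit 3, nat_lit 5]]

noncomputable def o8l2_C : TC where
  G := nat_lit 6
  N := nat_lit 27
  W := nat_lit 22
  mask := nat_lit 0x3fffff
  VM := nat_lit 0
  TV := nat_lit 0
  vb := nat_lit 0
  TM := nat_lit 31
  rb := nat_lit 5
  RM := nat_lit 4095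
  BIG := nat_lit 0x200000
  b := nat_lit 3
  lm := nat_lit 7
  Y := nat_lit 31
  n := nat_lit 1
  K := nat_lit 0
  K0 := nat_lit 0
  QM := nat_lit 0
  k := nat_lit 0
  w := nat_lit 1
  c := nat_lit 0
  cq := nat_lit 0
  Lmax := nat_lit 6
  PW := nat_lit 8
  PM := nat_lit 255
  tbl := o8l2_tbl
  par := o8l2_par
  rt := o8l2_rt

noncomputable def o8l2 : Lv where
  C := o8l2_C
  df := [[nat_lit 0],
  [nat_lit 1],
  [nat_lit 2],
  [nat_lit 3],
  [nat_lit 4],
  [nat_lit 5]]
  X0 := nat_lit 31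
  X := nat_lit 63
  Xl := nat_lit 63
  GG := nat_lit 8
  back := [nat_lit 0, nat_lit 1, nat_lit 2, nat_lit 3, nat_lit 4, nat_lit 5, nat_lit 0, nat_lit 0]
  P := o8l2_P

theorem o8l2_e0 : o8l2_C.edges (nat_lit 0) (nat_lit 27) = true := by decide +kernel
theorem o8l2_cl : o8l2_C.closed o8l2.Xl (nat_lit 0) (nat_lit 27) = true := by decide +kernel
theorem o8l2_tab : o8l2.Tab :=
  ⟨rng_all (TC.edges_sound o8l2_e0), rng_all (TC.closed_sound o8l2_cl)⟩

noncomputable def o8l3_tbl : NT :=
(.leaf (nat_lit 0) (nat_lit 0x8309e300ba782fd585f990bee813800078b82d9d0bd141784015c185d0001c44171c42e88029730b9140b0d816b085a0001af612db4258b0296c0b6200a14c2d2a05a520b4ea0b00006348291704e0002d282c0000a4e0902e099342c2a8295308e300940004ad857290ac861186011800082b0a86a09d0422800074a08a98114541199844180447c150d813248543208600018f4218b0220000a4810800020b821000067414840101185100004441448428800010002000040000800010))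

noncomputable def o8l3_par : NT :=
(.leaf (nat_lit 0) (nat_lit 0x930ddb15cb12a0384878d161c200))

noncomputable def o8l3_rt : RT :=
(.node (nat_lit 6)
(.node (nat_lit 2)
(.node (nat_lit 0)
(.leaf (nat_lit 0) [nat_lit 4, nat_lit 4] (nat_lit 1) (nat_lit 2340) (nat_lit 0))
(.node (nat_lit 1)
(.leaf (nat_lit 1) [nat_lit 0, nat_lit 4, nat_lit 0, nat_lit 4] (nat_lit 3) (nat_lit 0x820820) (nat_lit 0))
(.leaf (nat_lit 2) [nat_lit 1, nat_lit 4, nat_lit 1, nat_lit 4] (nat_lit 3) (nat_lit 0x861861) (nat_lit 0))))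
(.node (nat_lit 4)
(.node (nat_lit 3)
(.leaf (nat_lit 3) [nat_lit 3, nat_lit 4, nat_lit 3, nat_lit 4] (nat_lit 3) (nat_lit 0x8e38e3) (nat_lit 0))
(.leaf (nat_lit 4) [nat_lit 2, nat_lit 4, nat_lit 2, nat_lit 4, nat_lit 2, nat_lit 4] (nat_lit 5) (nat_lit 0x8a28a28a2) (nat_lit 0)))
(.node (nat_lit 5)
(.leaf (nat_lit 0) [nat_lit 0, nat_lit 0] (nat_lit 1) (nat_lit 0) (nat_lit 0))
(.leaf (nat_lit 0) [nat_lit 1, nat_lit 1] (nat_lit 1) (nat_lit 585) (nat_lit 0)))))
(.node (nat_lit 10)
(.node (nat_lit 8)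
(.node (nat_lit 7)
(.leaf (nat_lit 0) [nat_lit 2, nat_lit 2] (nat_lit 1) (nat_lit 1170) (nat_lit 0))
(.leaf (nat_lit 0) [nat_lit 3, nat_lit 3] (nat_lit 1) (nat_lit 1755) (nat_lit 0)))
(.node (nat_lit 9)
(.leaf (nat_lit 0) [nat_lit 0, nat_lit 3, nat_lit 0, nat_lit 3] (nat_lit 3) (nat_lit 0x618618) (nat_lit 0))
(.leaf (nat_lit 0) [nat_lit 0, nat_lit 2, nat_lit 0, nat_lit 2] (nat_lit 3) (nat_lit 0x410410) (nat_lit 0))))
(.node (nat_lit 12)
(.node (nat_lit 11)
(.leaf (nat_lit 0) [nat_lit 1, nat_lit 3, nat_lit 1, nat_lit 3] (nat_lit 3) (nat_lit 0x659659) (nat_lit 0))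
(.leaf (nat_lit 0) [nat_lit 0, nat_lit 1, nat_lit 0, nat_lit 1, nat_lit 0, nat_lit 1] (nat_lit 5) (nat_lit 0x208208208) (nat_lit 0)))
(.node (nat_lit 13)
(.leaf (nat_lit 0) [nat_lit 1, nat_lit 2, nat_lit 1, nat_lit 2, nat_lit 1, nat_lit 2] (nat_lit 5) (nat_lit 0x451451451) (nat_lit 0))
(.leaf (nat_lit 0) [nat_lit 2, nat_lit 3, nat_lit 2, nat_lit 3, nat_lit 2, nat_lit 3] (nat_lit 5) (nat_lit 0x69a69a69a) (nat_lit 0))))))

def o8l3_P : List (List ℕ) :=
  [[nat_lit 4, nat_lit 4],
  [nat_lit 0, nat_lit 4, nat_lit 0, nat_lit 4],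
  [nat_lit 1, nat_lit 4, nat_lit 1, nat_lit 4],
  [nat_lit 3, nat_lit 4, nat_lit 3, nat_lit 4],
  [nat_lit 2, nat_lit 4, nat_lit 2, nat_lit 4, nat_lit 2, nat_lit 4]]

noncomputable def o8l3_C : TC where
  G := nat_lit 5
  N := nat_lit 16
  W := nat_lit 19
  mask := nat_lit 524287
  VM := nat_lit 0
  TV := nat_lit 0
  vb := nat_lit 0
  TM := nat_lit 15
  rb := nat_lit 4
  RM := nat_lit 2047
  BIG := nat_lit 360448
  b := nat_lit 3
  lm := nat_lit 7
  Y := nat_lit 15
  n := nat_lit 1
  K := nat_lit 0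
  K0 := nat_lit 0
  QM := nat_lit 0
  k := nat_lit 0
  w := nat_lit 1
  c := nat_lit 0
  cq := nat_lit 0
  Lmax := nat_lit 6
  PW := nat_lit 7
  PM := nat_lit 127
  tbl := o8l3_tbl
  par := o8l3_par
  rt := o8l3_rt

noncomputable def o8l3 : Lv where
  C := o8l3_C
  df := [[nat_lit 0],
  [nat_lit 1],
  [nat_lit 2],
  [nat_lit 3],
  [nat_lit 4]]
  X0 := nat_lit 15
  X := nat_lit 31
  Xl := nat_lit 31
  GG := nat_lit 8
  back := [nat_lit 0, nat_lit 1, nat_lit 2, nat_lit 3, nat_lit 4, nat_lit 0, nat_lit 0, nat_lit 0]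
  P := o8l3_P

theorem o8l3_e0 : o8l3_C.edges (nat_lit 0) (nat_lit 16) = true := by decide +kernel
theorem o8l3_cl : o8l3_C.closed o8l3.Xl (nat_lit 0) (nat_lit 16) = true := by decide +kernel
theorem o8l3_tab : o8l3.Tab :=
  ⟨rng_all (TC.edges_sound o8l3_e0), rng_all (TC.closed_sound o8l3_cl)⟩

noncomputable def o8l4_tbl : NT :=
(.leaf (nat_lit 0) (nat_lit 0x821247092404850136411b908ca82400044611160440006dc2a2008000091052842900008002000100008))

noncomputable def o8l4_par : NT :=
(.leaf (nat_lit 0) (nat_lit 0xc49860))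

noncomputable def o8l4_rt : RT :=
(.node (nat_lit 4)
(.node (nat_lit 1)
(.node (nat_lit 0)
(.leaf (nat_lit 0) [nat_lit 3, nat_lit 3] (nat_lit 1) (nat_lit 255) (nat_lit 0))
(.leaf (nat_lit 1) [nat_lit 0, nat_lit 3, nat_lit 0, nat_lit 3] (nat_lit 3) (nat_lit 52428) (nat_lit 0)))
(.node (nat_lit 2)
(.leaf (nat_lit 2) [nat_lit 1, nat_lit 3, nat_lit 1, nat_lit 3] (nat_lit 3) (nat_lit 56797) (nat_lit 0))
(.node (nat_lit 3)
(.leaf (nat_lit 3) [nat_lit 2, nat_lit 3, nat_lit 2, nat_lit 3, nat_lit 2, nat_lit 3] (nat_lit 5) (nat_lit 0xeeeeee) (nat_lit 0))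
(.leaf (nat_lit 0) [nat_lit 0, nat_lit 0] (nat_lit 1) (nat_lit 0) (nat_lit 0)))))
(.node (nat_lit 6)
(.node (nat_lit 5)
(.leaf (nat_lit 0) [nat_lit 1, nat_lit 1] (nat_lit 1) (nat_lit 85) (nat_lit 0))
(.leaf (nat_lit 0) [nat_lit 2, nat_lit 2] (nat_lit 1) (nat_lit 170) (nat_lit 0)))
(.node (nat_lit 7)
(.leaf (nat_lit 0) [nat_lit 0, nat_lit 2, nat_lit 0, nat_lit 2] (nat_lit 3) (nat_lit 34952) (nat_lit 0))
(.node (nat_lit 8)
(.leaf (nat_lit 0) [nat_lit 0, nat_lit 1, nat_lit 0, nat_lit 1, nat_lit 0, nat_lit 1] (nat_lit 5) (nat_lit 0x444444) (nat_lit 0))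
(.leaf (nat_lit 0) [nat_lit 1, nat_lit 2, nat_lit 1, nat_lit 2, nat_lit 1, nat_lit 2] (nat_lit 5) (nat_lit 0x999999) (nat_lit 0))))))

def o8l4_P : List (List ℕ) :=
  [[nat_lit 3, nat_lit 3],
  [nat_lit 0, nat_lit 3, nat_lit 0, nat_lit 3],
  [nat_lit 1, nat_lit 3, nat_lit 1, nat_lit 3],
  [nat_lit 2, nat_lit 3, nat_lit 2, nat_lit 3, nat_lit 2, nat_lit 3]]

noncomputable def o8l4_C : TC where
  G := nat_lit 4
  N := nat_lit 5
  W := nat_lit 17
  mask := nat_lit 131071
  VM := nat_lit 0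
  TV := nat_lit 0
  vb := nat_lit 0
  TM := nat_lit 7
  rb := nat_lit 3
  RM := nat_lit 2047
  BIG := nat_lit 81920
  b := nat_lit 2
  lm := nat_lit 3
  Y := nat_lit 7
  n := nat_lit 1
  K := nat_lit 0
  K0 := nat_lit 0
  QM := nat_lit 0
  k := nat_lit 0
  w := nat_lit 1
  c := nat_lit 0
  cq := nat_lit 0
  Lmax := nat_lit 6
  PW := nat_lit 5
  PM := nat_lit 31
  tbl := o8l4_tbl
  par := o8l4_par
  rt := o8l4_rt

noncomputable def o8l4 : Lv where
  C := o8l4_C
  df := [[nat_lit 0],
  [nat_lit 1],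
  [nat_lit 2],
  [nat_lit 3]]
  X0 := nat_lit 7
  X := nat_lit 15
  Xl := nat_lit 15
  GG := nat_lit 8
  back := [nat_lit 0, nat_lit 1, nat_lit 2, nat_lit 3, nat_lit 0, nat_lit 0, nat_lit 0, nat_lit 0]
  P := o8l4_P

theorem o8l4_e0 : o8l4_C.edges (nat_lit 0) (nat_lit 5) = true := by decide +kernel
theorem o8l4_cl : o8l4_C.closed o8l4.Xl (nat_lit 0) (nat_lit 5) = true := by decide +kernel
theorem o8l4_tab : o8l4.Tab :=
  ⟨rng_all (TC.edges_sound o8l4_e0), rng_all (TC.closed_sound o8l4_cl)⟩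

noncomputable def o8l5_tbl : NT :=
(.leaf (nat_lit 0) (nat_lit 0x6426e84cb0524123012000c8040002442a00040020004))

noncomputable def o8l5_par : NT :=
(.leaf (nat_lit 0) (nat_lit 0x6420))

noncomputable def o8l5_rt : RT :=
(.node (nat_lit 2)
(.node (nat_lit 0)
(.leaf (nat_lit 0) [nat_lit 2, nat_lit 2] (nat_lit 1) (nat_lit 170) (nat_lit 0))
(.node (nat_lit 1)
(.leaf (nat_lit 1) [nat_lit 0, nat_lit 2, nat_lit 0, nat_lit 2] (nat_lit 3) (nat_lit 34952) (nat_lit 0))
(.leaf (nat_lit 2) [nat_lit 1, nat_lit 2, nat_lit 1, nat_lit 2, nat_lit 1, nat_lit 2] (nat_lit 5) (nat_lit 0x999999) (nat_lit 0))))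
(.node (nat_lit 3)
(.leaf (nat_lit 0) [nat_lit 0, nat_lit 0] (nat_lit 1) (nat_lit 0) (nat_lit 0))
(.node (nat_lit 4)
(.leaf (nat_lit 0) [nat_lit 1, nat_lit 1] (nat_lit 1) (nat_lit 85) (nat_lit 0))
(.leaf (nat_lit 0) [nat_lit 0, nat_lit 1, nat_lit 0, nat_lit 1, nat_lit 0, nat_lit 1] (nat_lit 5) (nat_lit 0x444444) (nat_lit 0)))))

def o8l5_P : List (List ℕ) :=
  [[nat_lit 2, nat_lit 2],
  [nat_lit 0, nat_lit 2, nat_lit 0, nat_lit 2],
  [nat_lit 1, nat_lit 2, nat_lit 1, nat_lit 2, nat_lit 1, nat_lit 2]]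

noncomputable def o8l5_C : TC where
  G := nat_lit 3
  N := nat_lit 4
  W := nat_lit 15
  mask := nat_lit 32767
  VM := nat_lit 0
  TV := nat_lit 0
  vb := nat_lit 0
  TM := nat_lit 3
  rb := nat_lit 2
  RM := nat_lit 1023
  BIG := nat_lit 16384
  b := nat_lit 2
  lm := nat_lit 3
  Y := nat_lit 3
  n := nat_lit 1
  K := nat_lit 0
  K0 := nat_lit 0
  QM := nat_lit 0
  k := nat_lit 0
  w := nat_lit 1
  c := nat_lit 0
  cq := nat_lit 0
  Lmax := nat_lit 6
  PW := nat_lit 4
  PM := nat_lit 15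
  tbl := o8l5_tbl
  par := o8l5_par
  rt := o8l5_rt

noncomputable def o8l5 : Lv where
  C := o8l5_C
  df := [[nat_lit 0],
  [nat_lit 1],
  [nat_lit 2]]
  X0 := nat_lit 3
  X := nat_lit 7
  Xl := nat_lit 7
  GG := nat_lit 8
  back := [nat_lit 0, nat_lit 1, nat_lit 2, nat_lit 0, nat_lit 0, nat_lit 0, nat_lit 0, nat_lit 0]
  P := o8l5_P

theorem o8l5_e0 : o8l5_C.edges (nat_lit 0) (nat_lit 4) = true := by decide +kernel
theorem o8l5_cl : o8l5_C.closed o8l5.Xl (nat_lit 0) (nat_lit 4) = true := by decide +kernel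
theorem o8l5_tab : o8l5.Tab :=
  ⟨rng_all (TC.edges_sound o8l5_e0), rng_all (TC.closed_sound o8l5_cl)⟩

noncomputable def o8l6_tbl : NT :=
(.leaf (nat_lit 0) (nat_lit 0x2424c094040008002004))

noncomputable def o8l6_par : NT :=
(.leaf (nat_lit 0) (nat_lit 0x88))

noncomputable def o8l6_rt : RT :=
(.node (nat_lit 0)
(.leaf (nat_lit 0) [nat_lit 1, nat_lit 1] (nat_lit 1) (nat_lit 15) (nat_lit 0))
(.node (nat_lit 1)
(.leaf (nat_lit 1) [nat_lit 0, nat_lit 1, nat_lit 0, nat_lit 1, nat_lit 0, nat_lit 1] (nat_lit 5) (nat_lit 2730) (nat_lit 0))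
(.leaf (nat_lit 0) [nat_lit 0, nat_lit 0] (nat_lit 1) (nat_lit 0) (nat_lit 0))))

def o8l6_P : List (List ℕ) :=
  [[nat_lit 1, nat_lit 1],
  [nat_lit 0, nat_lit 1, nat_lit 0, nat_lit 1, nat_lit 0, nat_lit 1]]

noncomputable def o8l6_C : TC where
  G := nat_lit 2
  N := nat_lit 3
  W := nat_lit 13
  mask := nat_lit 8191
  VM := nat_lit 0
  TV := nat_lit 0
  vb := nat_lit 0
  TM := nat_lit 3
  rb := nat_lit 2
  RM := nat_lit 511
  BIG := nat_lit 6144
  b := nat_lit 1
  lm := nat_lit 1
  Y := nat_lit 1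
  n := nat_lit 1
  K := nat_lit 0
  K0 := nat_lit 0
  QM := nat_lit 0
  k := nat_lit 0
  w := nat_lit 1
  c := nat_lit 0
  cq := nat_lit 0
  Lmax := nat_lit 6
  PW := nat_lit 3
  PM := nat_lit 7
  tbl := o8l6_tbl
  par := o8l6_par
  rt := o8l6_rt

noncomputable def o8l6 : Lv where
  C := o8l6_C
  df := [[nat_lit 0],
  [nat_lit 1]]
  X0 := nat_lit 1
  X := nat_lit 3
  Xl := nat_lit 3
  GG := nat_lit 8
  back := [nat_lit 0, nat_lit 1, nat_lit 0, nat_lit 0, nat_lit 0, nat_lit 0, nat_lit 0, nat_lit 0]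
  P := o8l6_P

theorem o8l6_e0 : o8l6_C.edges (nat_lit 0) (nat_lit 3) = true := by decide +kernel
theorem o8l6_cl : o8l6_C.closed o8l6.Xl (nat_lit 0) (nat_lit 3) = true := by decide +kernel
theorem o8l6_tab : o8l6.Tab :=
  ⟨rng_all (TC.edges_sound o8l6_e0), rng_all (TC.closed_sound o8l6_cl)⟩

noncomputable def o8l7_tbl : NT :=
(.leaf (nat_lit 0) (nat_lit 0x102001))

noncomputable def o8l7_par : NT :=
(.leaf (nat_lit 0) (nat_lit 0x0))

noncomputable def o8l7_rt : RT :=
(.leaf (nat_lit 0) [nat_lit 0, nat_lit 0] (nat_lit 1) (nat_lit 0) (nat_lit 0))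

def o8l7_P : List (List ℕ) :=
  [[nat_lit 0, nat_lit 0]]

noncomputable def o8l7_C : TC where
  G := nat_lit 1
  N := nat_lit 2
  W := nat_lit 11
  mask := nat_lit 2047
  VM := nat_lit 0
  TV := nat_lit 0
  vb := nat_lit 0
  TM := nat_lit 1
  rb := nat_lit 1
  RM := nat_lit 255
  BIG := nat_lit 1024
  b := nat_lit 1
  lm := nat_lit 1
  Y := nat_lit 0
  n := nat_lit 1
  K := nat_lit 0
  K0 := nat_lit 0
  QM := nat_lit 0
  k := nat_lit 0
  w := nat_lit 1
  c := nat_lit 0
  cq := nat_lit 0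
  Lmax := nat_lit 2
  PW := nat_lit 2
  PM := nat_lit 3
  tbl := o8l7_tbl
  par := o8l7_par
  rt := o8l7_rt

noncomputable def o8l7 : Lv where
  C := o8l7_C
  df := [[nat_lit 0]]
  X0 := nat_lit 0
  X := nat_lit 1
  Xl := nat_lit 1
  GG := nat_lit 8
  back := [nat_lit 0, nat_lit 0, nat_lit 0, nat_lit 0, nat_lit 0, nat_lit 0, nat_lit 0, nat_lit 0]
  P := o8l7_P

theorem o8l7_e0 : o8l7_C.edges (nat_lit 0) (nat_lit 2) = true := by decide +kernel
theorem o8l7_cl : o8l7_C.closed o8l7.Xl (nat_lit 0) (nat_lit 2) = true := by decide +kernel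
theorem o8l7_tab : o8l7.Tab :=
  ⟨rng_all (TC.edges_sound o8l7_e0), rng_all (TC.closed_sound o8l7_cl)⟩

noncomputable def o8ch_0 : OL where
  b := nat_lit 1
  n := nat_lit 120
  S := [[nat_lit 0],
  [nat_lit 2],
  [nat_lit 3],
  [nat_lit 5],
  [nat_lit 6],
  [nat_lit 7]]
  O := ⟨nat_lit 0, nat_lit 4, nat_lit 7, nat_lit 127, nat_lit 0, nat_lit 0,
(.node (nat_lit 2043)
(.leaf (nat_lit 0) (nat_lit 0xd811d265e05d5d8811b896a0dad34415a46e0059ec70118afde1180b3a0d7d13c1173524057656c0176fe81546b48013d4501536452152dbc40d2c2a40d24b640923d7e0124502111d7c2090e6b611036aa0cfed1c0cf498404f47b214ef79408e56120cde9ba08df2b404de3b000db91810d3a9614ccd900ccf51a10c4cac14bbb980cb0cc814ac41e0cadebe0ca74a600a599e149bfa20c9c0081494fa814871c614787d4107da0a14716ca1076a3014683ec1067314145e29c1054e0c1043ea0083080e102e0bc082a1060c230ee0822546141a882101d504081948c1412c220c1053408110b814092100c098ea0409c2c0c00e9a0400a0000034ae00001))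
(.leaf (nat_lit 2044) (nat_lit 0x5c03b0de217a954c13a04400f9bc2a178d056077ca3607776c0076437a175c1da0b5dc620f4ee860b448780f3e72e0721958131e1ce0f152d6130e86612fd87c06f177402f225416e9a2812e38d202e332012d70920eca04216c0f8e0ac2bdc16a86720aab23216a2a3e169aecc0e9a968168005a16724160e5b1760e51b8a1249fd016437801239de612291381611e26120134e15f824a0dfa36e11f27e411ead6005edf)))⟩

noncomputable def o8ch_1 : OL where
  b := nat_lit 8
  n := nat_lit 56
  S := [[nat_lit 3],
  [nat_lit 7],
  [nat_lit 0, nat_lit 1, nat_lit 0],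
  [nat_lit 2, nat_lit 5, nat_lit 3, nat_lit 5, nat_lit 2],
  [nat_lit 2, nat_lit 7, nat_lit 7, nat_lit 6, nat_lit 2]]
  O := ⟨nat_lit 0, nat_lit 4, nat_lit 7, nat_lit 127, nat_lit 0, nat_lit 0,
(.node (nat_lit 2764)
(.node (nat_lit 1924)
(.leaf (nat_lit 0) (nat_lit 0x520000000000002a0000000000001e0000000000004a0000000000004001b190005aa20011a33080d9e86a098f600097d000057ac0e0974a000d68a2e0d590001151462013c7001130e260134e00012bf5011228360524438051d50005139000d0f33c0cfe26c0ced90004eec0004e373010de50000d233210c5f0010b263408b27000499b6e1091d000891f000882e0604864000873d5a0074500106aa020c65d00006635c0c5f500045bb5604546000c4f00c0445b00103ea5e10357000826e00101cc00041b0000c08c00080c800040b4000c016000805200000120000008))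
(.node (nat_lit 2400)
(.leaf (nat_lit 1925) (nat_lit 0x2000000000000320000000000002a000000000000080000000000003000000000000005000002c000000e00000140000027))
(.leaf (nat_lit 2401) (nat_lit 0x1d000000000000120000000000000c000000000000220000000000000a00000000000026))))
(.node (nat_lit 2932)
(.leaf (nat_lit 2765) (nat_lit 0x1f000001600000110000023))
(.node (nat_lit 3240)
(.leaf (nat_lit 2933) (nat_lit 0xd00000000000009000000000000210000000000000b00000000000034))
(.leaf (nat_lit 3241) (nat_lit 0x33000001000000000000024)))))⟩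

noncomputable def o8ch_2 : OL where
  b := nat_lit 4
  n := nat_lit 36
  S := [[nat_lit 6],
  [nat_lit 7],
  [nat_lit 1, nat_lit 5, nat_lit 7, nat_lit 5, nat_lit 1],
  [nat_lit 0, nat_lit 4, nat_lit 5, nat_lit 7, nat_lit 5, nat_lit 4, nat_lit 0]]
  O := ⟨nat_lit 0, nat_lit 4, nat_lit 7, nat_lit 127, nat_lit 0, nat_lit 0,
(.node (nat_lit 2064)
(.node (nat_lit 1504)
(.node (nat_lit 1280)
(.node (nat_lit 1168)
(.leaf (nat_lit 0) (nat_lit 0x320000000090dc0004ef10000e98260ce1c000cce90004ab5000ca6040009d800008b8000883100047a44204777120068900085a9040c502000452d1e044a00004400100838600043e61800393000c2c00a082cb000820f140426f000020b2e0c1970000191000c1512208142000010d000c04900080532a04015000003c2400004))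
(.leaf (nat_lit 1169) (nat_lit 0x16)))
(.node (nat_lit 1392)
(.leaf (nat_lit 1281) (nat_lit 0x14))
(.leaf (nat_lit 1393) (nat_lit 0x1a))))
(.node (nat_lit 1700)
(.node (nat_lit 1588)
(.leaf (nat_lit 1505) (nat_lit 0x1e))
(.leaf (nat_lit 1589) (nat_lit 0x1b)))
(.node (nat_lit 1812)
(.leaf (nat_lit 1701) (nat_lit 0x1))
(.leaf (nat_lit 1813) (nat_lit 0x60000000000000e)))))
(.node (nat_lit 2708)
(.node (nat_lit 2484)
(.node (nat_lit 2288)
(.leaf (nat_lit 2065) (nat_lit 0xd00000000000004))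
(.leaf (nat_lit 2289) (nat_lit 0x300000000000007)))
(.node (nat_lit 2596)
(.leaf (nat_lit 2485) (nat_lit 0x1c))
(.leaf (nat_lit 2597) (nat_lit 0x23))))
(.node (nat_lit 2960)
(.node (nat_lit 2876)
(.leaf (nat_lit 2709) (nat_lit 0x1d))
(.leaf (nat_lit 2877) (nat_lit 0x10)))
(.node (nat_lit 3128)
(.leaf (nat_lit 2961) (nat_lit 0x1f))
(.node (nat_lit 3352)
(.leaf (nat_lit 3129) (nat_lit 0x220000000000000b))
(.leaf (nat_lit 3353) (nat_lit 0x18)))))))⟩

noncomputable def o8ch_3 : OL where
  b := nat_lit 0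
  n := nat_lit 15
  S := [[nat_lit 6, nat_lit 7, nat_lit 6],
  [nat_lit 7, nat_lit 5, nat_lit 2, nat_lit 7, nat_lit 5, nat_lit 2],
  [nat_lit 0, nat_lit 4, nat_lit 6, nat_lit 5, nat_lit 7, nat_lit 5, nat_lit 6, nat_lit 4, nat_lit 0]]
  O := ⟨nat_lit 0, nat_lit 4, nat_lit 7, nat_lit 127, nat_lit 0, nat_lit 0,
(.node (nat_lit 2064)
(.node (nat_lit 804)
(.node (nat_lit 692)
(.leaf (nat_lit 0) (nat_lit 0x549000849c00004860000382000836f00042a000002d10008277180021800081a4000416900040f1160804b00000530000000))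
(.leaf (nat_lit 693) (nat_lit 0x6)))
(.node (nat_lit 916)
(.leaf (nat_lit 805) (nat_lit 0xd))
(.node (nat_lit 1028)
(.leaf (nat_lit 917) (nat_lit 0x9))
(.leaf (nat_lit 1029) (nat_lit 0x5)))))
(.node (nat_lit 2960)
(.node (nat_lit 2288)
(.leaf (nat_lit 2065) (nat_lit 0x20000000000000e))
(.leaf (nat_lit 2289) (nat_lit 0x100000000000008)))
(.node (nat_lit 3128)
(.leaf (nat_lit 2961) (nat_lit 0x4))
(.node (nat_lit 3352)
(.leaf (nat_lit 3129) (nat_lit 0x30000000000000a))
(.leaf (nat_lit 3353) (nat_lit 0x7))))))⟩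

noncomputable def o8ch_4 : OL where
  b := nat_lit 2
  n := nat_lit 6
  S := [[nat_lit 7, nat_lit 5, nat_lit 2, nat_lit 7, nat_lit 5, nat_lit 2],
  [nat_lit 1, nat_lit 7, nat_lit 0, nat_lit 1, nat_lit 7, nat_lit 1, nat_lit 0],
  [nat_lit 0, nat_lit 6, nat_lit 5, nat_lit 7, nat_lit 4, nat_lit 1, nat_lit 7, nat_lit 5, nat_lit 6, nat_lit 0]]
  O := ⟨nat_lit 0, nat_lit 4, nat_lit 6, nat_lit 63, nat_lit 0, nat_lit 0,
(.node (nat_lit 689)
(.node (nat_lit 593)
(.leaf (nat_lit 0) (nat_lit 0x400000020dc002098001060001024000006000002))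
(.leaf (nat_lit 594) (nat_lit 0x4)))
(.node (nat_lit 785)
(.leaf (nat_lit 690) (nat_lit 0x5))
(.node (nat_lit 881)
(.leaf (nat_lit 786) (nat_lit 0x3))
(.leaf (nat_lit 882) (nat_lit 0x2)))))⟩

noncomputable def o8ch_5 : OL where
  b := nat_lit 9
  n := nat_lit 4
  S := [[nat_lit 4, nat_lit 2, nat_lit 3, nat_lit 5, nat_lit 6, nat_lit 5, nat_lit 3, nat_lit 2, nat_lit 4],
  [nat_lit 0, nat_lit 6, nat_lit 5, nat_lit 7, nat_lit 4, nat_lit 1, nat_lit 7, nat_lit 5, nat_lit 6, nat_lit 0]]
  O := ⟨nat_lit 0, nat_lit 4, nat_lit 4, nat_lit 15, nat_lit 0, nat_lit 0,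
(.node (nat_lit 155)
(.leaf (nat_lit 0) (nat_lit 0x11f010b000d0009))
(.leaf (nat_lit 156) (nat_lit 0x3000000010000000200000000)))⟩

noncomputable def o8ch_6 : OL where
  b := nat_lit 24
  n := nat_lit 2
  S := [[nat_lit 0, nat_lit 2, nat_lit 3, nat_lit 7, nat_lit 5, nat_lit 2, nat_lit 7, nat_lit 2, nat_lit 3, nat_lit 5, nat_lit 3, nat_lit 0]]
  O := ⟨nat_lit 0, nat_lit 4, nat_lit 5, nat_lit 31, nat_lit 0, nat_lit 0,
(.node (nat_lit 494)
(.leaf (nat_lit 0) (nat_lit 0x1c00018))
(.node (nat_lit 574)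
(.leaf (nat_lit 495) (nat_lit 0x0))
(.leaf (nat_lit 575) (nat_lit 0x1))))⟩

noncomputable def o8ch : List OL := [o8ch_0, o8ch_1, o8ch_2, o8ch_3, o8ch_4, o8ch_5, o8ch_6]

theorem hch : chainOK T (nat_lit 255) o8ch [] = true := by decide +kernel
noncomputable def chk : List ℕ → Bool := T.chk [nat_lit 24, nat_lit 9, nat_lit 2, nat_lit 0, nat_lit 4, nat_lit 8, nat_lit 1]
theorem o8l0_ok : o8l0.ok chk = true := by decide +kernel
theorem o8l0_hP : allL chk o8l0.P = true := by decide +kernel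
theorem o8l1_ok : o8l1.ok chk = true := by decide +kernel
theorem o8l1_hP : allL chk o8l1.P = true := by decide +kernel
theorem o8l2_ok : o8l2.ok chk = true := by decide +kernel
theorem o8l2_hP : allL chk o8l2.P = true := by decide +kernel
theorem o8l3_ok : o8l3.ok chk = true := by decide +kernel
theorem o8l3_hP : allL chk o8l3.P = true := by decide +kernel
theorem o8l4_ok : o8l4.ok chk = true := by decide +kernel
theorem o8l4_hP : allL chk o8l4.P = true := by decide +kernel
theorem o8l5_ok : o8l5.ok chk = true := by decide +kernel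
theorem o8l5_hP : allL chk o8l5.P = true := by decide +kernel
theorem o8l6_ok : o8l6.ok chk = true := by decide +kernel
theorem o8l6_hP : allL chk o8l6.P = true := by decide +kernel
theorem o8l7_ok : o8l7.ok chk = true := by decide +kernel
theorem o8l7_hP : allL chk o8l7.P = true := by decide +kernel
def P : List (List ℕ) := o8l7_P ++ o8l6_P ++ o8l5_P ++ o8l4_P ++ o8l3_P ++ o8l2_P ++ o8l1_P ++ o8l0_P
theorem hP0 : allL chk P = true := by decide +kernel
def Q : List (List ℕ × List ℕ) := [([nat_lit 0, nat_lit 2, nat_lit 3, nat_lit 5, nat_lit 6, nat_lit 7, nat_lit 3, nat_lit 4, nat_lit 7, nat_lit 5, nat_lit 3, nat_lit 2, nat_lit 0], [nat_lit 0, nat_lit 4, nat_lit 2, nat_lit 7, nat_lit 0, nat_lit 2, nat_lit 6, nat_lit 7, nat_lit 5, nat_lit 3, nat_lit 6, nat_lit 5, nat_lit 2, nat_lit 7, nat_lit 6, nat_lit 4, nat_lit 0, nat_lit 7, nat_lit 2]), ([nat_lit 0, nat_lit 2, nat_lit 3, nat_lit 5, nat_lit 6, nat_lit 7, nat_lit 3, nat_lit 4, nat_lit 7, nat_lit 5, nat_lit 3, nat_lit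 2, nat_lit 0], [nat_lit 5, nat_lit 6, nat_lit 7, nat_lit 0, nat_lit 5, nat_lit 6, nat_lit 7, nat_lit 5, nat_lit 0, nat_lit 1, nat_lit 7, nat_lit 6, nat_lit 5, nat_lit 3])]

theorem hQ0 : allL (fun q => T.chk2 [nat_lit 24, nat_lit 9, nat_lit 2, nat_lit 0, nat_lit 4, nat_lit 8, nat_lit 1] (app q.1 q.2) (app q.2 q.1)) Q = true := by decide +kernel

noncomputable def o8p2_ru : RuT :=
(.node (nat_lit 130)
(.node (nat_lit 83)
(.node (nat_lit 50)
(.node (nat_lit 32)
(.node (nat_lit 16)
(.node (nat_lit 0)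
(.leaf (nat_lit 0) (nat_lit 0) (nat_lit 0) [])
(.leaf (nat_lit 1) (nat_lit 0) (nat_lit 1) [nat_lit 0, nat_lit 1]))
(.node (nat_lit 17)
(.leaf (nat_lit 1) (nat_lit 1) (nat_lit 2) [])
(.leaf (nat_lit 2) (nat_lit 0) (nat_lit 3) [nat_lit 0, nat_lit 2, nat_lit 10])))
(.node (nat_lit 34)
(.node (nat_lit 33)
(.leaf (nat_lit 2) (nat_lit 1) (nat_lit 4) [nat_lit 1, nat_lit 2])
(.leaf (nat_lit 2) (nat_lit 2) (nat_lit 5) []))
(.node (nat_lit 48)
(.leaf (nat_lit 3) (nat_lit 0) (nat_lit 6) [nat_lit 0, nat_lit 3, nat_lit 6, nat_lit 8])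
(.node (nat_lit 49)
(.leaf (nat_lit 3) (nat_lit 1) (nat_lit 7) [nat_lit 1, nat_lit 3, nat_lit 4])
(.leaf (nat_lit 3) (nat_lit 2) (nat_lit 8) [nat_lit 2, nat_lit 3, nat_lit 5])))))
(.node (nat_lit 67)
(.node (nat_lit 64)
(.node (nat_lit 51)
(.leaf (nat_lit 3) (nat_lit 3) (nat_lit 9) [])
(.leaf (nat_lit 4) (nat_lit 0) (nat_lit 10) [nat_lit 0, nat_lit 4, nat_lit 8]))
(.node (nat_lit 65)
(.leaf (nat_lit 4) (nat_lit 1) (nat_lit 11) [nat_lit 1, nat_lit 4])
(.node (nat_lit 66)
(.leaf (nat_lit 4) (nat_lit 2) (nat_lit 12) [nat_lit 2, nat_lit 4, nat_lit 7])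
(.leaf (nat_lit 4) (nat_lit 3) (nat_lit 13) [nat_lit 3, nat_lit 4]))))
(.node (nat_lit 80)
(.node (nat_lit 68)
(.leaf (nat_lit 4) (nat_lit 4) (nat_lit 14) [])
(.leaf (nat_lit 5) (nat_lit 0) (nat_lit 15) [nat_lit 0, nat_lit 5, nat_lit 9, nat_lit 10]))
(.node (nat_lit 81)
(.leaf (nat_lit 5) (nat_lit 1) (nat_lit 16) [nat_lit 1, nat_lit 5, nat_lit 7])
(.node (nat_lit 82)
(.leaf (nat_lit 5) (nat_lit 2) (nat_lit 17) [nat_lit 2, nat_lit 5])
(.leaf (nat_lit 5) (nat_lit 3) (nat_lit 18) [nat_lit 3, nat_lit 5]))))))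
(.node (nat_lit 112)
(.node (nat_lit 98)
(.node (nat_lit 85)
(.node (nat_lit 84)
(.leaf (nat_lit 5) (nat_lit 4) (nat_lit 19) [nat_lit 4, nat_lit 5])
(.leaf (nat_lit 5) (nat_lit 5) (nat_lit 20) []))
(.node (nat_lit 96)
(.leaf (nat_lit 6) (nat_lit 0) (nat_lit 21) [nat_lit 0, nat_lit 6])
(.node (nat_lit 97)
(.leaf (nat_lit 6) (nat_lit 1) (nat_lit 22) [nat_lit 1, nat_lit 6, nat_lit 8])
(.leaf (nat_lit 6) (nat_lit 2) (nat_lit 23) [nat_lit 2, nat_lit 6, nat_lit 9]))))
(.node (nat_lit 100)
(.node (nat_lit 99)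
(.leaf (nat_lit 6) (nat_lit 3) (nat_lit 24) [nat_lit 3, nat_lit 6])
(.leaf (nat_lit 6) (nat_lit 4) (nat_lit 25) [nat_lit 4, nat_lit 6]))
(.node (nat_lit 101)
(.leaf (nat_lit 6) (nat_lit 5) (nat_lit 26) [nat_lit 5, nat_lit 6])
(.node (nat_lit 102)
(.leaf (nat_lit 6) (nat_lit 6) (nat_lit 27) [])
(.leaf (nat_lit 7) (nat_lit 0) (nat_lit 28) [nat_lit 0, nat_lit 7, nat_lit 10])))))
(.node (nat_lit 117)
(.node (nat_lit 114)
(.node (nat_lit 113)
(.leaf (nat_lit 7) (nat_lit 1) (nat_lit 29) [nat_lit 1, nat_lit 7])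
(.leaf (nat_lit 7) (nat_lit 2) (nat_lit 30) [nat_lit 2, nat_lit 7]))
(.node (nat_lit 115)
(.leaf (nat_lit 7) (nat_lit 3) (nat_lit 31) [nat_lit 3, nat_lit 7])
(.node (nat_lit 116)
(.leaf (nat_lit 7) (nat_lit 4) (nat_lit 32) [nat_lit 4, nat_lit 7])
(.leaf (nat_lit 7) (nat_lit 5) (nat_lit 33) [nat_lit 5, nat_lit 7]))))
(.node (nat_lit 119)
(.node (nat_lit 118)
(.leaf (nat_lit 7) (nat_lit 6) (nat_lit 34) [nat_lit 6, nat_lit 7, nat_lit 11])
(.leaf (nat_lit 7) (nat_lit 7) (nat_lit 35) []))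
(.node (nat_lit 128)
(.leaf (nat_lit 8) (nat_lit 0) (nat_lit 36) [nat_lit 0, nat_lit 8])
(.node (nat_lit 129)
(.leaf (nat_lit 8) (nat_lit 1) (nat_lit 37) [nat_lit 1, nat_lit 8])
(.leaf (nat_lit 8) (nat_lit 2) (nat_lit 38) [nat_lit 2, nat_lit 8, nat_lit 10])))))))
(.node (nat_lit 162)
(.node (nat_lit 146)
(.node (nat_lit 134)
(.node (nat_lit 132)
(.node (nat_lit 131)
(.leaf (nat_lit 8) (nat_lit 3) (nat_lit 39) [nat_lit 3, nat_lit 8])
(.leaf (nat_lit 8) (nat_lit 4) (nat_lit 40) [nat_lit 4, nat_lit 8]))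
(.node (nat_lit 133)
(.leaf (nat_lit 8) (nat_lit 5) (nat_lit 41) [nat_lit 5, nat_lit 8, nat_lit 11])
(.leaf (nat_lit 8) (nat_lit 6) (nat_lit 42) [nat_lit 6, nat_lit 8])))
(.node (nat_lit 136)
(.node (nat_lit 135)
(.leaf (nat_lit 8) (nat_lit 7) (nat_lit 43) [nat_lit 7, nat_lit 8])
(.leaf (nat_lit 8) (nat_lit 8) (nat_lit 44) []))
(.node (nat_lit 144)
(.leaf (nat_lit 9) (nat_lit 0) (nat_lit 45) [nat_lit 0, nat_lit 9])
(.node (nat_lit 145)
(.leaf (nat_lit 9) (nat_lit 1) (nat_lit 46) [nat_lit 1, nat_lit 9, nat_lit 10])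
(.leaf (nat_lit 9) (nat_lit 2) (nat_lit 47) [nat_lit 2, nat_lit 9])))))
(.node (nat_lit 151)
(.node (nat_lit 148)
(.node (nat_lit 147)
(.leaf (nat_lit 9) (nat_lit 3) (nat_lit 48) [nat_lit 3, nat_lit 9])
(.leaf (nat_lit 9) (nat_lit 4) (nat_lit 49) [nat_lit 4, nat_lit 9, nat_lit 11]))
(.node (nat_lit 149)
(.leaf (nat_lit 9) (nat_lit 5) (nat_lit 50) [nat_lit 5, nat_lit 9])
(.node (nat_lit 150)
(.leaf (nat_lit 9) (nat_lit 6) (nat_lit 51) [nat_lit 6, nat_lit 9])
(.leaf (nat_lit 9) (nat_lit 7) (nat_lit 52) [nat_lit 7, nat_lit 9]))))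
(.node (nat_lit 153)
(.node (nat_lit 152)
(.leaf (nat_lit 9) (nat_lit 8) (nat_lit 53) [nat_lit 8, nat_lit 9])
(.leaf (nat_lit 9) (nat_lit 9) (nat_lit 54) []))
(.node (nat_lit 160)
(.leaf (nat_lit 10) (nat_lit 0) (nat_lit 55) [nat_lit 0, nat_lit 10])
(.node (nat_lit 161)
(.leaf (nat_lit 10) (nat_lit 1) (nat_lit 56) [nat_lit 1, nat_lit 10])
(.leaf (nat_lit 10) (nat_lit 2) (nat_lit 57) [nat_lit 2, nat_lit 10]))))))
(.node (nat_lit 177)
(.node (nat_lit 167)
(.node (nat_lit 164)
(.node (nat_lit 163)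
(.leaf (nat_lit 10) (nat_lit 3) (nat_lit 58) [nat_lit 3, nat_lit 10, nat_lit 11])
(.leaf (nat_lit 10) (nat_lit 4) (nat_lit 59) [nat_lit 4, nat_lit 10]))
(.node (nat_lit 165)
(.leaf (nat_lit 10) (nat_lit 5) (nat_lit 60) [nat_lit 5, nat_lit 10])
(.node (nat_lit 166)
(.leaf (nat_lit 10) (nat_lit 6) (nat_lit 61) [nat_lit 6, nat_lit 10])
(.leaf (nat_lit 10) (nat_lit 7) (nat_lit 62) [nat_lit 7, nat_lit 10]))))
(.node (nat_lit 169)
(.node (nat_lit 168)
(.leaf (nat_lit 10) (nat_lit 8) (nat_lit 63) [nat_lit 8, nat_lit 10])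
(.leaf (nat_lit 10) (nat_lit 9) (nat_lit 64) [nat_lit 9, nat_lit 10]))
(.node (nat_lit 170)
(.leaf (nat_lit 10) (nat_lit 10) (nat_lit 65) [])
(.node (nat_lit 176)
(.leaf (nat_lit 11) (nat_lit 0) (nat_lit 66) [nat_lit 0, nat_lit 11])
(.leaf (nat_lit 11) (nat_lit 1) (nat_lit 67) [nat_lit 1, nat_lit 11])))))
(.node (nat_lit 182)
(.node (nat_lit 179)
(.node (nat_lit 178)
(.leaf (nat_lit 11) (nat_lit 2) (nat_lit 68) [nat_lit 2, nat_lit 11])
(.leaf (nat_lit 11) (nat_lit 3) (nat_lit 69) [nat_lit 3, nat_lit 11]))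
(.node (nat_lit 180)
(.leaf (nat_lit 11) (nat_lit 4) (nat_lit 70) [nat_lit 4, nat_lit 11])
(.node (nat_lit 181)
(.leaf (nat_lit 11) (nat_lit 5) (nat_lit 71) [nat_lit 5, nat_lit 11])
(.leaf (nat_lit 11) (nat_lit 6) (nat_lit 72) [nat_lit 6, nat_lit 11]))))
(.node (nat_lit 184)
(.node (nat_lit 183)
(.leaf (nat_lit 11) (nat_lit 7) (nat_lit 73) [nat_lit 7, nat_lit 11])
(.leaf (nat_lit 11) (nat_lit 8) (nat_lit 74) [nat_lit 8, nat_lit 11]))
(.node (nat_lit 185)
(.leaf (nat_lit 11) (nat_lit 9) (nat_lit 75) [nat_lit 9, nat_lit 11])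
(.node (nat_lit 186)
(.leaf (nat_lit 11) (nat_lit 10) (nat_lit 76) [nat_lit 10, nat_lit 11])
(.leaf (nat_lit 11) (nat_lit 11) (nat_lit 77) []))))))))

def o8p2_E : List (List ℕ × List ℕ) :=
  [([nat_lit 0, nat_lit 0], []),
    ([nat_lit 1, nat_lit 0], [nat_lit 0, nat_lit 1]),
    ([nat_lit 1, nat_lit 1], []),
    ([nat_lit 2, nat_lit 0], [nat_lit 0, nat_lit 2, nat_lit 10]),
    ([nat_lit 2, nat_lit 1], [nat_lit 1, nat_lit 2]),
    ([nat_lit 2, nat_lit 2], []),
    ([nat_lit 3, nat_lit 0], [nat_lit 0, nat_lit 3, nat_lit 6, nat_lit 8]),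
    ([nat_lit 3, nat_lit 1], [nat_lit 1, nat_lit 3, nat_lit 4]),
    ([nat_lit 3, nat_lit 2], [nat_lit 2, nat_lit 3, nat_lit 5]),
    ([nat_lit 3, nat_lit 3], []),
    ([nat_lit 4, nat_lit 0], [nat_lit 0, nat_lit 4, nat_lit 8]),
    ([nat_lit 4, nat_lit 1], [nat_lit 1, nat_lit 4]),
    ([nat_lit 4, nat_lit 2], [nat_lit 2, nat_lit 4, nat_lit 7]),
    ([nat_lit 4, nat_lit 3], [nat_lit 3, nat_lit 4]),
    ([nat_lit 4, nat_lit 4], []),
    ([nat_lit 5, nat_lit 0], [nat_lit 0, nat_lit 5, nat_lit 9, nat_lit 10]),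
    ([nat_lit 5, nat_lit 1], [nat_lit 1, nat_lit 5, nat_lit 7]),
    ([nat_lit 5, nat_lit 2], [nat_lit 2, nat_lit 5]),
    ([nat_lit 5, nat_lit 3], [nat_lit 3, nat_lit 5]),
    ([nat_lit 5, nat_lit 4], [nat_lit 4, nat_lit 5]),
    ([nat_lit 5, nat_lit 5], []),
    ([nat_lit 6, nat_lit 0], [nat_lit 0, nat_lit 6]),
    ([nat_lit 6, nat_lit 1], [nat_lit 1, nat_lit 6, nat_lit 8]),
    ([nat_lit 6, nat_lit 2], [nat_lit 2, nat_lit 6, nat_lit 9]),
    ([nat_lit 6, nat_lit 3], [nat_lit 3, nat_lit 6]),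
    ([nat_lit 6, nat_lit 4], [nat_lit 4, nat_lit 6]),
    ([nat_lit 6, nat_lit 5], [nat_lit 5, nat_lit 6]),
    ([nat_lit 6, nat_lit 6], []),
    ([nat_lit 7, nat_lit 0], [nat_lit 0, nat_lit 7, nat_lit 10]),
    ([nat_lit 7, nat_lit 1], [nat_lit 1, nat_lit 7]),
    ([nat_lit 7, nat_lit 2], [nat_lit 2, nat_lit 7]),
    ([nat_lit 7, nat_lit 3], [nat_lit 3, nat_lit 7]),
    ([nat_lit 7, nat_lit 4], [nat_lit 4, nat_lit 7]),
    ([nat_lit 7, nat_lit 5], [nat_lit 5, nat_lit 7]),
    ([nat_lit 7, nat_lit 6], [nat_lit 6, nat_lit 7, nat_lit 11]),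
    ([nat_lit 7, nat_lit 7], []),
    ([nat_lit 8, nat_lit 0], [nat_lit 0, nat_lit 8]),
    ([nat_lit 8, nat_lit 1], [nat_lit 1, nat_lit 8]),
    ([nat_lit 8, nat_lit 2], [nat_lit 2, nat_lit 8, nat_lit 10]),
    ([nat_lit 8, nat_lit 3], [nat_lit 3, nat_lit 8]),
    ([nat_lit 8, nat_lit 4], [nat_lit 4, nat_lit 8]),
    ([nat_lit 8, nat_lit 5], [nat_lit 5, nat_lit 8, nat_lit 11]),
    ([nat_lit 8, nat_lit 6], [nat_lit 6, nat_lit 8]),
    ([nat_lit 8, nat_lit 7], [nat_lit 7, nat_lit 8]),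
    ([nat_lit 8, nat_lit 8], []),
    ([nat_lit 9, nat_lit 0], [nat_lit 0, nat_lit 9]),
    ([nat_lit 9, nat_lit 1], [nat_lit 1, nat_lit 9, nat_lit 10]),
    ([nat_lit 9, nat_lit 2], [nat_lit 2, nat_lit 9]),
    ([nat_lit 9, nat_lit 3], [nat_lit 3, nat_lit 9]),
    ([nat_lit 9, nat_lit 4], [nat_lit 4, nat_lit 9, nat_lit 11]),
    ([nat_lit 9, nat_lit 5], [nat_lit 5, nat_lit 9]),
    ([nat_lit 9, nat_lit 6], [nat_lit 6, nat_lit 9]),
    ([nat_lit 9, nat_lit 7], [nat_lit 7, nat_lit 9]),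
    ([nat_lit 9, nat_lit 8], [nat_lit 8, nat_lit 9]),
    ([nat_lit 9, nat_lit 9], []),
    ([nat_lit 10, nat_lit 0], [nat_lit 0, nat_lit 10]),
    ([nat_lit 10, nat_lit 1], [nat_lit 1, nat_lit 10]),
    ([nat_lit 10, nat_lit 2], [nat_lit 2, nat_lit 10]),
    ([nat_lit 10, nat_lit 3], [nat_lit 3, nat_lit 10, nat_lit 11]),
    ([nat_lit 10, nat_lit 4], [nat_lit 4, nat_lit 10]),
    ([nat_lit 10, nat_lit 5], [nat_lit 5, nat_lit 10]),
    ([nat_lit 10, nat_lit 6], [nat_lit 6, nat_lit 10]),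
    ([nat_lit 10, nat_lit 7], [nat_lit 7, nat_lit 10]),
    ([nat_lit 10, nat_lit 8], [nat_lit 8, nat_lit 10]),
    ([nat_lit 10, nat_lit 9], [nat_lit 9, nat_lit 10]),
    ([nat_lit 10, nat_lit 10], []),
    ([nat_lit 11, nat_lit 0], [nat_lit 0, nat_lit 11]),
    ([nat_lit 11, nat_lit 1], [nat_lit 1, nat_lit 11]),
    ([nat_lit 11, nat_lit 2], [nat_lit 2, nat_lit 11]),
    ([nat_lit 11, nat_lit 3], [nat_lit 3, nat_lit 11]),
    ([nat_lit 11, nat_lit 4], [nat_lit 4, nat_lit 11]),
    ([nat_lit 11, nat_lit 5], [nat_lit 5, nat_lit 11]),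
    ([nat_lit 11, nat_lit 6], [nat_lit 6, nat_lit 11]),
    ([nat_lit 11, nat_lit 7], [nat_lit 7, nat_lit 11]),
    ([nat_lit 11, nat_lit 8], [nat_lit 8, nat_lit 11]),
    ([nat_lit 11, nat_lit 9], [nat_lit 9, nat_lit 11]),
    ([nat_lit 11, nat_lit 10], [nat_lit 10, nat_lit 11]),
    ([nat_lit 11, nat_lit 11], [])]

def o8p2_A : List ℕ :=
  [nat_lit 0x7000000000000000000000000000000000000000000000000000000000000000000000000000000000000000000000000000000000000000000000000000000000000000000000000000000000000000000000000000000000000000000000000000000000000000000000000000000000000000000000000000000000000000000000000000000000000000000000000000000000000000000000000000000000000000000000000000000000000000000000000000000000000000000000000000000000000000000000000000000000000000000000000000000000700000000000000000000000001000000000000000000000000000000000000000,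
    nat_lit 0x1c000000000000000000000000000000000000000000000000000000000000000000000000000000000000000000000000000000000000000000000000000000000000000000000000000000000000000000000000000000000000000000000000000000000000000000000000000000000000000000000000000000000000000000000000000000000000000000000000000000000000000000000000000000000000000000000000000000000000000000000000000000000000000000000000000000000000000000000000000000000000000000000000000000000000000000000000000000000014000000000000000000000000000000000000000000000,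
    nat_lit 0x70000000000000000000000000000000000000000000000000000000000000000000000000000000000000000000000000000000000000000000000000000000000000000000000000000000000000000000000000000000000000000000000000000000000000000000000000000000000000000000000000000000000000000000000000000000000000000000000000000000000700000000000000000000000000000000000000000000000000000000000000000000000000000000000000000000000000000000000000000000000000000000000000000000007000000000000000000000000050000010000004000000000000000000000000000000000000000,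
    nat_lit 0x1c000000000000000000000000000000000000000000000000000000000000000000000000000000000000000000000000000000000000000000000000000000000000000000000000000000000000000000000000000000000000000000000000000000000000000000000000000000000000000000000000000000000000000000000000000000000000000000000000000000000000000000000000000000000000000000000000000000000000000000000000000000000000000000000000000000000000000000000000000000000000000000000000000000000000000000000000000000000000000000000000000000000000000000000000000000000000000000000700000000000000000000000005000000000000000000000000000000000000000,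
    nat_lit 0x4000000000000000000000000000000000000000000000,
    nat_lit 0x10000000000000000000000000000000000000000000000000000,
    nat_lit 0x700000000000000000000000001000000000000000000000000000000000000000,
    nat_lit 0x1000000000000000000000000000000000000000000000000000000000000000000000000000000,
    nat_lit 0x100000000000000000000000000000000000000000000000000000000000000000,
    nat_lit 0x400000000000000000000000000000000000000000000000000000000000000000000000000001c0000000000000000000,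
    nat_lit 0x40000000000000000000,
    nat_lit 0x100000000000000000000000000000000000000000000000000000000000000000000000000000000000000000000000000000000000000000000000000000000000000000000000000000000000000000000000000000000000000000000000000000000000000000000000000000]

def o8p2_co : List ℕ :=
  [nat_lit 0x1821040021821821060821001801060801040801060c00020020041800801041000040870001051461861c31801061021070800011c70830021c31021c41061400031060400001031421021060821c01441460000460060020820060c00001c50851050000030000020400420400000040000021410000020c0000002140003000000005000000000005000005140000000,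
    nat_lit 0x1000000000000000000000000000000000000000000000000000000000000000000000000000000000000000000000000000000000000000000000000000000000000000000000000000000000000000000000000000000000000000000000000000000000000000000000000000000000000000000000000000000000000000000000000000000000000000000000000,
    nat_lit 0x1060000020040860000020841800000001860001061801060861041801840020800040030021071c00061411001060061860800041410851060870861041820041071041800040021401000840001001441800c0142086006182182086006040102180000000000003080004080000000000002186000004080000004000002000000006000000000006000002180000000,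
    nat_lit 0,
    nat_lit 0x1051860041060861861861840800801001040c71001421860820841821840821001421050030821801c60850c21c21c51011000851030061451420400460831030060431400020051001860841061040070c41440000000031021000c20021471031010000030000060c00c41c0000002000001047000001180000005040005000000003000000000003000007080000000,
    nat_lit 0x20060840801001000000000060000041061000000001061861840801c50010001000000c60010820061860800001021070041860000861020001021810041800060020001821841061841421800840c01820061840040800000c40040800000040000001c01001000000020000020c50000051400000010000070000000010000000000010000030c0000000,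
    nat_lit 0,
    nat_lit 0,
    nat_lit 0,
    nat_lit 0x1821040021821821060821001801060801040801060c00020020041800801041000040870001051461861c31801061021070800011c70830021c31021c41061400031060400001031421021060821c01441860000460060020810060c00001c50851050000030000020400420400000040000021410000020c0000002140003000000005000000000005000005140000000,
    nat_lit 0,
    nat_lit 0x1000000000061821801800001000000000060000800800021040060000860840800441070060000401440050800800820861001021071861820001061861001060821000800000030c00860800021800c40020040c01820001020001000001c21061800000000000071000841800000000000020c10000041400000040000030000000050000000000050000040c0000000,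
    nat_lit 0,
    nat_lit 0x1000000000061821801800001000000000060000800800021040060000860840800441030061001401441010800800820861001021031860820001061861001060861000800000030c00860800020801c40020040c01820001020001000001c20c61800000000000030000871800000000000020c10000041400000040000030000000050000000000050000000c0000000,
    nat_lit 0x1060000020040860000020841800000001860001061801060861041801840020800040030021071c00061411001060061860800041410851060870861041820041071041800040021401000840001001441800c0142086006142182086006040102180000000000003080004080000000000002186000004080000004000002000000006000000000006000002180000000,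
    nat_lit 0,
    nat_lit 0x40000000000000000000000000000000000000000000000000000000000000000000000000000000000000000000000000000000000000000000000000000000000000000000000000000000000000000000000000000000000000000000000000000000000000000000000000000000000000000000000000000000000000000000000000000000000000000000000000,
    nat_lit 0x1c60060041801041020060840000840800800001840021041001060800041020001801040001000000821801061440021051800841060040021801060820821c10820040800040051040000040040c40000c21000061000040860011c2002001180184000004000000000146000000004000000182000002180000002100006000000002000000000002000000080000000,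
    nat_lit 0x1c60060041801041020060840000840800800001840021041001060800041020001801040001000000821801061440021051800841060040021801060820821c10820041800040051040000040040c40000c21000061000040860011c2002000180184000004000000000006000000004000000182000002180000002100006000000002000000000002000000080000000,
    nat_lit 0x40000000000000000000000000000000000000000000000000000000000000000000000000000000000000000000000000000000000000000000000000000000000000000000000000000000000000000000000000000000000007000000000000000000000000000000000000000000000000000000000000000000000000000000000000000000000000000000000000,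
    nat_lit 0x460020000840841061060840001801800800000000400061000020801001060001801060020020800800861040c61021031800811801841021c21861c20820430800001c00060070800041021060c41020440400801860041411011420021071870810000070000030400c60c0000000000000182000000080000000040006000000002000000000002000005180000000,
    nat_lit 0x1041000001020861040840041000041001c21801801861061000060000861061801800020040040011860850801840040800000811061861821c40021c31041c40861061000020000040820821040041c00001401060820000400800c40041c60021870000010000030001800800000000000001c30000041400000041c00010000000070000000000070000000c0000000,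
    nat_lit 0x1830840001820861061840c40801070840800401800820861840861841431020001461830050870811c21c11c10020411060c00841430020021860421000051470831411000061810c11060420020440411441401451810000440440840041420c61840000000000070800871800000060000071c3000007000000003100001000000007000000000007000002000000000,
    nat_lit 0x1c00060041811421841c00001010840800030c01461810031000071061c30821400440810071c50401c31c21841001821870001470c60421821051071850001c30c61c50000000011441010c20420401c51800c41031c10041820830c00001430021460000020000021c01c00800000040000060c10000020400000021800030000000050000000000050000031c0000000,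
    nat_lit 0x1010000000000001800041841000020001c00000020020001041841800860860001c00050040020c31c61020860000031060c00831810041000c20840410471441021841800061070c61001820061020801060c40c41060020021001c30071840c01070000010000021001070000000000000000060000040800000041c0002000000006000000000006000004180000000,
    nat_lit 0x1000000000000000000000000000000000000000000000000000000000000000000000000000000000000000000000000000000000000000000000000007000000000000000000000000000000000000000000000000000041000000000000000000000000000000000000000000000000000000000000000000000000000000000000000000000000000000000000000,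
    nat_lit 0x1c21860800820000061861840000841801820800801c21800040061800000001800001040c10021000821061440c41431c10000810841020020c21860460861411061441c00040030040001830810421011000400820000001431830c20021870010050000030000050400c0140000004000004082000002180000002140006000000002000000000002000005080000000,
    nat_lit 0x1821040021821821060821001801060801040801060c00020020041800801041000040870001051461861c31801061021070800011c70830021c31021c41061400031060400001031421021060821c01441460000460060020810060c00001c50851050000030000020400420400000040000021410000020c0000002140003000000005000000000005000005140000000,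
    nat_lit 0x1800861041040840021040870001000820000840c01841821061061861801800c41020c51400061420c40c20061471431001070061050821c01070461800861030421400020020000060810070020c71040441c21000021c71041460061811051810000070000030c0144040000000000006002000000180000000040006000000002000000000002000007080000000,
    nat_lit 0x1000000000061821801800001000000000060000800800021040060000860840800441070060000001440050800800820861001021071861820001061861001060821000800000040000860800021800c40020040c01820001020001000001c21061800000000000071000841800000000000020c10000041400000040000030000000050000000000050000040c0000000,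
    nat_lit 0x1000000000061821801800001000000000060000800800021040060000860840800441070060000001440050800800820861001021071861820001061861001060821000800000040000860800021800c40020040c01820001020021000001c21061800000000000061400841800000000000020c10000041400000040000030000000050000000000050000010c0000000,
    nat_lit 0x420020040801041060021840001841801801000841060840801021800041060001800040000000000821841021c4106044080184106004106080102086186147182100080000003104100100144006000142000002004004186007086006000084080000000000000000002100000000000004086000000180000000000002000000006000000000006000000080000000,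
    nat_lit 0x1800040001020860800841000801041001060000801840061040020001821800800c40050020041001c00071840801860821000000010861020840420861001841820041800060000041820800021000440061841c00820001c20040040041c21021840000000000010800840800000060000020c50000071400000031000070000000010000000000010000020c0000000,
    nat_lit 0x1000000000061821801800001000000000060000800800021040060000860840800441030061000001441010800800820861001021031860820001061861001060861000800000040000860800020801c40020040c01820001020001000001821061800000000000060000841800000000000020c10000041400000040000030000000050000000000050000000c0000000,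
    nat_lit 0,
    nat_lit 0x1000021001820020061841800001001820800021001021860000841800061801001830040070c00020450840821840801800020450850000071021801800800071820000020050c00801021840840c21040401c40040061460800020020c6184186000006000007000186100000002000004000000005080000001180000000000000000000000000000000180000000,
    nat_lit 0x61000001061820841801800000061001021800820841020041061000001801801400070000060c61400850021841001821c00061870861861061820821421840841821800041071c20860000020001c51460840c21800060070801000001c21c61800000000000071000831800000000000000430000000400000000000010000000070000000000070000041c0000000,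
    nat_lit 0x1000000000061821801800001000000000060000800800021040060000860840800441070060000401440050800800820861001020c71861820001061861001060821000800000030c00860800021800c50020440c01820001020001000001c21061800000000000071000841800000000000020c10000041400000040000030000000050000000000050000040c0000000,
    nat_lit 0x860820820860860801840040071801801041800821000851841031021c51841000c40800c50471400420801451460411c00800040400851840071030021021450041401000060060400040870051c61410431041c61860001011c11840040c40840820000060000050801021000000040000060430000060400000060800010000000070000000000070000021c0000000,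
    nat_lit 0x1000000000000000000000000000000000000000000000000180180000000000000000000000000000000000000001000000000000000000000000000007000000000000000000000000000000002001040100000000000041000000000000000000000000000000000000000000000000000000000000000000000000000000000000000000000000000000000000000,
    nat_lit 0x21000001061820841800800000021001020800860841020041061001041801801401070041061c61441811060840040820000021430820860050820821061841800861800041031c61860040020001c50021c40c60800020441801000001c20061800000000000030000801800000000000041470000000400000000000050000000030000000000030000001c0000000,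
    nat_lit 0x1c51060040801040000030020800801801441001460411840040841840860071000000860021050031810440830c41011831401441c31401861850401070c31450450861800060070801040821021441c41850400861040061c71410850010811471c20000020000010401410c00000020000000410000050c0000001080003000000005000000000005000005140000000,
    nat_lit 0x1000000000061821801800001000000000060000800800021040060000860840800441030061001401441010800800820860c01021031860820001061861001060861000800000030c00860800020801c50420040c01820001020001000001c20c61800000000000030000871800000000000020c10000041400000040000030000000050000000000050000000c0000000,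
    nat_lit 0xc30860040040001021061840000840000020401800420800841800800861061800820000070821801060860821c60c10810001871020801040420020400850851800c50400040030041041000840c40c61421401841860041801031420020830070830000050000070c01c00c00000040000050860000060c00000060c0002000000006000000000006000007140000000,
    nat_lit 0x1000021001820041021040800021000820800061840021860000001060061801800010001010c60860c71821020841820801041c30810020831021040801821051861800041041c60040041041800c11001c01c41840021c61021860060c4082080000000000001180102080000000000004000000000180000000000000000000000000000000000000006080000000,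
    nat_lit 0x461020041821821060860800001800801821800000800020001040801861001801800040001061800800061820400061840801061841800840861040010820c31040021800060050801821860041c01440061801800860000070071420021020860000000000000040000821800000000000000450000000c0000000000007000000001000000000001000000140000000,
    nat_lit 0xc60860821860860801801040070840800041801821040861841021021c51801000c40840c11430400421810440460410c41801000440810840031071060021c71001401000000021440041871011c21451420440c21820000011c11800001c01841820000020000051800061000000020000060430000010400000050800010000000070000000000070000061c0000000,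
    nat_lit 0x1c60060041801041020060840000840800800001840021041001060800041020001801040001000000821801061440021051800441060040021801060820821c10820040800040051040000040040c40400c31000061000040860011c2002001180184000004000000000146000000004000000182000002180000002100006000000002000000000002000000080000000,
    nat_lit 0xc20060041801040020020840000840801800c01840420040001060841040020000021060040801001061841060441421410800831020000021401060c61861c11820011400000050040001801400401800421401821000000c11831c60061030870830000050000051c01c20c00000040000050820000061400000060c00060000000020000000000020000030c0000000,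
    nat_lit 0xc61060040821820041860001800841801821801061441020020040040000001800000860040071461041c51821401020810800011471870020470001c00820451011061c00060041441060021021c01861461001001860061850c50420020470830050000070000061c00c21c00000020000000410000010c0000005140003000000005000000000005000003140000000,
    nat_lit 0x1001000001000000041000020000041001040000000801001800000001040071001000000020041000041000841041041861001421041000020840021840000841060820400060021040800061800041860850800000040001000000800000001060060000020000021800041800000000000040c30000040400000041800010000000070000000000070000061c0000000,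
    nat_lit 0x1c60060041801041020060840000840800800001840021041001060800041020001801040001000000821801061440021041800841060040021801060820821c10820041800040051040000040040c40401021000061000040860011c2002000180184000004000000000006000000004000000182000002180000002100006000000002000000000002000000080000000,
    nat_lit 0x1c60060041801041020060840000840800800001841c21041060041800041020001801000000060800820461061440021051800810840021020c61061420821c10870040c00060050840000060821401401c20400040860041c30831c2002081181181000007000005140146140000004000000182000002180000002040006000000002000000000002000001080000000,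
    nat_lit 0x400000000000000000000000000000000000000000000000000000000000000000000000000000000000000001c0000000000000000000000000000000000000000000000000000000000000000000041000000000000000000007000000000000000000000000000000000000000000000000000000000000000000000000000000000000000000000000000000000000,
    nat_lit 0xc60060001820000061860840060800800861801840460000800040841820020800000000000800000021061001c61061030800071001000021c00840c01821c50000861c00060050001020821820400440420c01861000040450030c20021810870050000030000071c01420c0000004000004186000006180000006140002000000006000000000006000003080000000,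
    nat_lit 0x20861840801000000000000060001840840061040061000860800800441030020060801441070841801821860000010810841861c60060c20001061821041800000021800820800021c00441021c41c41820040c50800000000420060870000010000011000801800000000000020c10000000400000001c00030000000050000000000050000041c0000000,
    nat_lit 0x1000000000061821801800001000000000060000800800021040060000860840800441070060000001440050800800820861001011071861820001061861001060821000800000040000860800021c00c40020440c01820001020001000001c21061800000000000071000841800000000000020c10000041400000040000030000000050000000000050000040c0000000,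
    nat_lit 0x20861840801000000000000060001840840061040061000860800800441070021060801440030841801821860000050850840860c60061c20001061861041800000021800820800020c01441021c41c41820041c10800000000420050830000050000050000800400000000000020c10000000400000000c00030000000050000000000050000001c0000000,
    nat_lit 0x871040000000000801070861801060000441001021841000800841801821851001401030021000c11061021061000011801401c11031051861400021470c10060400021c00021051c20800800861c20061070c40840060060020001c10050041420c70000050000041001010800000060000000c50000030c00000071c0007000000001000000000001000004140000000,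
    nat_lit 0xc30860040040001021061840000840000020401800420800821860800861061800820000070821801060860c21c60c10810001871020801040420020400850851800c50400040030041041001041041451420401841860041801031420020830070830000050000070c01c00c00000040000050860000060c00000060c0002000000006000000000006000007140000000,
    nat_lit 0x1c60060041801041020060840000840800800001841c21041040021800041020001801000000060800820861061440021051800810840021020c61061420821c10870040c00060050840000061021801801c21400040860041c30831c2002081181181000007000005140146140000004000000182000002180000002040006000000002000000000002000001080000000,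
    nat_lit 0x420020040801041060021840001841801801000841061041001021800041060001800040000000000821841021c41060040801841060041060801020861861471821000800000031041001000040440c0106000002004004186007086006000084080000000000000000002100000000000004086000000180000000000002000000006000000000006000000080000000,
    nat_lit 0x1840040001061821860800800001001000061001820001021040040840040800800441870020050c61440851840000861801001001c71860800851821061041801800001000040030c00020021860441c61021c40460040021c40861800000c01001860000020000050800040000000040000061c50000020400000021800070000000010000000000010000021c0000000,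
    nat_lit 0x1800040001020860800841000801041001060000801840061040020001821800800c40050020041001c00071830801860821000000010861020840420861001841820041800060000041820800021400450061841c00820001c20040040041c21021840000000000010800840800000060000020c50000071400000031000070000000010000000000010000020c0000000,
    nat_lit 0x1000000000061821801800001000000000060000800800021040060000860840800441030061000001441000800800820861001021031860820001061861001060861000800000040000860800020c00040020040c01820001020001000001821061800000000000060000841800000000000020c10000041400000040000030000000050000000000050000000c0000000,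
    nat_lit 0x40000060000861061020841820000001861800061040060860020801021020801800870061811401820411000021800060801021c10871060011060841840000050021000020071400001040000c41c01001401400040021c20020860060460840860000020000011001821000000000000041c30000001c0000000180001000000007000000000007000004040000000,
    nat_lit 0x420020040801041060021840001841801801000841061041001021861841060001800040000000000821841021c41060040801841060041060801030861861471821000800000031041001000040440c0106000046004006005007086006000084080000000000000000002100000000000004086000000180000000000002000000006000000000006000000080000000,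
    nat_lit 0xc30860040040001021061840000840000020401800420800821860860061061800820000070821801060860c21c60c10810001871020801050420020400850851800c50400040030041041001041041451420401c01860061c01031420020830070830000050000070c01c00c00000040000050860000060c00000060c0002000000006000000000006000007140000000,
    nat_lit 0x460020040860860800860040801801800860001020420060000060061841820800c30870060411c60c61071861c41840830801851c71811020411000c01821410051001400000041c00021040800c40461400841461820001811030c20021c70871050000070000041c00c20c00000060000020430000031c0000007140001000000007000000000007000003040000000,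
    nat_lit 0x1020000000020860840820041000040001861001801860060001020001821860801c41050060061061c01030801810800861800870830820821460020040861060020040000000000041821800060440401440441041860000c20800860060421821010000070000011000860800000000000061470000041c0000004040005000000003000000000003000004040000000,
    nat_lit 0x1000000000061821801800001000000000060000800800021040060000860840800441070060000001440050800800820861001011071861821c01061861001060821000800000040000860800021c00c40020441001820001420001000001c21061800000000000071000841800000000000020c10000041400000040000030000000050000000000050000040c0000000,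
    nat_lit 0x1821040000041040841021000001000000840800000041041001041000001841001c41010021060061c71860000840840061801061860041040861040821860000801061000060060001041020060400c4180004086104000080002006006080180182000006000006100006000000004000002084000002080000002080004000000004000000000004000004180000000,
    nat_lit 0x20861840801000000000000060001840840061040061000860800800441030020060801441070841801821860000010810841861c60060820001061821041800000021800820800021c00441021c40041820040c60800000000420060870000010000011000801800000000000020c10000000400000001c00030000000050000000000050000041c0000000,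
    nat_lit 0x40000000020860861841801800040001061001821041061040000841001840800c40850060011c61c00870800001821841000060c10850001011060061040060801040000020070c41060021861c41461061441861040020440820840040c01041820000020000070000041000000020000061c10000050400000010800030000000050000000000050000001c0000000,
    nat_lit 0x821040000020861840841801801060000020800861801060041021000000841801c00050001020861c01830010841000860001000851420060821c61821060020801820800021001020820040021c01450061040061800020c41840040041c20021840000000000051800800800000060000041430000030400000071000010000000070000000000070000061c0000000,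
    nat_lit 0x801040000041041841000041001040001040800041021040040000001040861000440030061020801460820041840860060000840840020000021001001000040041020800060041841041060021c4100106184186004004084002180000080004100000000000006100000100000004000002006000006000000006000002000000006000000000006000004000000000,
    nat_lit 0x1020000000020861861820840800000001861001860021060001041840040860801440830020011401040830840001840841801800c70871041811020840861061001001800020010400061021821800421840c40861000060400820060060c01801000000040000070000060000000020000061430000011c0000005000001000000007000000000007000000040000000,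
    nat_lit 0x1041000021040860021060840800041001821801061841061820060841000021800000870041051401021c11840021801860801000c11831001850021040840801050820800000010441841021840c41c61841c01840000021c4106082002044082084000004000003080102080000000000000104000004180000004100004000000004000000000004000002080000000]

noncomputable def o8p2 : PCD where
  G := nat_lit 16
  w := nat_lit 26
  k := nat_lit 122
  n := nat_lit 8
  fuel := nat_lit 120
  o := nat_lit 0x4000001000000400000100000040000010000004000001000000400000100000040000010000004000001000000400000100000040000010000004000001000000400000100000040000010000004000001000000400000100000040000010000004000001000000400000100000040000010000004000001000000400000100000040000010000004000001000000400000100000040000010000004000001000000400000100000040000010000004000001000000400000100000040000010000004000001000000400000100000040000010000004000001000000400000100000040000010000004000001000000400000100000040000010000004000001000000400000100000040000010000004000001000000400000100000040000010000004000001000000400000100000040000010000004000001000000400000100000040000010000004000001000000400000100000040000010000004000001000000400000100000040000010000004000001000000400000100000040000010000004000001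
  c0 := nat_lit 0x2cc224
  cq := nat_lit 0x3fffff
  cA := nat_lit 7
  Lm := nat_lit 4
  np := nat_lit 78
  rules := o8p2_ru
  E := o8p2_E
  C := [(nat_lit 12, [nat_lit 0], [nat_lit 6]),
    (nat_lit 12, [nat_lit 1], [nat_lit 4]),
    (nat_lit 12, [nat_lit 2, nat_lit 7, nat_lit 11], [nat_lit 5]),
    (nat_lit 12, [nat_lit 4], [nat_lit 1]),
    (nat_lit 12, [nat_lit 5, nat_lit 7], [nat_lit 2, nat_lit 11]),
    (nat_lit 12, [nat_lit 6], [nat_lit 0]),
    (nat_lit 12, [nat_lit 7], [nat_lit 7]),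
    (nat_lit 12, [nat_lit 8], [nat_lit 8]),
    (nat_lit 12, [nat_lit 9], [nat_lit 9]),
    (nat_lit 12, [nat_lit 10], [nat_lit 11]),
    (nat_lit 12, [nat_lit 11], [nat_lit 10]),
    (nat_lit 13, [nat_lit 1], [nat_lit 1]),
    (nat_lit 13, [nat_lit 2], [nat_lit 2]),
    (nat_lit 13, [nat_lit 3], [nat_lit 6]),
    (nat_lit 13, [nat_lit 4], [nat_lit 8]),
    (nat_lit 13, [nat_lit 5], [nat_lit 9]),
    (nat_lit 13, [nat_lit 6], [nat_lit 3]),
    (nat_lit 13, [nat_lit 7], [nat_lit 10]),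
    (nat_lit 13, [nat_lit 8], [nat_lit 4]),
    (nat_lit 13, [nat_lit 9], [nat_lit 5]),
    (nat_lit 13, [nat_lit 10], [nat_lit 7]),
    (nat_lit 13, [nat_lit 11], [nat_lit 11]),
    (nat_lit 14, [nat_lit 0, nat_lit 1], [nat_lit 0, nat_lit 1, nat_lit 8, nat_lit 10]),
    (nat_lit 14, [nat_lit 2], [nat_lit 2, nat_lit 5]),
    (nat_lit 14, [nat_lit 3], [nat_lit 5, nat_lit 6]),
    (nat_lit 14, [nat_lit 4], [nat_lit 3, nat_lit 7, nat_lit 8]),
    (nat_lit 14, [nat_lit 5], [nat_lit 9]),
    (nat_lit 14, [nat_lit 6], [nat_lit 3, nat_lit 9]),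
    (nat_lit 14, [nat_lit 7], [nat_lit 5, nat_lit 10]),
    (nat_lit 14, [nat_lit 8], [nat_lit 4, nat_lit 6, nat_lit 10]),
    (nat_lit 14, [nat_lit 9], [nat_lit 5]),
    (nat_lit 14, [nat_lit 10], [nat_lit 7, nat_lit 9, nat_lit 11]),
    (nat_lit 14, [nat_lit 11], [nat_lit 11]),
    (nat_lit 15, [nat_lit 0, nat_lit 10], [nat_lit 0, nat_lit 10]),
    (nat_lit 15, [nat_lit 1], [nat_lit 1]),
    (nat_lit 15, [nat_lit 3], [nat_lit 4, nat_lit 5, nat_lit 11]),
    (nat_lit 15, [nat_lit 4], [nat_lit 7]),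
    (nat_lit 15, [nat_lit 5], [nat_lit 3, nat_lit 7]),
    (nat_lit 15, [nat_lit 6], [nat_lit 8, nat_lit 9]),
    (nat_lit 15, [nat_lit 7], [nat_lit 4]),
    (nat_lit 15, [nat_lit 8], [nat_lit 10]),
    (nat_lit 15, [nat_lit 9], [nat_lit 6, nat_lit 10]),
    (nat_lit 15, [nat_lit 10], [nat_lit 8]),
    (nat_lit 15, [nat_lit 11], [nat_lit 11])]
  RA := [([nat_lit 1], [nat_lit 0, nat_lit 0]),
    ([nat_lit 2], [nat_lit 1, nat_lit 1]),
    ([nat_lit 4], [nat_lit 1, nat_lit 1]),
    ([nat_lit 4], [nat_lit 3, nat_lit 3]),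
    ([nat_lit 5], [nat_lit 2, nat_lit 2]),
    ([nat_lit 5], [nat_lit 3, nat_lit 3]),
    ([nat_lit 5], [nat_lit 4, nat_lit 4]),
    ([nat_lit 6], [nat_lit 0, nat_lit 0]),
    ([nat_lit 6], [nat_lit 3, nat_lit 3]),
    ([nat_lit 6], [nat_lit 4, nat_lit 4]),
    ([nat_lit 6], [nat_lit 5, nat_lit 5]),
    ([nat_lit 7], [nat_lit 1, nat_lit 1]),
    ([nat_lit 7], [nat_lit 2, nat_lit 2]),
    ([nat_lit 7], [nat_lit 3, nat_lit 3]),
    ([nat_lit 7], [nat_lit 4, nat_lit 4]),
    ([nat_lit 7], [nat_lit 5, nat_lit 5]),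
    ([nat_lit 8], [nat_lit 0, nat_lit 0]),
    ([nat_lit 8], [nat_lit 1, nat_lit 1]),
    ([nat_lit 8], [nat_lit 3, nat_lit 3]),
    ([nat_lit 8], [nat_lit 4, nat_lit 4]),
    ([nat_lit 8], [nat_lit 6, nat_lit 6]),
    ([nat_lit 8], [nat_lit 7, nat_lit 7]),
    ([nat_lit 9], [nat_lit 0, nat_lit 0]),
    ([nat_lit 9], [nat_lit 2, nat_lit 2]),
    ([nat_lit 9], [nat_lit 3, nat_lit 3]),
    ([nat_lit 9], [nat_lit 5, nat_lit 5]),
    ([nat_lit 9], [nat_lit 6, nat_lit 6]),
    ([nat_lit 9], [nat_lit 7, nat_lit 7]),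
    ([nat_lit 9], [nat_lit 8, nat_lit 8]),
    ([nat_lit 10], [nat_lit 0, nat_lit 0]),
    ([nat_lit 10], [nat_lit 1, nat_lit 1]),
    ([nat_lit 10], [nat_lit 2, nat_lit 2]),
    ([nat_lit 10], [nat_lit 4, nat_lit 4]),
    ([nat_lit 10], [nat_lit 5, nat_lit 5]),
    ([nat_lit 10], [nat_lit 6, nat_lit 6]),
    ([nat_lit 10], [nat_lit 7, nat_lit 7]),
    ([nat_lit 10], [nat_lit 8, nat_lit 8]),
    ([nat_lit 10], [nat_lit 9, nat_lit 9]),
    ([nat_lit 11], [nat_lit 0, nat_lit 0]),
    ([nat_lit 11], [nat_lit 1, nat_lit 1]),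
    ([nat_lit 11], [nat_lit 2, nat_lit 2]),
    ([nat_lit 11], [nat_lit 3, nat_lit 3]),
    ([nat_lit 11], [nat_lit 4, nat_lit 4]),
    ([nat_lit 11], [nat_lit 5, nat_lit 5]),
    ([nat_lit 11], [nat_lit 6, nat_lit 6]),
    ([nat_lit 11], [nat_lit 7, nat_lit 7]),
    ([nat_lit 11], [nat_lit 8, nat_lit 8]),
    ([nat_lit 11], [nat_lit 9, nat_lit 9]),
    ([nat_lit 11], [nat_lit 10, nat_lit 10]),
    ([nat_lit 2], [nat_lit 0, nat_lit 0]),
    ([nat_lit 3], [nat_lit 1, nat_lit 1]),
    ([nat_lit 3], [nat_lit 2, nat_lit 2]),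
    ([nat_lit 4], [nat_lit 0, nat_lit 0]),
    ([nat_lit 4], [nat_lit 2, nat_lit 2]),
    ([nat_lit 5], [nat_lit 1, nat_lit 1]),
    ([nat_lit 6], [nat_lit 1, nat_lit 1]),
    ([nat_lit 6], [nat_lit 2, nat_lit 2]),
    ([nat_lit 7], [nat_lit 0, nat_lit 0]),
    ([nat_lit 7], [nat_lit 6, nat_lit 6]),
    ([nat_lit 8], [nat_lit 2, nat_lit 2]),
    ([nat_lit 8], [nat_lit 5, nat_lit 5]),
    ([nat_lit 9], [nat_lit 1, nat_lit 1]),
    ([nat_lit 9], [nat_lit 4, nat_lit 4]),
    ([nat_lit 10], [nat_lit 3, nat_lit 3]),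
    ([nat_lit 2], [nat_lit 2, nat_lit 0]),
    ([nat_lit 3], [nat_lit 3, nat_lit 1]),
    ([nat_lit 3], [nat_lit 3, nat_lit 2]),
    ([nat_lit 5], [nat_lit 5, nat_lit 1]),
    ([nat_lit 3], [nat_lit 0, nat_lit 0]),
    ([nat_lit 5], [nat_lit 0, nat_lit 0]),
    ([nat_lit 3], [nat_lit 3, nat_lit 0]),
    ([nat_lit 6], [nat_lit 5, nat_lit 0]),
    ([nat_lit 3], [nat_lit 2, nat_lit 1]),
    ([nat_lit 6], [nat_lit 4, nat_lit 2])]
  RB := [(nat_lit 12, [nat_lit 0, nat_lit 0]),
    (nat_lit 12, [nat_lit 1, nat_lit 1]),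
    (nat_lit 12, [nat_lit 3, nat_lit 3]),
    (nat_lit 12, [nat_lit 5, nat_lit 5]),
    (nat_lit 12, [nat_lit 6, nat_lit 6]),
    (nat_lit 12, [nat_lit 7, nat_lit 7]),
    (nat_lit 12, [nat_lit 8, nat_lit 8]),
    (nat_lit 12, [nat_lit 9, nat_lit 9]),
    (nat_lit 12, [nat_lit 10, nat_lit 10]),
    (nat_lit 13, [nat_lit 11, nat_lit 11]),
    (nat_lit 13, [nat_lit 12, nat_lit 12]),
    (nat_lit 13, [nat_lit 13, nat_lit 13]),
    (nat_lit 13, [nat_lit 14, nat_lit 14]),
    (nat_lit 13, [nat_lit 15, nat_lit 15]),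
    (nat_lit 13, [nat_lit 16, nat_lit 16]),
    (nat_lit 13, [nat_lit 17, nat_lit 17]),
    (nat_lit 13, [nat_lit 18, nat_lit 18]),
    (nat_lit 13, [nat_lit 19, nat_lit 19]),
    (nat_lit 13, [nat_lit 20, nat_lit 20]),
    (nat_lit 13, [nat_lit 21, nat_lit 21]),
    (nat_lit 14, [nat_lit 26, nat_lit 26]),
    (nat_lit 14, [nat_lit 30, nat_lit 30]),
    (nat_lit 14, [nat_lit 32, nat_lit 32]),
    (nat_lit 15, [nat_lit 34, nat_lit 34]),
    (nat_lit 15, [nat_lit 36, nat_lit 36]),
    (nat_lit 15, [nat_lit 39, nat_lit 39]),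
    (nat_lit 15, [nat_lit 40, nat_lit 40]),
    (nat_lit 15, [nat_lit 42, nat_lit 42]),
    (nat_lit 15, [nat_lit 43, nat_lit 43]),
    (nat_lit 14, [nat_lit 23, nat_lit 23]),
    (nat_lit 14, [nat_lit 24, nat_lit 24]),
    (nat_lit 14, [nat_lit 27, nat_lit 27]),
    (nat_lit 14, [nat_lit 28, nat_lit 28]),
    (nat_lit 15, [nat_lit 37, nat_lit 37]),
    (nat_lit 15, [nat_lit 38, nat_lit 38]),
    (nat_lit 15, [nat_lit 41, nat_lit 41]),
    (nat_lit 12, [nat_lit 0, nat_lit 1, nat_lit 0, nat_lit 1]),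
    (nat_lit 12, [nat_lit 0, nat_lit 7, nat_lit 0, nat_lit 7]),
    (nat_lit 12, [nat_lit 0, nat_lit 8, nat_lit 0, nat_lit 8]),
    (nat_lit 12, [nat_lit 0, nat_lit 9, nat_lit 0, nat_lit 9]),
    (nat_lit 12, [nat_lit 0, nat_lit 10, nat_lit 0, nat_lit 10]),
    (nat_lit 12, [nat_lit 1, nat_lit 6, nat_lit 1, nat_lit 6]),
    (nat_lit 12, [nat_lit 1, nat_lit 7, nat_lit 1, nat_lit 7]),
    (nat_lit 12, [nat_lit 1, nat_lit 9, nat_lit 1, nat_lit 9]),
    (nat_lit 12, [nat_lit 1, nat_lit 10, nat_lit 1, nat_lit 10]),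
    (nat_lit 12, [nat_lit 4, nat_lit 4]),
    (nat_lit 12, [nat_lit 6, nat_lit 9, nat_lit 6, nat_lit 9]),
    (nat_lit 12, [nat_lit 7, nat_lit 9, nat_lit 7, nat_lit 9]),
    (nat_lit 12, [nat_lit 8, nat_lit 9, nat_lit 8, nat_lit 9]),
    (nat_lit 13, [nat_lit 11, nat_lit 14, nat_lit 11, nat_lit 14]),
    (nat_lit 13, [nat_lit 11, nat_lit 17, nat_lit 11, nat_lit 17]),
    (nat_lit 13, [nat_lit 12, nat_lit 15, nat_lit 12, nat_lit 15]),
    (nat_lit 13, [nat_lit 12, nat_lit 17, nat_lit 12, nat_lit 17]),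
    (nat_lit 13, [nat_lit 13, nat_lit 14, nat_lit 13, nat_lit 14]),
    (nat_lit 13, [nat_lit 13, nat_lit 15, nat_lit 13, nat_lit 15]),
    (nat_lit 13, [nat_lit 13, nat_lit 17, nat_lit 13, nat_lit 17]),
    (nat_lit 13, [nat_lit 13, nat_lit 18, nat_lit 13, nat_lit 18]),
    (nat_lit 13, [nat_lit 13, nat_lit 19, nat_lit 13, nat_lit 19]),
    (nat_lit 13, [nat_lit 13, nat_lit 21, nat_lit 13, nat_lit 21]),
    (nat_lit 13, [nat_lit 14, nat_lit 15, nat_lit 14, nat_lit 15]),
    (nat_lit 13, [nat_lit 14, nat_lit 17, nat_lit 14, nat_lit 17]),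
    (nat_lit 13, [nat_lit 14, nat_lit 20, nat_lit 14, nat_lit 20]),
    (nat_lit 13, [nat_lit 15, nat_lit 17, nat_lit 15, nat_lit 17]),
    (nat_lit 13, [nat_lit 15, nat_lit 20, nat_lit 15, nat_lit 20]),
    (nat_lit 13, [nat_lit 15, nat_lit 21, nat_lit 15, nat_lit 21]),
    (nat_lit 13, [nat_lit 17, nat_lit 21, nat_lit 17, nat_lit 21]),
    (nat_lit 15, [nat_lit 33, nat_lit 33]),
    (nat_lit 15, [nat_lit 34, nat_lit 36, nat_lit 34, nat_lit 36]),
    (nat_lit 15, [nat_lit 36, nat_lit 40, nat_lit 36, nat_lit 40]),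
    (nat_lit 12, [nat_lit 2, nat_lit 2]),
    (nat_lit 14, [nat_lit 25, nat_lit 25]),
    (nat_lit 14, [nat_lit 29, nat_lit 29]),
    (nat_lit 14, [nat_lit 31, nat_lit 31]),
    (nat_lit 15, [nat_lit 35, nat_lit 35]),
    (nat_lit 12, [nat_lit 2, nat_lit 10, nat_lit 2, nat_lit 10]),
    (nat_lit 14, [nat_lit 31, nat_lit 32, nat_lit 31, nat_lit 32]),
    (nat_lit 15, [nat_lit 35, nat_lit 43, nat_lit 35, nat_lit 43]),
    (nat_lit 15, [nat_lit 36, nat_lit 37, nat_lit 36, nat_lit 37]),
    (nat_lit 14, [nat_lit 23, nat_lit 26, nat_lit 23, nat_lit 26]),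
    (nat_lit 15, [nat_lit 36, nat_lit 38, nat_lit 36, nat_lit 38]),
    (nat_lit 12, [nat_lit 0, nat_lit 6, nat_lit 0, nat_lit 6, nat_lit 9]),
    (nat_lit 12, [nat_lit 1, nat_lit 8, nat_lit 1, nat_lit 8, nat_lit 9]),
    (nat_lit 12, [nat_lit 3, nat_lit 8, nat_lit 3, nat_lit 8, nat_lit 10]),
    (nat_lit 13, [nat_lit 11, nat_lit 13, nat_lit 11, nat_lit 13, nat_lit 14]),
    (nat_lit 13, [nat_lit 11, nat_lit 15, nat_lit 11, nat_lit 15, nat_lit 17]),
    (nat_lit 13, [nat_lit 11, nat_lit 16, nat_lit 11, nat_lit 16, nat_lit 18]),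
    (nat_lit 13, [nat_lit 11, nat_lit 19, nat_lit 11, nat_lit 19, nat_lit 20]),
    (nat_lit 13, [nat_lit 12, nat_lit 13, nat_lit 12, nat_lit 13, nat_lit 15]),
    (nat_lit 13, [nat_lit 12, nat_lit 14, nat_lit 12, nat_lit 14, nat_lit 17]),
    (nat_lit 13, [nat_lit 12, nat_lit 16, nat_lit 12, nat_lit 16, nat_lit 19]),
    (nat_lit 13, [nat_lit 13, nat_lit 20, nat_lit 13, nat_lit 20, nat_lit 21]),
    (nat_lit 14, [nat_lit 23, nat_lit 28, nat_lit 23, nat_lit 28]),
    (nat_lit 12, [nat_lit 0, nat_lit 3, nat_lit 0, nat_lit 3, nat_lit 7]),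
    (nat_lit 13, [nat_lit 14, nat_lit 19, nat_lit 14, nat_lit 19, nat_lit 21]),
    (nat_lit 12, [nat_lit 3, nat_lit 4, nat_lit 3, nat_lit 4]),
    (nat_lit 14, [nat_lit 24, nat_lit 28, nat_lit 24, nat_lit 28]),
    (nat_lit 14, [nat_lit 22, nat_lit 22]),
    (nat_lit 15, [nat_lit 33, nat_lit 41, nat_lit 33, nat_lit 41]),
    (nat_lit 15, [nat_lit 34, nat_lit 37, nat_lit 34, nat_lit 37, nat_lit 39]),
    (nat_lit 15, [nat_lit 34, nat_lit 41, nat_lit 34, nat_lit 41, nat_lit 42]),
    (nat_lit 15, [nat_lit 34, nat_lit 38, nat_lit 34, nat_lit 38, nat_lit 40]),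
    (nat_lit 15, [nat_lit 37, nat_lit 40, nat_lit 37, nat_lit 40, nat_lit 43]),
    (nat_lit 12, [nat_lit 0, nat_lit 2, nat_lit 0, nat_lit 2]),
    (nat_lit 12, [nat_lit 1, nat_lit 4, nat_lit 1, nat_lit 4, nat_lit 6]),
    (nat_lit 14, [nat_lit 23, nat_lit 24, nat_lit 23, nat_lit 24, nat_lit 26]),
    (nat_lit 15, [nat_lit 33, nat_lit 36, nat_lit 33, nat_lit 36, nat_lit 40]),
    (nat_lit 15, [nat_lit 37, nat_lit 41, nat_lit 37, nat_lit 41]),
    (nat_lit 14, [nat_lit 23, nat_lit 27, nat_lit 23, nat_lit 27, nat_lit 30]),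
    (nat_lit 15, [nat_lit 34, nat_lit 35, nat_lit 34, nat_lit 35, nat_lit 36]),
    (nat_lit 14, [nat_lit 27, nat_lit 28, nat_lit 27, nat_lit 28, nat_lit 32]),
    (nat_lit 12, [nat_lit 0, nat_lit 4, nat_lit 0, nat_lit 4, nat_lit 8]),
    (nat_lit 14, [nat_lit 23, nat_lit 25, nat_lit 23, nat_lit 25, nat_lit 28]),
    (nat_lit 14, [nat_lit 22, nat_lit 26, nat_lit 22, nat_lit 26, nat_lit 28, nat_lit 30]),
    (nat_lit 15, [nat_lit 33, nat_lit 37, nat_lit 33, nat_lit 37, nat_lit 41, nat_lit 42]),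
    (nat_lit 14, [nat_lit 22, nat_lit 30, nat_lit 22, nat_lit 30, nat_lit 31]),
    (nat_lit 14, [nat_lit 22, nat_lit 27, nat_lit 22, nat_lit 27, nat_lit 29]),
    (nat_lit 15, [nat_lit 33, nat_lit 35, nat_lit 33, nat_lit 35, nat_lit 38, nat_lit 40, nat_lit 43]),
    (nat_lit 14, [nat_lit 22, nat_lit 24, nat_lit 22, nat_lit 24, nat_lit 25, nat_lit 27])]
  A := o8p2_A
  β := [(nat_lit 0x4000000, nat_lit 2, nat_lit 0x1000001000000061041001001801020040801841021000001001041000001000041840061001801020821801040820040001000021021020001801001021800021861010000c7180084086184080082180000182082000182184104004184004100000000000006000100100000000000002000000000180000000000000000000000000000000000000000080000000),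
    (nat_lit 0x100000000000000000000000007000000000000000000000000000000000000000000000000000000000000000000000000000000, nat_lit 2, nat_lit 0x100000000100180000000000180182100100000000000104000080106004104100086184000080004102000102100002000084100180000004086100081006000000100104004004180004080180000000082082080000106002002000002000002080180080000002000000004000005100000001080004000000004000000000004000002100000000)]
  co := o8p2_co
  lay := [(nat_lit 4094, [nat_lit 0]),
    (nat_lit 4092, [nat_lit 1]),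
    (nat_lit 4088, [nat_lit 2]),
    (nat_lit 4080, [nat_lit 3]),
    (nat_lit 4064, [nat_lit 4]),
    (nat_lit 4032, [nat_lit 5]),
    (nat_lit 3968, [nat_lit 6]),
    (nat_lit 3840, [nat_lit 7]),
    (nat_lit 3584, [nat_lit 8]),
    (nat_lit 3072, [nat_lit 9]),
    (nat_lit 2048, [nat_lit 10]),
    (nat_lit 0, [nat_lit 11])]

theorem o8p2_1 : o8p2.ok1 (nat_lit 4095) = true := by decide +kernel
theorem o8p2_2 : o8p2.ok2 = true := by decide +kernel

noncomputable def o8p2T_tbl : NT :=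
(.node (nat_lit 6131)
(.node (nat_lit 2043)
(.leaf (nat_lit 0) (nat_lit 0x5448badd0d26949ad1768622fa6da990a568c564de984086920be66ceb3084c09b041da63e9f6a6c29f26c3fb2aef3462ea4af6f7e6535732d639b10fa4551a3446f51bb86f1d3478cbe920741a1d19745929a709093a505c4c4abacb9a73ee45977268bbcd76cc698ae28572aed4576675f95758585c5a9c3570533f6f49b7782c7ad87d5ab56af111aeaf5d823ab65105cca0c8b206b488e07b4bad65eb01db20e8f287b08cf06b1cec645511ea40974c854b7f00449c2e84ed15fbb0b7cd8449770854ab2f850675c3e060c1837c0df02780ec837c7dd2604081027809e037cf2d820069e3002e9d0002e008102eaf627061f4900e1c0100e80000002e63))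
(.node (nat_lit 4087)
(.leaf (nat_lit 2044) (nat_lit 0x8ee0a50a31db91af6fef441a0227e1a3237b59fc1a2fee96461e0a37a1e3a27e2dec0bd6ed9043790a043790a14379d1a4366ce9417102141710204081c18c60cc2a3f8f19dc788f9dc78cc38208ce193919c9e871831e8658f473e08d533b8b11fc58ce9fc474d3a9888f433d1dd9c851c39c8528e469374c9c330821b8f0de9b8d3cd9930e0eaf359cd18cf9f398cc68ea12b7cdc7370c2998d09f998e4cc9bcce8fd73198c1acd9b31acf98fa0813a76e972cbee97d65eb5e5c951dfbe50695bd4efd5439ea1c78b4a872e60092564ec2aa8ae9e324ab0dbaa46890c7bed6839668a1848abd4c67da9fab86adf515ef16649b78a425929d3a76b9dc496e))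
(.leaf (nat_lit 4088) (nat_lit 0xd7af5ced7575cb1fad988382b4a0d2d5acc6a29ac9a3a5ae922af6c8d0445cd28b8648e1058f3c94774bddb99cbdd459ce15b9b7595c3522df2864a9fd05cf571d96f29d3434da5294822aea4de911a0e375763ad8c3649603f64cabb18154ab56e7e4bd7d7e4439532fcabf2ac314f7e62c8d6a4d25526e1e968b0a17f1e3c78d55b396d193c689212255e1e1527d419a8a50d012a091d49673ee3a452acc49d664feb14bbc9463ecabb53ec5555724aa98fa159765e940b5013be6d4dae687447d9575ebd5451512fad598a2aee4e86f5b4e9d3a7b69d3a6b76de27b682e024c99326b299327b299f26ae12d0448e63250ae60240941cbb1416c5f4aee3a4))))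
(.node (nat_lit 10219)
(.node (nat_lit 8175)
(.leaf (nat_lit 6132) (nat_lit 0x62dca4d29b55b1d14b83419826f76b821c28c71247367114732ca39ed38611b8e792c632791c637be31c6d960ac8982c44cb86ec4cbb603dd7920548b86d45c982fc5c8c60bfd87a3c68466ec33c6ec433daa1c2607231e866efc23866d4238de143dc662a98191140c391240c0d2223666e25083951c1c1952c1c3a22a2e3082137b6303d4768cbf44ad1c405880037cf9f3e06f81bc04f933e5b0c2ea7f6b0bf4560dbd47dd145798c0d978f1e3c04f013e06093bce51c35d7290e3bbe93239bfd1225039c16c74040b87401d3a740509d5f183857694f39ba972bbbaa52a47598195700003a7005c3870e101f9ebb7bfd53ea4f95c294a5d09b93c23f5b6))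
(.leaf (nat_lit 8176) (nat_lit 0x4e9c15baaed2b7b0f62580efe15a0f483e0b37103cb366cd94d66cdb4d641d910e524fb4fe2da0cf61d80c3836173ba8e6155ebaf15a6baadc2978ae73ea0e17cf42e57377ab9e8d5917fae988102042daad8428615546be12ab6012b1bace84d8a9237d6700ac2ae21f4c7aa1fb07afd74d576564680b1ddd8ab5d21bae956976d0cd6b8d1a368a8a2ce8ad6a35697525296418a77a9e05b42c289548c6fb49bd26dd6376427bb2ac6e7ea8930bce244893624b6733ed3a5f169a08b123a39b4db594b1139640b8f24aa1213263599c8830504261082489332e5e5b32ea0bb6e52e70d64c8b232ccba326e31737a472516845c8382b24ab093da4b55a564ec)))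
(.node (nat_lit 12263)
(.leaf (nat_lit 10220) (nat_lit 0x9bdc4915317452322180161b1815d94d81010c3649c14db6b6cd9b126c21b17a6db75527cd9586e4c4932cb0716e70f54f3d5dadc6ba7490d35f4951ad74b59bdd8ed6936b1191ce81459036ae3403172ce6b3e63468d66319f15ece0718acc633673060c6734631dc969720cc9003648b01ce48b370072e932f4cb043e58905de58847086c4fb376c67cfe23e771e23e7f3003af338fc474ee33a7f1633b8b3812563009c111ee0831426080532589d6b0f0c315fe181102e183232da1e1d1b9ba1215f761625d775025db89d3ccbc86f5cbc86f5ebc840e7a619125be161dd72122df72242df4099335b882e5eb882e5cb9700664d790a7b76eddb4f6edd9))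
(.leaf (nat_lit 12264) (nat_lit 0xa43b8565748a0e17b678bdef45c8bebfa9f55d950f5527b0a9dd87d344abb2850a3a8dea5d40821d4433182f9c0523250ca8c888962ec6291743a525d5a68b1da0b0ed41873449c789a5fcb90a5f3178f96bc52fb5d792d5ab5688e24b88d2ab46cea953bc45824989a0de40c68144d42cb1b87645a81626a6b13ef1b7b2ca3599766cf7176637712aecf5a890a5a116320714)))))

noncomputable def o8p2T : PT where
  N := nat_lit 120
  G := nat_lit 16
  W := nat_lit 7
  mask := nat_lit 127
  sb := nat_lit 0
  sm := nat_lit 0
  tbl := o8p2T_tbl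

def o8p2_df : List (List ℕ) :=
  [[nat_lit 5, nat_lit 6, nat_lit 7, nat_lit 0, nat_lit 5, nat_lit 6, nat_lit 7, nat_lit 5, nat_lit 0, nat_lit 1, nat_lit 7, nat_lit 6, nat_lit 5, nat_lit 3],
  [nat_lit 0, nat_lit 4, nat_lit 2, nat_lit 7, nat_lit 0, nat_lit 2, nat_lit 6, nat_lit 7, nat_lit 5, nat_lit 3, nat_lit 6, nat_lit 5, nat_lit 2, nat_lit 7, nat_lit 6, nat_lit 4, nat_lit 0, nat_lit 7, nat_lit 2],
  [nat_lit 0, nat_lit 1, nat_lit 5, nat_lit 7, nat_lit 0, nat_lit 4, nat_lit 7, nat_lit 2, nat_lit 5, nat_lit 6, nat_lit 7, nat_lit 5, nat_lit 3, nat_lit 2, nat_lit 0, nat_lit 7, nat_lit 5],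
  [nat_lit 2, nat_lit 1, nat_lit 3, nat_lit 2, nat_lit 5, nat_lit 6, nat_lit 7, nat_lit 5, nat_lit 2, nat_lit 3, nat_lit 0, nat_lit 7, nat_lit 2, nat_lit 0],
  [nat_lit 0, nat_lit 2, nat_lit 3, nat_lit 7, nat_lit 0, nat_lit 5, nat_lit 7, nat_lit 2, nat_lit 3, nat_lit 5, nat_lit 6, nat_lit 5, nat_lit 7, nat_lit 0, nat_lit 1, nat_lit 2, nat_lit 4, nat_lit 7, nat_lit 5],
  [nat_lit 5, nat_lit 7, nat_lit 0, nat_lit 2, nat_lit 7, nat_lit 5, nat_lit 6, nat_lit 3, nat_lit 5, nat_lit 7, nat_lit 2, nat_lit 0, nat_lit 7, nat_lit 5],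
  [nat_lit 4, nat_lit 7, nat_lit 2, nat_lit 5, nat_lit 7, nat_lit 0, nat_lit 4, nat_lit 6, nat_lit 7, nat_lit 5, nat_lit 6, nat_lit 3, nat_lit 2, nat_lit 7, nat_lit 5, nat_lit 6, nat_lit 3, nat_lit 7, nat_lit 2, nat_lit 0],
  [nat_lit 0, nat_lit 1, nat_lit 0, nat_lit 2, nat_lit 3, nat_lit 2, nat_lit 5, nat_lit 6, nat_lit 7, nat_lit 5, nat_lit 4, nat_lit 7, nat_lit 6, nat_lit 2, nat_lit 3, nat_lit 0, nat_lit 1],
  [nat_lit 2, nat_lit 4, nat_lit 7, nat_lit 0, nat_lit 6, nat_lit 5, nat_lit 7, nat_lit 3, nat_lit 4, nat_lit 6, nat_lit 7, nat_lit 5, nat_lit 6, nat_lit 0, nat_lit 7, nat_lit 4, nat_lit 2],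
  [nat_lit 5, nat_lit 7, nat_lit 0, nat_lit 6, nat_lit 5, nat_lit 7, nat_lit 6, nat_lit 4, nat_lit 7, nat_lit 5, nat_lit 6, nat_lit 0, nat_lit 7, nat_lit 5],
  [nat_lit 0, nat_lit 4, nat_lit 6, nat_lit 7, nat_lit 0, nat_lit 2, nat_lit 5, nat_lit 6, nat_lit 7, nat_lit 5, nat_lit 2, nat_lit 0, nat_lit 7, nat_lit 6, nat_lit 4, nat_lit 0, nat_lit 1],
  [nat_lit 0, nat_lit 2, nat_lit 3, nat_lit 5, nat_lit 6, nat_lit 7, nat_lit 3, nat_lit 4, nat_lit 7, nat_lit 5, nat_lit 3, nat_lit 2, nat_lit 0],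
  [nat_lit 0, nat_lit 1, nat_lit 3, nat_lit 7, nat_lit 0, nat_lit 5, nat_lit 3, nat_lit 2, nat_lit 6, nat_lit 7, nat_lit 5, nat_lit 0, nat_lit 1, nat_lit 7, nat_lit 6, nat_lit 2, nat_lit 3, nat_lit 5, nat_lit 0],
  [nat_lit 0, nat_lit 6, nat_lit 5, nat_lit 3, nat_lit 2, nat_lit 7, nat_lit 5, nat_lit 3, nat_lit 6, nat_lit 5, nat_lit 7, nat_lit 6, nat_lit 5, nat_lit 1, nat_lit 7, nat_lit 2, nat_lit 1, nat_lit 0],
  [nat_lit 2, nat_lit 7, nat_lit 0, nat_lit 2, nat_lit 1, nat_lit 3, nat_lit 5, nat_lit 6, nat_lit 7, nat_lit 5, nat_lit 6, nat_lit 2, nat_lit 7, nat_lit 5, nat_lit 6, nat_lit 2],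
  [nat_lit 0, nat_lit 5, nat_lit 3, nat_lit 2, nat_lit 7, nat_lit 0, nat_lit 5, nat_lit 3, nat_lit 6, nat_lit 7, nat_lit 5, nat_lit 6, nat_lit 2, nat_lit 7, nat_lit 5, nat_lit 6, nat_lit 0, nat_lit 7, nat_lit 4]]

theorem o8p2_x_0 : extOK T o8p2T o8p2_df (fun i => i) (nat_lit 0) (nat_lit 120) = true := by decide +kernel
theorem o8p2_ext : ∀ i < o8p2T.N, ExtP T o8p2T o8p2_df (fun i => i) i := rng_all (extOK_sound o8p2_x_0)

noncomputable def o8p2ch_0 : OL where
  b := nat_lit 0
  n := nat_lit 16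
  S := [[nat_lit 0],
  [nat_lit 1],
  [nat_lit 3]]
  O := ⟨nat_lit 0, nat_lit 4, nat_lit 7, nat_lit 127, nat_lit 0, nat_lit 0,
(.node (nat_lit 1588)
(.node (nat_lit 692)
(.leaf (nat_lit 0) (nat_lit 0x68100005de00084e2000443a00083e70004320000429d00002a100042180000238000819a000809f00040e6000405c1e000630000000))
(.node (nat_lit 832)
(.leaf (nat_lit 693) (nat_lit 0x500000000000007))
(.leaf (nat_lit 833) (nat_lit 0x8000000a000000400000000000009))))
(.node (nat_lit 2764)
(.node (nat_lit 2596)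
(.leaf (nat_lit 1589) (nat_lit 0xc00000000000006))
(.leaf (nat_lit 2597) (nat_lit 0xe00000000000002)))
(.node (nat_lit 2876)
(.leaf (nat_lit 2765) (nat_lit 0x1000000d))
(.leaf (nat_lit 2877) (nat_lit 0xb0000003)))))⟩

noncomputable def o8p2ch_1 : OL where
  b := nat_lit 1
  n := nat_lit 2
  S := [[nat_lit 2]]
  O := ⟨nat_lit 0, nat_lit 4, nat_lit 6, nat_lit 63, nat_lit 0, nat_lit 0,
(.node (nat_lit 1409)
(.leaf (nat_lit 0) (nat_lit 0x3a000001))
(.leaf (nat_lit 1410) (nat_lit 0x1)))⟩

noncomputable def o8p2ch_2 : OL where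
  b := nat_lit 2
  n := nat_lit 4
  S := [[nat_lit 3],
  [nat_lit 4]]
  O := ⟨nat_lit 0, nat_lit 4, nat_lit 6, nat_lit 63, nat_lit 0, nat_lit 0,
(.node (nat_lit 1457)
(.leaf (nat_lit 0) (nat_lit 0x8107c00100300003e000002))
(.leaf (nat_lit 1458) (nat_lit 0x1000000000003)))⟩

noncomputable def o8p2ch_3 : OL where
  b := nat_lit 4
  n := nat_lit 8
  S := [[nat_lit 11],
  [nat_lit 7, nat_lit 5],
  [nat_lit 9, nat_lit 10]]
  O := ⟨nat_lit 0, nat_lit 4, nat_lit 7, nat_lit 127, nat_lit 0, nat_lit 0,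
(.node (nat_lit 1812)
(.leaf (nat_lit 0) (nat_lit 0xc082060e0810702080c300040c00008042000404100000050000004))
(.leaf (nat_lit 1813) (nat_lit 0x5000000300000020000004)))⟩

noncomputable def o8p2ch_4 : OL where
  b := nat_lit 8
  n := nat_lit 4
  S := [[nat_lit 7, nat_lit 4, nat_lit 3],
  [nat_lit 11, nat_lit 10, nat_lit 8, nat_lit 6]]
  O := ⟨nat_lit 0, nat_lit 4, nat_lit 5, nat_lit 31, nat_lit 0, nat_lit 0,
(.node (nat_lit 174)
(.leaf (nat_lit 0) (nat_lit 0x42a004120001000008))
(.node (nat_lit 334)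
(.leaf (nat_lit 175) (nat_lit 0x30000000000))
(.leaf (nat_lit 335) (nat_lit 0x20000000001))))⟩

noncomputable def o8p2ch : List OL := [o8p2ch_0, o8p2ch_1, o8p2ch_2, o8p2ch_3, o8p2ch_4]

theorem o8p2_hE : allL (fun e => o8p2T.chk2 [nat_lit 24, nat_lit 9, nat_lit 2, nat_lit 0, nat_lit 4, nat_lit 8, nat_lit 1] e.1 e.2) o8p2.eqs = true := by decide +kernel
theorem o8p2_hc : chainOK o8p2T (nat_lit 4095) o8p2ch [] = true := by decide +kernel

noncomputable def o8p3_ru : RuT :=
(.node (nat_lit 77)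
(.node (nat_lit 50)
(.node (nat_lit 26)
(.node (nat_lit 12)
(.node (nat_lit 0)
(.leaf (nat_lit 0) (nat_lit 0) (nat_lit 0) [nat_lit 1])
(.node (nat_lit 1)
(.leaf (nat_lit 0) (nat_lit 1) (nat_lit 1) [])
(.leaf (nat_lit 1) (nat_lit 0) (nat_lit 2) [])))
(.node (nat_lit 24)
(.node (nat_lit 13)
(.leaf (nat_lit 1) (nat_lit 1) (nat_lit 3) [nat_lit 0])
(.leaf (nat_lit 2) (nat_lit 0) (nat_lit 4) [nat_lit 0, nat_lit 2, nat_lit 7]))
(.node (nat_lit 25)
(.leaf (nat_lit 2) (nat_lit 1) (nat_lit 5) [nat_lit 1, nat_lit 2, nat_lit 6, nat_lit 9])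
(.leaf (nat_lit 2) (nat_lit 2) (nat_lit 6) [nat_lit 3]))))
(.node (nat_lit 38)
(.node (nat_lit 36)
(.node (nat_lit 27)
(.leaf (nat_lit 2) (nat_lit 3) (nat_lit 7) [])
(.leaf (nat_lit 3) (nat_lit 0) (nat_lit 8) [nat_lit 0, nat_lit 3, nat_lit 6]))
(.node (nat_lit 37)
(.leaf (nat_lit 3) (nat_lit 1) (nat_lit 9) [nat_lit 1, nat_lit 3, nat_lit 7, nat_lit 8])
(.leaf (nat_lit 3) (nat_lit 2) (nat_lit 10) [])))
(.node (nat_lit 48)
(.node (nat_lit 39)
(.leaf (nat_lit 3) (nat_lit 3) (nat_lit 11) [nat_lit 2])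
(.leaf (nat_lit 4) (nat_lit 0) (nat_lit 12) [nat_lit 0, nat_lit 4]))
(.node (nat_lit 49)
(.leaf (nat_lit 4) (nat_lit 1) (nat_lit 13) [nat_lit 1, nat_lit 4])
(.leaf (nat_lit 4) (nat_lit 2) (nat_lit 14) [nat_lit 2, nat_lit 4])))))
(.node (nat_lit 63)
(.node (nat_lit 53)
(.node (nat_lit 51)
(.leaf (nat_lit 4) (nat_lit 3) (nat_lit 15) [nat_lit 3, nat_lit 4])
(.node (nat_lit 52)
(.leaf (nat_lit 4) (nat_lit 4) (nat_lit 16) [nat_lit 5])
(.leaf (nat_lit 4) (nat_lit 5) (nat_lit 17) [])))
(.node (nat_lit 61)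
(.node (nat_lit 60)
(.leaf (nat_lit 5) (nat_lit 0) (nat_lit 18) [nat_lit 0, nat_lit 5])
(.leaf (nat_lit 5) (nat_lit 1) (nat_lit 19) [nat_lit 1, nat_lit 5]))
(.node (nat_lit 62)
(.leaf (nat_lit 5) (nat_lit 2) (nat_lit 20) [nat_lit 2, nat_lit 5])
(.leaf (nat_lit 5) (nat_lit 3) (nat_lit 21) [nat_lit 3, nat_lit 5]))))
(.node (nat_lit 73)
(.node (nat_lit 65)
(.node (nat_lit 64)
(.leaf (nat_lit 5) (nat_lit 4) (nat_lit 22) [])
(.leaf (nat_lit 5) (nat_lit 5) (nat_lit 23) [nat_lit 4]))
(.node (nat_lit 72)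
(.leaf (nat_lit 6) (nat_lit 0) (nat_lit 24) [nat_lit 0, nat_lit 6, nat_lit 8])
(.leaf (nat_lit 6) (nat_lit 1) (nat_lit 25) [nat_lit 1, nat_lit 6, nat_lit 9])))
(.node (nat_lit 75)
(.node (nat_lit 74)
(.leaf (nat_lit 6) (nat_lit 2) (nat_lit 26) [nat_lit 2, nat_lit 6])
(.leaf (nat_lit 6) (nat_lit 3) (nat_lit 27) [nat_lit 3, nat_lit 6]))
(.node (nat_lit 76)
(.leaf (nat_lit 6) (nat_lit 4) (nat_lit 28) [nat_lit 4, nat_lit 6])
(.leaf (nat_lit 6) (nat_lit 5) (nat_lit 29) [nat_lit 5, nat_lit 6]))))))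
(.node (nat_lit 100)
(.node (nat_lit 88)
(.node (nat_lit 84)
(.node (nat_lit 78)
(.leaf (nat_lit 6) (nat_lit 6) (nat_lit 30) [nat_lit 7])
(.node (nat_lit 79)
(.leaf (nat_lit 6) (nat_lit 7) (nat_lit 31) [])
(.leaf (nat_lit 7) (nat_lit 0) (nat_lit 32) [nat_lit 0, nat_lit 7, nat_lit 9])))
(.node (nat_lit 86)
(.node (nat_lit 85)
(.leaf (nat_lit 7) (nat_lit 1) (nat_lit 33) [nat_lit 1, nat_lit 7, nat_lit 8])
(.leaf (nat_lit 7) (nat_lit 2) (nat_lit 34) [nat_lit 2, nat_lit 7]))
(.node (nat_lit 87)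
(.leaf (nat_lit 7) (nat_lit 3) (nat_lit 35) [nat_lit 3, nat_lit 7])
(.leaf (nat_lit 7) (nat_lit 4) (nat_lit 36) [nat_lit 4, nat_lit 7]))))
(.node (nat_lit 96)
(.node (nat_lit 90)
(.node (nat_lit 89)
(.leaf (nat_lit 7) (nat_lit 5) (nat_lit 37) [nat_lit 5, nat_lit 7])
(.leaf (nat_lit 7) (nat_lit 6) (nat_lit 38) []))
(.node (nat_lit 91)
(.leaf (nat_lit 7) (nat_lit 7) (nat_lit 39) [nat_lit 6])
(.leaf (nat_lit 8) (nat_lit 0) (nat_lit 40) [nat_lit 0, nat_lit 8])))
(.node (nat_lit 98)
(.node (nat_lit 97)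
(.leaf (nat_lit 8) (nat_lit 1) (nat_lit 41) [nat_lit 1, nat_lit 8])
(.leaf (nat_lit 8) (nat_lit 2) (nat_lit 42) [nat_lit 2, nat_lit 8]))
(.node (nat_lit 99)
(.leaf (nat_lit 8) (nat_lit 3) (nat_lit 43) [nat_lit 3, nat_lit 8])
(.leaf (nat_lit 8) (nat_lit 4) (nat_lit 44) [nat_lit 4, nat_lit 8])))))
(.node (nat_lit 109)
(.node (nat_lit 103)
(.node (nat_lit 101)
(.leaf (nat_lit 8) (nat_lit 5) (nat_lit 45) [nat_lit 5, nat_lit 8])
(.node (nat_lit 102)
(.leaf (nat_lit 8) (nat_lit 6) (nat_lit 46) [nat_lit 6, nat_lit 8])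
(.leaf (nat_lit 8) (nat_lit 7) (nat_lit 47) [nat_lit 7, nat_lit 8])))
(.node (nat_lit 105)
(.node (nat_lit 104)
(.leaf (nat_lit 8) (nat_lit 8) (nat_lit 48) [nat_lit 9])
(.leaf (nat_lit 8) (nat_lit 9) (nat_lit 49) []))
(.node (nat_lit 108)
(.leaf (nat_lit 9) (nat_lit 0) (nat_lit 50) [nat_lit 0, nat_lit 9])
(.leaf (nat_lit 9) (nat_lit 1) (nat_lit 51) [nat_lit 1, nat_lit 9]))))
(.node (nat_lit 113)
(.node (nat_lit 111)
(.node (nat_lit 110)
(.leaf (nat_lit 9) (nat_lit 2) (nat_lit 52) [nat_lit 2, nat_lit 9])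
(.leaf (nat_lit 9) (nat_lit 3) (nat_lit 53) [nat_lit 3, nat_lit 9]))
(.node (nat_lit 112)
(.leaf (nat_lit 9) (nat_lit 4) (nat_lit 54) [nat_lit 4, nat_lit 9])
(.leaf (nat_lit 9) (nat_lit 5) (nat_lit 55) [nat_lit 5, nat_lit 9])))
(.node (nat_lit 115)
(.node (nat_lit 114)
(.leaf (nat_lit 9) (nat_lit 6) (nat_lit 56) [nat_lit 6, nat_lit 9])
(.leaf (nat_lit 9) (nat_lit 7) (nat_lit 57) [nat_lit 7, nat_lit 9]))
(.node (nat_lit 116)
(.leaf (nat_lit 9) (nat_lit 8) (nat_lit 58) [])
(.leaf (nat_lit 9) (nat_lit 9) (nat_lit 59) [nat_lit 8])))))))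

def o8p3_E : List (List ℕ × List ℕ) :=
  [([nat_lit 0, nat_lit 0], [nat_lit 1]),
    ([nat_lit 0, nat_lit 1], []),
    ([nat_lit 1, nat_lit 0], []),
    ([nat_lit 1, nat_lit 1], [nat_lit 0]),
    ([nat_lit 2, nat_lit 0], [nat_lit 0, nat_lit 2, nat_lit 7]),
    ([nat_lit 2, nat_lit 1], [nat_lit 1, nat_lit 2, nat_lit 6, nat_lit 9]),
    ([nat_lit 2, nat_lit 2], [nat_lit 3]),
    ([nat_lit 2, nat_lit 3], []),
    ([nat_lit 3, nat_lit 0], [nat_lit 0, nat_lit 3, nat_lit 6]),
    ([nat_lit 3, nat_lit 1], [nat_lit 1, nat_lit 3, nat_lit 7, nat_lit 8]),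
    ([nat_lit 3, nat_lit 2], []),
    ([nat_lit 3, nat_lit 3], [nat_lit 2]),
    ([nat_lit 4, nat_lit 0], [nat_lit 0, nat_lit 4]),
    ([nat_lit 4, nat_lit 1], [nat_lit 1, nat_lit 4]),
    ([nat_lit 4, nat_lit 2], [nat_lit 2, nat_lit 4]),
    ([nat_lit 4, nat_lit 3], [nat_lit 3, nat_lit 4]),
    ([nat_lit 4, nat_lit 4], [nat_lit 5]),
    ([nat_lit 4, nat_lit 5], []),
    ([nat_lit 5, nat_lit 0], [nat_lit 0, nat_lit 5]),
    ([nat_lit 5, nat_lit 1], [nat_lit 1, nat_lit 5]),
    ([nat_lit 5, nat_lit 2], [nat_lit 2, nat_lit 5]),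
    ([nat_lit 5, nat_lit 3], [nat_lit 3, nat_lit 5]),
    ([nat_lit 5, nat_lit 4], []),
    ([nat_lit 5, nat_lit 5], [nat_lit 4]),
    ([nat_lit 6, nat_lit 0], [nat_lit 0, nat_lit 6, nat_lit 8]),
    ([nat_lit 6, nat_lit 1], [nat_lit 1, nat_lit 6, nat_lit 9]),
    ([nat_lit 6, nat_lit 2], [nat_lit 2, nat_lit 6]),
    ([nat_lit 6, nat_lit 3], [nat_lit 3, nat_lit 6]),
    ([nat_lit 6, nat_lit 4], [nat_lit 4, nat_lit 6]),
    ([nat_lit 6, nat_lit 5], [nat_lit 5, nat_lit 6]),
    ([nat_lit 6, nat_lit 6], [nat_lit 7]),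
    ([nat_lit 6, nat_lit 7], []),
    ([nat_lit 7, nat_lit 0], [nat_lit 0, nat_lit 7, nat_lit 9]),
    ([nat_lit 7, nat_lit 1], [nat_lit 1, nat_lit 7, nat_lit 8]),
    ([nat_lit 7, nat_lit 2], [nat_lit 2, nat_lit 7]),
    ([nat_lit 7, nat_lit 3], [nat_lit 3, nat_lit 7]),
    ([nat_lit 7, nat_lit 4], [nat_lit 4, nat_lit 7]),
    ([nat_lit 7, nat_lit 5], [nat_lit 5, nat_lit 7]),
    ([nat_lit 7, nat_lit 6], []),
    ([nat_lit 7, nat_lit 7], [nat_lit 6]),
    ([nat_lit 8, nat_lit 0], [nat_lit 0, nat_lit 8]),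
    ([nat_lit 8, nat_lit 1], [nat_lit 1, nat_lit 8]),
    ([nat_lit 8, nat_lit 2], [nat_lit 2, nat_lit 8]),
    ([nat_lit 8, nat_lit 3], [nat_lit 3, nat_lit 8]),
    ([nat_lit 8, nat_lit 4], [nat_lit 4, nat_lit 8]),
    ([nat_lit 8, nat_lit 5], [nat_lit 5, nat_lit 8]),
    ([nat_lit 8, nat_lit 6], [nat_lit 6, nat_lit 8]),
    ([nat_lit 8, nat_lit 7], [nat_lit 7, nat_lit 8]),
    ([nat_lit 8, nat_lit 8], [nat_lit 9]),
    ([nat_lit 8, nat_lit 9], []),
    ([nat_lit 9, nat_lit 0], [nat_lit 0, nat_lit 9]),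
    ([nat_lit 9, nat_lit 1], [nat_lit 1, nat_lit 9]),
    ([nat_lit 9, nat_lit 2], [nat_lit 2, nat_lit 9]),
    ([nat_lit 9, nat_lit 3], [nat_lit 3, nat_lit 9]),
    ([nat_lit 9, nat_lit 4], [nat_lit 4, nat_lit 9]),
    ([nat_lit 9, nat_lit 5], [nat_lit 5, nat_lit 9]),
    ([nat_lit 9, nat_lit 6], [nat_lit 6, nat_lit 9]),
    ([nat_lit 9, nat_lit 7], [nat_lit 7, nat_lit 9]),
    ([nat_lit 9, nat_lit 8], []),
    ([nat_lit 9, nat_lit 9], [nat_lit 8])]

def o8p3_A : List ℕ :=
  [nat_lit 1,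
    nat_lit 0,
    nat_lit 0,
    nat_lit 0x1000000000000000000000000000000000,
    nat_lit 0,
    nat_lit 0x10000000000000000000000000000000000000000000000000000000000000000000000000000000000000000,
    nat_lit 0x100000000000000000000000000000000000000000000,
    nat_lit 0x10000000000000000000000,
    nat_lit 0x40000000000000000000000000020000000000000000000000,
    nat_lit 0x200000000000000004000000000000000000000000000]

def o8p3_co : List ℕ :=
  [nat_lit 0,
    nat_lit 0x80000000082000002000000002082000080002082000082001080080002002081080081081002,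
    nat_lit 0x80000000082000002000000002082000080002082000082001080080002002081080081081001,
    nat_lit 0x80000000082000002000000002082000080002082000082001080080002002081080001081002,
    nat_lit 0,
    nat_lit 0,
    nat_lit 0,
    nat_lit 0x1002000000000000000000000001000000000000000001001000000000001000000000,
    nat_lit 0,
    nat_lit 0,
    nat_lit 0x1002000000000000000000000001000000000000000001001000000000001000000080,
    nat_lit 0x1002000000000000000000000001000000000000000001001000000000002000000000,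
    nat_lit 0x80000040000000000000000000000000001000000000000000000001000000000000000000,
    nat_lit 0x40000080000000000000000000000000002000000000000000000002001000000000000000,
    nat_lit 0x1081000000000002000082042041000042000080000082040002002002000000002000001040000,
    nat_lit 0x2042000000000001000041081082000081000040000041080001001001000040001000002080000,
    nat_lit 0,
    nat_lit 0x40000000001000001000000001041000040000041000041002040040000000042040002040000,
    nat_lit 0x40000080000000000000000000000000001000000000000000000002000000000000000000,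
    nat_lit 0x80000040000000000000000000000000002000000000000000000002000000000000000000,
    nat_lit 0x2042000000000001000041081082000081000000000041080001001001000000001000002080000,
    nat_lit 0x1081000000000002000082042041000042000000000082040002002002040000002000001040000,
    nat_lit 0x40000000001000001000000001041000040000041000041002040040000000042040002042000,
    nat_lit 0x40000000001000001000000001041000040000041000041002040040000000042080002040000,
    nat_lit 0x1001000000000080082002041040002001000040002040002002000000000001000000080000,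
    nat_lit 0x1000000000000000002042041040002001000040002040002002000000000002000000080000,
    nat_lit 0x2000000000000000000000000000000001000000000000000000000000000001000000080000,
    nat_lit 0x1000000000000000000000000000000002000000000000000000001000000002000000040000,
    nat_lit 0x80001000000000000000000000040000000000000000000000000000000000000000000,
    nat_lit 0x40002000000000000000000000080000000000000000000040000000000000000000000,
    nat_lit 0x2000000002000000000001000000000002000000000000000001000000000000000000000000,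
    nat_lit 0x1000000000000000000002000000000001000000000000000002000000000002000000080000,
    nat_lit 0x1000000002000040000002000000000001000000000000000002000000000000000000040000,
    nat_lit 0x1000000000000000080042041000002001000000002040002002000000000002000001040000,
    nat_lit 0x1000000000000000000000000000000001000000000000000000000000000002000000040000,
    nat_lit 0x2000000000000000000000000000000002000000000000000001000000000001000000080000,
    nat_lit 0x40002000000000000000000000040000000000000000000000000000000000000000000,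
    nat_lit 0x80001000000000000000000000080000000000000000040000000000000000000000000,
    nat_lit 0x1000000000000000000002000000000001000000000000000002000000000002000000040000,
    nat_lit 0x2000000001000000000001000000000002000000000000000001000000000000000000080000,
    nat_lit 0x2000002000080002000040040002000000040002080000000000000000002000002040000,
    nat_lit 0x1000001000040001000080080001000000080001040001000000000000001000001080000,
    nat_lit 0x2000082042041000082002000000082040002002002000000000000001000000,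
    nat_lit 0x1000041081082000041001000000041080041001001000000000000002000000,
    nat_lit 0x80000000000000000000000000000000000000000000000000000000000000000,
    nat_lit 0x40000000000000000000000000000000001000000000000000000000000000000,
    nat_lit 0x2000001000000000000000000000000000000000080000000000000000000000000000000,
    nat_lit 0x1000002000000000000000000000000000000000080000000000000000000000000000000,
    nat_lit 0x2002000001000001082041042040002002000040002000001001000000000001000001000000,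
    nat_lit 0x1001000002000000041082082080001001000080001000001002000000000002000000000000,
    nat_lit 0x1000001000040001000080080000000000080001040000000000000000001000001080000,
    nat_lit 0x2000002000080002000040040000000000040000080000000000000000002000002040000,
    nat_lit 0x1000041081082000001001000000041080001001001000000000000002000000,
    nat_lit 0x2000082042041000002002000000002040002002002000000000000001000000,
    nat_lit 0x40000000000000002000000000000000000000000000000000000000000000000,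
    nat_lit 0x80000000000000001000000000001000000000000000000000000000000000000,
    nat_lit 0x1000002000000000000000080000000000000000040000000000000000000000000000000,
    nat_lit 0x2000001000000000000000040000000000040000080000000000000000000000000000000,
    nat_lit 0x1001000002000000041082082080001001000080001000001002000000000002000002000000,
    nat_lit 0x2002000001000002082041040040002002000040002000000001000000000041000002000000]

noncomputable def o8p3 : PCD where
  G := nat_lit 12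
  w := nat_lit 22
  k := nat_lit 69
  n := nat_lit 3
  fuel := nat_lit 40
  o := nat_lit 0x100000400001000004000010000040000100000400001000004000010000040000100000400001000004000010000040000100000400001000004000010000040000100000400001000004000010000040000100000400001000004000010000040000100000400001000004000010000040000100000400001000004000010000040000100000400001000004000010000040000100000400001000004000010000040000100000400001000004000010000040000100000400001
  c0 := nat_lit 277205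
  cq := nat_lit 524287
  cA := nat_lit 3
  Lm := nat_lit 4
  np := nat_lit 60
  rules := o8p3_ru
  E := o8p3_E
  C := [(nat_lit 10, [nat_lit 0], [nat_lit 1, nat_lit 4]),
    (nat_lit 10, [nat_lit 2], [nat_lit 2, nat_lit 7]),
    (nat_lit 10, [nat_lit 4], [nat_lit 4]),
    (nat_lit 10, [nat_lit 6], [nat_lit 7]),
    (nat_lit 10, [nat_lit 8], [nat_lit 8]),
    (nat_lit 11, [nat_lit 2], [nat_lit 2]),
    (nat_lit 11, [nat_lit 4], [nat_lit 3, nat_lit 4, nat_lit 9]),
    (nat_lit 11, [nat_lit 6], [nat_lit 3, nat_lit 7]),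
    (nat_lit 11, [nat_lit 8], [nat_lit 5, nat_lit 7, nat_lit 9])]
  RA := [([nat_lit 0], [nat_lit 1, nat_lit 0]),
    ([nat_lit 2], [nat_lit 3, nat_lit 2]),
    ([nat_lit 4], [nat_lit 5, nat_lit 4]),
    ([nat_lit 6], [nat_lit 7, nat_lit 6]),
    ([nat_lit 8], [nat_lit 9, nat_lit 8]),
    ([nat_lit 0], [nat_lit 0, nat_lit 1]),
    ([nat_lit 2], [nat_lit 2, nat_lit 3]),
    ([nat_lit 4], [nat_lit 4, nat_lit 5]),
    ([nat_lit 6], [nat_lit 6, nat_lit 7]),
    ([nat_lit 8], [nat_lit 8, nat_lit 9]),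
    ([nat_lit 4], [nat_lit 0, nat_lit 1]),
    ([nat_lit 4], [nat_lit 2, nat_lit 3]),
    ([nat_lit 5], [nat_lit 0, nat_lit 1]),
    ([nat_lit 5], [nat_lit 2, nat_lit 3]),
    ([nat_lit 6], [nat_lit 2, nat_lit 3]),
    ([nat_lit 6], [nat_lit 4, nat_lit 5]),
    ([nat_lit 7], [nat_lit 2, nat_lit 3]),
    ([nat_lit 7], [nat_lit 4, nat_lit 5]),
    ([nat_lit 8], [nat_lit 0, nat_lit 1]),
    ([nat_lit 8], [nat_lit 2, nat_lit 3]),
    ([nat_lit 8], [nat_lit 4, nat_lit 5]),
    ([nat_lit 8], [nat_lit 6, nat_lit 7]),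
    ([nat_lit 9], [nat_lit 0, nat_lit 1]),
    ([nat_lit 9], [nat_lit 2, nat_lit 3]),
    ([nat_lit 9], [nat_lit 4, nat_lit 5]),
    ([nat_lit 9], [nat_lit 6, nat_lit 7]),
    ([nat_lit 4], [nat_lit 5, nat_lit 0]),
    ([nat_lit 4], [nat_lit 5, nat_lit 2]),
    ([nat_lit 6], [nat_lit 7, nat_lit 2]),
    ([nat_lit 6], [nat_lit 7, nat_lit 4]),
    ([nat_lit 8], [nat_lit 9, nat_lit 0]),
    ([nat_lit 8], [nat_lit 9, nat_lit 2]),
    ([nat_lit 8], [nat_lit 9, nat_lit 4]),
    ([nat_lit 8], [nat_lit 9, nat_lit 6]),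
    ([nat_lit 6], [nat_lit 0, nat_lit 1]),
    ([nat_lit 7], [nat_lit 0, nat_lit 1]),
    ([nat_lit 2], [nat_lit 3, nat_lit 0]),
    ([nat_lit 6], [nat_lit 7, nat_lit 0]),
    ([nat_lit 2], [nat_lit 0, nat_lit 1]),
    ([nat_lit 3], [nat_lit 0, nat_lit 1]),
    ([nat_lit 6], [nat_lit 0, nat_lit 0]),
    ([nat_lit 2], [nat_lit 0, nat_lit 0]),
    ([nat_lit 2], [nat_lit 3, nat_lit 1]),
    ([nat_lit 6], [nat_lit 4, nat_lit 0])]
  RB := [(nat_lit 10, [nat_lit 3, nat_lit 3, nat_lit 3]),
    (nat_lit 10, [nat_lit 0, nat_lit 0, nat_lit 0]),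
    (nat_lit 11, [nat_lit 7, nat_lit 7, nat_lit 7]),
    (nat_lit 10, [nat_lit 2, nat_lit 2, nat_lit 3, nat_lit 2, nat_lit 3, nat_lit 3]),
    (nat_lit 10, [nat_lit 3, nat_lit 3, nat_lit 4, nat_lit 3, nat_lit 4, nat_lit 4]),
    (nat_lit 10, [nat_lit 0, nat_lit 0, nat_lit 2, nat_lit 0, nat_lit 2, nat_lit 2]),
    (nat_lit 10, [nat_lit 1, nat_lit 1, nat_lit 3, nat_lit 1, nat_lit 3, nat_lit 3]),
    (nat_lit 11, [nat_lit 8, nat_lit 8, nat_lit 8]),
    (nat_lit 11, [nat_lit 5, nat_lit 5, nat_lit 8, nat_lit 5, nat_lit 8, nat_lit 8]),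
    (nat_lit 10, [nat_lit 0, nat_lit 0, nat_lit 3, nat_lit 0, nat_lit 3, nat_lit 3, nat_lit 4, nat_lit 4]),
    (nat_lit 10, [nat_lit 0, nat_lit 0, nat_lit 1, nat_lit 0, nat_lit 1, nat_lit 1, nat_lit 3])]
  A := o8p3_A
  β := []
  co := o8p3_co
  lay := [(nat_lit 1020, [nat_lit 0, nat_lit 1]),
    (nat_lit 1008, [nat_lit 2, nat_lit 3]),
    (nat_lit 960, [nat_lit 4, nat_lit 5]),
    (nat_lit 768, [nat_lit 6, nat_lit 7]),
    (nat_lit 0, [nat_lit 8, nat_lit 9])]

theorem o8p3_1 : o8p3.ok1 (nat_lit 1023) = true := by decide +kernel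
theorem o8p3_2 : o8p3.ok2 = true := by decide +kernel

noncomputable def o8p3T_tbl : NT :=
(.node (nat_lit 4087)
(.node (nat_lit 2043)
(.leaf (nat_lit 0) (nat_lit 0x97a4528895afeea41a8cdbdcb4e6bc83333ee885503ec7761547d8a1cbd69cf6674449272155e8144452e37c7cfd22c580e60c9938b39201a178838ac9e40e0e311060f8a3ce89c0891160a22f3a51c12c35250c910612940ebb5d94624d432b279408686419664948712b23a9ed0c32bb225d6e98571bd74a08eb92484a241c2721800013d47858b04441f3519ad2ed67e816c9dd418c7a263b773048998ef1b98e39be07536914566e49544de44a65da0b81848eed3c9d4ab2f4a03a50dc92298f02850a161bc86f1e43a33f2e4408613ecf6b90c1fa8f2427cc1836abf98b2565fc56d5c102222dfc5c20f9ea4800081b7889a4ba4c98b02900007f1cf6a))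
(.leaf (nat_lit 2044) (nat_lit 0x83d1676a9758b759c38469c717af06d48c4105855a9e77ab3cb4cd8d7825ce873a16add0e5da5b1bd3d471a7b301e67bec00b0329dc6b6f13621c23492af14de6dbec75bbb6be751586bfb37f2a380842aeca89bbdb5a6e6e18c0a2db6a2c255ae99ed2739a1771a4d6fcaf9ba5b65f5738f1bd4a952a57b8d6bb83cc19e0005224b31809334c5142674cee59fd55b84c861232ddcfe4d740312e274ab108833d8ccfb019d8bbad0421335a85626f4e59df1d15af222625a048ac0520317a8f1eafc3500dddcfbe5d3f2a32acf68794462625f38e1ce75634e7e6145155bd35f10ac6aeb6e296c57baf60df353e784ae4b01d2d3dd583d0e0cd3590d1f2ae61)))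
(.node (nat_lit 6131)
(.leaf (nat_lit 4088) (nat_lit 0x2b825071b747128240fc0a872711c51a3c700ff17090bd7f08f8a346496671c315c13faad62c59c4c13f4f1f11ce046244d4d979176161c3870de0578142bc80551a2cd9df04b08149067b070ce8c1c0721232f15f777eda251d0669b241f60d6282b765fbf8e02282294ce9fb560242439b7ca5a952e37af5ebdc69744c130de3c78f02c30b0e1857ae44cc9825dbb13312adb2679719a20340dca8764873342dd0b5cb95ba04e3cea8910d2b03c194391abe033008e49b62a0ca1831936edd5ae09b3689a9b36320abd98b55ab55e0ecd707d26a6c1c7728d902e507540b66a68d7753a56fd6c898698ec1fa69b95ad512ef9095c943beb2c7dbb05ca4cc9))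
(.node (nat_lit 8175)
(.leaf (nat_lit 6132) (nat_lit 0x1bd0b6e3904437e2d0d5e5344ca19d87717d8a4da629c6b33d41ca2adaa301ae45eed8a7c47f69034ca76152c5eee5fa4b9233098acca8341b56ab6b2feddbc406ddb52cd70ab0f9066099e8b22115ad77f6ecd98c92bb5688e7eb7d690e7410af5d64fecb504dabd7e079ad914a30e94e486cb65719df70d9b5b6b16ad539cead5cb0162721847c9bac29d23793be746ce7955d96954044b61a0c5ca08da9aa53aa34da82902697c0a595adb690756390b0a45ada5cde8b5d83ab8ad3ea8ca0f97108c738be74e2714e46032d33410e8bd135bfa204ab5d8912ee64c7625ee87dbae74323ab0dd263aa6b4203c8303c6101ce1f6f62198191972a0f4fd8a88))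
(.leaf (nat_lit 8176) (nat_lit 0xc133d3445b5b1159362c3fcae8f0ec982c929f5aa9a2a8202b959ae473d34beb7e5dc61074b2c23504d1c7b501064f9f3aa705836d278ba4cdd4ef2f786048ac1d7269815edbe520e5b91a32f23138703d5e3e2c43f6c036ab9299a6a53e8da4bdf34ad43454eb09623da06f517b8ab4d4839d6a40d52537d53780d1677a50ac4f3e298f7a089576ec900f33c2f56a6d1001e426eb6158e1974312f3170aed6b95ae746872b663dc1969f7859ac21b410d27bfd5996cf0ad207c84be957af204ea5519da6bb8c16f60265a0c511fee29d0ed0f5ea5c78f1e34af5c89e938e448d1f162036f84747474d6a840c5c)))))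

noncomputable def o8p3T : PT where
  N := nat_lit 120
  G := nat_lit 12
  W := nat_lit 7
  mask := nat_lit 127
  sb := nat_lit 0
  sm := nat_lit 0
  tbl := o8p3T_tbl

def o8p3_df : List (List ℕ) :=
  [[nat_lit 7, nat_lit 0, nat_lit 4, nat_lit 5, nat_lit 3, nat_lit 7, nat_lit 6, nat_lit 5, nat_lit 7, nat_lit 6, nat_lit 2, nat_lit 0, nat_lit 7, nat_lit 5, nat_lit 6, nat_lit 7, nat_lit 6],
  [nat_lit 6, nat_lit 7, nat_lit 6, nat_lit 5, nat_lit 7, nat_lit 0, nat_lit 2, nat_lit 6, nat_lit 7, nat_lit 5, nat_lit 6, nat_lit 7, nat_lit 3, nat_lit 5, nat_lit 4, nat_lit 0, nat_lit 7],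
  [nat_lit 5, nat_lit 7, nat_lit 4, nat_lit 6, nat_lit 5, nat_lit 3, nat_lit 7, nat_lit 2, nat_lit 5, nat_lit 0, nat_lit 7, nat_lit 5, nat_lit 6, nat_lit 2, nat_lit 7, nat_lit 5, nat_lit 1, nat_lit 0],
  [nat_lit 0, nat_lit 1, nat_lit 5, nat_lit 7, nat_lit 6, nat_lit 5, nat_lit 3, nat_lit 2, nat_lit 7, nat_lit 5, nat_lit 6, nat_lit 4, nat_lit 3, nat_lit 0, nat_lit 7, nat_lit 5, nat_lit 2, nat_lit 1],
  [nat_lit 5, nat_lit 7, nat_lit 1, nat_lit 0, nat_lit 7, nat_lit 5],
  [nat_lit 5, nat_lit 7, nat_lit 0, nat_lit 1, nat_lit 7, nat_lit 5],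
  [nat_lit 0, nat_lit 2, nat_lit 5, nat_lit 7, nat_lit 6, nat_lit 5, nat_lit 7, nat_lit 6, nat_lit 4, nat_lit 0, nat_lit 7, nat_lit 5, nat_lit 4, nat_lit 2],
  [nat_lit 2, nat_lit 4, nat_lit 5, nat_lit 7, nat_lit 0, nat_lit 4, nat_lit 6, nat_lit 7, nat_lit 5, nat_lit 6, nat_lit 7, nat_lit 5, nat_lit 2, nat_lit 0],
  [nat_lit 0, nat_lit 2, nat_lit 5, nat_lit 7, nat_lit 3, nat_lit 6, nat_lit 5, nat_lit 7, nat_lit 2, nat_lit 3, nat_lit 5, nat_lit 6, nat_lit 4, nat_lit 0, nat_lit 7, nat_lit 5, nat_lit 2, nat_lit 1],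
  [nat_lit 5, nat_lit 7, nat_lit 2, nat_lit 6, nat_lit 5, nat_lit 7, nat_lit 0, nat_lit 3, nat_lit 4, nat_lit 7, nat_lit 5, nat_lit 6, nat_lit 1, nat_lit 0, nat_lit 7, nat_lit 5, nat_lit 2, nat_lit 0],
  [nat_lit 5, nat_lit 6, nat_lit 7, nat_lit 5, nat_lit 3, nat_lit 6, nat_lit 5, nat_lit 3, nat_lit 2, nat_lit 7, nat_lit 0, nat_lit 1, nat_lit 2, nat_lit 7, nat_lit 5, nat_lit 6, nat_lit 7, nat_lit 5, nat_lit 3],
  [nat_lit 1, nat_lit 2, nat_lit 5, nat_lit 7, nat_lit 0, nat_lit 6, nat_lit 7, nat_lit 5, nat_lit 6, nat_lit 3, nat_lit 7, nat_lit 2, nat_lit 3, nat_lit 5, nat_lit 7, nat_lit 6, nat_lit 5, nat_lit 3]]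

theorem o8p3_x_0 : extOK T o8p3T o8p3_df (fun i => i) (nat_lit 0) (nat_lit 120) = true := by decide +kernel
theorem o8p3_ext : ∀ i < o8p3T.N, ExtP T o8p3T o8p3_df (fun i => i) i := rng_all (extOK_sound o8p3_x_0)

noncomputable def o8p3ch_0 : OL where
  b := nat_lit 0
  n := nat_lit 27
  S := [[nat_lit 0],
  [nat_lit 2]]
  O := ⟨nat_lit 0, nat_lit 4, nat_lit 7, nat_lit 127, nat_lit 0, nat_lit 0,
(.node (nat_lit 1924)
(.node (nat_lit 1336)
(.node (nat_lit 804)
(.leaf (nat_lit 0) (nat_lit 0x4cd50004a9c0004a4e00049c6000488300008730004793280472400046810e04635000458b00005c5000055900044db00003af200030200042d700002e200042360000211000413f000017000040c42c0009e1604047240006a0000000))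
(.node (nat_lit 1028)
(.leaf (nat_lit 805) (nat_lit 0x300000000000019))
(.leaf (nat_lit 1029) (nat_lit 0x13))))
(.node (nat_lit 1504)
(.leaf (nat_lit 1337) (nat_lit 0xc))
(.node (nat_lit 1784)
(.leaf (nat_lit 1505) (nat_lit 0x80000011))
(.leaf (nat_lit 1785) (nat_lit 0x6)))))
(.node (nat_lit 2764)
(.node (nat_lit 2204)
(.leaf (nat_lit 1925) (nat_lit 0x20000017000000f0000004))
(.node (nat_lit 2400)
(.leaf (nat_lit 2205) (nat_lit 0x18))
(.leaf (nat_lit 2401) (nat_lit 0xd0000000000000e0000000000000a0000000000001a))))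
(.node (nat_lit 3156)
(.node (nat_lit 2988)
(.leaf (nat_lit 2765) (nat_lit 0x9))
(.leaf (nat_lit 2989) (nat_lit 0x1)))
(.node (nat_lit 3240)
(.leaf (nat_lit 3157) (nat_lit 0x5))
(.leaf (nat_lit 3241) (nat_lit 0x15))))))⟩

noncomputable def o8p3ch_1 : OL where
  b := nat_lit 4
  n := nat_lit 9
  S := [[nat_lit 4],
  [nat_lit 0, nat_lit 7, nat_lit 0]]
  O := ⟨nat_lit 0, nat_lit 4, nat_lit 7, nat_lit 127, nat_lit 0, nat_lit 0,
(.node (nat_lit 1476)
(.node (nat_lit 1252)
(.node (nat_lit 1140)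
(.leaf (nat_lit 0) (nat_lit 0x432c000427600041ee000413000040a800000c20004034000003e0000004))
(.leaf (nat_lit 1141) (nat_lit 0x4)))
(.node (nat_lit 1364)
(.leaf (nat_lit 1253) (nat_lit 0x8))
(.leaf (nat_lit 1365) (nat_lit 0x5))))
(.node (nat_lit 1868)
(.node (nat_lit 1756)
(.leaf (nat_lit 1477) (nat_lit 0x2))
(.leaf (nat_lit 1757) (nat_lit 0x1)))
(.node (nat_lit 3100)
(.leaf (nat_lit 1869) (nat_lit 0x3))
(.node (nat_lit 3324)
(.leaf (nat_lit 3101) (nat_lit 0x6))
(.leaf (nat_lit 3325) (nat_lit 0x7))))))⟩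

noncomputable def o8p3ch : List OL := [o8p3ch_0, o8p3ch_1]

theorem o8p3_hE : allL (fun e => o8p3T.chk2 [nat_lit 24, nat_lit 9, nat_lit 2, nat_lit 0, nat_lit 4, nat_lit 8, nat_lit 1] e.1 e.2) o8p3.eqs = true := by decide +kernel
theorem o8p3_hc : chainOK o8p3T (nat_lit 1023) o8p3ch [] = true := by decide +kernel

noncomputable def o8p5_ru : RuT :=
(.node (nat_lit 43)
(.node (nat_lit 21)
(.node (nat_lit 10)
(.node (nat_lit 2)
(.node (nat_lit 0)
(.leaf (nat_lit 0) (nat_lit 0) (nat_lit 0) [nat_lit 1])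
(.node (nat_lit 1)
(.leaf (nat_lit 0) (nat_lit 1) (nat_lit 1) [nat_lit 2])
(.leaf (nat_lit 0) (nat_lit 2) (nat_lit 2) [nat_lit 3])))
(.node (nat_lit 3)
(.leaf (nat_lit 0) (nat_lit 3) (nat_lit 3) [])
(.node (nat_lit 9)
(.leaf (nat_lit 1) (nat_lit 0) (nat_lit 4) [nat_lit 2])
(.leaf (nat_lit 1) (nat_lit 1) (nat_lit 5) [nat_lit 3]))))
(.node (nat_lit 18)
(.node (nat_lit 11)
(.leaf (nat_lit 1) (nat_lit 2) (nat_lit 6) [])
(.node (nat_lit 12)
(.leaf (nat_lit 1) (nat_lit 3) (nat_lit 7) [nat_lit 0])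
(.leaf (nat_lit 2) (nat_lit 0) (nat_lit 8) [nat_lit 3])))
(.node (nat_lit 19)
(.leaf (nat_lit 2) (nat_lit 1) (nat_lit 9) [])
(.node (nat_lit 20)
(.leaf (nat_lit 2) (nat_lit 2) (nat_lit 10) [nat_lit 0])
(.leaf (nat_lit 2) (nat_lit 3) (nat_lit 11) [nat_lit 1])))))
(.node (nat_lit 37)
(.node (nat_lit 29)
(.node (nat_lit 27)
(.leaf (nat_lit 3) (nat_lit 0) (nat_lit 12) [])
(.node (nat_lit 28)
(.leaf (nat_lit 3) (nat_lit 1) (nat_lit 13) [nat_lit 0])
(.leaf (nat_lit 3) (nat_lit 2) (nat_lit 14) [nat_lit 1])))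
(.node (nat_lit 30)
(.leaf (nat_lit 3) (nat_lit 3) (nat_lit 15) [nat_lit 2])
(.node (nat_lit 36)
(.leaf (nat_lit 4) (nat_lit 0) (nat_lit 16) [nat_lit 0, nat_lit 4])
(.leaf (nat_lit 4) (nat_lit 1) (nat_lit 17) [nat_lit 1, nat_lit 4]))))
(.node (nat_lit 40)
(.node (nat_lit 38)
(.leaf (nat_lit 4) (nat_lit 2) (nat_lit 18) [nat_lit 2, nat_lit 4])
(.node (nat_lit 39)
(.leaf (nat_lit 4) (nat_lit 3) (nat_lit 19) [nat_lit 3, nat_lit 4])
(.leaf (nat_lit 4) (nat_lit 4) (nat_lit 20) [nat_lit 5])))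
(.node (nat_lit 41)
(.leaf (nat_lit 4) (nat_lit 5) (nat_lit 21) [nat_lit 6])
(.node (nat_lit 42)
(.leaf (nat_lit 4) (nat_lit 6) (nat_lit 22) [nat_lit 7])
(.leaf (nat_lit 4) (nat_lit 7) (nat_lit 23) []))))))
(.node (nat_lit 57)
(.node (nat_lit 50)
(.node (nat_lit 47)
(.node (nat_lit 45)
(.leaf (nat_lit 5) (nat_lit 0) (nat_lit 24) [nat_lit 0, nat_lit 5])
(.node (nat_lit 46)
(.leaf (nat_lit 5) (nat_lit 1) (nat_lit 25) [nat_lit 1, nat_lit 5])
(.leaf (nat_lit 5) (nat_lit 2) (nat_lit 26) [nat_lit 2, nat_lit 5])))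
(.node (nat_lit 48)
(.leaf (nat_lit 5) (nat_lit 3) (nat_lit 27) [nat_lit 3, nat_lit 5])
(.node (nat_lit 49)
(.leaf (nat_lit 5) (nat_lit 4) (nat_lit 28) [nat_lit 6])
(.leaf (nat_lit 5) (nat_lit 5) (nat_lit 29) [nat_lit 7]))))
(.node (nat_lit 54)
(.node (nat_lit 51)
(.leaf (nat_lit 5) (nat_lit 6) (nat_lit 30) [])
(.node (nat_lit 52)
(.leaf (nat_lit 5) (nat_lit 7) (nat_lit 31) [nat_lit 4])
(.leaf (nat_lit 6) (nat_lit 0) (nat_lit 32) [nat_lit 0, nat_lit 6])))
(.node (nat_lit 55)
(.leaf (nat_lit 6) (nat_lit 1) (nat_lit 33) [nat_lit 1, nat_lit 6])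
(.node (nat_lit 56)
(.leaf (nat_lit 6) (nat_lit 2) (nat_lit 34) [nat_lit 2, nat_lit 6])
(.leaf (nat_lit 6) (nat_lit 3) (nat_lit 35) [nat_lit 3, nat_lit 6])))))
(.node (nat_lit 64)
(.node (nat_lit 60)
(.node (nat_lit 58)
(.leaf (nat_lit 6) (nat_lit 4) (nat_lit 36) [nat_lit 7])
(.node (nat_lit 59)
(.leaf (nat_lit 6) (nat_lit 5) (nat_lit 37) [])
(.leaf (nat_lit 6) (nat_lit 6) (nat_lit 38) [nat_lit 4])))
(.node (nat_lit 61)
(.leaf (nat_lit 6) (nat_lit 7) (nat_lit 39) [nat_lit 5])
(.node (nat_lit 63)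
(.leaf (nat_lit 7) (nat_lit 0) (nat_lit 40) [nat_lit 0, nat_lit 7])
(.leaf (nat_lit 7) (nat_lit 1) (nat_lit 41) [nat_lit 1, nat_lit 7]))))
(.node (nat_lit 67)
(.node (nat_lit 65)
(.leaf (nat_lit 7) (nat_lit 2) (nat_lit 42) [nat_lit 2, nat_lit 7])
(.node (nat_lit 66)
(.leaf (nat_lit 7) (nat_lit 3) (nat_lit 43) [nat_lit 3, nat_lit 7])
(.leaf (nat_lit 7) (nat_lit 4) (nat_lit 44) [])))
(.node (nat_lit 68)
(.leaf (nat_lit 7) (nat_lit 5) (nat_lit 45) [nat_lit 4])
(.node (nat_lit 69)
(.leaf (nat_lit 7) (nat_lit 6) (nat_lit 46) [nat_lit 5])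
(.leaf (nat_lit 7) (nat_lit 7) (nat_lit 47) [nat_lit 6])))))))

def o8p5_E : List (List ℕ × List ℕ) :=
  [([nat_lit 0, nat_lit 0], [nat_lit 1]),
    ([nat_lit 0, nat_lit 1], [nat_lit 2]),
    ([nat_lit 0, nat_lit 2], [nat_lit 3]),
    ([nat_lit 0, nat_lit 3], []),
    ([nat_lit 1, nat_lit 0], [nat_lit 2]),
    ([nat_lit 1, nat_lit 1], [nat_lit 3]),
    ([nat_lit 1, nat_lit 2], []),
    ([nat_lit 1, nat_lit 3], [nat_lit 0]),
    ([nat_lit 2, nat_lit 0], [nat_lit 3]),
    ([nat_lit 2, nat_lit 1], []),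
    ([nat_lit 2, nat_lit 2], [nat_lit 0]),
    ([nat_lit 2, nat_lit 3], [nat_lit 1]),
    ([nat_lit 3, nat_lit 0], []),
    ([nat_lit 3, nat_lit 1], [nat_lit 0]),
    ([nat_lit 3, nat_lit 2], [nat_lit 1]),
    ([nat_lit 3, nat_lit 3], [nat_lit 2]),
    ([nat_lit 4, nat_lit 0], [nat_lit 0, nat_lit 4]),
    ([nat_lit 4, nat_lit 1], [nat_lit 1, nat_lit 4]),
    ([nat_lit 4, nat_lit 2], [nat_lit 2, nat_lit 4]),
    ([nat_lit 4, nat_lit 3], [nat_lit 3, nat_lit 4]),
    ([nat_lit 4, nat_lit 4], [nat_lit 5]),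
    ([nat_lit 4, nat_lit 5], [nat_lit 6]),
    ([nat_lit 4, nat_lit 6], [nat_lit 7]),
    ([nat_lit 4, nat_lit 7], []),
    ([nat_lit 5, nat_lit 0], [nat_lit 0, nat_lit 5]),
    ([nat_lit 5, nat_lit 1], [nat_lit 1, nat_lit 5]),
    ([nat_lit 5, nat_lit 2], [nat_lit 2, nat_lit 5]),
    ([nat_lit 5, nat_lit 3], [nat_lit 3, nat_lit 5]),
    ([nat_lit 5, nat_lit 4], [nat_lit 6]),
    ([nat_lit 5, nat_lit 5], [nat_lit 7]),
    ([nat_lit 5, nat_lit 6], []),
    ([nat_lit 5, nat_lit 7], [nat_lit 4]),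
    ([nat_lit 6, nat_lit 0], [nat_lit 0, nat_lit 6]),
    ([nat_lit 6, nat_lit 1], [nat_lit 1, nat_lit 6]),
    ([nat_lit 6, nat_lit 2], [nat_lit 2, nat_lit 6]),
    ([nat_lit 6, nat_lit 3], [nat_lit 3, nat_lit 6]),
    ([nat_lit 6, nat_lit 4], [nat_lit 7]),
    ([nat_lit 6, nat_lit 5], []),
    ([nat_lit 6, nat_lit 6], [nat_lit 4]),
    ([nat_lit 6, nat_lit 7], [nat_lit 5]),
    ([nat_lit 7, nat_lit 0], [nat_lit 0, nat_lit 7]),
    ([nat_lit 7, nat_lit 1], [nat_lit 1, nat_lit 7]),
    ([nat_lit 7, nat_lit 2], [nat_lit 2, nat_lit 7]),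
    ([nat_lit 7, nat_lit 3], [nat_lit 3, nat_lit 7]),
    ([nat_lit 7, nat_lit 4], []),
    ([nat_lit 7, nat_lit 5], [nat_lit 4]),
    ([nat_lit 7, nat_lit 6], [nat_lit 5]),
    ([nat_lit 7, nat_lit 7], [nat_lit 6])]

def o8p5_A : List ℕ :=
  [nat_lit 0x40000200001,
    nat_lit 0x80000400003,
    nat_lit 0xc0000800004,
    nat_lit 0,
    nat_lit 0x40000200001000000000000000000000000000000000000000000000000000000000000000000000000000000000000000000000000000000000,
    nat_lit 0x80000400003000000000000000000000000000000000000000000000000000000000000000000000000000000000000000000000000000000000,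
    nat_lit 0xc0000800004000000000000000000000000000000000000000000000000000000000000000000000000000000000000000000000000000000000,
    nat_lit 0]

def o8p5_co : List ℕ :=
  [nat_lit 0,
    nat_lit 0,
    nat_lit 0,
    nat_lit 0x800000000000000000000000000000c2084000000000002000080000004,
    nat_lit 0x40000000000000000000000000040,
    nat_lit 0x101000000000000000000000100,
    nat_lit 0x800000000000000000000000000000c2080000000000002000080000004,
    nat_lit 0x800000000000000000000000000000c2084000000000002000081000004,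
    nat_lit 0x4000000000000000000000000004,
    nat_lit 0x800000000000000000000000000000c2080000000000002000080000104,
    nat_lit 0x800000000000000000000000000000c20800000000000020000c0000004,
    nat_lit 0x80000000000000000000000000000082084000000000002040080000104,
    nat_lit 0x800000000000000000000000000000c2084000000000002000080000003,
    nat_lit 0x800000000000000000000000000000c2080000000000002001080000104,
    nat_lit 0x800000000000000000000000000000c20c4000000000003000080000044,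
    nat_lit 0x800000000000000000000000000000c3084000000000042000080000000,
    nat_lit 0xc20810800c00000000c0000000000000000000000000000000000000000000,
    nat_lit 0x44102104040000000040000000000000000000000000000000000000000000,
    nat_lit 0x101043041100000000100000040000000000000000000000000000000000000,
    nat_lit 0x830c40c0080000000080000001000000000000000000000000000000000000,
    nat_lit 0,
    nat_lit 0,
    nat_lit 0,
    nat_lit 0x20000000000000000000000000c2084000000002000080000000000004000,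
    nat_lit 0x44103100040000000040000000000000000000000000000000000000000000,
    nat_lit 0x830c1080080000000080000000000000000000000000000000000000000000,
    nat_lit 0xc20840c00c00000000c0040000000000000000000000000000000000000000,
    nat_lit 0x101042040100000000100001000000000000000000000000000000000000000,
    nat_lit 0x40000000000000000000000000000040000,
    nat_lit 0x101000000000000000000000000100000,
    nat_lit 0x20000000000000000000000000c2080000000002000080000000000004000,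
    nat_lit 0x20000000000000000000000000c2084000000002000081000000000004000,
    nat_lit 0x101042040104000000100000000000000000000000000000000000000000000,
    nat_lit 0xc20840c00800000000c0000000000000000000000000000000000000000000,
    nat_lit 0x830c10800c00000000c0000000000000000000000000000000000000000000,
    nat_lit 0x44103100041000000041000000000000000000000000000000000000000000,
    nat_lit 0x4000000000000000000000000000004000,
    nat_lit 0x20000000000000000000000000c2080000000002000080000000000104000,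
    nat_lit 0x20000000000000000000000000c20800000000020000c0000000000004000,
    nat_lit 0x2000000000000000000000000082084000000002040080000000000104000,
    nat_lit 0x830c40c0080004000080000000000000000000000000000000000000000000,
    nat_lit 0x101043041100100000100000000000000000000000000000000000000000000,
    nat_lit 0x44102104040040040040000000000000000000000000000000000000000000,
    nat_lit 0xc20810800c00010010c0000000000000000000000000000000000000000000,
    nat_lit 0x20000000000000000000000000c2084000000002000080000000000003000,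
    nat_lit 0x20000000000000000000000000c2080000000002001080000000000104000,
    nat_lit 0x20000000000000000000000000c20c4000000003000080000000000044000,
    nat_lit 0x20000000000000000000000000c3084000000042000080000000000000000]

noncomputable def o8p5 : PCD where
  G := nat_lit 9
  w := nat_lit 21
  k := nat_lit 50
  n := nat_lit 5
  fuel := nat_lit 20
  o := nat_lit 0x200001000008000040000200001000008000040000200001000008000040000200001000008000040000200001000008000040000200001000008000040000200001000008000040000200001000008000040000200001000008000040000200001000008000040000200001000008000040000200001000008000040000200001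
  c0 := nat_lit 105844
  cq := nat_lit 131071
  cA := nat_lit 7
  Lm := nat_lit 2
  np := nat_lit 48
  rules := o8p5_ru
  E := o8p5_E
  C := [(nat_lit 8, [nat_lit 0], [nat_lit 2]),
    (nat_lit 8, [nat_lit 4], [nat_lit 6])]
  RA := [([nat_lit 0], [nat_lit 3, nat_lit 0]),
    ([nat_lit 1], [nat_lit 2, nat_lit 1]),
    ([nat_lit 4], [nat_lit 7, nat_lit 4]),
    ([nat_lit 5], [nat_lit 6, nat_lit 5]),
    ([nat_lit 0], [nat_lit 0, nat_lit 3]),
    ([nat_lit 0], [nat_lit 1, nat_lit 2]),
    ([nat_lit 0], [nat_lit 2, nat_lit 1]),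
    ([nat_lit 1], [nat_lit 0, nat_lit 3]),
    ([nat_lit 1], [nat_lit 1, nat_lit 2]),
    ([nat_lit 2], [nat_lit 0, nat_lit 3]),
    ([nat_lit 4], [nat_lit 4, nat_lit 7]),
    ([nat_lit 4], [nat_lit 5, nat_lit 6]),
    ([nat_lit 4], [nat_lit 6, nat_lit 5]),
    ([nat_lit 5], [nat_lit 4, nat_lit 7]),
    ([nat_lit 5], [nat_lit 5, nat_lit 6]),
    ([nat_lit 6], [nat_lit 4, nat_lit 7]),
    ([nat_lit 0], [nat_lit 0, nat_lit 2]),
    ([nat_lit 0], [nat_lit 1, nat_lit 1]),
    ([nat_lit 0], [nat_lit 2, nat_lit 0]),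
    ([nat_lit 1], [nat_lit 0, nat_lit 1]),
    ([nat_lit 4], [nat_lit 4, nat_lit 6]),
    ([nat_lit 4], [nat_lit 5, nat_lit 5]),
    ([nat_lit 4], [nat_lit 6, nat_lit 4]),
    ([nat_lit 5], [nat_lit 4, nat_lit 5]),
    ([nat_lit 4], [nat_lit 0, nat_lit 3]),
    ([nat_lit 4], [nat_lit 1, nat_lit 2]),
    ([nat_lit 5], [nat_lit 0, nat_lit 3]),
    ([nat_lit 5], [nat_lit 1, nat_lit 2]),
    ([nat_lit 6], [nat_lit 0, nat_lit 3]),
    ([nat_lit 6], [nat_lit 1, nat_lit 2]),
    ([nat_lit 7], [nat_lit 0, nat_lit 3]),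
    ([nat_lit 7], [nat_lit 1, nat_lit 2]),
    ([nat_lit 4], [nat_lit 7, nat_lit 0]),
    ([nat_lit 4], [nat_lit 7, nat_lit 1]),
    ([nat_lit 5], [nat_lit 6, nat_lit 0]),
    ([nat_lit 5], [nat_lit 6, nat_lit 1]),
    ([nat_lit 4], [nat_lit 0, nat_lit 0]),
    ([nat_lit 5], [nat_lit 0, nat_lit 0]),
    ([nat_lit 4], [nat_lit 4, nat_lit 0])]
  RB := [(nat_lit 8, [nat_lit 0, nat_lit 0, nat_lit 0, nat_lit 0, nat_lit 0]),
    (nat_lit 8, [nat_lit 1, nat_lit 1, nat_lit 1, nat_lit 1, nat_lit 1]),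
    (nat_lit 8, [nat_lit 0, nat_lit 0, nat_lit 0, nat_lit 0, nat_lit 1, nat_lit 0, nat_lit 1, nat_lit 1, nat_lit 1, nat_lit 1])]
  A := o8p5_A
  β := []
  co := o8p5_co
  lay := [(nat_lit 240, [nat_lit 0, nat_lit 1, nat_lit 2, nat_lit 3]),
    (nat_lit 0, [nat_lit 4, nat_lit 5, nat_lit 6, nat_lit 7])]

theorem o8p5_1 : o8p5.ok1 (nat_lit 255) = true := by decide +kernel
theorem o8p5_2 : o8p5.ok2 = true := by decide +kernel

noncomputable def o8p5T_tbl : NT :=
(.node (nat_lit 4087)
(.node (nat_lit 2043)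
(.leaf (nat_lit 0) (nat_lit 0x8c72b970fc68c789240b8665d552ce227d47b8cc8bcb4e3508488b2aa19b98aae5d0463abeb631b48af726bbad58702ac0eb0c1d4c5dc7cbac21b131d86bc29a0c5e6b68a6d9de8231caf581da9c80ed0848a8236d3edf7266e95e0406c34d0163a7857e5bd4c6e915efb9c5cd5a12c4d20b4dd63ad96c0e439447419e5ee4476079c66a62ef7d7e746f70d78462cdacbcf29b5f5b1aab789375c0b3b2e58bb076ef969c63b98c4d079ce50cdcf0ef9d4dc6453c95b1dd2034d3caa9676c665d604924047c43911d87de5e20e84b1dd214a566c25474e534147c1d24879935cc376a7202c2f3189a180d8685092589a48586850138667e4ad00000008bc20ed))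
(.leaf (nat_lit 2044) (nat_lit 0x35d6ac3eb0cd55d6e53e99362e30e3603a49012f296486ba6277e5e33d3ea47bc41d06c9ae60482eddbb76b5435e94433cbc415dd6e92ea7d325fb4d52a8ecb9ab412667e48195ba621d891d2bbb9a7db2a8cccbac238356ad5af476b543a28080d8d52a8b9e4c25054a7e48170fc8dd63ad0bebca64eb6446eee90184e494152b3e2fec5ca75b18d379d18fbf0c66059db07618b22ad5ab56a86bd1dd5ecb86605d83b0cd427229e575ba47566967107ade24c36e72562723242faf6d50a14286bd1dad65a64bf72534058e389df96f46aab7884b361282c4d2089349011f0774aeeb714da7db2a3efafceda6d9de5cb1da10986c6fba63ebca590d2c0ed4e)))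
(.node (nat_lit 6131)
(.leaf (nat_lit 4088) (nat_lit 0x9d4c54059d970cec3162ec32dea626bf3a31fc483a0cf14b242f9cb1d6c88b748e95ccd5a093861c5fd8e6551b69f8930d558e7202c0f2f31d667ef2e8a6dacbcc73c6850101b8c38bf4d08c0ec25d046382f18d36bc436332c643806bac0eb0cd20c5dc7997b8cf4f1f18e8bca2b0ef9c8b3883ca8af7266d247887f8b969aa508cdcc51c8488b1d396caa36d51ee33cbd016076a98ac3bcad9de5d1031798c0543b1bee08f326b30f5313bf5843632ac2a566c28b969a88bf729f48170ccf8108f83a40c258ee7d10ff1a29ca680b88e8bcb4ce572e83a458b162f083b40483fc68c7d208925ed00d75aa6aac0eb2cc0ec35d1163b41dc183060ed0117860))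
(.leaf (nat_lit 6132) (nat_lit 0x2c3ccd4c44cdd22a6970cc0b062c5d816558700d433556000e9d3a7476b54353c28e50cc3acdaca49589c8a48ec0e402518f10fbfb171828e1c387083b4045465d14db33a98ac2ce621d8de40612c5aeddbb76808bc20a56fba6210e439114ec88dd633023cc8df412717255172d18c97ee5382249622124e2e6a0b1d394de20f2aa48c7df5f4b98a3940c4d062ea538c745f31d66d6853c9589d73023c8c34dafac7a7d47b6bb8f335130d556efd7846076f))))

noncomputable def o8p5T : PT where
  N := nat_lit 120
  G := nat_lit 9
  W := nat_lit 7
  mask := nat_lit 127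
  sb := nat_lit 0
  sm := nat_lit 0
  tbl := o8p5T_tbl

def o8p5_df : List (List ℕ) :=
  [[nat_lit 0, nat_lit 5, nat_lit 7, nat_lit 6, nat_lit 5, nat_lit 7, nat_lit 0, nat_lit 6, nat_lit 7, nat_lit 5, nat_lit 4, nat_lit 7, nat_lit 5, nat_lit 6, nat_lit 2, nat_lit 3],
  [nat_lit 7, nat_lit 4, nat_lit 5, nat_lit 6, nat_lit 7, nat_lit 0, nat_lit 2, nat_lit 3, nat_lit 5, nat_lit 6, nat_lit 7, nat_lit 5, nat_lit 6, nat_lit 5, nat_lit 1, nat_lit 7, nat_lit 5, nat_lit 3, nat_lit 2, nat_lit 0],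
  [nat_lit 0, nat_lit 7, nat_lit 5, nat_lit 3, nat_lit 2, nat_lit 4, nat_lit 6, nat_lit 5, nat_lit 7, nat_lit 6, nat_lit 5, nat_lit 4, nat_lit 7, nat_lit 6, nat_lit 0, nat_lit 7, nat_lit 5, nat_lit 2, nat_lit 3, nat_lit 1],
  [nat_lit 3, nat_lit 2, nat_lit 6, nat_lit 7, nat_lit 4, nat_lit 5, nat_lit 7, nat_lit 6, nat_lit 4, nat_lit 0, nat_lit 7, nat_lit 5, nat_lit 6, nat_lit 7, nat_lit 5, nat_lit 0],
  [nat_lit 5, nat_lit 3, nat_lit 2, nat_lit 7, nat_lit 5, nat_lit 6, nat_lit 7, nat_lit 6, nat_lit 5, nat_lit 7, nat_lit 2, nat_lit 0, nat_lit 1],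
  [nat_lit 2, nat_lit 5, nat_lit 3, nat_lit 6, nat_lit 5, nat_lit 7, nat_lit 0, nat_lit 2, nat_lit 7, nat_lit 5, nat_lit 6, nat_lit 3, nat_lit 5, nat_lit 2, nat_lit 1, nat_lit 0],
  [nat_lit 0, nat_lit 1, nat_lit 2, nat_lit 5, nat_lit 3, nat_lit 6, nat_lit 5, nat_lit 7, nat_lit 2, nat_lit 0, nat_lit 7, nat_lit 5, nat_lit 6, nat_lit 3, nat_lit 5, nat_lit 2],
  [nat_lit 1, nat_lit 0, nat_lit 2, nat_lit 7, nat_lit 5, nat_lit 6, nat_lit 7, nat_lit 6, nat_lit 5, nat_lit 7, nat_lit 2, nat_lit 3, nat_lit 5],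
  [nat_lit 0, nat_lit 7, nat_lit 2, nat_lit 6, nat_lit 5, nat_lit 7, nat_lit 0, nat_lit 2, nat_lit 3, nat_lit 5, nat_lit 6, nat_lit 7, nat_lit 5, nat_lit 6, nat_lit 4, nat_lit 0, nat_lit 7, nat_lit 4, nat_lit 0]]

theorem o8p5_x_0 : extOK T o8p5T o8p5_df (fun i => i) (nat_lit 0) (nat_lit 120) = true := by decide +kernel
theorem o8p5_ext : ∀ i < o8p5T.N, ExtP T o8p5T o8p5_df (fun i => i) i := rng_all (extOK_sound o8p5_x_0)

noncomputable def o8p5ch_0 : OL where
  b := nat_lit 0
  n := nat_lit 5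
  S := [[nat_lit 0]]
  O := ⟨nat_lit 0, nat_lit 4, nat_lit 7, nat_lit 127, nat_lit 0, nat_lit 0,
(.node (nat_lit 1952)
(.node (nat_lit 1840)
(.leaf (nat_lit 0) (nat_lit 0x1c5000017000000c1000006d0000000))
(.leaf (nat_lit 1841) (nat_lit 0x2)))
(.node (nat_lit 3072)
(.leaf (nat_lit 1953) (nat_lit 0x4))
(.node (nat_lit 3156)
(.leaf (nat_lit 3073) (nat_lit 0x1))
(.leaf (nat_lit 3157) (nat_lit 0x3)))))⟩

noncomputable def o8p5ch_1 : OL where
  b := nat_lit 1
  n := nat_lit 5
  S := [[nat_lit 4]]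
  O := ⟨nat_lit 0, nat_lit 4, nat_lit 7, nat_lit 127, nat_lit 0, nat_lit 0,
(.node (nat_lit 1476)
(.node (nat_lit 580)
(.leaf (nat_lit 0) (nat_lit 0x1d80000134020009400000020000001))
(.leaf (nat_lit 581) (nat_lit 0x2)))
(.node (nat_lit 2484)
(.leaf (nat_lit 1477) (nat_lit 0x3))
(.leaf (nat_lit 2485) (nat_lit 0x4))))⟩

noncomputable def o8p5ch : List OL := [o8p5ch_0, o8p5ch_1]

theorem o8p5_hE : allL (fun e => o8p5T.chk2 [nat_lit 24, nat_lit 9, nat_lit 2, nat_lit 0, nat_lit 4, nat_lit 8, nat_lit 1] e.1 e.2) o8p5.eqs = true := by decide +kernel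
theorem o8p5_hc : chainOK o8p5T (nat_lit 255) o8p5ch [] = true := by decide +kernel

noncomputable def ca_tbl : NT :=
(.node (nat_lit 4095)
(.node (nat_lit 2047)
(.leaf (nat_lit 0) (nat_lit 0x68626262581e66223c1e1e641e621e243a1c603a285e3a3a5a5e382e381c32381a5a5c5a225a5a58281856543452504e265432183232384c225230304818304a20502e382e2e182e1e4e2c4c2c4a2c18481a1a421a16461a341429283a2828283246461246461a40141212461244423c304444443612443e2e42421a424212422c3c3c403c3e3c12103a1c1c14381c1c362a2a202a10262a0e34183218302e2c161010100e2a101024280c141c1414140a2424262422201e1c1616160a1a1616180a080a160a0a0a060d140c0c0c0c0c120e060e100e0e0e08040e06060606060c020a0808080808050802020202020200060404040404040201010101010101))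
(.leaf (nat_lit 2048) (nat_lit 0xb67e508eb47e567eb27c4eaab0a27c564c6aae6a90a6866aac4caa4e787878544a68a8a668686868a44aa2749e4ea05266a0727294724a725e4870705270709e5c6e486e6e6e6e9c589e9c6c4a6c9448407a9a7a6696587a3e76989676767676729090906a903e909440403c40404046923e3e3e863c904485603a60618e606070388e505e3a545e6e8c368a8a8a8a8838368a36443636866c8688863e866a365756348284807e7c5432823454545e785230805270345274502e7e5e505034504e2c7c784e744e347a784c2c4c4c4c3276744a4a6c2c72302a706e483048486c4626262426262a64442222225a2422624220202a202024206a64641e64646426)))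
(.node (nat_lit 6143)
(.leaf (nat_lit 4096) (nat_lit 0xe6e486888888ae8a82bcbcbdbcb5bcbcbababa8482b7b8de80b8b8b48eb9bab87eb6b6b6b6bbb7e3b4b4b4b87ebd84b47cb2b2b2b2b2e2b3b0b0b0de7cb0b084aee07a9a9adabe9a7894acaca0d89eacaaaa787cdeaaaa82a8dc76dad4989898a696da76967a96967492a4d8a4a4a4a4a2a274a2a27cd680a072d6a0aca074a09e6c9e9e749eac70d49c6c9c9c9ccc6eccd26aaeaece88aecad068cec2a8a8a8c8a6ce68a66aa6a664accc9472c86c9462a4cac892929292906666667a6662668e8e5e7eb860828ec65cc4c4c4c4c4c08ac45a5c5c5c5cbec2c058bebebe9a5c8658be5862587a5a618484ba5684b4b0bc825456ba828eaab8805280805680a2))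
(.leaf (nat_lit 6144) (nat_lit 0xd2eeeeeeeee7e8eed0ecece7ebececece5eac8caedcceaeadbe8e8e8e8e8eec6bee6e6edcaefe6e6ebbec0c0c0c0e0c4e2e2e2e2e2deb2b7e0aed2d2d2d5e4d2d6dedeb0aae2debadca8d0d5dbd0d0d0e9d5a6a8ddaececed8c8d8a4d8acd8d8ded6a0d6d6d6a2d69cdbc2dda8e1c2c2ee9ae0e0e0c3c0e0ec98dcc3cfdcdcdcc1c39698d19adada9acc94ccccea9ccc98ca92eae6cacaca96d8ea92c894c8c88cc6c6c6c6c6c6e8c48a8c8c8c8c8ce488cfd4d198d3d4d4cf88e4e4e4e4d28c))))

noncomputable def ca : PT where
  N := nat_lit 120
  G := nat_lit 8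
  W := nat_lit 8
  mask := nat_lit 255
  sb := nat_lit 1
  sm := nat_lit 1
  tbl := ca_tbl

def ca_PE : List (List ℕ × ℕ) :=
  [([nat_lit 0, nat_lit 0], nat_lit 0),
  ([nat_lit 1, nat_lit 1], nat_lit 0),
  ([nat_lit 0, nat_lit 1, nat_lit 0, nat_lit 1, nat_lit 0, nat_lit 1], nat_lit 0),
  ([nat_lit 2, nat_lit 2], nat_lit 0),
  ([nat_lit 0, nat_lit 2, nat_lit 0, nat_lit 2], nat_lit 0),
  ([nat_lit 1, nat_lit 2, nat_lit 1, nat_lit 2, nat_lit 1, nat_lit 2], nat_lit 0),
  ([nat_lit 3, nat_lit 3], nat_lit 0),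
  ([nat_lit 0, nat_lit 3, nat_lit 0, nat_lit 3], nat_lit 0),
  ([nat_lit 1, nat_lit 3, nat_lit 1, nat_lit 3], nat_lit 0),
  ([nat_lit 2, nat_lit 3, nat_lit 2, nat_lit 3, nat_lit 2, nat_lit 3], nat_lit 0),
  ([nat_lit 4, nat_lit 4], nat_lit 0),
  ([nat_lit 0, nat_lit 4, nat_lit 0, nat_lit 4], nat_lit 0),
  ([nat_lit 1, nat_lit 4, nat_lit 1, nat_lit 4], nat_lit 0),
  ([nat_lit 3, nat_lit 4, nat_lit 3, nat_lit 4], nat_lit 0),
  ([nat_lit 2, nat_lit 4, nat_lit 2, nat_lit 4, nat_lit 2, nat_lit 4], nat_lit 0),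
  ([nat_lit 5, nat_lit 5], nat_lit 0),
  ([nat_lit 0, nat_lit 5, nat_lit 0, nat_lit 5], nat_lit 0),
  ([nat_lit 1, nat_lit 5, nat_lit 1, nat_lit 5], nat_lit 0),
  ([nat_lit 4, nat_lit 5, nat_lit 4, nat_lit 5], nat_lit 0),
  ([nat_lit 2, nat_lit 5, nat_lit 2, nat_lit 5], nat_lit 0),
  ([nat_lit 3, nat_lit 5, nat_lit 3, nat_lit 5, nat_lit 3, nat_lit 5], nat_lit 0),
  ([nat_lit 6, nat_lit 6], nat_lit 0),
  ([nat_lit 0, nat_lit 6, nat_lit 0, nat_lit 6], nat_lit 0),
  ([nat_lit 1, nat_lit 6, nat_lit 1, nat_lit 6], nat_lit 0),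
  ([nat_lit 4, nat_lit 6, nat_lit 4, nat_lit 6], nat_lit 0),
  ([nat_lit 2, nat_lit 6, nat_lit 2, nat_lit 6], nat_lit 0),
  ([nat_lit 3, nat_lit 6, nat_lit 3, nat_lit 6], nat_lit 0),
  ([nat_lit 5, nat_lit 6, nat_lit 5, nat_lit 6, nat_lit 5, nat_lit 6], nat_lit 0),
  ([nat_lit 3, nat_lit 0, nat_lit 1, nat_lit 0, nat_lit 2, nat_lit 1, nat_lit 0, nat_lit 3, nat_lit 2, nat_lit 1, nat_lit 4, nat_lit 2, nat_lit 1, nat_lit 0, nat_lit 3, nat_lit 2, nat_lit 1, nat_lit 4, nat_lit 2, nat_lit 5, nat_lit 6, nat_lit 3, nat_lit 2, nat_lit 1, nat_lit 0, nat_lit 5, nat_lit 3, nat_lit 2, nat_lit 1, nat_lit 0, nat_lit 4, nat_lit 2, nat_lit 3, nat_lit 5, nat_lit 6, nat_lit 1, nat_lit 2, nat_lit 3, nat_lit 5, nat_lit 4, nat_lit 2, nat_lit 3, nat_lit 1, nat_lit 2, nat_lit 4, nat_lit 0, nat_lit 1, nat_lit 2, nat_lit 3, nat_lit 5, nat_lit 6, nat_lit 4, nat_lit 2, nat_lit 3, nat_lit 1, nat_lit 2, nat_lit 4, nat_lit 0, nat_lit 1, nat_lit 2, nat_lit 3, nat_lit 5, nat_lit 4], nat_lit 1),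
  ([nat_lit 7, nat_lit 7], nat_lit 0),
  ([nat_lit 5, nat_lit 7, nat_lit 5, nat_lit 7, nat_lit 5, nat_lit 7], nat_lit 0),
  ([nat_lit 3, nat_lit 7, nat_lit 3, nat_lit 7, nat_lit 3, nat_lit 7], nat_lit 0),
  ([nat_lit 0, nat_lit 6, nat_lit 7, nat_lit 0, nat_lit 6, nat_lit 7, nat_lit 0, nat_lit 6, nat_lit 7], nat_lit 0),
  ([nat_lit 0, nat_lit 1, nat_lit 7, nat_lit 1, nat_lit 2, nat_lit 0, nat_lit 1, nat_lit 7, nat_lit 1, nat_lit 2], nat_lit 0),
  ([nat_lit 1, nat_lit 2, nat_lit 7, nat_lit 2, nat_lit 3, nat_lit 1, nat_lit 2, nat_lit 7, nat_lit 2, nat_lit 3], nat_lit 0),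
  ([nat_lit 2, nat_lit 3, nat_lit 7, nat_lit 3, nat_lit 5, nat_lit 2, nat_lit 3, nat_lit 7, nat_lit 3, nat_lit 5], nat_lit 0),
  ([nat_lit 1, nat_lit 0, nat_lit 7, nat_lit 0, nat_lit 3, nat_lit 2, nat_lit 4, nat_lit 2, nat_lit 3, nat_lit 1, nat_lit 0, nat_lit 7], nat_lit 0),
  ([nat_lit 6, nat_lit 7, nat_lit 5, nat_lit 3, nat_lit 2, nat_lit 6, nat_lit 7, nat_lit 5, nat_lit 3, nat_lit 2, nat_lit 6, nat_lit 5, nat_lit 7, nat_lit 5, nat_lit 6, nat_lit 5, nat_lit 3, nat_lit 2, nat_lit 7, nat_lit 5, nat_lit 6, nat_lit 5, nat_lit 7, nat_lit 3, nat_lit 5, nat_lit 4, nat_lit 1], nat_lit 1)]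

instance ca_nz : NeZero ca.N := ⟨by decide⟩

theorem ca_r0 : ca.relsOK (nat_lit 2) ca_PE (nat_lit 0) (nat_lit 120) = true := by decide +kernel
theorem ca_rng : ca.rng 0 (nat_lit 120) = true := by decide +kernel
theorem ca_rels : ∀ i < ca.N, ∀ p ∈ ca_PE, ca.tr p.1 i = i ∧ ca.tv p.1 i % nat_lit 2 = p.2 :=
  rng_all (PT.relsOK_sound _ _ ca_r0)
def ca_iv : List ℕ := [nat_lit 0, nat_lit 1, nat_lit 3, nat_lit 6, nat_lit 10, nat_lit 15, nat_lit 21, nat_lit 29]
def ca_E : List ℕ := [nat_lit 1, nat_lit 0]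

theorem ca_cov : HasCov P 8 (Multiplicative (ZMod 2)) Q fun i => Multiplicative.ofAdd ((gd 0 ca_E i : ℕ) : ZMod 2) :=
  PT.hasCov (T := ca) (m := nat_lit 2) (ca.rng_sound ca_rng le_rfl) (iv := ca_iv) (by decide +kernel) (by decide +kernel) ca_rels
    (subL_sound (by decide +kernel)) (by decide +kernel)

noncomputable def cb_tbl : NT :=
(.node (nat_lit 4095)
(.node (nat_lit 2047)
(.leaf (nat_lit 0) (nat_lit 0x96aab811b1b6ada988ad88b011b4aba75b18b2232411581f1eb0aeacaa4a1151461b78a8a61e46110da4a2a09e8a9c9a0b987d96807f94928b0b720e1e752b2490740e73900b6726098e8c8a8886848280097e1f0e7d30227a7c477a6d09784c75730775760c6b2f6b0c74073b72633170156e3a076c692b07136a62685b07583905662a31370e3a6462051245610c484436605e5c055a43583b49150d42450503564c54524550464e224418034c49084a20091d484603440142403e3c3a383604012f312b031f063425010218271d0b32300301052e080c2c2a120401280b15200226242201200f0f1e1c090a1a011816070a0d140e1201100e0c0a08060402))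
(.leaf (nat_lit 2048) (nat_lit 0x5d6a2b666432736f4c2932ca4c2acf6c29cbc029b75fd2c7c1ce37d38667294072b4dd9c27aca190262f25269c309f727726312eb4257e75238751cdce8e4cafd7d923b3dc92de7ec74c93b72823867d247f219ea19926d9ce48de5821842263be9f1f7fa4782eb31da090a57fcdb4dc9f1d9f2159952468d0951bdbd01c98bc86a9da1b517a52ab7ea7cd501b9155ac3a47995354201b561944d86962563b215017d6bfc0594a5ba1bec7175bd45cc1ccc1815a17d05fbf574b705d5eb0173815d2d0cecc80cac87d6d17c67d1571291350c4a6a93957b0c269184513bc141d375a28c0be1337171b5915481c161813b111bcabac19b11aa2ba11b98db3af79)))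
(.node (nat_lit 6143)
(.leaf (nat_lit 4096) (nat_lit 0x6755e15647e7a652d58443d5e6498f61df4184c9aedf8dceeac93f40e8eaeed2cbc6eb6c7a3fc2cb9c77a591733d659ceedf3b6eed40d96642398f3d3e51424be08d39efbbc54070983cee3943773e5d8e3fd54239c73c5ed25ed2374acbc13ea45ce34b379cbf3ca735b464678991ed41dd359bd9e9eca054659a356ac376a36266626b35ce74deb590ed7775a735b593eca1a2dfe4dc35ad335a80976a61d63f81ca3398d2d1eb8460cfd0da6233849ad76ceae16f83332f9d65b42f5ca477ab2db0898a71bcc5c4ae2de94082ba873088e82d8f35e7e53d8b3d8e2da4d5e35f7083c2792d6d8c95bdbbe6d4692d95c9c486e4e28d922d2b965299334fdbe0))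
(.leaf (nat_lit 6144) (nat_lit 0xb3e8adaec8ddb9cde29b9cdcb2e2a3a4b9e1b693d6b9e496ddef8b8cb9a2c9c3dad5c985bdbe8ad0d8e3c383c49beb8aede4a6c583ede088afeabed692c8e381bab269d99aba6f9fe8a276ed6fee9b65e7d15f6095c180d5e56e59dea2d7b26a6e9257e1ebd8c599bce6aabc855588daa94fa978c2977bb961da4f95615396e76979944f719f7cbb53c35c704f64c6eeb67a977dc7a84fb682b8e6baefe1e84f6cb7544dcaaacd7a8d834be2e5aed68e49cce487d3a0b7e878527b4757daa854))))

noncomputable def cb : PT where
  N := nat_lit 120
  G := nat_lit 8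
  W := nat_lit 8
  mask := nat_lit 255
  sb := nat_lit 1
  sm := nat_lit 1
  tbl := cb_tbl

def cb_PE : List (List ℕ × ℕ) :=
  [([nat_lit 0, nat_lit 0], nat_lit 1),
  ([nat_lit 1, nat_lit 1], nat_lit 1),
  ([nat_lit 0, nat_lit 1, nat_lit 0, nat_lit 1, nat_lit 0, nat_lit 1], nat_lit 0),
  ([nat_lit 2, nat_lit 2], nat_lit 1),
  ([nat_lit 0, nat_lit 2, nat_lit 0, nat_lit 2], nat_lit 1),
  ([nat_lit 1, nat_lit 2, nat_lit 1, nat_lit 2, nat_lit 1, nat_lit 2], nat_lit 0),
  ([nat_lit 3, nat_lit 3], nat_lit 1),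
  ([nat_lit 0, nat_lit 3, nat_lit 0, nat_lit 3], nat_lit 1),
  ([nat_lit 1, nat_lit 3, nat_lit 1, nat_lit 3], nat_lit 1),
  ([nat_lit 2, nat_lit 3, nat_lit 2, nat_lit 3, nat_lit 2, nat_lit 3], nat_lit 0),
  ([nat_lit 4, nat_lit 4], nat_lit 1),
  ([nat_lit 0, nat_lit 4, nat_lit 0, nat_lit 4], nat_lit 1),
  ([nat_lit 1, nat_lit 4, nat_lit 1, nat_lit 4], nat_lit 1),
  ([nat_lit 3, nat_lit 4, nat_lit 3, nat_lit 4], nat_lit 1),
  ([nat_lit 2, nat_lit 4, nat_lit 2, nat_lit 4, nat_lit 2, nat_lit 4], nat_lit 0),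
  ([nat_lit 5, nat_lit 5], nat_lit 1),
  ([nat_lit 0, nat_lit 5, nat_lit 0, nat_lit 5], nat_lit 1),
  ([nat_lit 1, nat_lit 5, nat_lit 1, nat_lit 5], nat_lit 1),
  ([nat_lit 4, nat_lit 5, nat_lit 4, nat_lit 5], nat_lit 1),
  ([nat_lit 2, nat_lit 5, nat_lit 2, nat_lit 5], nat_lit 1),
  ([nat_lit 3, nat_lit 5, nat_lit 3, nat_lit 5, nat_lit 3, nat_lit 5], nat_lit 0),
  ([nat_lit 6, nat_lit 6], nat_lit 1),
  ([nat_lit 0, nat_lit 6, nat_lit 0, nat_lit 6], nat_lit 1),
  ([nat_lit 1, nat_lit 6, nat_lit 1, nat_lit 6], nat_lit 1),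
  ([nat_lit 4, nat_lit 6, nat_lit 4, nat_lit 6], nat_lit 1),
  ([nat_lit 2, nat_lit 6, nat_lit 2, nat_lit 6], nat_lit 1),
  ([nat_lit 3, nat_lit 6, nat_lit 3, nat_lit 6], nat_lit 1),
  ([nat_lit 5, nat_lit 6, nat_lit 5, nat_lit 6, nat_lit 5, nat_lit 6], nat_lit 1),
  ([nat_lit 3, nat_lit 0, nat_lit 1, nat_lit 0, nat_lit 2, nat_lit 1, nat_lit 0, nat_lit 3, nat_lit 2, nat_lit 1, nat_lit 4, nat_lit 2, nat_lit 1, nat_lit 0, nat_lit 3, nat_lit 2, nat_lit 1, nat_lit 4, nat_lit 2, nat_lit 5, nat_lit 6, nat_lit 3, nat_lit 2, nat_lit 1, nat_lit 0, nat_lit 5, nat_lit 3, nat_lit 2, nat_lit 1, nat_lit 0, nat_lit 4, nat_lit 2, nat_lit 3, nat_lit 5, nat_lit 6, nat_lit 1, nat_lit 2, nat_lit 3, nat_lit 5, nat_lit 4, nat_lit 2, nat_lit 3, nat_lit 1, nat_lit 2, nat_lit 4, nat_lit 0, nat_lit 1, nat_lit 2, nat_lit 3, nat_lit 5, nat_lit 6, nat_lit 4, nat_lit 2, nat_lit 3, nat_lit 1, nat_lit 2, nat_lit 4, nat_lit 0, nat_lit 1, nat_lit 2, nat_lit 3, nat_lit 5, nat_lit 4], nat_lit 1),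
  ([nat_lit 7, nat_lit 7], nat_lit 1),
  ([nat_lit 5, nat_lit 7, nat_lit 5, nat_lit 7, nat_lit 5, nat_lit 7], nat_lit 1),
  ([nat_lit 3, nat_lit 7, nat_lit 3, nat_lit 7, nat_lit 3, nat_lit 7], nat_lit 1),
  ([nat_lit 0, nat_lit 6, nat_lit 7, nat_lit 0, nat_lit 6, nat_lit 7, nat_lit 0, nat_lit 6, nat_lit 7], nat_lit 1),
  ([nat_lit 0, nat_lit 1, nat_lit 7, nat_lit 1, nat_lit 2, nat_lit 0, nat_lit 1, nat_lit 7, nat_lit 1, nat_lit 2], nat_lit 0),
  ([nat_lit 1, nat_lit 2, nat_lit 7, nat_lit 2, nat_lit 3, nat_lit 1, nat_lit 2, nat_lit 7, nat_lit 2, nat_lit 3], nat_lit 0),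
  ([nat_lit 2, nat_lit 3, nat_lit 7, nat_lit 3, nat_lit 5, nat_lit 2, nat_lit 3, nat_lit 7, nat_lit 3, nat_lit 5], nat_lit 0),
  ([nat_lit 1, nat_lit 0, nat_lit 7, nat_lit 0, nat_lit 3, nat_lit 2, nat_lit 4, nat_lit 2, nat_lit 3, nat_lit 1, nat_lit 0, nat_lit 7], nat_lit 1),
  ([nat_lit 6, nat_lit 7, nat_lit 5, nat_lit 3, nat_lit 2, nat_lit 6, nat_lit 7, nat_lit 5, nat_lit 3, nat_lit 2, nat_lit 6, nat_lit 5, nat_lit 7, nat_lit 5, nat_lit 6, nat_lit 5, nat_lit 3, nat_lit 2, nat_lit 7, nat_lit 5, nat_lit 6, nat_lit 5, nat_lit 7, nat_lit 3, nat_lit 5, nat_lit 4, nat_lit 1], nat_lit 1)]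

instance cb_nz : NeZero cb.N := ⟨by decide⟩

theorem cb_r0 : cb.relsOK (nat_lit 2) cb_PE (nat_lit 0) (nat_lit 120) = true := by decide +kernel
theorem cb_rng : cb.rng 0 (nat_lit 120) = true := by decide +kernel
theorem cb_rels : ∀ i < cb.N, ∀ p ∈ cb_PE, cb.tr p.1 i = i ∧ cb.tv p.1 i % nat_lit 2 = p.2 :=
  rng_all (PT.relsOK_sound _ _ cb_r0)
def cb_iv : List ℕ := [nat_lit 0, nat_lit 1, nat_lit 3, nat_lit 6, nat_lit 10, nat_lit 15, nat_lit 21, nat_lit 29]
def cb_E : List ℕ := [nat_lit 0, nat_lit 1]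

theorem cb_cov : HasCov P 8 (Multiplicative (ZMod 2)) Q fun i => Multiplicative.ofAdd ((gd 0 cb_E i : ℕ) : ZMod 2) :=
  PT.hasCov (T := cb) (m := nat_lit 2) (cb.rng_sound cb_rng le_rfl) (iv := cb_iv) (by decide +kernel) (by decide +kernel) cb_rels
    (subL_sound (by decide +kernel)) (by decide +kernel)

universe u
variable {G0 : Type u} [Group G0] [Finite G0] {Ω : Type*} [MulAction G0 Ω] {g : ℕ → G0} {pt : ℕ → Ω}
  (h : Md T 174182400 g pt)
include h

theorem htb : Lc (nat_lit 255) g = ⊤ ∧ IsBase G0 T.N pt [nat_lit 24, nat_lit 9, nat_lit 2, nat_lit 0, nat_lit 4, nat_lit 8, nat_lit 1] :=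
  base_of_chain h.am h.inj hch (h.card.trans_le (by decide +kernel))
theorem hchk : ∀ w, chk w = true → ev g w = 1 := h.am.chk (htb h).2
theorem o8l0_le : Nat.card (Lc (nat_lit 255) g) ≤ 120 * Nat.card (Lc (nat_lit 127) g) :=
  card_step' (hchk h) o8l0_ok o8l0_tab o8l0_hP ⟨rfl, rfl, rfl⟩
theorem o8l1_le : Nat.card (Lc (nat_lit 127) g) ≤ 28 * Nat.card (Lc (nat_lit 63) g) :=
  card_step' (hchk h) o8l1_ok o8l1_tab o8l1_hP ⟨rfl, rfl, rfl⟩
theorem o8l2_le : Nat.card (Lc (nat_lit 63) g) ≤ 27 * Nat.card (Lc (nat_lit 31) g) :=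
  card_step' (hchk h) o8l2_ok o8l2_tab o8l2_hP ⟨rfl, rfl, rfl⟩
theorem o8l3_le : Nat.card (Lc (nat_lit 31) g) ≤ 16 * Nat.card (Lc (nat_lit 15) g) :=
  card_step' (hchk h) o8l3_ok o8l3_tab o8l3_hP ⟨rfl, rfl, rfl⟩
theorem o8l4_le : Nat.card (Lc (nat_lit 15) g) ≤ 5 * Nat.card (Lc (nat_lit 7) g) :=
  card_step' (hchk h) o8l4_ok o8l4_tab o8l4_hP ⟨rfl, rfl, rfl⟩
theorem o8l5_le : Nat.card (Lc (nat_lit 7) g) ≤ 4 * Nat.card (Lc (nat_lit 3) g) :=
  card_step' (hchk h) o8l5_ok o8l5_tab o8l5_hP ⟨rfl, rfl, rfl⟩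
theorem o8l6_le : Nat.card (Lc (nat_lit 3) g) ≤ 3 * Nat.card (Lc (nat_lit 1) g) :=
  card_step' (hchk h) o8l6_ok o8l6_tab o8l6_hP ⟨rfl, rfl, rfl⟩
theorem o8l7_le : Nat.card (Lc (nat_lit 1) g) ≤ 2 * Nat.card (Lc (nat_lit 0) g) :=
  card_step' (hchk h) o8l7_ok o8l7_tab o8l7_hP ⟨rfl, rfl, rfl⟩
theorem up8 : Nat.card (Lc (nat_lit 0) g) ≤ 1 := (fun _ => card_Lc_zero g) h
theorem up7 : Nat.card (Lc (nat_lit 1) g) ≤ 2 := chain_up (n := 1) (o8l7_le h) (up8 h)
theorem up6 : Nat.card (Lc (nat_lit 3) g) ≤ 6 := chain_up (n := 2) (o8l6_le h) (up7 h)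
theorem up5 : Nat.card (Lc (nat_lit 7) g) ≤ 24 := chain_up (n := 6) (o8l5_le h) (up6 h)
theorem up4 : Nat.card (Lc (nat_lit 15) g) ≤ 120 := chain_up (n := 24) (o8l4_le h) (up5 h)
theorem up3 : Nat.card (Lc (nat_lit 31) g) ≤ 1920 := chain_up (n := 120) (o8l3_le h) (up4 h)
theorem up2 : Nat.card (Lc (nat_lit 63) g) ≤ 51840 := chain_up (n := 1920) (o8l2_le h) (up3 h)
theorem up1 : Nat.card (Lc (nat_lit 127) g) ≤ 1451520 := chain_up (n := 51840) (o8l1_le h) (up2 h)
theorem up0 : Nat.card (Lc (nat_lit 255) g) ≤ 174182400 := chain_up (n := 1451520) (o8l0_le h) (up1 h)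
theorem lo0 : 174182400 ≤ Nat.card (Lc (nat_lit 255) g) := by rw [(htb h).1, Subgroup.card_top, h.card]
theorem lo1 : 1451520 ≤ Nat.card (Lc (nat_lit 127) g) := chain_down (N := 120) (o8l0_le h) (lo0 h) (by norm_num)
theorem rel0 : Rel g o8l0_P (nat_lit 127) (nat_lit 255) :=
  rel_step' (N := 120) (hchk h) o8l0_ok o8l0_tab o8l0_hP ⟨rfl, rfl, rfl⟩ rfl (chain_eq (up1 h) (lo0 h))
theorem lo2 : 51840 ≤ Nat.card (Lc (nat_lit 63) g) := chain_down (N := 28) (o8l1_le h) (lo1 h) (by norm_num)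
theorem rel1 : Rel g o8l1_P (nat_lit 63) (nat_lit 127) :=
  rel_step' (N := 28) (hchk h) o8l1_ok o8l1_tab o8l1_hP ⟨rfl, rfl, rfl⟩ rfl (chain_eq (up2 h) (lo1 h))
theorem lo3 : 1920 ≤ Nat.card (Lc (nat_lit 31) g) := chain_down (N := 27) (o8l2_le h) (lo2 h) (by norm_num)
theorem rel2 : Rel g o8l2_P (nat_lit 31) (nat_lit 63) :=
  rel_step' (N := 27) (hchk h) o8l2_ok o8l2_tab o8l2_hP ⟨rfl, rfl, rfl⟩ rfl (chain_eq (up3 h) (lo2 h))
theorem lo4 : 120 ≤ Nat.card (Lc (nat_lit 15) g) := chain_down (N := 16) (o8l3_le h) (lo3 h) (by norm_num)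
theorem rel3 : Rel g o8l3_P (nat_lit 15) (nat_lit 31) :=
  rel_step' (N := 16) (hchk h) o8l3_ok o8l3_tab o8l3_hP ⟨rfl, rfl, rfl⟩ rfl (chain_eq (up4 h) (lo3 h))
theorem lo5 : 24 ≤ Nat.card (Lc (nat_lit 7) g) := chain_down (N := 5) (o8l4_le h) (lo4 h) (by norm_num)
theorem rel4 : Rel g o8l4_P (nat_lit 7) (nat_lit 15) :=
  rel_step' (N := 5) (hchk h) o8l4_ok o8l4_tab o8l4_hP ⟨rfl, rfl, rfl⟩ rfl (chain_eq (up5 h) (lo4 h))
theorem lo6 : 6 ≤ Nat.card (Lc (nat_lit 3) g) := chain_down (N := 4) (o8l5_le h) (lo5 h) (by norm_num)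
theorem rel5 : Rel g o8l5_P (nat_lit 3) (nat_lit 7) :=
  rel_step' (N := 4) (hchk h) o8l5_ok o8l5_tab o8l5_hP ⟨rfl, rfl, rfl⟩ rfl (chain_eq (up6 h) (lo5 h))
theorem lo7 : 2 ≤ Nat.card (Lc (nat_lit 1) g) := chain_down (N := 3) (o8l6_le h) (lo6 h) (by norm_num)
theorem rel6 : Rel g o8l6_P (nat_lit 1) (nat_lit 3) :=
  rel_step' (N := 3) (hchk h) o8l6_ok o8l6_tab o8l6_hP ⟨rfl, rfl, rfl⟩ rfl (chain_eq (up7 h) (lo6 h))
theorem lo8 : 1 ≤ Nat.card (Lc (nat_lit 0) g) := chain_down (N := 2) (o8l7_le h) (lo7 h) (by norm_num)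
theorem rel7 : Rel g o8l7_P (nat_lit 0) (nat_lit 1) :=
  rel_step' (N := 2) (hchk h) o8l7_ok o8l7_tab o8l7_hP ⟨rfl, rfl, rfl⟩ rfl (chain_eq (up8 h) (lo7 h))
theorem relP : Rel g P 0 (2 ^ 8 - 1) := ((((((((rel7 h).trans (rel6 h)).trans (rel5 h)).trans (rel4 h)).trans (rel3 h)).trans (rel2 h)).trans (rel1 h)).trans (rel0 h))
theorem hP : ∀ w ∈ P, ev g w = 1 := fun w hw => hchk h w (allL_sound hP0 w hw)
theorem hQ : ∀ q ∈ Q, ev g (q.1 ++ q.2) = ev g (q.2 ++ q.1) := pairs_sound h.am (htb h).2 hQ0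
theorem pb2 : PB G0 2 2 :=
  h.pcpb (htb h).2 (e := 3) (by norm_num) o8p2_ext o8p2_1 o8p2_2 o8p2_hE o8p2_hc (by decide +kernel)
theorem pb3 : PB G0 3 0 :=
  h.pcpb (htb h).2 (e := 1) (by norm_num) o8p3_ext o8p3_1 o8p3_2 o8p3_hE o8p3_hc (by decide +kernel)
theorem pb5 : PB G0 5 0 :=
  h.pcpb (htb h).2 (e := 1) (by norm_num) o8p5_ext o8p5_1 o8p5_2 o8p5_hE o8p5_hc (by decide +kernel)
theorem bound (Γ : Type u) [Group Γ] [Finite Γ] (σ : Γ →* G0) (hσ : IsStemExtension σ) :
    Nat.card σ.ker ≤ 4 :=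
  card_ker_dvd (B := 7) [(2, 2), (3, 0), (5, 0)] h.card (by decide +kernel) (by decide +kernel) (by norm_num) (by
    simp only [List.mem_cons, List.not_mem_nil, or_false, forall_eq_or_imp, forall_eq]
    exact ⟨⟨pb2 h, by decide⟩,
      ⟨pb3 h, by decide⟩,
      ⟨pb5 h, by decide⟩⟩) Γ σ hσ

theorem mult : HasSchurMultiplier G0 (Multiplicative (ZMod 2 × ZMod 2)) :=
  hasSchur_two (GG := 8) (relP h) (htb h).1 h.one (hP h) (hQ h) ca_cov cb_cov (by decide +kernel) (bound h)

end Cfsg.Agent.H28.O8
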