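import Mathlib
import Cfsg.Agent.H28.ChevM
import Cfsg.Prelude.Def_ChevG2

set_option maxRecDepth 100000
set_option linter.all false
set_option autoImplicit false

namespace Cfsg.Agent.H28.Sl29
open Cfsg.Agent.H25 Cfsg.Agent.H28

noncomputable def T_tbl : NT :=
(.node (nat_lit 2045)
(.leaf (nat_lit 0) (nat_lit 0xa14f89d1250ca1472631d1f2b224508509a1572464d189408642491fa932224f12441717cf0908bc43206c11e142832241202b021eb0526b2645aa3d15b10474a7107b1247ef310738f31a4595319d218c450c1c95766650614c8162a9212b929712905a0c7722b92628b2142350d09a16847d25c0a11245d5d9ac2104816399123441d551a5278c39039c650ccb1051ca55241911c0715c62d0313d80a29921aa823c6150a93f86d0d502a067502791ea852082210688d12acd1021b55364511b404106461571b420e20d0488910422504088166409481a9262c6d011a151c431114021024294f19b22c205018831004114918e2402010088112e2cd000801))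
(.leaf (nat_lit 2046) (nat_lit 0x2324e49472da0ac4474ced1bc454728f1e2a4b46a6d9a6aba45acb9263be468eb4e7bc3458ee8d5acd488d1d151b945e50e203bd452eace13bf44af04d24384508bddaa2444e721a523747069191c464608c5e4a2348a6dd93a2248c68d90a484927399c2364426898fb254406e1531a843e4fa2442746487dce93144908061bc043af34ce2ab482ca9222ad438c791ebcf436e70d80bb49ea648c09a4662cc5612f49d06057b2942c7155291546f0584a31d42e69d639b24)))

noncomputable def T : PT where
  N := nat_lit 80
  G := nat_lit 4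
  W := nat_lit 11
  mask := nat_lit 2047
  sb := nat_lit 4
  sm := nat_lit 15
  tbl := T_tbl

def Ms : List (List ℕ) :=
  [[nat_lit 17, nat_lit 16, nat_lit 256],
  [nat_lit 49, nat_lit 16, nat_lit 256],
  [nat_lit 4, nat_lit 80, nat_lit 256],
  [nat_lit 16, nat_lit 2, nat_lit 256]]

noncomputable def vs_tbl : NT :=
(.leaf (nat_lit 0) (nat_lit 0x871381351371581741641881331341541551771671851471171271571461531151511141781181241321401411161311661131451821251231421111441831621281681481841510761431721651521601611410110310561261811631221731751121701861711610801201810361211710301210501101))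

noncomputable def vs : ℕ → ℕ := tabF vs_tbl (nat_lit 12) (nat_lit 4095)

noncomputable def look_tbl : NT :=
(.node (nat_lit 7734)
(.node (nat_lit 3926)
(.node (nat_lit 2022)
(.node (nat_lit 678)
(.node (nat_lit 342)
(.node (nat_lit 230)
(.leaf (nat_lit 119) (nat_lit 0xe105203058117))
(.leaf (nat_lit 231) (nat_lit 0x3080b040e28b82)))
(.node (nat_lit 454)
(.leaf (nat_lit 343) (nat_lit 0x401c118085cb0a))
(.node (nat_lit 566)
(.leaf (nat_lit 455) (nat_lit 0x428c162e1c220))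
(.leaf (nat_lit 567) (nat_lit 0x2c082171480398)))))
(.node (nat_lit 902)
(.node (nat_lit 790)
(.leaf (nat_lit 679) (nat_lit 0x860b874008516))
(.leaf (nat_lit 791) (nat_lit 0x145d0022c10c07)))
(.node (nat_lit 1798)
(.leaf (nat_lit 903) (nat_lit 0x2e5838a0461004))
(.node (nat_lit 1910)
(.leaf (nat_lit 1799) (nat_lit 0x1234d01660c400))
(.leaf (nat_lit 1911) (nat_lit 0x262ccb964c02a8))))))
(.node (nat_lit 2582)
(.node (nat_lit 2246)
(.node (nat_lit 2134)
(.leaf (nat_lit 2023) (nat_lit 0x587529b52d088e))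
(.leaf (nat_lit 2135) (nat_lit 0x4c4093b3d1d52e)))
(.node (nat_lit 2358)
(.leaf (nat_lit 2247) (nat_lit 0x432a4c54f19ab8))
(.node (nat_lit 2470)
(.leaf (nat_lit 2359) (nat_lit 0x823ce445b355ba))
(.leaf (nat_lit 2471) (nat_lit 0x187d7957818a31)))))
(.node (nat_lit 3590)
(.node (nat_lit 2694)
(.leaf (nat_lit 2583) (nat_lit 0x9f0e13d8131f3f))
(.leaf (nat_lit 2695) (nat_lit 0x90dd1cb4539236)))
(.node (nat_lit 3702)
(.leaf (nat_lit 3591) (nat_lit 0x660418d1268008))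
(.node (nat_lit 3814)
(.leaf (nat_lit 3703) (nat_lit 0x526da1d5894711))
(.leaf (nat_lit 3815) (nat_lit 0x64e580b2665405)))))))
(.node (nat_lit 5830)
(.node (nat_lit 4486)
(.node (nat_lit 4150)
(.node (nat_lit 4038)
(.leaf (nat_lit 3927) (nat_lit 0x785431f18bd894))
(.leaf (nat_lit 4039) (nat_lit 0x452e737908db24)))
(.node (nat_lit 4262)
(.leaf (nat_lit 4151) (nat_lit 0x80f66439f09fbe))
(.node (nat_lit 4374)
(.leaf (nat_lit 4263) (nat_lit 0x3cee3904c4972a))
(.leaf (nat_lit 4375) (nat_lit 0x5b1268f8271d2b)))))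
(.node (nat_lit 5494)
(.node (nat_lit 5382)
(.leaf (nat_lit 4487) (nat_lit 0x4f1634a4325c35))
(.leaf (nat_lit 5383) (nat_lit 0x2244331a0019a)))
(.node (nat_lit 5606)
(.leaf (nat_lit 5495) (nat_lit 0x2a30a3c3ec432f))
(.node (nat_lit 5718)
(.leaf (nat_lit 5607) (nat_lit 0x769951e20ba392))
(.leaf (nat_lit 5719) (nat_lit 0x724c2b216a1819))))))
(.node (nat_lit 7174)
(.node (nat_lit 6054)
(.node (nat_lit 5942)
(.leaf (nat_lit 5831) (nat_lit 0x7b3df4086fe642))
(.leaf (nat_lit 5943) (nat_lit 0x8a85aa794e2349)))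
(.node (nat_lit 6166)
(.leaf (nat_lit 6055) (nat_lit 0x36b08a93a39a25))
(.node (nat_lit 6278)
(.leaf (nat_lit 6167) (nat_lit 0x97212226eda723))
(.leaf (nat_lit 6279) (nat_lit 0x89055ad1eea69c)))))
(.node (nat_lit 7398)
(.node (nat_lit 7286)
(.leaf (nat_lit 7175) (nat_lit 0x10699830024681))
(.leaf (nat_lit 7287) (nat_lit 0x56716cd75047c4)))
(.node (nat_lit 7510)
(.leaf (nat_lit 7399) (nat_lit 0x7d0a04c7f3e1bd))
(.node (nat_lit 7622)
(.leaf (nat_lit 7511) (nat_lit 0x488d14e6d21bcb))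
(.leaf (nat_lit 7623) (nat_lit 0xa65930504c5b9))))))))
(.node (nat_lit 11542)
(.node (nat_lit 9638)
(.node (nat_lit 9078)
(.node (nat_lit 7958)
(.node (nat_lit 7846)
(.leaf (nat_lit 7735) (nat_lit 0x5448f475c9883b))
(.leaf (nat_lit 7847) (nat_lit 0x6b253c67086545)))
(.node (nat_lit 8070)
(.leaf (nat_lit 7959) (nat_lit 0x28bde066230f95))
(.node (nat_lit 8966)
(.leaf (nat_lit 8071) (nat_lit 0x22954b41cb0e9b))
(.leaf (nat_lit 8967) (nat_lit 0x62068034044b3)))))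
(.node (nat_lit 9302)
(.node (nat_lit 9190)
(.leaf (nat_lit 9079) (nat_lit 0x8cd653893150a7))
(.leaf (nat_lit 9191) (nat_lit 0x9c91bb6472e422)))
(.node (nat_lit 9414)
(.leaf (nat_lit 9303) (nat_lit 0x9aac7ba39120ad))
(.node (nat_lit 9526)
(.leaf (nat_lit 9415) (nat_lit 0xc50fb15e5463c))
(.leaf (nat_lit 9527) (nat_lit 0x60145a832e49b2))))))
(.node (nat_lit 10982)
(.node (nat_lit 9862)
(.node (nat_lit 9750)
(.leaf (nat_lit 9639) (nat_lit 0x98fa1bf84f67c0))
(.leaf (nat_lit 9751) (nat_lit 0x6844e8e4a6d629)))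
(.node (nat_lit 10758)
(.leaf (nat_lit 9863) (nat_lit 0x8ea882e24ed31e))
(.node (nat_lit 10870)
(.leaf (nat_lit 10759) (nat_lit 0x1acc0090220d03))
(.leaf (nat_lit 10871) (nat_lit 0x207972676a8947)))))
(.node (nat_lit 11206)
(.node (nat_lit 11094)
(.leaf (nat_lit 10983) (nat_lit 0x3ef188c2a51786))
(.leaf (nat_lit 11095) (nat_lit 0x3aa472c36452b4)))
(.node (nat_lit 11318)
(.leaf (nat_lit 11207) (nat_lit 0x1eb5d4188ace4d))
(.node (nat_lit 11430)
(.leaf (nat_lit 11319) (nat_lit 0x6e89b4896911ce))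
(.leaf (nat_lit 11431) (nat_lit 0x16c94137214cb0)))))))
(.node (nat_lit 13446)
(.node (nat_lit 12886)
(.node (nat_lit 12550)
(.node (nat_lit 11654)
(.leaf (nat_lit 11543) (nat_lit 0x949dc218ad64c6))
(.leaf (nat_lit 11655) (nat_lit 0x8701fcf7afa14c)))
(.node (nat_lit 12662)
(.leaf (nat_lit 12551) (nat_lit 0x34000880635989))
(.node (nat_lit 12774)
(.leaf (nat_lit 12663) (nat_lit 0x46da5a49cdd148))
(.leaf (nat_lit 12775) (nat_lit 0x92e22b58d293a1)))))
(.node (nat_lit 13110)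
(.node (nat_lit 12998)
(.leaf (nat_lit 12887) (nat_lit 0x84fdebe990e04f))
(.leaf (nat_lit 12999) (nat_lit 0x24b9daa8e40f26)))
(.node (nat_lit 13222)
(.leaf (nat_lit 13111) (nat_lit 0x4a38d9168754ac))
(.node (nat_lit 13334)
(.leaf (nat_lit 13223) (nat_lit 0x38ea22b9a3d6c1))
(.leaf (nat_lit 13335) (nat_lit 0x32a1c85602d913))))))
(.node (nat_lit 14790)
(.node (nat_lit 14454)
(.node (nat_lit 14342)
(.leaf (nat_lit 13447) (nat_lit 0x5ec4a940c7de0c))
(.leaf (nat_lit 14343) (nat_lit 0xc49a10cc08d)))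
(.node (nat_lit 14566)
(.leaf (nat_lit 14455) (nat_lit 0x7f327c27d01ec3))
(.node (nat_lit 14678)
(.leaf (nat_lit 14567) (nat_lit 0x753609c56b620f))
(.leaf (nat_lit 14679) (nat_lit 0x71190c96a9e2ca)))))
(.node (nat_lit 15014)
(.node (nat_lit 14902)
(.leaf (nat_lit 14791) (nat_lit 0x1cd162522a4d9d))
(.leaf (nat_lit 14903) (nat_lit 0x621862f28f0a9f)))
(.node (nat_lit 15126)
(.leaf (nat_lit 15015) (nat_lit 0x6d3a423488a5b7))
(.node (nat_lit 15238)
(.leaf (nat_lit 15127) (nat_lit 0x5d1d3125479d90))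
(.leaf (nat_lit 15239) (nat_lit 0x50c09990ac9c8b)))))))))

noncomputable def look : ℕ → ℕ := tabF look_tbl (nat_lit 7) (nat_lit 127)

theorem am_0 : K9.amOK 3 T Ms vs (nat_lit 0) (nat_lit 80) = true := by decide +kernel
theorem hAm : ∀ i < T.N, K9.AmP 3 T Ms vs i := rng_all (FT.amOK_sound _ am_0)
theorem hInj : K9.injOK 3 vs look T.N = true := by decide +kernel

def M2 : List (List ℕ) := [[nat_lit 17, nat_lit 16],
  [nat_lit 49, nat_lit 16],
  [nat_lit 4, nat_lit 80],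
  [nat_lit 16, nat_lit 2]]
theorem hm : allLin (fun a => band (K9.slOK 2 (gd [] M2 a)) (eqE 3 (ent (gd [] Ms a)) (fun i j => if i < 2 then (if j < 2 then ent (gd [] M2 a) i j else 0) else if j < 2 then 0 else 1))) 0 Ms.length = true := by decide +kernel

noncomputable def sl29l0_tbl : NT :=
(.leaf (nat_lit 0) (nat_lit 0x380286b828b3028a282778038408570b03414035708294382614024828263203964829ac0490a833380264b8298b0261a825680365b8360b0329c03960827548470b02214053320a73a0688485779838588255b8248c0231a82970845238320b03114037380222b823000099282260842548251b0380a83158023448420b021000085084324824930351a836680241c845000070a821318244b833000068c034080201b8210000500004280301085100003000022107100010000100001000001000100001000010))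

noncomputable def sl29l0_par : NT :=
(.leaf (nat_lit 0) (nat_lit 0x129c2a4468c1220180))

noncomputable def sl29l0_rt : RT :=
(.node (nat_lit 4)
(.node (nat_lit 1)
(.node (nat_lit 0)
(.leaf (nat_lit 0) [nat_lit 3, nat_lit 7] (nat_lit 1) (nat_lit 3835) (nat_lit 0))
(.leaf (nat_lit 1) [nat_lit 2, nat_lit 3, nat_lit 2, nat_lit 7] (nat_lit 3) (nat_lit 0xe9ae9a) (nat_lit 0)))
(.node (nat_lit 2)
(.leaf (nat_lit 2) [nat_lit 7, nat_lit 2, nat_lit 2, nat_lit 2, nat_lit 7, nat_lit 6] (nat_lit 5) (nat_lit 0xdd25f7497) (nat_lit 0))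
(.node (nat_lit 3)
(.leaf (nat_lit 3) [nat_lit 0, nat_lit 3, nat_lit 0, nat_lit 3, nat_lit 0, nat_lit 3] (nat_lit 5) (nat_lit 0x618618618) (nat_lit 0))
(.leaf (nat_lit 4) [nat_lit 3, nat_lit 0, nat_lit 1, nat_lit 2, nat_lit 3, nat_lit 0, nat_lit 1, nat_lit 3, nat_lit 4, nat_lit 1] (nat_lit 9) (nat_lit 0x3190d10cc643443) (nat_lit 0)))))
(.node (nat_lit 6)
(.node (nat_lit 5)
(.leaf (nat_lit 0) [nat_lit 0, nat_lit 4] (nat_lit 1) (nat_lit 2080) (nat_lit 0))
(.leaf (nat_lit 0) [nat_lit 1, nat_lit 5] (nat_lit 1) (nat_lit 2665) (nat_lit 0)))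
(.node (nat_lit 7)
(.leaf (nat_lit 0) [nat_lit 2, nat_lit 6] (nat_lit 1) (nat_lit 3250) (nat_lit 0))
(.node (nat_lit 8)
(.leaf (nat_lit 0) [nat_lit 0, nat_lit 1, nat_lit 4, nat_lit 5] (nat_lit 3) (nat_lit 0xb08b08) (nat_lit 0))
(.leaf (nat_lit 0) [nat_lit 0, nat_lit 6, nat_lit 1, nat_lit 2] (nat_lit 3) (nat_lit 0x470470) (nat_lit 0))))))

def sl29l0_P : List (List ℕ) :=
  [[nat_lit 3, nat_lit 3, nat_lit 3, nat_lit 3],
  [nat_lit 2, nat_lit 3, nat_lit 2, nat_lit 3, nat_lit 3, nat_lit 3],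
  [nat_lit 3, nat_lit 3, nat_lit 3, nat_lit 2, nat_lit 2, nat_lit 2, nat_lit 3, nat_lit 3, nat_lit 3, nat_lit 2, nat_lit 2, nat_lit 2, nat_lit 2, nat_lit 2, nat_lit 2, nat_lit 2],
  [nat_lit 0, nat_lit 3, nat_lit 0, nat_lit 3, nat_lit 0, nat_lit 3],
  [nat_lit 3, nat_lit 0, nat_lit 1, nat_lit 2, nat_lit 3, nat_lit 0, nat_lit 1, nat_lit 3, nat_lit 0, nat_lit 0, nat_lit 1]]

noncomputable def sl29l0_C : TC where
  G := nat_lit 8
  N := nat_lit 10
  W := nat_lit 20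
  mask := nat_lit 0xfffff
  VM := nat_lit 0
  TV := nat_lit 0
  vb := nat_lit 0
  TM := nat_lit 15
  rb := nat_lit 4
  RM := nat_lit 2047
  BIG := nat_lit 753664
  b := nat_lit 3
  lm := nat_lit 7
  Y := nat_lit 119
  n := nat_lit 1
  K := nat_lit 0
  K0 := nat_lit 0
  QM := nat_lit 0
  k := nat_lit 0
  w := nat_lit 1
  c := nat_lit 0
  cq := nat_lit 0
  Lmax := nat_lit 10
  PW := nat_lit 7
  PM := nat_lit 127
  tbl := sl29l0_tbl
  par := sl29l0_par
  rt := sl29l0_rt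

noncomputable def sl29l0 : Lv where
  C := sl29l0_C
  df := [[nat_lit 0],
  [nat_lit 1],
  [nat_lit 2],
  [nat_lit 3],
  [nat_lit 0, nat_lit 0],
  [nat_lit 1, nat_lit 1],
  [nat_lit 2, nat_lit 2, nat_lit 2, nat_lit 2, nat_lit 2, nat_lit 2, nat_lit 2],
  [nat_lit 3, nat_lit 3, nat_lit 3]]
  X0 := nat_lit 7
  X := nat_lit 15
  Xl := nat_lit 15
  GG := nat_lit 4
  back := [nat_lit 0, nat_lit 1, nat_lit 2, nat_lit 3]
  P := sl29l0_P

theorem sl29l0_e0 : sl29l0_C.edges (nat_lit 0) (nat_lit 10) = true := by decide +kernel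
theorem sl29l0_cl : sl29l0_C.closed sl29l0.Xl (nat_lit 0) (nat_lit 10) = true := by decide +kernel
theorem sl29l0_tab : sl29l0.Tab :=
  ⟨rng_all (TC.edges_sound sl29l0_e0), rng_all (TC.closed_sound sl29l0_cl)⟩

noncomputable def sl29l1_tbl : NT :=
(.leaf (nat_lit 0) (nat_lit 0x100ab20be202e4c267a0fb907cc02ed416680b08071485ca81e1009aa0b5a02a00076a0ea9074000c9414580a08068c858881c10089a0ad602600054a0da106c000874123809080608854481a1008120a4e02200033a0c910640004000800040000400100008))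

noncomputable def sl29l1_par : NT :=
(.leaf (nat_lit 0) (nat_lit 0x81d511205080))

noncomputable def sl29l1_rt : RT :=
(.node (nat_lit 2)
(.node (nat_lit 0)
(.leaf (nat_lit 0) [nat_lit 2, nat_lit 5] (nat_lit 1) (nat_lit 2730) (nat_lit 0))
(.node (nat_lit 1)
(.leaf (nat_lit 1) [nat_lit 0, nat_lit 5, nat_lit 1, nat_lit 2] (nat_lit 3) (nat_lit 0x468468) (nat_lit 0))
(.leaf (nat_lit 2) [nat_lit 0, nat_lit 2, nat_lit 4, nat_lit 5] (nat_lit 3) (nat_lit 0xb10b10) (nat_lit 0))))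
(.node (nat_lit 3)
(.leaf (nat_lit 0) [nat_lit 2, nat_lit 2, nat_lit 2, nat_lit 2, nat_lit 2, nat_lit 2, nat_lit 2, nat_lit 2] (nat_lit 7) (nat_lit 0x492492492492) (nat_lit 0))
(.node (nat_lit 4)
(.leaf (nat_lit 0) [nat_lit 0, nat_lit 3] (nat_lit 1) (nat_lit 1560) (nat_lit 0))
(.leaf (nat_lit 0) [nat_lit 1, nat_lit 4] (nat_lit 1) (nat_lit 2145) (nat_lit 0)))))

def sl29l1_P : List (List ℕ) :=
  [[nat_lit 2, nat_lit 2, nat_lit 2, nat_lit 2, nat_lit 2, nat_lit 2, nat_lit 2, nat_lit 2],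
  [nat_lit 0, nat_lit 2, nat_lit 2, nat_lit 2, nat_lit 2, nat_lit 2, nat_lit 2, nat_lit 2, nat_lit 1, nat_lit 2],
  [nat_lit 0, nat_lit 2, nat_lit 1, nat_lit 1, nat_lit 2, nat_lit 2, nat_lit 2, nat_lit 2, nat_lit 2, nat_lit 2, nat_lit 2]]

noncomputable def sl29l1_C : TC where
  G := nat_lit 6
  N := nat_lit 8
  W := nat_lit 17
  mask := nat_lit 131071
  VM := nat_lit 0
  TV := nat_lit 0
  vb := nat_lit 0
  TM := nat_lit 7
  rb := nat_lit 3
  RM := nat_lit 1023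
  BIG := nat_lit 73728
  b := nat_lit 3
  lm := nat_lit 7
  Y := nat_lit 27
  n := nat_lit 1
  K := nat_lit 0
  K0 := nat_lit 0
  QM := nat_lit 0
  k := nat_lit 0
  w := nat_lit 1
  c := nat_lit 0
  cq := nat_lit 0
  Lmax := nat_lit 8
  PW := nat_lit 6
  PM := nat_lit 63
  tbl := sl29l1_tbl
  par := sl29l1_par
  rt := sl29l1_rt

noncomputable def sl29l1 : Lv where
  C := sl29l1_C
  df := [[nat_lit 0],
  [nat_lit 1],
  [nat_lit 2],
  [nat_lit 0, nat_lit 0],
  [nat_lit 1, nat_lit 1],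
  [nat_lit 2, nat_lit 2, nat_lit 2, nat_lit 2, nat_lit 2, nat_lit 2, nat_lit 2]]
  X0 := nat_lit 3
  X := nat_lit 7
  Xl := nat_lit 7
  GG := nat_lit 4
  back := [nat_lit 0, nat_lit 1, nat_lit 2, nat_lit 0]
  P := sl29l1_P

theorem sl29l1_e0 : sl29l1_C.edges (nat_lit 0) (nat_lit 8) = true := by decide +kernel
theorem sl29l1_cl : sl29l1_C.closed sl29l1.Xl (nat_lit 0) (nat_lit 8) = true := by decide +kernel
theorem sl29l1_tab : sl29l1.Tab :=
  ⟨rng_all (TC.edges_sound sl29l1_e0), rng_all (TC.closed_sound sl29l1_cl)⟩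

noncomputable def sl29l2_tbl : NT :=
(.leaf (nat_lit 0) (nat_lit 0x6012d828806240e20109055105360d000400100008004))

noncomputable def sl29l2_par : NT :=
(.leaf (nat_lit 0) (nat_lit 0x310))

noncomputable def sl29l2_rt : RT :=
(.node (nat_lit 1)
(.node (nat_lit 0)
(.leaf (nat_lit 0) [nat_lit 1, nat_lit 3] (nat_lit 1) (nat_lit 221) (nat_lit 0))
(.leaf (nat_lit 0) [nat_lit 1, nat_lit 1, nat_lit 1] (nat_lit 2) (nat_lit 1365) (nat_lit 0)))
(.node (nat_lit 2)
(.leaf (nat_lit 1) [nat_lit 0, nat_lit 1, nat_lit 2, nat_lit 3] (nat_lit 3) (nat_lit 58596) (nat_lit 0))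
(.leaf (nat_lit 0) [nat_lit 0, nat_lit 2] (nat_lit 1) (nat_lit 136) (nat_lit 0))))

def sl29l2_P : List (List ℕ) :=
  [[nat_lit 1, nat_lit 1, nat_lit 1],
  [nat_lit 0, nat_lit 1, nat_lit 0, nat_lit 0, nat_lit 1, nat_lit 1]]

noncomputable def sl29l2_C : TC where
  G := nat_lit 4
  N := nat_lit 3
  W := nat_lit 15
  mask := nat_lit 32767
  VM := nat_lit 0
  TV := nat_lit 0
  vb := nat_lit 0
  TM := nat_lit 3
  rb := nat_lit 2
  RM := nat_lit 1023
  BIG := nat_lit 16384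
  b := nat_lit 2
  lm := nat_lit 3
  Y := nat_lit 5
  n := nat_lit 1
  K := nat_lit 0
  K0 := nat_lit 0
  QM := nat_lit 0
  k := nat_lit 0
  w := nat_lit 1
  c := nat_lit 0
  cq := nat_lit 0
  Lmax := nat_lit 4
  PW := nat_lit 4
  PM := nat_lit 15
  tbl := sl29l2_tbl
  par := sl29l2_par
  rt := sl29l2_rt

noncomputable def sl29l2 : Lv where
  C := sl29l2_C
  df := [[nat_lit 0],
  [nat_lit 1],
  [nat_lit 0, nat_lit 0],
  [nat_lit 1, nat_lit 1]]
  X0 := nat_lit 1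
  X := nat_lit 3
  Xl := nat_lit 3
  GG := nat_lit 4
  back := [nat_lit 0, nat_lit 1, nat_lit 0, nat_lit 0]
  P := sl29l2_P

theorem sl29l2_e0 : sl29l2_C.edges (nat_lit 0) (nat_lit 3) = true := by decide +kernel
theorem sl29l2_cl : sl29l2_C.closed sl29l2.Xl (nat_lit 0) (nat_lit 3) = true := by decide +kernel
theorem sl29l2_tab : sl29l2.Tab :=
  ⟨rng_all (TC.edges_sound sl29l2_e0), rng_all (TC.closed_sound sl29l2_cl)⟩

noncomputable def sl29l3_tbl : NT :=
(.leaf (nat_lit 0) (nat_lit 0x602480c202120a0008001))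

noncomputable def sl29l3_par : NT :=
(.leaf (nat_lit 0) (nat_lit 0x40))

noncomputable def sl29l3_rt : RT :=
(.node (nat_lit 0)
(.leaf (nat_lit 0) [nat_lit 0, nat_lit 1] (nat_lit 1) (nat_lit 10) (nat_lit 0))
(.leaf (nat_lit 0) [nat_lit 0, nat_lit 0, nat_lit 0] (nat_lit 2) (nat_lit 0) (nat_lit 0)))

def sl29l3_P : List (List ℕ) :=
  [[nat_lit 0, nat_lit 0, nat_lit 0]]

noncomputable def sl29l3_C : TC where
  G := nat_lit 2
  N := nat_lit 3
  W := nat_lit 14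
  mask := nat_lit 16383
  VM := nat_lit 0
  TV := nat_lit 0
  vb := nat_lit 0
  TM := nat_lit 3
  rb := nat_lit 2
  RM := nat_lit 511
  BIG := nat_lit 8192
  b := nat_lit 1
  lm := nat_lit 1
  Y := nat_lit 0
  n := nat_lit 1
  K := nat_lit 0
  K0 := nat_lit 0
  QM := nat_lit 0
  k := nat_lit 0
  w := nat_lit 1
  c := nat_lit 0
  cq := nat_lit 0
  Lmax := nat_lit 3
  PW := nat_lit 3
  PM := nat_lit 7
  tbl := sl29l3_tbl
  par := sl29l3_par
  rt := sl29l3_rt

noncomputable def sl29l3 : Lv where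
  C := sl29l3_C
  df := [[nat_lit 0],
  [nat_lit 0, nat_lit 0]]
  X0 := nat_lit 0
  X := nat_lit 1
  Xl := nat_lit 1
  GG := nat_lit 4
  back := [nat_lit 0, nat_lit 0, nat_lit 0, nat_lit 0]
  P := sl29l3_P

theorem sl29l3_e0 : sl29l3_C.edges (nat_lit 0) (nat_lit 3) = true := by decide +kernel
theorem sl29l3_cl : sl29l3_C.closed sl29l3.Xl (nat_lit 0) (nat_lit 3) = true := by decide +kernel
theorem sl29l3_tab : sl29l3.Tab :=
  ⟨rng_all (TC.edges_sound sl29l3_e0), rng_all (TC.closed_sound sl29l3_cl)⟩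

noncomputable def sl29ch_0 : OL where
  b := nat_lit 2
  n := nat_lit 80
  S := [[nat_lit 0],
  [nat_lit 1],
  [nat_lit 3]]
  O := ⟨nat_lit 0, nat_lit 4, nat_lit 7, nat_lit 127, nat_lit 0, nat_lit 0,
(.node (nat_lit 2043)
(.leaf (nat_lit 0) (nat_lit 0x1a0580724017a6420969b380168434054a0320943e5801390640932c720534e2c0928c86052980a012c9520521c960121e2a0910354090c018050a9560904c48050345c04fad6c08e9a9e04e254c00e411e04d939200d953c08d241008cb56a08c0b8204c423608bb74604bb97000bbc0c08b275000b238e04ab26600a9f5e08a364e0892a140488a1608846880484a4a0084b76087af300479678007c58c086ab68046c494086437c0461d120064d3a085bf600853a220450f620848804084471c04414840044f28083b102083119a043487e082b85a042a144042229808197260812e90041060e080a808040bd8a00085740800000040129c0000e0600002))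
(.leaf (nat_lit 2044) (nat_lit 0x200a433800a2812e0a20d6e09f093e09dbb40099997a05930)))⟩

noncomputable def sl29ch_1 : OL where
  b := nat_lit 0
  n := nat_lit 9
  S := [[nat_lit 0, nat_lit 0, nat_lit 3, nat_lit 0, nat_lit 0],
  [nat_lit 1, nat_lit 3, nat_lit 1, nat_lit 3, nat_lit 1]]
  O := ⟨nat_lit 0, nat_lit 4, nat_lit 6, nat_lit 63, nat_lit 0, nat_lit 0,
(.node (nat_lit 1121)
(.node (nat_lit 353)
(.leaf (nat_lit 0) (nat_lit 0x11ba0011380010f60010ae00107f00004e001031000028000000))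
(.node (nat_lit 977)
(.leaf (nat_lit 354) (nat_lit 0x3))
(.leaf (nat_lit 978) (nat_lit 0x1))))
(.node (nat_lit 1313)
(.node (nat_lit 1193)
(.leaf (nat_lit 1122) (nat_lit 0x5))
(.leaf (nat_lit 1194) (nat_lit 0x2)))
(.node (nat_lit 1529)
(.leaf (nat_lit 1314) (nat_lit 0x8000000000007000000000006))
(.leaf (nat_lit 1530) (nat_lit 0x4)))))⟩

noncomputable def sl29ch : List OL := [sl29ch_0, sl29ch_1]

theorem hch : chainOK T (nat_lit 15) sl29ch [] = true := by decide +kernel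
noncomputable def chk : List ℕ → Bool := T.chk [nat_lit 0, nat_lit 2]
theorem sl29l0_ok : sl29l0.ok chk = true := by decide +kernel
theorem sl29l0_hP : allL chk sl29l0.P = true := by decide +kernel
theorem sl29l1_ok : sl29l1.ok chk = true := by decide +kernel
theorem sl29l1_hP : allL chk sl29l1.P = true := by decide +kernel
theorem sl29l2_ok : sl29l2.ok chk = true := by decide +kernel
theorem sl29l2_hP : allL chk sl29l2.P = true := by decide +kernel
theorem sl29l3_ok : sl29l3.ok chk = true := by decide +kernel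
theorem sl29l3_hP : allL chk sl29l3.P = true := by decide +kernel
def P : List (List ℕ) := sl29l3_P ++ sl29l2_P ++ sl29l1_P ++ sl29l0_P
theorem hP0 : allL chk P = true := by decide +kernel
def Q : List (List ℕ × List ℕ) := [([nat_lit 1], [nat_lit 0])]

theorem hQ0 : allL (fun q => T.chk2 [nat_lit 0, nat_lit 2] (app q.1 q.2) (app q.2 q.1)) Q = true := by decide +kernel

noncomputable def sl29p2_ru : RuT :=
(.node (nat_lit 13)
(.node (nat_lit 6)
(.node (nat_lit 0)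
(.leaf (nat_lit 0) (nat_lit 0) (nat_lit 0) [nat_lit 3])
(.leaf (nat_lit 1) (nat_lit 0) (nat_lit 1) [nat_lit 0, nat_lit 1, nat_lit 2, nat_lit 3]))
(.node (nat_lit 7)
(.leaf (nat_lit 1) (nat_lit 1) (nat_lit 2) [nat_lit 2])
(.node (nat_lit 12)
(.leaf (nat_lit 2) (nat_lit 0) (nat_lit 3) [nat_lit 0, nat_lit 2, nat_lit 3])
(.leaf (nat_lit 2) (nat_lit 1) (nat_lit 4) [nat_lit 1, nat_lit 2]))))
(.node (nat_lit 18)
(.node (nat_lit 14)
(.leaf (nat_lit 2) (nat_lit 2) (nat_lit 5) [nat_lit 3])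
(.leaf (nat_lit 3) (nat_lit 0) (nat_lit 6) [nat_lit 0, nat_lit 3]))
(.node (nat_lit 19)
(.leaf (nat_lit 3) (nat_lit 1) (nat_lit 7) [nat_lit 1, nat_lit 3])
(.node (nat_lit 20)
(.leaf (nat_lit 3) (nat_lit 2) (nat_lit 8) [nat_lit 2, nat_lit 3])
(.leaf (nat_lit 3) (nat_lit 3) (nat_lit 9) [])))))

def sl29p2_E : List (List ℕ × List ℕ) :=
  [([nat_lit 0, nat_lit 0], [nat_lit 3]),
    ([nat_lit 1, nat_lit 0], [nat_lit 0, nat_lit 1, nat_lit 2, nat_lit 3]),
    ([nat_lit 1, nat_lit 1], [nat_lit 2]),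
    ([nat_lit 2, nat_lit 0], [nat_lit 0, nat_lit 2, nat_lit 3]),
    ([nat_lit 2, nat_lit 1], [nat_lit 1, nat_lit 2]),
    ([nat_lit 2, nat_lit 2], [nat_lit 3]),
    ([nat_lit 3, nat_lit 0], [nat_lit 0, nat_lit 3]),
    ([nat_lit 3, nat_lit 1], [nat_lit 1, nat_lit 3]),
    ([nat_lit 3, nat_lit 2], [nat_lit 2, nat_lit 3]),
    ([nat_lit 3, nat_lit 3], [])]

def sl29p2_A : List ℕ :=
  [nat_lit 0,
    nat_lit 0,
    nat_lit 262145,
    nat_lit 1]

def sl29p2_co : List ℕ :=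
  [nat_lit 0,
    nat_lit 0,
    nat_lit 0x40040001001041,
    nat_lit 0x1001040041001,
    nat_lit 64,
    nat_lit 0x1001000000000,
    nat_lit 1,
    nat_lit 262144,
    nat_lit 4096,
    nat_lit 0x1001001]

noncomputable def sl29p2 : PCD where
  G := nat_lit 6
  w := nat_lit 18
  k := nat_lit 16
  n := nat_lit 2
  fuel := nat_lit 32
  o := nat_lit 0x40001000040001000040001000040001000040001000040001000040001000040001
  c0 := nat_lit 40323
  cq := nat_lit 65535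
  cA := nat_lit 1
  Lm := nat_lit 4
  np := nat_lit 10
  rules := sl29p2_ru
  E := sl29p2_E
  C := [(nat_lit 4, [nat_lit 0, nat_lit 1], [nat_lit 2]),
    (nat_lit 4, [nat_lit 2], [nat_lit 0, nat_lit 1]),
    (nat_lit 4, [nat_lit 3], [nat_lit 3]),
    (nat_lit 5, [nat_lit 0], [nat_lit 2]),
    (nat_lit 5, [nat_lit 2], [nat_lit 0]),
    (nat_lit 5, [nat_lit 3], [nat_lit 3])]
  RA := [([nat_lit 0], [nat_lit 0, nat_lit 0]),
    ([nat_lit 1], [nat_lit 1, nat_lit 1]),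
    ([nat_lit 2], [nat_lit 2, nat_lit 2]),
    ([nat_lit 2], [nat_lit 2, nat_lit 1]),
    ([nat_lit 2], [nat_lit 0, nat_lit 0]),
    ([nat_lit 1], [nat_lit 0, nat_lit 0])]
  RB := [(nat_lit 5, [nat_lit 3, nat_lit 3, nat_lit 5]),
    (nat_lit 4, [nat_lit 0, nat_lit 0, nat_lit 2]),
    (nat_lit 5, [nat_lit 3, nat_lit 4, nat_lit 3, nat_lit 4, nat_lit 5]),
    (nat_lit 4, [nat_lit 0, nat_lit 1, nat_lit 0, nat_lit 1, nat_lit 2])]
  A := sl29p2_A
  β := []
  co := sl29p2_co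
  lay := [(nat_lit 14, [nat_lit 0]),
    (nat_lit 12, [nat_lit 1]),
    (nat_lit 8, [nat_lit 2]),
    (nat_lit 0, [nat_lit 3])]

theorem sl29p2_1 : sl29p2.ok1 (nat_lit 15) = true := by decide +kernel
theorem sl29p2_2 : sl29p2.ok2 = true := by decide +kernel

noncomputable def sl29p2T_tbl : NT :=
(.node (nat_lit 2043)
(.leaf (nat_lit 0) (nat_lit 0x32cc92a14ec3142afc91555140b01c3e0a96e6ce1852b4c0f3b35d119c9639f5d286999a1d6410f125080a3554733090c73205d943cd440b8859a4d2ce9f236c592a384da7021cda04b9010dcb61313926034f9b088a21808b8a8c63008314ce00397480dc440b54ab9a9520e5610e8f0904019062e4b8420d8098eb86290edd684283812374297b414da69740a8fbc293c11e6219e4270cd9003c4153c8e9d9a85a5c73a2e7132f7724d324b0621d90a608222ac14d662c085949c39278557c38c05c8376783252c90e021a4d9b04328d05004dac978b0c4b8280b105ec4fbe8a014015c48a9d412078710c0d398cd58912f3959612e46a88a841a810c9c46))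
(.leaf (nat_lit 2044) (nat_lit 0x44e20437e7e624465c8a458e8e346c451a784fa0147b21b9859202be8ab82b3170e33b16027b74480eb75c309211215cbd9241c8850fe52a5025a2d1e6d12c9719ec098f272198fe7b123116ac96764359ef5f154929f4c8619b457f09eaf6f261cf8430c47187c33d3c18846064cd9c56391b4923459a20999406a99903868a5875289fce4829a4e273dc1e266878a4a7052b02c84994f15a89262133b2e98a2f193139a)))

noncomputable def sl29p2T : PT where
  N := nat_lit 80
  G := nat_lit 6
  W := nat_lit 7
  mask := nat_lit 127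
  sb := nat_lit 0
  sm := nat_lit 0
  tbl := sl29p2T_tbl

def sl29p2_df : List (List ℕ) :=
  [[nat_lit 2, nat_lit 2, nat_lit 3, nat_lit 1, nat_lit 0, nat_lit 3],
  [nat_lit 1, nat_lit 1, nat_lit 3, nat_lit 0, nat_lit 2, nat_lit 1, nat_lit 0],
  [nat_lit 0, nat_lit 2, nat_lit 3, nat_lit 0, nat_lit 0],
  [nat_lit 3, nat_lit 3],
  [nat_lit 0, nat_lit 3, nat_lit 0, nat_lit 0],
  [nat_lit 1, nat_lit 2, nat_lit 2, nat_lit 3, nat_lit 3]]

theorem sl29p2_x_0 : extOK T sl29p2T sl29p2_df (fun i => i) (nat_lit 0) (nat_lit 80) = true := by decide +kernel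
theorem sl29p2_ext : ∀ i < sl29p2T.N, ExtP T sl29p2T sl29p2_df (fun i => i) i := rng_all (extOK_sound sl29p2_x_0)

noncomputable def sl29p2ch_0 : OL where
  b := nat_lit 0
  n := nat_lit 16
  S := [[nat_lit 0],
  [nat_lit 1]]
  O := ⟨nat_lit 0, nat_lit 4, nat_lit 7, nat_lit 127, nat_lit 0, nat_lit 0,
(.node (nat_lit 1420)
(.node (nat_lit 748)
(.node (nat_lit 552)
(.leaf (nat_lit 0) (nat_lit 0x1400000000061e0004413000041a000438b180033b0004210000022606041b500001c90004132000010300040b90a00088000403800000460000000))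
(.leaf (nat_lit 553) (nat_lit 0xe)))
(.node (nat_lit 860)
(.leaf (nat_lit 749) (nat_lit 0xd))
(.node (nat_lit 1084)
(.leaf (nat_lit 861) (nat_lit 0xf))
(.leaf (nat_lit 1085) (nat_lit 0x9)))))
(.node (nat_lit 1588)
(.node (nat_lit 1504)
(.leaf (nat_lit 1421) (nat_lit 0x6))
(.leaf (nat_lit 1505) (nat_lit 0x8)))
(.node (nat_lit 1980)
(.leaf (nat_lit 1589) (nat_lit 0xb000000000000040000002))
(.node (nat_lit 2064)
(.leaf (nat_lit 1981) (nat_lit 0x1))
(.leaf (nat_lit 2065) (nat_lit 0x7))))))⟩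

noncomputable def sl29p2ch : List OL := [sl29p2ch_0]

theorem sl29p2_hE : allL (fun e => sl29p2T.chk2 [nat_lit 0, nat_lit 2] e.1 e.2) sl29p2.eqs = true := by decide +kernel
theorem sl29p2_hc : chainOK sl29p2T (nat_lit 15) sl29p2ch [] = true := by decide +kernel

noncomputable def sl29p3_ru : RuT :=
(.node (nat_lit 11)
(.node (nat_lit 5)
(.node (nat_lit 0)
(.leaf (nat_lit 0) (nat_lit 0) (nat_lit 0) [nat_lit 1])
(.node (nat_lit 1)
(.leaf (nat_lit 0) (nat_lit 1) (nat_lit 1) [])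
(.leaf (nat_lit 1) (nat_lit 0) (nat_lit 2) [])))
(.node (nat_lit 6)
(.leaf (nat_lit 1) (nat_lit 1) (nat_lit 3) [nat_lit 0])
(.node (nat_lit 10)
(.leaf (nat_lit 2) (nat_lit 0) (nat_lit 4) [nat_lit 0, nat_lit 2])
(.leaf (nat_lit 2) (nat_lit 1) (nat_lit 5) [nat_lit 1, nat_lit 2]))))
(.node (nat_lit 15)
(.node (nat_lit 12)
(.leaf (nat_lit 2) (nat_lit 2) (nat_lit 6) [nat_lit 3])
(.node (nat_lit 13)
(.leaf (nat_lit 2) (nat_lit 3) (nat_lit 7) [])
(.leaf (nat_lit 3) (nat_lit 0) (nat_lit 8) [nat_lit 0, nat_lit 3])))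
(.node (nat_lit 16)
(.leaf (nat_lit 3) (nat_lit 1) (nat_lit 9) [nat_lit 1, nat_lit 3])
(.node (nat_lit 17)
(.leaf (nat_lit 3) (nat_lit 2) (nat_lit 10) [])
(.leaf (nat_lit 3) (nat_lit 3) (nat_lit 11) [nat_lit 2])))))

def sl29p3_E : List (List ℕ × List ℕ) :=
  [([nat_lit 0, nat_lit 0], [nat_lit 1]),
    ([nat_lit 0, nat_lit 1], []),
    ([nat_lit 1, nat_lit 0], []),
    ([nat_lit 1, nat_lit 1], [nat_lit 0]),
    ([nat_lit 2, nat_lit 0], [nat_lit 0, nat_lit 2]),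
    ([nat_lit 2, nat_lit 1], [nat_lit 1, nat_lit 2]),
    ([nat_lit 2, nat_lit 2], [nat_lit 3]),
    ([nat_lit 2, nat_lit 3], []),
    ([nat_lit 3, nat_lit 0], [nat_lit 0, nat_lit 3]),
    ([nat_lit 3, nat_lit 1], [nat_lit 1, nat_lit 3]),
    ([nat_lit 3, nat_lit 2], []),
    ([nat_lit 3, nat_lit 3], [nat_lit 2])]

def sl29p3_A : List ℕ :=
  [nat_lit 0x4000000000000000000000000000000000000000000000000000000008,
    nat_lit 0x8000000000000000000000000000000000000000000000000000000008,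
    nat_lit 0x200000000000000000000000000000000200000000000000000000000000000,
    nat_lit 0x400000000000000000000000000000000200000000000000000000000000000]

def sl29p3_co : List ℕ :=
  [nat_lit 0,
    nat_lit 0x8000000008008,
    nat_lit 0x8000000008007,
    nat_lit 0x8000000000008,
    nat_lit 0x1000000000000000,
    nat_lit 0x8000000001000000,
    nat_lit 0,
    nat_lit 0x200000000200200,
    nat_lit 0x8000008000000000,
    nat_lit 0x1000001040000000,
    nat_lit 0x2000000002001c0,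
    nat_lit 0x200000000000200]

noncomputable def sl29p3 : PCD where
  G := nat_lit 5
  w := nat_lit 19
  k := nat_lit 14
  n := nat_lit 9
  fuel := nat_lit 10
  o := nat_lit 0x80001000020000400008000100002000040000800010000200004000080001
  c0 := nat_lit 13864
  cq := nat_lit 16383
  cA := nat_lit 15
  Lm := nat_lit 2
  np := nat_lit 12
  rules := sl29p3_ru
  E := sl29p3_E
  C := [(nat_lit 4, [nat_lit 0], [nat_lit 1]),
    (nat_lit 4, [nat_lit 2], [nat_lit 3])]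
  RA := [([nat_lit 0], [nat_lit 1, nat_lit 0]),
    ([nat_lit 2], [nat_lit 3, nat_lit 2]),
    ([nat_lit 0], [nat_lit 0, nat_lit 1]),
    ([nat_lit 2], [nat_lit 2, nat_lit 3]),
    ([nat_lit 2], [nat_lit 0, nat_lit 1]),
    ([nat_lit 3], [nat_lit 0, nat_lit 1]),
    ([nat_lit 2], [nat_lit 3, nat_lit 0]),
    ([nat_lit 2], [nat_lit 0, nat_lit 0])]
  RB := [(nat_lit 4, [nat_lit 0, nat_lit 0, nat_lit 0]),
    (nat_lit 4, [nat_lit 1, nat_lit 1, nat_lit 1])]
  A := sl29p3_A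
  β := [(nat_lit 0x10000000000000000000, nat_lit 3, nat_lit 0x40001000000)]
  co := sl29p3_co
  lay := [(nat_lit 12, [nat_lit 0, nat_lit 1]),
    (nat_lit 0, [nat_lit 2, nat_lit 3])]

theorem sl29p3_1 : sl29p3.ok1 (nat_lit 15) = true := by decide +kernel
theorem sl29p3_2 : sl29p3.ok2 = true := by decide +kernel

noncomputable def sl29p3T_tbl : NT :=
(.node (nat_lit 2043)
(.leaf (nat_lit 0) (nat_lit 0x58ed6203b09e4e9af10244eaa0452d18f4c6a1119c1811b05322972d02cd9b3666cc2c7c7e3c582c20112c960315c9e228861a7cb5ad1e9494d170b6461dba845632920be0378295c930e415b42e461af9711797907e1249a754302caa0c94d09c207041fc60f1493d4209b8f0c091183ae52383d25d327c56636386d939409a6bf18d4d9e262c21e3800d1a346870a693ca0458ca74914454484e5d2b06f15346564df9294b4ccf3a1d4bf2ac5ea21e38ca82f1e23c7e8d5a9801908e24c0282243d98d1a346906a705cc5210dcc1809a199728689122449a102040840a49a38ca908f0af52821cf4307362db35100c1830658705448448102040830000000))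
(.leaf (nat_lit 2044) (nat_lit 0x1f2d71432d5dbe9261f3c707532b6c7860b42ba7ca1489694152db3a3e6274a8f0d397290e44422915950e8e4416259bcf5e9c8c75b223af50e922678e61b18a955446ea98b09a8c815267273b3eca0a224182bb7135cc218fa73a5930fc9)))

noncomputable def sl29p3T : PT where
  N := nat_lit 80
  G := nat_lit 5
  W := nat_lit 7
  mask := nat_lit 127
  sb := nat_lit 0
  sm := nat_lit 0
  tbl := sl29p3T_tbl

def sl29p3_df : List (List ℕ) :=
  [[nat_lit 0, nat_lit 1, nat_lit 1],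
  [nat_lit 0, nat_lit 0, nat_lit 1],
  [nat_lit 0, nat_lit 0],
  [nat_lit 0],
  [nat_lit 3, nat_lit 3, nat_lit 2, nat_lit 2]]

theorem sl29p3_x_0 : extOK T sl29p3T sl29p3_df (fun i => i) (nat_lit 0) (nat_lit 80) = true := by decide +kernel
theorem sl29p3_ext : ∀ i < sl29p3T.N, ExtP T sl29p3T sl29p3_df (fun i => i) i := rng_all (extOK_sound sl29p3_x_0)

noncomputable def sl29p3ch_0 : OL where
  b := nat_lit 2
  n := nat_lit 9
  S := [[nat_lit 0],
  [nat_lit 2]]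
  O := ⟨nat_lit 0, nat_lit 4, nat_lit 6, nat_lit 63, nat_lit 0, nat_lit 0,
(.node (nat_lit 449)
(.node (nat_lit 353)
(.leaf (nat_lit 0) (nat_lit 0x119200110f1010fd08108e001046000062001005000021000002))
(.leaf (nat_lit 354) (nat_lit 0x7000005)))
(.node (nat_lit 809)
(.leaf (nat_lit 450) (nat_lit 0x8))
(.node (nat_lit 1481)
(.leaf (nat_lit 810) (nat_lit 0x3000001))
(.leaf (nat_lit 1482) (nat_lit 0x6)))))⟩

noncomputable def sl29p3ch : List OL := [sl29p3ch_0]

theorem sl29p3_hE : allL (fun e => sl29p3T.chk2 [nat_lit 0, nat_lit 2] e.1 e.2) sl29p3.eqs = true := by decide +kernel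
theorem sl29p3_hc : chainOK sl29p3T (nat_lit 15) sl29p3ch [] = true := by decide +kernel

noncomputable def c3_tbl : NT :=
(.leaf (nat_lit 0) (nat_lit 0xd75bacebac60929834732a28522e78c1d11922ddb0b0a02530041da2690e41030060460a81571611851000c204))

noncomputable def c3 : PT where
  N := nat_lit 15
  G := nat_lit 4
  W := nat_lit 6
  mask := nat_lit 63
  sb := nat_lit 2
  sm := nat_lit 3
  tbl := c3_tbl

def c3_PE : List (List ℕ × ℕ) :=
  [([nat_lit 0, nat_lit 0, nat_lit 0], nat_lit 0),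
  ([nat_lit 1, nat_lit 1, nat_lit 1], nat_lit 0),
  ([nat_lit 0, nat_lit 1, nat_lit 0, nat_lit 0, nat_lit 1, nat_lit 1], nat_lit 1),
  ([nat_lit 2, nat_lit 2, nat_lit 2, nat_lit 2, nat_lit 2, nat_lit 2, nat_lit 2, nat_lit 2], nat_lit 0),
  ([nat_lit 0, nat_lit 2, nat_lit 2, nat_lit 2, nat_lit 2, nat_lit 2, nat_lit 2, nat_lit 2, nat_lit 1, nat_lit 2], nat_lit 0),
  ([nat_lit 0, nat_lit 2, nat_lit 1, nat_lit 1, nat_lit 2, nat_lit 2, nat_lit 2, nat_lit 2, nat_lit 2, nat_lit 2, nat_lit 2], nat_lit 0),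
  ([nat_lit 3, nat_lit 3, nat_lit 3, nat_lit 3], nat_lit 0),
  ([nat_lit 2, nat_lit 3, nat_lit 2, nat_lit 3, nat_lit 3, nat_lit 3], nat_lit 0),
  ([nat_lit 3, nat_lit 3, nat_lit 3, nat_lit 2, nat_lit 2, nat_lit 2, nat_lit 3, nat_lit 3, nat_lit 3, nat_lit 2, nat_lit 2, nat_lit 2, nat_lit 2, nat_lit 2, nat_lit 2, nat_lit 2], nat_lit 0),
  ([nat_lit 0, nat_lit 3, nat_lit 0, nat_lit 3, nat_lit 0, nat_lit 3], nat_lit 0),
  ([nat_lit 3, nat_lit 0, nat_lit 1, nat_lit 2, nat_lit 3, nat_lit 0, nat_lit 1, nat_lit 3, nat_lit 0, nat_lit 0, nat_lit 1], nat_lit 2)]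

instance c3_nz : NeZero c3.N := ⟨by decide⟩

theorem c3_r0 : c3.relsOK (nat_lit 3) c3_PE (nat_lit 0) (nat_lit 15) = true := by decide +kernel
theorem c3_rng : c3.rng 0 (nat_lit 15) = true := by decide +kernel
theorem c3_rels : ∀ i < c3.N, ∀ p ∈ c3_PE, c3.tr p.1 i = i ∧ c3.tv p.1 i % nat_lit 3 = p.2 :=
  rng_all (PT.relsOK_sound _ _ c3_r0)
def c3_iv : List ℕ := [nat_lit 0, nat_lit 1, nat_lit 3, nat_lit 6]
def c3_E : List ℕ := [nat_lit 1]

theorem c3_cov : HasCov P 4 (Multiplicative (ZMod 3)) Q fun i => Multiplicative.ofAdd ((gd 0 c3_E i : ℕ) : ZMod 3) :=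
  PT.hasCov (T := c3) (m := nat_lit 3) (c3.rng_sound c3_rng le_rfl) (iv := c3_iv) (by decide +kernel) (by decide +kernel) c3_rels
    (subL_sound (by decide +kernel)) (by decide +kernel)

universe u
variable {G0 : Type u} [Group G0] [Finite G0] {Ω : Type*} [MulAction G0 Ω] {g : ℕ → G0} {pt : ℕ → Ω}
  (h : Md T 720 g pt)
include h

theorem htb : Lc (nat_lit 15) g = ⊤ ∧ IsBase G0 T.N pt [nat_lit 0, nat_lit 2] :=
  base_of_chain h.am h.inj hch (h.card.trans_le (by decide +kernel))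
theorem hchk : ∀ w, chk w = true → ev g w = 1 := h.am.chk (htb h).2
theorem sl29l0_le : Nat.card (Lc (nat_lit 15) g) ≤ 10 * Nat.card (Lc (nat_lit 7) g) :=
  card_step' (hchk h) sl29l0_ok sl29l0_tab sl29l0_hP ⟨rfl, rfl, rfl⟩
theorem sl29l1_le : Nat.card (Lc (nat_lit 7) g) ≤ 8 * Nat.card (Lc (nat_lit 3) g) :=
  card_step' (hchk h) sl29l1_ok sl29l1_tab sl29l1_hP ⟨rfl, rfl, rfl⟩
theorem sl29l2_le : Nat.card (Lc (nat_lit 3) g) ≤ 3 * Nat.card (Lc (nat_lit 1) g) :=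
  card_step' (hchk h) sl29l2_ok sl29l2_tab sl29l2_hP ⟨rfl, rfl, rfl⟩
theorem sl29l3_le : Nat.card (Lc (nat_lit 1) g) ≤ 3 * Nat.card (Lc (nat_lit 0) g) :=
  card_step' (hchk h) sl29l3_ok sl29l3_tab sl29l3_hP ⟨rfl, rfl, rfl⟩
theorem up4 : Nat.card (Lc (nat_lit 0) g) ≤ 1 := (fun _ => card_Lc_zero g) h
theorem up3 : Nat.card (Lc (nat_lit 1) g) ≤ 3 := chain_up (n := 1) (sl29l3_le h) (up4 h)
theorem up2 : Nat.card (Lc (nat_lit 3) g) ≤ 9 := chain_up (n := 3) (sl29l2_le h) (up3 h)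
theorem up1 : Nat.card (Lc (nat_lit 7) g) ≤ 72 := chain_up (n := 9) (sl29l1_le h) (up2 h)
theorem up0 : Nat.card (Lc (nat_lit 15) g) ≤ 720 := chain_up (n := 72) (sl29l0_le h) (up1 h)
theorem lo0 : 720 ≤ Nat.card (Lc (nat_lit 15) g) := by rw [(htb h).1, Subgroup.card_top, h.card]
theorem lo1 : 72 ≤ Nat.card (Lc (nat_lit 7) g) := chain_down (N := 10) (sl29l0_le h) (lo0 h) (by norm_num)
theorem rel0 : Rel g sl29l0_P (nat_lit 7) (nat_lit 15) :=
  rel_step' (N := 10) (hchk h) sl29l0_ok sl29l0_tab sl29l0_hP ⟨rfl, rfl, rfl⟩ rfl (chain_eq (up1 h) (lo0 h))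
theorem lo2 : 9 ≤ Nat.card (Lc (nat_lit 3) g) := chain_down (N := 8) (sl29l1_le h) (lo1 h) (by norm_num)
theorem rel1 : Rel g sl29l1_P (nat_lit 3) (nat_lit 7) :=
  rel_step' (N := 8) (hchk h) sl29l1_ok sl29l1_tab sl29l1_hP ⟨rfl, rfl, rfl⟩ rfl (chain_eq (up2 h) (lo1 h))
theorem lo3 : 3 ≤ Nat.card (Lc (nat_lit 1) g) := chain_down (N := 3) (sl29l2_le h) (lo2 h) (by norm_num)
theorem rel2 : Rel g sl29l2_P (nat_lit 1) (nat_lit 3) :=
  rel_step' (N := 3) (hchk h) sl29l2_ok sl29l2_tab sl29l2_hP ⟨rfl, rfl, rfl⟩ rfl (chain_eq (up3 h) (lo2 h))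
theorem lo4 : 1 ≤ Nat.card (Lc (nat_lit 0) g) := chain_down (N := 3) (sl29l3_le h) (lo3 h) (by norm_num)
theorem rel3 : Rel g sl29l3_P (nat_lit 0) (nat_lit 1) :=
  rel_step' (N := 3) (hchk h) sl29l3_ok sl29l3_tab sl29l3_hP ⟨rfl, rfl, rfl⟩ rfl (chain_eq (up4 h) (lo3 h))
theorem relP : Rel g P 0 (2 ^ 4 - 1) := ((((rel3 h).trans (rel2 h)).trans (rel1 h)).trans (rel0 h))
theorem hP : ∀ w ∈ P, ev g w = 1 := fun w hw => hchk h w (allL_sound hP0 w hw)
theorem hQ : ∀ q ∈ Q, ev g (q.1 ++ q.2) = ev g (q.2 ++ q.1) := pairs_sound h.am (htb h).2 hQ0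
theorem pb2 : PB G0 2 0 :=
  h.pcpb (htb h).2 (e := 1) (by norm_num) sl29p2_ext sl29p2_1 sl29p2_2 sl29p2_hE sl29p2_hc (by decide +kernel)
theorem pb3 : PB G0 3 1 :=
  h.pcpb (htb h).2 (e := 2) (by norm_num) sl29p3_ext sl29p3_1 sl29p3_2 sl29p3_hE sl29p3_hc (by decide +kernel)
theorem bound (Γ : Type u) [Group Γ] [Finite Γ] (σ : Γ →* G0) (hσ : IsStemExtension σ) :
    Nat.card σ.ker ≤ 3 :=
  card_ker_dvd (B := 5) [(2, 0), (3, 1)] h.card (by decide +kernel) (by decide +kernel) (by norm_num) (by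
    simp only [List.mem_cons, List.not_mem_nil, or_false, forall_eq_or_imp, forall_eq]
    exact ⟨⟨pb2 h, by decide⟩,
      ⟨pb3 h, by decide⟩⟩) Γ σ hσ

theorem mult : HasCyclicSchurMultiplier G0 3 :=
  hasSchur_cyc1 (GG := 4) (relP h) (htb h).1 h.one (hP h) (hQ h) c3_cov (by decide +kernel) (bound h)

end Cfsg.Agent.H28.Sl29
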