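import Mathlib
import Cfsg.Agent.H28.PCM
import Cfsg.Agent.H28.FM2

set_option maxRecDepth 100000
set_option linter.all false
set_option autoImplicit false

namespace Cfsg.Agent.H28.Sp6
open Cfsg.Agent.H25 Cfsg.Agent.H28

noncomputable def T_tbl : NT :=
(.node (nat_lit 2047)
(.leaf (nat_lit 0) (nat_lit 0x9191bdb1598d5d8d8d8dad8989898955c1a94dbd8551b96185b981b5814d818145b17d497d7d614179ad7949a55dad3d417575a1597171393da99955a535a16d6d416d69a135999d3d69656599359539652d91613161857d295d8d5d315d798d252959595975555521258955711d515185513151854d4d1d812d4d1949497d7949317d45451945452d79157541196d293d7515713d692539397115396521356d6965351535113131615d5149612d2d112d4d455d0d592911294125590d5525253d2121550d21213951091d4d1d111d4905194541191115413d3905350d3101112d291d190d292521010d15091d090909010905190505150501011101010d0905))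
(.leaf (nat_lit 2048) (nat_lit 0xf9f9f9f9f9f9f5f5f5f5f5f5f1f9f1f1f1f1e9f5f1ede5ededededede9e9e1ddf1e9e9d5ede5d9e5e5e5e1e1e9d1e1e1e1ddcdd1e9ddddddc5d9d9e5c9d9d9e5d5d5c5d5d5d5d1b9dde1bdd1d1b5ddb9cdcdcdcda1c9a5c9d9adc9d99dc5d5a1c5c5c1c1c1c1c189c1bd85bdbdd191bd81d1cdb985b9b9cdb581b5b5b5b5b17db1b1b1b19175ad79adadc98da9a9a9a971a9896da5c9a5a579a5c9696da1c575a19dc59d9d699d9d9999656999719995959595659595916191)))

noncomputable def T : PT where
  N := nat_lit 63
  G := nat_lit 7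
  W := nat_lit 8
  mask := nat_lit 255
  sb := nat_lit 2
  sm := nat_lit 3
  tbl := T_tbl

def Ms : List (List ℕ) :=
  [[nat_lit 1, nat_lit 0x110000, nat_lit 0x110110, nat_lit 4096, nat_lit 0x100010, nat_lit 0x100000],
  [nat_lit 0x111110, nat_lit 0x111101, nat_lit 0x111011, nat_lit 0x110111, nat_lit 0x101111, nat_lit 69905],
  [nat_lit 1, nat_lit 16, nat_lit 0x100010, nat_lit 4096, nat_lit 0x110110, nat_lit 272],
  [nat_lit 1, nat_lit 16, nat_lit 256, nat_lit 4096, nat_lit 65808, nat_lit 0x100110],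
  [nat_lit 4368, nat_lit 16, nat_lit 256, nat_lit 273, nat_lit 69905, nat_lit 0x101111],
  [nat_lit 1, nat_lit 16, nat_lit 0x100011, nat_lit 0x101111, nat_lit 0x110111, nat_lit 273],
  [nat_lit 4096, nat_lit 16, nat_lit 256, nat_lit 1, nat_lit 65536, nat_lit 0x100000]]

noncomputable def vs_tbl : NT :=
(.leaf (nat_lit 0) (nat_lit 0x110010000101111001001011011110101100010101011000101111100010010010111110001001100010110100110101110011110001111001110111111001000111000110000110100111001011001011000101001011010100111110011110111000111001011000001000100001101100101100001010001011101101010010011000011111010111110111011110010111101010101101100101000101101100100100011001010000010011100010100011111110110100000))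

noncomputable def vs : ℕ → ℕ := tabF vs_tbl (nat_lit 24) (nat_lit 0xffffff)

noncomputable def look_tbl : NT :=
(.node (nat_lit 0x5fffff)
(.node (nat_lit 393215)
(.node (nat_lit 24575)
(.node (nat_lit 1535)
(.node (nat_lit 95)
(.leaf (nat_lit 6) (nat_lit 0x0))
(.leaf (nat_lit 96) (nat_lit 0x9fd)))
(.node (nat_lit 1631)
(.leaf (nat_lit 1536) (nat_lit 0x2a9))
(.leaf (nat_lit 1632) (nat_lit 0xa23))))
(.node (nat_lit 26111)
(.node (nat_lit 24671)
(.leaf (nat_lit 24576) (nat_lit 0x21a))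
(.leaf (nat_lit 24672) (nat_lit 0x983)))
(.node (nat_lit 26207)
(.leaf (nat_lit 26112) (nat_lit 0x2f1))
(.leaf (nat_lit 26208) (nat_lit 0xd44)))))
(.node (nat_lit 417791)
(.node (nat_lit 394751)
(.node (nat_lit 393311)
(.leaf (nat_lit 393216) (nat_lit 0xe05))
(.leaf (nat_lit 393312) (nat_lit 0x3b4)))
(.node (nat_lit 394847)
(.leaf (nat_lit 394752) (nat_lit 0x506))
(.leaf (nat_lit 394848) (nat_lit 0x461))))
(.node (nat_lit 419327)
(.node (nat_lit 417887)
(.leaf (nat_lit 417792) (nat_lit 0xbfe))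
(.leaf (nat_lit 417888) (nat_lit 0x70)))
(.node (nat_lit 419423)
(.leaf (nat_lit 419328) (nat_lit 0xbab))
(.leaf (nat_lit 419424) (nat_lit 0x42d))))))
(.node (nat_lit 0x65ffff)
(.node (nat_lit 0x605fff)
(.node (nat_lit 0x6005ff)
(.node (nat_lit 0x60005f)
(.leaf (nat_lit 0x600000) (nat_lit 0x5db))
(.leaf (nat_lit 0x600060) (nat_lit 0xc96)))
(.node (nat_lit 0x60065f)
(.leaf (nat_lit 0x600600) (nat_lit 0x8bb))
(.leaf (nat_lit 0x600660) (nat_lit 0x964))))
(.node (nat_lit 0x6065ff)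
(.node (nat_lit 0x60605f)
(.leaf (nat_lit 0x606000) (nat_lit 0x636))
(.leaf (nat_lit 0x606060) (nat_lit 0xe4c)))
(.node (nat_lit 0x60665f)
(.leaf (nat_lit 0x606600) (nat_lit 0x259))
(.leaf (nat_lit 0x606660) (nat_lit 0x355)))))
(.node (nat_lit 0x665fff)
(.node (nat_lit 0x6605ff)
(.node (nat_lit 0x66005f)
(.leaf (nat_lit 0x660000) (nat_lit 0x1d2))
(.leaf (nat_lit 0x660060) (nat_lit 0x7d3)))
(.node (nat_lit 0x66065f)
(.leaf (nat_lit 0x660600) (nat_lit 0xddc))
(.leaf (nat_lit 0x660660) (nat_lit 0x3fa))))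
(.node (nat_lit 0x6665ff)
(.node (nat_lit 0x66605f)
(.leaf (nat_lit 0x666000) (nat_lit 0x81d))
(.leaf (nat_lit 0x666060) (nat_lit 0x7b3)))
(.node (nat_lit 0x66665f)
(.leaf (nat_lit 0x666600) (nat_lit 0xf2c))
(.leaf (nat_lit 0x666660) (nat_lit 0xa82)))))))

noncomputable def look : ℕ → ℕ := tabF look_tbl (nat_lit 6) (nat_lit 63)

theorem am_0 : K2.amOK 6 T Ms vs (nat_lit 0) (nat_lit 63) = true := by decide +kernel
theorem hAm : ∀ i < T.N, K2.AmP 6 T Ms vs i := rng_all (FT.amOK_sound _ am_0)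
theorem hInj : K2.injOK 6 vs look T.N = true := by decide +kernel

def J : List ℕ := [nat_lit 4096, nat_lit 65536, nat_lit 0x100000, nat_lit 1, nat_lit 16, nat_lit 256]
theorem hm : allL (K2.formOK 6 J) Ms = true := by decide +kernel

noncomputable def sp6l0_tbl : NT :=
(.node (nat_lit 2046)
(.leaf (nat_lit 0) (nat_lit 0x3ae04c0560943e42b1f39a60e804e20811644412ddb82580000e054092000034478550e408a1ea114f381280000602a04878ec542a012c718448f104905808e3c012400005a580e909c15030c2206a02402c0451a40900000282985306804918210e34421c000048d008719e10e9cc29c140228a308616c10c0b01105b8533f80c60d2090338298510428b40850000102c82145c04282904400000e2102104a8420000061321080a810c000028af0a40ca1061e820c4b84182b04200000824828c4805184608205a0821d8288000018750a20e81441c428810020000002086142114284220508420a10821420000040001000002000004000008000010000020))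
(.node (nat_lit 4093)
(.leaf (nat_lit 2047) (nat_lit 0x1a40792e8172c382e41002a1b40586e60b06142e05502d8c20b55c217000006c1682986c0590000341542d0aa05baef0b730612c000064160299fa0b63aa16c54c2d97705b0200513220aad1db54b285a9640b51d20b05042c80000c02d0507061685c81503502b8940b15a216859024c0000b80001642e1660a81409c059acf0b304009e4982c9b70291250b2248164f9c2c8b402a80001505a09cd8c2c4a802894f0511520a84442bca28480000147660a00ac134000098520ae560160000048168263830af23415e4542be0105792805124a11c000045cb05702b04b21e09c1a41406805612208d26811af4c134000082390ed052096a1c8348284600000f))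
(.leaf (nat_lit 4094) (nat_lit 0x1002b9d505b2d80b441d4644205c1620bb602176500164fb02d1430bb0560ae6642e8b905d3210ba24a1340b41582b05b92b05b))))

noncomputable def sp6l0_par : NT :=
(.leaf (nat_lit 0) (nat_lit 0xa7a49f928a897d75726f675e59504e49413a352723201d17110c0600))

noncomputable def sp6l0_rt : RT :=
(.node (nat_lit 12)
(.node (nat_lit 5)
(.node (nat_lit 2)
(.node (nat_lit 0)
(.leaf (nat_lit 0) [nat_lit 6, nat_lit 6] (nat_lit 1) (nat_lit 3510) (nat_lit 0))
(.node (nat_lit 1)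
(.leaf (nat_lit 1) [nat_lit 0, nat_lit 6, nat_lit 0, nat_lit 6] (nat_lit 3) (nat_lit 0xc30c30) (nat_lit 0))
(.leaf (nat_lit 2) [nat_lit 1, nat_lit 6, nat_lit 1, nat_lit 6] (nat_lit 3) (nat_lit 0xc71c71) (nat_lit 0))))
(.node (nat_lit 3)
(.leaf (nat_lit 3) [nat_lit 4, nat_lit 6, nat_lit 4, nat_lit 6] (nat_lit 3) (nat_lit 0xd34d34) (nat_lit 0))
(.node (nat_lit 4)
(.leaf (nat_lit 4) [nat_lit 2, nat_lit 6, nat_lit 2, nat_lit 6] (nat_lit 3) (nat_lit 0xcb2cb2) (nat_lit 0))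
(.leaf (nat_lit 5) [nat_lit 3, nat_lit 6, nat_lit 3, nat_lit 6] (nat_lit 3) (nat_lit 0xcf3cf3) (nat_lit 0)))))
(.node (nat_lit 8)
(.node (nat_lit 6)
(.leaf (nat_lit 6) [nat_lit 5, nat_lit 6, nat_lit 5, nat_lit 6, nat_lit 5, nat_lit 6] (nat_lit 5) (nat_lit 0xd75d75d75) (nat_lit 0))
(.node (nat_lit 7)
(.leaf (nat_lit 7) [nat_lit 3, nat_lit 0, nat_lit 1, nat_lit 0, nat_lit 2, nat_lit 1, nat_lit 0, nat_lit 3, nat_lit 2, nat_lit 1, nat_lit 4, nat_lit 2, nat_lit 1, nat_lit 0, nat_lit 3, nat_lit 2, nat_lit 1, nat_lit 4, nat_lit 2, nat_lit 5, nat_lit 6, nat_lit 3, nat_lit 2, nat_lit 1, nat_lit 0, nat_lit 5, nat_lit 3, nat_lit 2, nat_lit 1, nat_lit 0, nat_lit 4, nat_lit 2, nat_lit 3, nat_lit 5, nat_lit 6, nat_lit 1, nat_lit 2, nat_lit 3, nat_lit 5, nat_lit 4, nat_lit 2, nat_lit 3, nat_lit 1, nat_lit 2, nat_lit 4, nat_lit 0, nat_lit 1, nat_lit 2, nat_lit 3, nat_lit 5, nat_lit 6, nat_lit 4, nat_lit 2, nat_lit 3, nat_lit 1, nat_lit 2,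 nat_lit 4, nat_lit 0, nat_lit 1, nat_lit 2, nat_lit 3, nat_lit 5, nat_lit 4] (nat_lit 62) (nat_lit 0x2568888b53568888b52b4756a029d053d542982a14c140872b44445a9ab44445a95a3ab5014e829eaa14c150a60a043) (nat_lit 0))
(.leaf (nat_lit 0) [nat_lit 0, nat_lit 0] (nat_lit 1) (nat_lit 0) (nat_lit 0))))
(.node (nat_lit 10)
(.node (nat_lit 9)
(.leaf (nat_lit 0) [nat_lit 1, nat_lit 1] (nat_lit 1) (nat_lit 585) (nat_lit 0))
(.leaf (nat_lit 0) [nat_lit 2, nat_lit 2] (nat_lit 1) (nat_lit 1170) (nat_lit 0)))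
(.node (nat_lit 11)
(.leaf (nat_lit 0) [nat_lit 3, nat_lit 3] (nat_lit 1) (nat_lit 1755) (nat_lit 0))
(.leaf (nat_lit 0) [nat_lit 4, nat_lit 4] (nat_lit 1) (nat_lit 2340) (nat_lit 0))))))
(.node (nat_lit 19)
(.node (nat_lit 15)
(.node (nat_lit 13)
(.leaf (nat_lit 0) [nat_lit 5, nat_lit 5] (nat_lit 1) (nat_lit 2925) (nat_lit 0))
(.node (nat_lit 14)
(.leaf (nat_lit 0) [nat_lit 0, nat_lit 4, nat_lit 0, nat_lit 4] (nat_lit 3) (nat_lit 0x820820) (nat_lit 0))
(.leaf (nat_lit 0) [nat_lit 0, nat_lit 2, nat_lit 0, nat_lit 2] (nat_lit 3) (nat_lit 0x410410) (nat_lit 0))))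
(.node (nat_lit 17)
(.node (nat_lit 16)
(.leaf (nat_lit 0) [nat_lit 0, nat_lit 3, nat_lit 0, nat_lit 3] (nat_lit 3) (nat_lit 0x618618) (nat_lit 0))
(.leaf (nat_lit 0) [nat_lit 0, nat_lit 5, nat_lit 0, nat_lit 5] (nat_lit 3) (nat_lit 0xa28a28) (nat_lit 0)))
(.node (nat_lit 18)
(.leaf (nat_lit 0) [nat_lit 1, nat_lit 3, nat_lit 1, nat_lit 3] (nat_lit 3) (nat_lit 0x659659) (nat_lit 0))
(.leaf (nat_lit 0) [nat_lit 1, nat_lit 4, nat_lit 1, nat_lit 4] (nat_lit 3) (nat_lit 0x861861) (nat_lit 0)))))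
(.node (nat_lit 22)
(.node (nat_lit 20)
(.leaf (nat_lit 0) [nat_lit 1, nat_lit 5, nat_lit 1, nat_lit 5] (nat_lit 3) (nat_lit 0xa69a69) (nat_lit 0))
(.node (nat_lit 21)
(.leaf (nat_lit 0) [nat_lit 2, nat_lit 5, nat_lit 2, nat_lit 5] (nat_lit 3) (nat_lit 0xaaaaaa) (nat_lit 0))
(.leaf (nat_lit 0) [nat_lit 4, nat_lit 5, nat_lit 4, nat_lit 5] (nat_lit 3) (nat_lit 0xb2cb2c) (nat_lit 0))))
(.node (nat_lit 24)
(.node (nat_lit 23)
(.leaf (nat_lit 0) [nat_lit 3, nat_lit 4, nat_lit 3, nat_lit 4] (nat_lit 3) (nat_lit 0x8e38e3) (nat_lit 0))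
(.leaf (nat_lit 0) [nat_lit 1, nat_lit 2, nat_lit 1, nat_lit 2, nat_lit 1, nat_lit 2] (nat_lit 5) (nat_lit 0x451451451) (nat_lit 0)))
(.node (nat_lit 25)
(.leaf (nat_lit 0) [nat_lit 2, nat_lit 3, nat_lit 2, nat_lit 3, nat_lit 2, nat_lit 3] (nat_lit 5) (nat_lit 0x69a69a69a) (nat_lit 0))
(.leaf (nat_lit 0) [nat_lit 3, nat_lit 5, nat_lit 3, nat_lit 5, nat_lit 3, nat_lit 5] (nat_lit 5) (nat_lit 0xaebaebaeb) (nat_lit 0)))))))

def sp6l0_P : List (List ℕ) :=
  [[nat_lit 6, nat_lit 6],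
  [nat_lit 0, nat_lit 6, nat_lit 0, nat_lit 6],
  [nat_lit 1, nat_lit 6, nat_lit 1, nat_lit 6],
  [nat_lit 4, nat_lit 6, nat_lit 4, nat_lit 6],
  [nat_lit 2, nat_lit 6, nat_lit 2, nat_lit 6],
  [nat_lit 3, nat_lit 6, nat_lit 3, nat_lit 6],
  [nat_lit 5, nat_lit 6, nat_lit 5, nat_lit 6, nat_lit 5, nat_lit 6],
  [nat_lit 3, nat_lit 0, nat_lit 1, nat_lit 0, nat_lit 2, nat_lit 1, nat_lit 0, nat_lit 3, nat_lit 2, nat_lit 1, nat_lit 4, nat_lit 2, nat_lit 1, nat_lit 0, nat_lit 3, nat_lit 2, nat_lit 1, nat_lit 4, nat_lit 2, nat_lit 5, nat_lit 6, nat_lit 3, nat_lit 2, nat_lit 1, nat_lit 0, nat_lit 5, nat_lit 3, nat_lit 2, nat_lit 1, nat_lit 0, nat_lit 4, nat_lit 2, nat_lit 3, nat_lit 5, nat_lit 6, nat_lit 1, nat_lit 2, nat_lit 3, nat_lit 5, nat_lit 4, nat_lit 2, nat_lit 3, nat_lit 1, nat_lit 2, nat_lit 4, nat_lit 0, nat_lit 1, nat_lit 2, nat_lit 3, nat_lit 5, nat_lit 6, nat_lit 4, nat_lit 2, nat_lit 3, nat_lit 1, nat_lit 2, nat_lit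 4, nat_lit 0, nat_lit 1, nat_lit 2, nat_lit 3, nat_lit 5, nat_lit 4]]

noncomputable def sp6l0_C : TC where
  G := nat_lit 7
  N := nat_lit 28
  W := nat_lit 23
  mask := nat_lit 0x7fffff
  VM := nat_lit 0
  TV := nat_lit 0
  vb := nat_lit 0
  TM := nat_lit 31
  rb := nat_lit 5
  RM := nat_lit 4095
  BIG := nat_lit 0x420000
  b := nat_lit 3
  lm := nat_lit 7
  Y := nat_lit 63
  n := nat_lit 1
  K := nat_lit 0
  K0 := nat_lit 0
  QM := nat_lit 0
  k := nat_lit 0
  w := nat_lit 1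
  c := nat_lit 0
  cq := nat_lit 0
  Lmax := nat_lit 63
  PW := nat_lit 8
  PM := nat_lit 255
  tbl := sp6l0_tbl
  par := sp6l0_par
  rt := sp6l0_rt

noncomputable def sp6l0 : Lv where
  C := sp6l0_C
  df := [[nat_lit 0],
  [nat_lit 1],
  [nat_lit 2],
  [nat_lit 3],
  [nat_lit 4],
  [nat_lit 5],
  [nat_lit 6]]
  X0 := nat_lit 63
  X := nat_lit 127
  Xl := nat_lit 127
  GG := nat_lit 7
  back := [nat_lit 0, nat_lit 1, nat_lit 2, nat_lit 3, nat_lit 4, nat_lit 5, nat_lit 6]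
  P := sp6l0_P

theorem sp6l0_e0 : sp6l0_C.edges (nat_lit 0) (nat_lit 28) = true := by decide +kernel
theorem sp6l0_cl : sp6l0_C.closed sp6l0.Xl (nat_lit 0) (nat_lit 28) = true := by decide +kernel
theorem sp6l0_tab : sp6l0.Tab :=
  ⟨rng_all (TC.edges_sound sp6l0_e0), rng_all (TC.closed_sound sp6l0_cl)⟩

noncomputable def sp6l1_tbl : NT :=
(.node (nat_lit 2045)
(.leaf (nat_lit 0) (nat_lit 0x111382b4ed0af08012ce30ae3942b8e40ae3882b9260500000410b04d0a41290c04d19c13ccd0ab408230ef08c00003cf208c09c128d10ac000038d008b0a4124d30ab3382ace604d390228cb04a000034280480000308c0a9310224b408900002c280472c82a4a604a30c2202a0463341200000a33c2a04b0a728c21c2a0442b811c0000913c29466048284218000082b4218ac0862c42182604420c2142a043240294940a519c11cab0a5208210000072382109208409c10c0000619020c000051cc20c280420000108c0a3114208700820a4104000031b82886d0a2080100430a1000008440a1108284410a1000004000200000800002000008000020))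
(.leaf (nat_lit 2046) (nat_lit 0x1a109a7ac269cd09a730269b109a0981658209973c265ae0996c826427058000069640986d0261930980a015c000196302e143057240258290550000618e0b75b42dd250962a815c2905464c2d96e0b65342d82005310c2d0000175902d5620b55042d4200511a8154000161102c9420b44842d0000150a8145300b35502cd4f0b34ac2cc2004f50c2c96e0521a0150820b04042c80001400004d130910a013d320b14302c42004d48c2c14d0504902c0a70524042b8000124bc13c2904c)))

noncomputable def sp6l1_par : NT :=
(.leaf (nat_lit 0) (nat_lit 0x96918c817b776b6a5f5c534b473f3d39322c281c1816130e090500))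

noncomputable def sp6l1_rt : RT :=
(.node (nat_lit 9)
(.node (nat_lit 4)
(.node (nat_lit 1)
(.node (nat_lit 0)
(.leaf (nat_lit 0) [nat_lit 5, nat_lit 5] (nat_lit 1) (nat_lit 2925) (nat_lit 0))
(.leaf (nat_lit 1) [nat_lit 0, nat_lit 5, nat_lit 0, nat_lit 5] (nat_lit 3) (nat_lit 0xa28a28) (nat_lit 0)))
(.node (nat_lit 2)
(.leaf (nat_lit 2) [nat_lit 1, nat_lit 5, nat_lit 1, nat_lit 5] (nat_lit 3) (nat_lit 0xa69a69) (nat_lit 0))
(.node (nat_lit 3)
(.leaf (nat_lit 3) [nat_lit 4, nat_lit 5, nat_lit 4, nat_lit 5] (nat_lit 3) (nat_lit 0xb2cb2c) (nat_lit 0))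
(.leaf (nat_lit 4) [nat_lit 2, nat_lit 5, nat_lit 2, nat_lit 5] (nat_lit 3) (nat_lit 0xaaaaaa) (nat_lit 0)))))
(.node (nat_lit 6)
(.node (nat_lit 5)
(.leaf (nat_lit 5) [nat_lit 3, nat_lit 5, nat_lit 3, nat_lit 5, nat_lit 3, nat_lit 5] (nat_lit 5) (nat_lit 0xaebaebaeb) (nat_lit 0))
(.leaf (nat_lit 0) [nat_lit 0, nat_lit 0] (nat_lit 1) (nat_lit 0) (nat_lit 0)))
(.node (nat_lit 7)
(.leaf (nat_lit 0) [nat_lit 1, nat_lit 1] (nat_lit 1) (nat_lit 585) (nat_lit 0))
(.node (nat_lit 8)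
(.leaf (nat_lit 0) [nat_lit 2, nat_lit 2] (nat_lit 1) (nat_lit 1170) (nat_lit 0))
(.leaf (nat_lit 0) [nat_lit 3, nat_lit 3] (nat_lit 1) (nat_lit 1755) (nat_lit 0))))))
(.node (nat_lit 14)
(.node (nat_lit 11)
(.node (nat_lit 10)
(.leaf (nat_lit 0) [nat_lit 4, nat_lit 4] (nat_lit 1) (nat_lit 2340) (nat_lit 0))
(.leaf (nat_lit 0) [nat_lit 0, nat_lit 4, nat_lit 0, nat_lit 4] (nat_lit 3) (nat_lit 0x820820) (nat_lit 0)))
(.node (nat_lit 12)
(.leaf (nat_lit 0) [nat_lit 0, nat_lit 2, nat_lit 0, nat_lit 2] (nat_lit 3) (nat_lit 0x410410) (nat_lit 0))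
(.node (nat_lit 13)
(.leaf (nat_lit 0) [nat_lit 0, nat_lit 3, nat_lit 0, nat_lit 3] (nat_lit 3) (nat_lit 0x618618) (nat_lit 0))
(.leaf (nat_lit 0) [nat_lit 1, nat_lit 3, nat_lit 1, nat_lit 3] (nat_lit 3) (nat_lit 0x659659) (nat_lit 0)))))
(.node (nat_lit 17)
(.node (nat_lit 15)
(.leaf (nat_lit 0) [nat_lit 1, nat_lit 4, nat_lit 1, nat_lit 4] (nat_lit 3) (nat_lit 0x861861) (nat_lit 0))
(.node (nat_lit 16)
(.leaf (nat_lit 0) [nat_lit 3, nat_lit 4, nat_lit 3, nat_lit 4] (nat_lit 3) (nat_lit 0x8e38e3) (nat_lit 0))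
(.leaf (nat_lit 0) [nat_lit 0, nat_lit 1, nat_lit 0, nat_lit 1, nat_lit 0, nat_lit 1] (nat_lit 5) (nat_lit 0x208208208) (nat_lit 0))))
(.node (nat_lit 18)
(.leaf (nat_lit 0) [nat_lit 1, nat_lit 2, nat_lit 1, nat_lit 2, nat_lit 1, nat_lit 2] (nat_lit 5) (nat_lit 0x451451451) (nat_lit 0))
(.node (nat_lit 19)
(.leaf (nat_lit 0) [nat_lit 2, nat_lit 3, nat_lit 2, nat_lit 3, nat_lit 2, nat_lit 3] (nat_lit 5) (nat_lit 0x69a69a69a) (nat_lit 0))
(.leaf (nat_lit 0) [nat_lit 2, nat_lit 4, nat_lit 2, nat_lit 4, nat_lit 2, nat_lit 4] (nat_lit 5) (nat_lit 0x8a28a28a2) (nat_lit 0)))))))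

def sp6l1_P : List (List ℕ) :=
  [[nat_lit 5, nat_lit 5],
  [nat_lit 0, nat_lit 5, nat_lit 0, nat_lit 5],
  [nat_lit 1, nat_lit 5, nat_lit 1, nat_lit 5],
  [nat_lit 4, nat_lit 5, nat_lit 4, nat_lit 5],
  [nat_lit 2, nat_lit 5, nat_lit 2, nat_lit 5],
  [nat_lit 3, nat_lit 5, nat_lit 3, nat_lit 5, nat_lit 3, nat_lit 5]]

noncomputable def sp6l1_C : TC where
  G := nat_lit 6
  N := nat_lit 27
  W := nat_lit 22
  mask := nat_lit 0x3fffff
  VM := nat_lit 0
  TV := nat_lit 0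
  vb := nat_lit 0
  TM := nat_lit 31
  rb := nat_lit 5
  RM := nat_lit 4095
  BIG := nat_lit 0x200000
  b := nat_lit 3
  lm := nat_lit 7
  Y := nat_lit 31
  n := nat_lit 1
  K := nat_lit 0
  K0 := nat_lit 0
  QM := nat_lit 0
  k := nat_lit 0
  w := nat_lit 1
  c := nat_lit 0
  cq := nat_lit 0
  Lmax := nat_lit 6
  PW := nat_lit 8
  PM := nat_lit 255
  tbl := sp6l1_tbl
  par := sp6l1_par
  rt := sp6l1_rt

noncomputable def sp6l1 : Lv where
  C := sp6l1_C
  df := [[nat_lit 0],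
  [nat_lit 1],
  [nat_lit 2],
  [nat_lit 3],
  [nat_lit 4],
  [nat_lit 5]]
  X0 := nat_lit 31
  X := nat_lit 63
  Xl := nat_lit 63
  GG := nat_lit 7
  back := [nat_lit 0, nat_lit 1, nat_lit 2, nat_lit 3, nat_lit 4, nat_lit 5, nat_lit 0]
  P := sp6l1_P

theorem sp6l1_e0 : sp6l1_C.edges (nat_lit 0) (nat_lit 27) = true := by decide +kernel
theorem sp6l1_cl : sp6l1_C.closed sp6l1.Xl (nat_lit 0) (nat_lit 27) = true := by decide +kernel
theorem sp6l1_tab : sp6l1.Tab :=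
  ⟨rng_all (TC.edges_sound sp6l1_e0), rng_all (TC.closed_sound sp6l1_cl)⟩

noncomputable def sp6l2_tbl : NT :=
(.leaf (nat_lit 0) (nat_lit 0x8309e300ba782fd585f990bee813800078b82d9d0bd141784015c185d0001c44171c42e88029730b9140b0d816b085a0001af612db4258b0296c0b6200a14c2d2a05a520b4ea0b00006348291704e0002d282c0000a4e0902e099342c2a8295308e300940004ad857290ac861186011800082b0a86a09d0422800074a08a98114541199844180447c150d813248543208600018f4218b0220000a4810800020b821000067414840101185100004441448428800010002000040000800010))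

noncomputable def sp6l2_par : NT :=
(.leaf (nat_lit 0) (nat_lit 0x930ddb15cb12a0384878d161c200))

noncomputable def sp6l2_rt : RT :=
(.node (nat_lit 6)
(.node (nat_lit 2)
(.node (nat_lit 0)
(.leaf (nat_lit 0) [nat_lit 4, nat_lit 4] (nat_lit 1) (nat_lit 2340) (nat_lit 0))
(.node (nat_lit 1)
(.leaf (nat_lit 1) [nat_lit 0, nat_lit 4, nat_lit 0, nat_lit 4] (nat_lit 3) (nat_lit 0x820820) (nat_lit 0))
(.leaf (nat_lit 2) [nat_lit 1, nat_lit 4, nat_lit 1, nat_lit 4] (nat_lit 3) (nat_lit 0x861861) (nat_lit 0))))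
(.node (nat_lit 4)
(.node (nat_lit 3)
(.leaf (nat_lit 3) [nat_lit 3, nat_lit 4, nat_lit 3, nat_lit 4] (nat_lit 3) (nat_lit 0x8e38e3) (nat_lit 0))
(.leaf (nat_lit 4) [nat_lit 2, nat_lit 4, nat_lit 2, nat_lit 4, nat_lit 2, nat_lit 4] (nat_lit 5) (nat_lit 0x8a28a28a2) (nat_lit 0)))
(.node (nat_lit 5)
(.leaf (nat_lit 0) [nat_lit 0, nat_lit 0] (nat_lit 1) (nat_lit 0) (nat_lit 0))
(.leaf (nat_lit 0) [nat_lit 1, nat_lit 1] (nat_lit 1) (nat_lit 585) (nat_lit 0)))))
(.node (nat_lit 10)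
(.node (nat_lit 8)
(.node (nat_lit 7)
(.leaf (nat_lit 0) [nat_lit 2, nat_lit 2] (nat_lit 1) (nat_lit 1170) (nat_lit 0))
(.leaf (nat_lit 0) [nat_lit 3, nat_lit 3] (nat_lit 1) (nat_lit 1755) (nat_lit 0)))
(.node (nat_lit 9)
(.leaf (nat_lit 0) [nat_lit 0, nat_lit 3, nat_lit 0, nat_lit 3] (nat_lit 3) (nat_lit 0x618618) (nat_lit 0))
(.leaf (nat_lit 0) [nat_lit 0, nat_lit 2, nat_lit 0, nat_lit 2] (nat_lit 3) (nat_lit 0x410410) (nat_lit 0))))
(.node (nat_lit 12)
(.node (nat_lit 11)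
(.leaf (nat_lit 0) [nat_lit 1, nat_lit 3, nat_lit 1, nat_lit 3] (nat_lit 3) (nat_lit 0x659659) (nat_lit 0))
(.leaf (nat_lit 0) [nat_lit 0, nat_lit 1, nat_lit 0, nat_lit 1, nat_lit 0, nat_lit 1] (nat_lit 5) (nat_lit 0x208208208) (nat_lit 0)))
(.node (nat_lit 13)
(.leaf (nat_lit 0) [nat_lit 1, nat_lit 2, nat_lit 1, nat_lit 2, nat_lit 1, nat_lit 2] (nat_lit 5) (nat_lit 0x451451451) (nat_lit 0))
(.leaf (nat_lit 0) [nat_lit 2, nat_lit 3, nat_lit 2, nat_lit 3, nat_lit 2, nat_lit 3] (nat_lit 5) (nat_lit 0x69a69a69a) (nat_lit 0))))))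

def sp6l2_P : List (List ℕ) :=
  [[nat_lit 4, nat_lit 4],
  [nat_lit 0, nat_lit 4, nat_lit 0, nat_lit 4],
  [nat_lit 1, nat_lit 4, nat_lit 1, nat_lit 4],
  [nat_lit 3, nat_lit 4, nat_lit 3, nat_lit 4],
  [nat_lit 2, nat_lit 4, nat_lit 2, nat_lit 4, nat_lit 2, nat_lit 4]]

noncomputable def sp6l2_C : TC where
  G := nat_lit 5
  N := nat_lit 16
  W := nat_lit 19
  mask := nat_lit 524287
  VM := nat_lit 0
  TV := nat_lit 0
  vb := nat_lit 0
  TM := nat_lit 15
  rb := nat_lit 4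
  RM := nat_lit 2047
  BIG := nat_lit 360448
  b := nat_lit 3
  lm := nat_lit 7
  Y := nat_lit 15
  n := nat_lit 1
  K := nat_lit 0
  K0 := nat_lit 0
  QM := nat_lit 0
  k := nat_lit 0
  w := nat_lit 1
  c := nat_lit 0
  cq := nat_lit 0
  Lmax := nat_lit 6
  PW := nat_lit 7
  PM := nat_lit 127
  tbl := sp6l2_tbl
  par := sp6l2_par
  rt := sp6l2_rt

noncomputable def sp6l2 : Lv where
  C := sp6l2_C
  df := [[nat_lit 0],
  [nat_lit 1],
  [nat_lit 2],
  [nat_lit 3],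
  [nat_lit 4]]
  X0 := nat_lit 15
  X := nat_lit 31
  Xl := nat_lit 31
  GG := nat_lit 7
  back := [nat_lit 0, nat_lit 1, nat_lit 2, nat_lit 3, nat_lit 4, nat_lit 0, nat_lit 0]
  P := sp6l2_P

theorem sp6l2_e0 : sp6l2_C.edges (nat_lit 0) (nat_lit 16) = true := by decide +kernel
theorem sp6l2_cl : sp6l2_C.closed sp6l2.Xl (nat_lit 0) (nat_lit 16) = true := by decide +kernel
theorem sp6l2_tab : sp6l2.Tab :=
  ⟨rng_all (TC.edges_sound sp6l2_e0), rng_all (TC.closed_sound sp6l2_cl)⟩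

noncomputable def sp6l3_tbl : NT :=
(.leaf (nat_lit 0) (nat_lit 0x821247092404850136411b908ca82400044611160440006dc2a2008000091052842900008002000100008))

noncomputable def sp6l3_par : NT :=
(.leaf (nat_lit 0) (nat_lit 0xc49860))

noncomputable def sp6l3_rt : RT :=
(.node (nat_lit 4)
(.node (nat_lit 1)
(.node (nat_lit 0)
(.leaf (nat_lit 0) [nat_lit 3, nat_lit 3] (nat_lit 1) (nat_lit 255) (nat_lit 0))
(.leaf (nat_lit 1) [nat_lit 0, nat_lit 3, nat_lit 0, nat_lit 3] (nat_lit 3) (nat_lit 52428) (nat_lit 0)))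
(.node (nat_lit 2)
(.leaf (nat_lit 2) [nat_lit 1, nat_lit 3, nat_lit 1, nat_lit 3] (nat_lit 3) (nat_lit 56797) (nat_lit 0))
(.node (nat_lit 3)
(.leaf (nat_lit 3) [nat_lit 2, nat_lit 3, nat_lit 2, nat_lit 3, nat_lit 2, nat_lit 3] (nat_lit 5) (nat_lit 0xeeeeee) (nat_lit 0))
(.leaf (nat_lit 0) [nat_lit 0, nat_lit 0] (nat_lit 1) (nat_lit 0) (nat_lit 0)))))
(.node (nat_lit 6)
(.node (nat_lit 5)
(.leaf (nat_lit 0) [nat_lit 1, nat_lit 1] (nat_lit 1) (nat_lit 85) (nat_lit 0))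
(.leaf (nat_lit 0) [nat_lit 2, nat_lit 2] (nat_lit 1) (nat_lit 170) (nat_lit 0)))
(.node (nat_lit 7)
(.leaf (nat_lit 0) [nat_lit 0, nat_lit 2, nat_lit 0, nat_lit 2] (nat_lit 3) (nat_lit 34952) (nat_lit 0))
(.node (nat_lit 8)
(.leaf (nat_lit 0) [nat_lit 0, nat_lit 1, nat_lit 0, nat_lit 1, nat_lit 0, nat_lit 1] (nat_lit 5) (nat_lit 0x444444) (nat_lit 0))
(.leaf (nat_lit 0) [nat_lit 1, nat_lit 2, nat_lit 1, nat_lit 2, nat_lit 1, nat_lit 2] (nat_lit 5) (nat_lit 0x999999) (nat_lit 0))))))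

def sp6l3_P : List (List ℕ) :=
  [[nat_lit 3, nat_lit 3],
  [nat_lit 0, nat_lit 3, nat_lit 0, nat_lit 3],
  [nat_lit 1, nat_lit 3, nat_lit 1, nat_lit 3],
  [nat_lit 2, nat_lit 3, nat_lit 2, nat_lit 3, nat_lit 2, nat_lit 3]]

noncomputable def sp6l3_C : TC where
  G := nat_lit 4
  N := nat_lit 5
  W := nat_lit 17
  mask := nat_lit 131071
  VM := nat_lit 0
  TV := nat_lit 0
  vb := nat_lit 0
  TM := nat_lit 7
  rb := nat_lit 3
  RM := nat_lit 2047
  BIG := nat_lit 81920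
  b := nat_lit 2
  lm := nat_lit 3
  Y := nat_lit 7
  n := nat_lit 1
  K := nat_lit 0
  K0 := nat_lit 0
  QM := nat_lit 0
  k := nat_lit 0
  w := nat_lit 1
  c := nat_lit 0
  cq := nat_lit 0
  Lmax := nat_lit 6
  PW := nat_lit 5
  PM := nat_lit 31
  tbl := sp6l3_tbl
  par := sp6l3_par
  rt := sp6l3_rt

noncomputable def sp6l3 : Lv where
  C := sp6l3_C
  df := [[nat_lit 0],
  [nat_lit 1],
  [nat_lit 2],
  [nat_lit 3]]
  X0 := nat_lit 7
  X := nat_lit 15
  Xl := nat_lit 15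
  GG := nat_lit 7
  back := [nat_lit 0, nat_lit 1, nat_lit 2, nat_lit 3, nat_lit 0, nat_lit 0, nat_lit 0]
  P := sp6l3_P

theorem sp6l3_e0 : sp6l3_C.edges (nat_lit 0) (nat_lit 5) = true := by decide +kernel
theorem sp6l3_cl : sp6l3_C.closed sp6l3.Xl (nat_lit 0) (nat_lit 5) = true := by decide +kernel
theorem sp6l3_tab : sp6l3.Tab :=
  ⟨rng_all (TC.edges_sound sp6l3_e0), rng_all (TC.closed_sound sp6l3_cl)⟩

noncomputable def sp6l4_tbl : NT :=
(.leaf (nat_lit 0) (nat_lit 0x6426e84cb0524123012000c8040002442a00040020004))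

noncomputable def sp6l4_par : NT :=
(.leaf (nat_lit 0) (nat_lit 0x6420))

noncomputable def sp6l4_rt : RT :=
(.node (nat_lit 2)
(.node (nat_lit 0)
(.leaf (nat_lit 0) [nat_lit 2, nat_lit 2] (nat_lit 1) (nat_lit 170) (nat_lit 0))
(.node (nat_lit 1)
(.leaf (nat_lit 1) [nat_lit 0, nat_lit 2, nat_lit 0, nat_lit 2] (nat_lit 3) (nat_lit 34952) (nat_lit 0))
(.leaf (nat_lit 2) [nat_lit 1, nat_lit 2, nat_lit 1, nat_lit 2, nat_lit 1, nat_lit 2] (nat_lit 5) (nat_lit 0x999999) (nat_lit 0))))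
(.node (nat_lit 3)
(.leaf (nat_lit 0) [nat_lit 0, nat_lit 0] (nat_lit 1) (nat_lit 0) (nat_lit 0))
(.node (nat_lit 4)
(.leaf (nat_lit 0) [nat_lit 1, nat_lit 1] (nat_lit 1) (nat_lit 85) (nat_lit 0))
(.leaf (nat_lit 0) [nat_lit 0, nat_lit 1, nat_lit 0, nat_lit 1, nat_lit 0, nat_lit 1] (nat_lit 5) (nat_lit 0x444444) (nat_lit 0)))))

def sp6l4_P : List (List ℕ) :=
  [[nat_lit 2, nat_lit 2],
  [nat_lit 0, nat_lit 2, nat_lit 0, nat_lit 2],
  [nat_lit 1, nat_lit 2, nat_lit 1, nat_lit 2, nat_lit 1, nat_lit 2]]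

noncomputable def sp6l4_C : TC where
  G := nat_lit 3
  N := nat_lit 4
  W := nat_lit 15
  mask := nat_lit 32767
  VM := nat_lit 0
  TV := nat_lit 0
  vb := nat_lit 0
  TM := nat_lit 3
  rb := nat_lit 2
  RM := nat_lit 1023
  BIG := nat_lit 16384
  b := nat_lit 2
  lm := nat_lit 3
  Y := nat_lit 3
  n := nat_lit 1
  K := nat_lit 0
  K0 := nat_lit 0
  QM := nat_lit 0
  k := nat_lit 0
  w := nat_lit 1
  c := nat_lit 0
  cq := nat_lit 0
  Lmax := nat_lit 6
  PW := nat_lit 4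
  PM := nat_lit 15
  tbl := sp6l4_tbl
  par := sp6l4_par
  rt := sp6l4_rt

noncomputable def sp6l4 : Lv where
  C := sp6l4_C
  df := [[nat_lit 0],
  [nat_lit 1],
  [nat_lit 2]]
  X0 := nat_lit 3
  X := nat_lit 7
  Xl := nat_lit 7
  GG := nat_lit 7
  back := [nat_lit 0, nat_lit 1, nat_lit 2, nat_lit 0, nat_lit 0, nat_lit 0, nat_lit 0]
  P := sp6l4_P

theorem sp6l4_e0 : sp6l4_C.edges (nat_lit 0) (nat_lit 4) = true := by decide +kernel
theorem sp6l4_cl : sp6l4_C.closed sp6l4.Xl (nat_lit 0) (nat_lit 4) = true := by decide +kernel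
theorem sp6l4_tab : sp6l4.Tab :=
  ⟨rng_all (TC.edges_sound sp6l4_e0), rng_all (TC.closed_sound sp6l4_cl)⟩

noncomputable def sp6l5_tbl : NT :=
(.leaf (nat_lit 0) (nat_lit 0x2424c094040008002004))

noncomputable def sp6l5_par : NT :=
(.leaf (nat_lit 0) (nat_lit 0x88))

noncomputable def sp6l5_rt : RT :=
(.node (nat_lit 0)
(.leaf (nat_lit 0) [nat_lit 1, nat_lit 1] (nat_lit 1) (nat_lit 15) (nat_lit 0))
(.node (nat_lit 1)
(.leaf (nat_lit 1) [nat_lit 0, nat_lit 1, nat_lit 0, nat_lit 1, nat_lit 0, nat_lit 1] (nat_lit 5) (nat_lit 2730) (nat_lit 0))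
(.leaf (nat_lit 0) [nat_lit 0, nat_lit 0] (nat_lit 1) (nat_lit 0) (nat_lit 0))))

def sp6l5_P : List (List ℕ) :=
  [[nat_lit 1, nat_lit 1],
  [nat_lit 0, nat_lit 1, nat_lit 0, nat_lit 1, nat_lit 0, nat_lit 1]]

noncomputable def sp6l5_C : TC where
  G := nat_lit 2
  N := nat_lit 3
  W := nat_lit 13
  mask := nat_lit 8191
  VM := nat_lit 0
  TV := nat_lit 0
  vb := nat_lit 0
  TM := nat_lit 3
  rb := nat_lit 2
  RM := nat_lit 511
  BIG := nat_lit 6144
  b := nat_lit 1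
  lm := nat_lit 1
  Y := nat_lit 1
  n := nat_lit 1
  K := nat_lit 0
  K0 := nat_lit 0
  QM := nat_lit 0
  k := nat_lit 0
  w := nat_lit 1
  c := nat_lit 0
  cq := nat_lit 0
  Lmax := nat_lit 6
  PW := nat_lit 3
  PM := nat_lit 7
  tbl := sp6l5_tbl
  par := sp6l5_par
  rt := sp6l5_rt

noncomputable def sp6l5 : Lv where
  C := sp6l5_C
  df := [[nat_lit 0],
  [nat_lit 1]]
  X0 := nat_lit 1
  X := nat_lit 3
  Xl := nat_lit 3
  GG := nat_lit 7
  back := [nat_lit 0, nat_lit 1, nat_lit 0, nat_lit 0, nat_lit 0, nat_lit 0, nat_lit 0]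
  P := sp6l5_P

theorem sp6l5_e0 : sp6l5_C.edges (nat_lit 0) (nat_lit 3) = true := by decide +kernel
theorem sp6l5_cl : sp6l5_C.closed sp6l5.Xl (nat_lit 0) (nat_lit 3) = true := by decide +kernel
theorem sp6l5_tab : sp6l5.Tab :=
  ⟨rng_all (TC.edges_sound sp6l5_e0), rng_all (TC.closed_sound sp6l5_cl)⟩

noncomputable def sp6l6_tbl : NT :=
(.leaf (nat_lit 0) (nat_lit 0x102001))

noncomputable def sp6l6_par : NT :=
(.leaf (nat_lit 0) (nat_lit 0x0))

noncomputable def sp6l6_rt : RT :=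
(.leaf (nat_lit 0) [nat_lit 0, nat_lit 0] (nat_lit 1) (nat_lit 0) (nat_lit 0))

def sp6l6_P : List (List ℕ) :=
  [[nat_lit 0, nat_lit 0]]

noncomputable def sp6l6_C : TC where
  G := nat_lit 1
  N := nat_lit 2
  W := nat_lit 11
  mask := nat_lit 2047
  VM := nat_lit 0
  TV := nat_lit 0
  vb := nat_lit 0
  TM := nat_lit 1
  rb := nat_lit 1
  RM := nat_lit 255
  BIG := nat_lit 1024
  b := nat_lit 1
  lm := nat_lit 1
  Y := nat_lit 0
  n := nat_lit 1
  K := nat_lit 0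
  K0 := nat_lit 0
  QM := nat_lit 0
  k := nat_lit 0
  w := nat_lit 1
  c := nat_lit 0
  cq := nat_lit 0
  Lmax := nat_lit 2
  PW := nat_lit 2
  PM := nat_lit 3
  tbl := sp6l6_tbl
  par := sp6l6_par
  rt := sp6l6_rt

noncomputable def sp6l6 : Lv where
  C := sp6l6_C
  df := [[nat_lit 0]]
  X0 := nat_lit 0
  X := nat_lit 1
  Xl := nat_lit 1
  GG := nat_lit 7
  back := [nat_lit 0, nat_lit 0, nat_lit 0, nat_lit 0, nat_lit 0, nat_lit 0, nat_lit 0]
  P := sp6l6_P

theorem sp6l6_e0 : sp6l6_C.edges (nat_lit 0) (nat_lit 2) = true := by decide +kernel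
theorem sp6l6_cl : sp6l6_C.closed sp6l6.Xl (nat_lit 0) (nat_lit 2) = true := by decide +kernel
theorem sp6l6_tab : sp6l6.Tab :=
  ⟨rng_all (TC.edges_sound sp6l6_e0), rng_all (TC.closed_sound sp6l6_cl)⟩

noncomputable def sp6ch_0 : OL where
  b := nat_lit 0
  n := nat_lit 63
  S := [[nat_lit 0],
  [nat_lit 1],
  [nat_lit 2],
  [nat_lit 3],
  [nat_lit 4],
  [nat_lit 5],
  [nat_lit 6]]
  O := ⟨nat_lit 0, nat_lit 4, nat_lit 6, nat_lit 63, nat_lit 0, nat_lit 0,
(.leaf (nat_lit 0) (nat_lit 0xf80f7ef41f3df02ebcec5e7be83dfae46d79e03d38dc5cf7d86c76d43c75d05bb4cc6b73c86a32c459f1c018b0bc586fb8682eb4482db057ecac676ba8272aa466e9a056a89c26a79846669426659056248c65a38825628464e18024e07c645f78641e7453dd70439c6c535b68435a6433596062d85c62975852565442155061d44c31d34861924431914051503c414f38314e34114d30610c2c310b2850ca2440c92030c81c50871850461420451050040c2003081002040001000000))⟩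

noncomputable def sp6ch_1 : OL where
  b := nat_lit 3
  n := nat_lit 32
  S := [[nat_lit 3],
  [nat_lit 4],
  [nat_lit 0, nat_lit 1, nat_lit 0],
  [nat_lit 1, nat_lit 2, nat_lit 1],
  [nat_lit 2, nat_lit 5, nat_lit 3, nat_lit 5, nat_lit 2],
  [nat_lit 0, nat_lit 1, nat_lit 6, nat_lit 1, nat_lit 0]]
  O := ⟨nat_lit 0, nat_lit 4, nat_lit 6, nat_lit 63, nat_lit 0, nat_lit 0,
(.node (nat_lit 1025)
(.node (nat_lit 929)
(.leaf (nat_lit 0) (nat_lit 0x2c00000027af74476c5c569e00267e0055eb2415d01c45bc3055360044dd00547318543900437100336a0052ee0012ed68427500520c0031b00c21a63c51581441200030c108209a04404400205900105500400b20300200200d101009280008000003))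
(.leaf (nat_lit 930) (nat_lit 0xd)))
(.node (nat_lit 1385)
(.leaf (nat_lit 1026) (nat_lit 0x1800001000000000001600000000001400000e00001f00001200001100001e00001b000013))
(.node (nat_lit 1457)
(.leaf (nat_lit 1386) (nat_lit 0x15))
(.leaf (nat_lit 1458) (nat_lit 0x1c000000000019)))))⟩

noncomputable def sp6ch_2 : OL where
  b := nat_lit 4
  n := nat_lit 15
  S := [[nat_lit 6],
  [nat_lit 1, nat_lit 2, nat_lit 3, nat_lit 2, nat_lit 1],
  [nat_lit 5, nat_lit 3, nat_lit 4, nat_lit 2, nat_lit 3, nat_lit 5, nat_lit 4],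
  [nat_lit 0, nat_lit 1, nat_lit 2, nat_lit 3, nat_lit 5, nat_lit 3, nat_lit 2, nat_lit 1, nat_lit 0],
  [nat_lit 0, nat_lit 1, nat_lit 4, nat_lit 0, nat_lit 1, nat_lit 2, nat_lit 4, nat_lit 0, nat_lit 1]]
  O := ⟨nat_lit 0, nat_lit 4, nat_lit 6, nat_lit 63, nat_lit 0, nat_lit 0,
(.node (nat_lit 737)
(.node (nat_lit 521)
(.node (nat_lit 401)
(.leaf (nat_lit 0) (nat_lit 0x336f0042de0441d00001f600419a00217c00412a0030f100308100106e00301900201500102018000c000004))
(.leaf (nat_lit 402) (nat_lit 0xc)))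
(.node (nat_lit 617)
(.leaf (nat_lit 522) (nat_lit 0x3))
(.leaf (nat_lit 618) (nat_lit 0xa000004))))
(.node (nat_lit 1121)
(.node (nat_lit 1025)
(.leaf (nat_lit 738) (nat_lit 0x200000000000d))
(.leaf (nat_lit 1026) (nat_lit 0x8)))
(.node (nat_lit 1313)
(.leaf (nat_lit 1122) (nat_lit 0x700000000000e000005))
(.node (nat_lit 1457)
(.leaf (nat_lit 1314) (nat_lit 0xb))
(.leaf (nat_lit 1458) (nat_lit 0x9))))))⟩

noncomputable def sp6ch_3 : OL where
  b := nat_lit 1
  n := nat_lit 6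
  S := [[nat_lit 1, nat_lit 2, nat_lit 4, nat_lit 2, nat_lit 1],
  [nat_lit 0, nat_lit 1, nat_lit 2, nat_lit 3, nat_lit 5, nat_lit 6, nat_lit 5, nat_lit 3, nat_lit 2, nat_lit 1, nat_lit 0],
  [nat_lit 3, nat_lit 2, nat_lit 4, nat_lit 1, nat_lit 2, nat_lit 3, nat_lit 5, nat_lit 3, nat_lit 2, nat_lit 4, nat_lit 1, nat_lit 2, nat_lit 3]]
  O := ⟨nat_lit 0, nat_lit 4, nat_lit 6, nat_lit 63, nat_lit 0, nat_lit 0,
(.node (nat_lit 641)
(.node (nat_lit 401)
(.leaf (nat_lit 0) (nat_lit 0x112f00205000203100102e00001a000001))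
(.leaf (nat_lit 402) (nat_lit 0x4)))
(.node (nat_lit 1121)
(.leaf (nat_lit 642) (nat_lit 0x1))
(.leaf (nat_lit 1122) (nat_lit 0x3000000000005000002))))⟩

noncomputable def sp6ch_4 : OL where
  b := nat_lit 2
  n := nat_lit 4
  S := [[nat_lit 4, nat_lit 2, nat_lit 3, nat_lit 5, nat_lit 6, nat_lit 5, nat_lit 3, nat_lit 2, nat_lit 4],
  [nat_lit 1, nat_lit 2, nat_lit 4, nat_lit 0, nat_lit 1, nat_lit 2, nat_lit 3, nat_lit 5, nat_lit 6, nat_lit 5, nat_lit 3, nat_lit 2, nat_lit 4, nat_lit 1, nat_lit 2, nat_lit 0, nat_lit 1]]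
  O := ⟨nat_lit 0, nat_lit 4, nat_lit 6, nat_lit 63, nat_lit 0, nat_lit 0,
(.node (nat_lit 1241)
(.node (nat_lit 329)
(.leaf (nat_lit 0) (nat_lit 0x104d001039000033000002))
(.leaf (nat_lit 330) (nat_lit 0x3)))
(.node (nat_lit 1385)
(.leaf (nat_lit 1242) (nat_lit 0x1))
(.leaf (nat_lit 1386) (nat_lit 0x2))))⟩

noncomputable def sp6ch_5 : OL where
  b := nat_lit 8
  n := nat_lit 2
  S := [[nat_lit 3, nat_lit 2, nat_lit 1, nat_lit 0, nat_lit 5, nat_lit 3, nat_lit 2, nat_lit 4, nat_lit 1, nat_lit 2, nat_lit 3, nat_lit 5, nat_lit 6, nat_lit 5, nat_lit 3, nat_lit 2, nat_lit 4, nat_lit 1, nat_lit 2, nat_lit 3, nat_lit 5, nat_lit 0, nat_lit 1, nat_lit 2, nat_lit 3]]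
  O := ⟨nat_lit 0, nat_lit 4, nat_lit 6, nat_lit 63, nat_lit 0, nat_lit 0,
(.node (nat_lit 209)
(.leaf (nat_lit 0) (nat_lit 0x3e000008))
(.node (nat_lit 1505)
(.leaf (nat_lit 210) (nat_lit 0x0))
(.leaf (nat_lit 1506) (nat_lit 0x1))))⟩

noncomputable def sp6ch : List OL := [sp6ch_0, sp6ch_1, sp6ch_2, sp6ch_3, sp6ch_4, sp6ch_5]

theorem hch : chainOK T (nat_lit 127) sp6ch [] = true := by decide +kernel
noncomputable def chk : List ℕ → Bool := T.chk [nat_lit 8, nat_lit 2, nat_lit 1, nat_lit 4, nat_lit 3, nat_lit 0]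
theorem sp6l0_ok : sp6l0.ok chk = true := by decide +kernel
theorem sp6l0_hP : allL chk sp6l0.P = true := by decide +kernel
theorem sp6l1_ok : sp6l1.ok chk = true := by decide +kernel
theorem sp6l1_hP : allL chk sp6l1.P = true := by decide +kernel
theorem sp6l2_ok : sp6l2.ok chk = true := by decide +kernel
theorem sp6l2_hP : allL chk sp6l2.P = true := by decide +kernel
theorem sp6l3_ok : sp6l3.ok chk = true := by decide +kernel
theorem sp6l3_hP : allL chk sp6l3.P = true := by decide +kernel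
theorem sp6l4_ok : sp6l4.ok chk = true := by decide +kernel
theorem sp6l4_hP : allL chk sp6l4.P = true := by decide +kernel
theorem sp6l5_ok : sp6l5.ok chk = true := by decide +kernel
theorem sp6l5_hP : allL chk sp6l5.P = true := by decide +kernel
theorem sp6l6_ok : sp6l6.ok chk = true := by decide +kernel
theorem sp6l6_hP : allL chk sp6l6.P = true := by decide +kernel
def P : List (List ℕ) := sp6l6_P ++ sp6l5_P ++ sp6l4_P ++ sp6l3_P ++ sp6l2_P ++ sp6l1_P ++ sp6l0_P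
theorem hP0 : allL chk P = true := by decide +kernel
def Q : List (List ℕ × List ℕ) := [([nat_lit 2], [nat_lit 0])]

theorem hQ0 : allL (fun q => T.chk2 [nat_lit 8, nat_lit 2, nat_lit 1, nat_lit 4, nat_lit 3, nat_lit 0] (app q.1 q.2) (app q.2 q.1)) Q = true := by decide +kernel

noncomputable def sp6p2_ru : RuT :=
(.node (nat_lit 72)
(.node (nat_lit 48)
(.node (nat_lit 25)
(.node (nat_lit 12)
(.node (nat_lit 0)
(.leaf (nat_lit 0) (nat_lit 0) (nat_lit 0) [])
(.leaf (nat_lit 1) (nat_lit 0) (nat_lit 1) [nat_lit 0, nat_lit 1, nat_lit 4]))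
(.node (nat_lit 13)
(.leaf (nat_lit 1) (nat_lit 1) (nat_lit 2) [])
(.node (nat_lit 24)
(.leaf (nat_lit 2) (nat_lit 0) (nat_lit 3) [nat_lit 0, nat_lit 2, nat_lit 7])
(.leaf (nat_lit 2) (nat_lit 1) (nat_lit 4) [nat_lit 1, nat_lit 2, nat_lit 5, nat_lit 8]))))
(.node (nat_lit 37)
(.node (nat_lit 26)
(.leaf (nat_lit 2) (nat_lit 2) (nat_lit 5) [])
(.node (nat_lit 36)
(.leaf (nat_lit 3) (nat_lit 0) (nat_lit 6) [nat_lit 0, nat_lit 3, nat_lit 6, nat_lit 8])
(.leaf (nat_lit 3) (nat_lit 1) (nat_lit 7) [nat_lit 1, nat_lit 3])))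
(.node (nat_lit 38)
(.leaf (nat_lit 3) (nat_lit 2) (nat_lit 8) [nat_lit 2, nat_lit 3])
(.node (nat_lit 39)
(.leaf (nat_lit 3) (nat_lit 3) (nat_lit 9) [])
(.leaf (nat_lit 4) (nat_lit 0) (nat_lit 10) [nat_lit 0, nat_lit 4])))))
(.node (nat_lit 60)
(.node (nat_lit 50)
(.node (nat_lit 49)
(.leaf (nat_lit 4) (nat_lit 1) (nat_lit 11) [nat_lit 1, nat_lit 4])
(.leaf (nat_lit 4) (nat_lit 2) (nat_lit 12) [nat_lit 2, nat_lit 4, nat_lit 7]))
(.node (nat_lit 51)
(.leaf (nat_lit 4) (nat_lit 3) (nat_lit 13) [nat_lit 3, nat_lit 4])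
(.node (nat_lit 52)
(.leaf (nat_lit 4) (nat_lit 4) (nat_lit 14) [])
(.leaf (nat_lit 5) (nat_lit 0) (nat_lit 15) [nat_lit 0, nat_lit 5, nat_lit 7]))))
(.node (nat_lit 63)
(.node (nat_lit 61)
(.leaf (nat_lit 5) (nat_lit 1) (nat_lit 16) [nat_lit 1, nat_lit 5])
(.node (nat_lit 62)
(.leaf (nat_lit 5) (nat_lit 2) (nat_lit 17) [nat_lit 2, nat_lit 5])
(.leaf (nat_lit 5) (nat_lit 3) (nat_lit 18) [nat_lit 3, nat_lit 5])))
(.node (nat_lit 64)
(.leaf (nat_lit 5) (nat_lit 4) (nat_lit 19) [nat_lit 4, nat_lit 5, nat_lit 8])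
(.node (nat_lit 65)
(.leaf (nat_lit 5) (nat_lit 5) (nat_lit 20) [])
(.leaf (nat_lit 6) (nat_lit 0) (nat_lit 21) [nat_lit 0, nat_lit 6]))))))
(.node (nat_lit 88)
(.node (nat_lit 77)
(.node (nat_lit 74)
(.node (nat_lit 73)
(.leaf (nat_lit 6) (nat_lit 1) (nat_lit 22) [nat_lit 1, nat_lit 6])
(.leaf (nat_lit 6) (nat_lit 2) (nat_lit 23) [nat_lit 2, nat_lit 6]))
(.node (nat_lit 75)
(.leaf (nat_lit 6) (nat_lit 3) (nat_lit 24) [nat_lit 3, nat_lit 6])
(.node (nat_lit 76)
(.leaf (nat_lit 6) (nat_lit 4) (nat_lit 25) [nat_lit 4, nat_lit 6])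
(.leaf (nat_lit 6) (nat_lit 5) (nat_lit 26) [nat_lit 5, nat_lit 6]))))
(.node (nat_lit 85)
(.node (nat_lit 78)
(.leaf (nat_lit 6) (nat_lit 6) (nat_lit 27) [])
(.node (nat_lit 84)
(.leaf (nat_lit 7) (nat_lit 0) (nat_lit 28) [nat_lit 0, nat_lit 7])
(.leaf (nat_lit 7) (nat_lit 1) (nat_lit 29) [nat_lit 1, nat_lit 7, nat_lit 8])))
(.node (nat_lit 86)
(.leaf (nat_lit 7) (nat_lit 2) (nat_lit 30) [nat_lit 2, nat_lit 7])
(.node (nat_lit 87)
(.leaf (nat_lit 7) (nat_lit 3) (nat_lit 31) [nat_lit 3, nat_lit 7])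
(.leaf (nat_lit 7) (nat_lit 4) (nat_lit 32) [nat_lit 4, nat_lit 7])))))
(.node (nat_lit 98)
(.node (nat_lit 91)
(.node (nat_lit 89)
(.leaf (nat_lit 7) (nat_lit 5) (nat_lit 33) [nat_lit 5, nat_lit 7])
(.node (nat_lit 90)
(.leaf (nat_lit 7) (nat_lit 6) (nat_lit 34) [nat_lit 6, nat_lit 7])
(.leaf (nat_lit 7) (nat_lit 7) (nat_lit 35) [])))
(.node (nat_lit 96)
(.leaf (nat_lit 8) (nat_lit 0) (nat_lit 36) [nat_lit 0, nat_lit 8])
(.node (nat_lit 97)
(.leaf (nat_lit 8) (nat_lit 1) (nat_lit 37) [nat_lit 1, nat_lit 8])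
(.leaf (nat_lit 8) (nat_lit 2) (nat_lit 38) [nat_lit 2, nat_lit 8]))))
(.node (nat_lit 101)
(.node (nat_lit 99)
(.leaf (nat_lit 8) (nat_lit 3) (nat_lit 39) [nat_lit 3, nat_lit 8])
(.node (nat_lit 100)
(.leaf (nat_lit 8) (nat_lit 4) (nat_lit 40) [nat_lit 4, nat_lit 8])
(.leaf (nat_lit 8) (nat_lit 5) (nat_lit 41) [nat_lit 5, nat_lit 8])))
(.node (nat_lit 102)
(.leaf (nat_lit 8) (nat_lit 6) (nat_lit 42) [nat_lit 6, nat_lit 8])
(.node (nat_lit 103)
(.leaf (nat_lit 8) (nat_lit 7) (nat_lit 43) [nat_lit 7, nat_lit 8])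
(.leaf (nat_lit 8) (nat_lit 8) (nat_lit 44) [])))))))

def sp6p2_E : List (List ℕ × List ℕ) :=
  [([nat_lit 0, nat_lit 0], []),
    ([nat_lit 1, nat_lit 0], [nat_lit 0, nat_lit 1, nat_lit 4]),
    ([nat_lit 1, nat_lit 1], []),
    ([nat_lit 2, nat_lit 0], [nat_lit 0, nat_lit 2, nat_lit 7]),
    ([nat_lit 2, nat_lit 1], [nat_lit 1, nat_lit 2, nat_lit 5, nat_lit 8]),
    ([nat_lit 2, nat_lit 2], []),
    ([nat_lit 3, nat_lit 0], [nat_lit 0, nat_lit 3, nat_lit 6, nat_lit 8]),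
    ([nat_lit 3, nat_lit 1], [nat_lit 1, nat_lit 3]),
    ([nat_lit 3, nat_lit 2], [nat_lit 2, nat_lit 3]),
    ([nat_lit 3, nat_lit 3], []),
    ([nat_lit 4, nat_lit 0], [nat_lit 0, nat_lit 4]),
    ([nat_lit 4, nat_lit 1], [nat_lit 1, nat_lit 4]),
    ([nat_lit 4, nat_lit 2], [nat_lit 2, nat_lit 4, nat_lit 7]),
    ([nat_lit 4, nat_lit 3], [nat_lit 3, nat_lit 4]),
    ([nat_lit 4, nat_lit 4], []),
    ([nat_lit 5, nat_lit 0], [nat_lit 0, nat_lit 5, nat_lit 7]),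
    ([nat_lit 5, nat_lit 1], [nat_lit 1, nat_lit 5]),
    ([nat_lit 5, nat_lit 2], [nat_lit 2, nat_lit 5]),
    ([nat_lit 5, nat_lit 3], [nat_lit 3, nat_lit 5]),
    ([nat_lit 5, nat_lit 4], [nat_lit 4, nat_lit 5, nat_lit 8]),
    ([nat_lit 5, nat_lit 5], []),
    ([nat_lit 6, nat_lit 0], [nat_lit 0, nat_lit 6]),
    ([nat_lit 6, nat_lit 1], [nat_lit 1, nat_lit 6]),
    ([nat_lit 6, nat_lit 2], [nat_lit 2, nat_lit 6]),
    ([nat_lit 6, nat_lit 3], [nat_lit 3, nat_lit 6]),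
    ([nat_lit 6, nat_lit 4], [nat_lit 4, nat_lit 6]),
    ([nat_lit 6, nat_lit 5], [nat_lit 5, nat_lit 6]),
    ([nat_lit 6, nat_lit 6], []),
    ([nat_lit 7, nat_lit 0], [nat_lit 0, nat_lit 7]),
    ([nat_lit 7, nat_lit 1], [nat_lit 1, nat_lit 7, nat_lit 8]),
    ([nat_lit 7, nat_lit 2], [nat_lit 2, nat_lit 7]),
    ([nat_lit 7, nat_lit 3], [nat_lit 3, nat_lit 7]),
    ([nat_lit 7, nat_lit 4], [nat_lit 4, nat_lit 7]),
    ([nat_lit 7, nat_lit 5], [nat_lit 5, nat_lit 7]),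
    ([nat_lit 7, nat_lit 6], [nat_lit 6, nat_lit 7]),
    ([nat_lit 7, nat_lit 7], []),
    ([nat_lit 8, nat_lit 0], [nat_lit 0, nat_lit 8]),
    ([nat_lit 8, nat_lit 1], [nat_lit 1, nat_lit 8]),
    ([nat_lit 8, nat_lit 2], [nat_lit 2, nat_lit 8]),
    ([nat_lit 8, nat_lit 3], [nat_lit 3, nat_lit 8]),
    ([nat_lit 8, nat_lit 4], [nat_lit 4, nat_lit 8]),
    ([nat_lit 8, nat_lit 5], [nat_lit 5, nat_lit 8]),
    ([nat_lit 8, nat_lit 6], [nat_lit 6, nat_lit 8]),
    ([nat_lit 8, nat_lit 7], [nat_lit 7, nat_lit 8]),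
    ([nat_lit 8, nat_lit 8], [])]

def sp6p2_A : List ℕ :=
  [nat_lit 0x180000000000000000000000000000000000000000000000000000000000000000000000000000000000000000000000000000000000000000000000000000000000000000000000000000000000000000000000000000000000000000000000000000000000000000000000000000000000000000000000000000000000000000000000000000000000000000200000000000000001800000,
    nat_lit 0x3000000000000000000000000000000000000000000000000000000000000000000000000000000000000000000000000000000000000000000000000000000000000000000000000000000000000000000000000000000000000000000000000000000000000000000000000000000000000000000000000000000000000200000000000000000000000,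
    nat_lit 0x60000000000000000000000000000000000000000000006000000000000000000000000000000000000000000000000000000000000000000000000000000000000000000000000000000000000000000000000000000000000000000000000000000000000000060000000000000000000000000000000000000000000000000000000000000000000000000040000000000100000000000000001000000,
    nat_lit 0x6000000000000000000000000000000000000000000000000000000000000000000000000000000000000000000000000000000000000000000000000000000000000000000000000000000000000000060000000000000000000000000000000000000000000000000000000000000000000000000040000000000200000000000000000000000,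
    nat_lit 0x800000,
    nat_lit 0x60000000000000000000000000000000000000000000000000000000000000000000000000000000000000100000000000000000000000,
    nat_lit 0x60000000000000000000000000000000000000000000000000000000000000000000000000040000000000000000000000000000000000,
    nat_lit 0x200000000000000000,
    nat_lit 0x20000000000000000000000000000000000000000000000000000000000000000000000000000000000000000000000000000000000000]

def sp6p2_co : List ℕ :=
  [nat_lit 0x20800800000000000800400800820020800c00020030020c20c20820030000000000000820000000c00020c00800810820800c20c2000000003000002001080001000000000000000000000,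
    nat_lit 0,
    nat_lit 0x20020800000800810000c00000800000800000800820000810820820010000000010000000c0000080002080000002082003002080081000000000000001000001000000000000000000000,
    nat_lit 0,
    nat_lit 0,
    nat_lit 0x1000000000000000000000000000000000000000000000000000000000000000000000000000000000000000000000000000000000000000000000000000000000000000000000000000000,
    nat_lit 0,
    nat_lit 0x30020020820000820000800c10430c20000030800830c10000800c10000000020800000830000000830420820820820c20020800010820000000000030420c0003000000000000000000000,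
    nat_lit 0x30020020000800000800810820000400000c20000800430800400800c10000000820000030800000000000400000030c30c00c00430c00000010000010c2040001000000000000000000000,
    nat_lit 0x10020820000800800c20030c30820400000030820020c10430400c00800000000000000810400000c10020830810810c20400810000c00000000000000c1000000000000000000000000000,
    nat_lit 0x2080000080081080040082080000080002080080002083002002002000000083000082040000080002082002000002082000000082000000000000003000002000000000000000000000,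
    nat_lit 0x20020800000800810000c20820820000800020800800820810000000800000000010000000c0000080002000080080080083082000001000000000000001000001000000000000000000000,
    nat_lit 0x20000000820c00420820c30430430c00800010c00410c30400c00400000000020020000410c00000830030c20c20420020020c10c10820000010000030430c0001000000000000000000000,
    nat_lit 0x10020020820000820800400430430c20800810c00c30c30820800400010000020800000010000000030020000800820400820020010020000000000030430c0001000000000000000000000,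
    nat_lit 0x20800800000000000800400800820020800c00020030020c20c20820030000000000000820c00000c00020c00800810820800c20c2000000003000002001080001000000000000000000000,
    nat_lit 0x20020800820800c20800820020c10800000800400820c00830000000030000020800000c00c0000042002041083082083002000080002000003000000080000002000000000000000000000,
    nat_lit 0x30020020000800000820830820000000000020000820c20800400800420000000820000000800000000000400400c30430400420c10400000000000030030c0001000000000000000000000,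
    nat_lit 0x3000000000000000040000000000000000000000001000000000000000000000000000000000000000000000000000000000000000000000,
    nat_lit 0x20800000020000800010420000020000410000030830820010000c30000000000000820800000820800820020010010400400c20c0000003000002002080002000000000000000000000,
    nat_lit 0,
    nat_lit 0x10000800000800800c20820c30820400000430820800410410800c00c10000000000000030c00000410000410030020410c00430800c00000000000000c3000001000000000000000000000,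
    nat_lit 0x20800000800800800420000820000800000800c2080083080080080000000082000082040000080002002082082000000080080000000000000000003000002000000000000000000000,
    nat_lit 0x30020020820000820000800c10430c20000030800830c10000800c00000000020800000830000000c30020820820820c20020800010820000000000030420c0003000000000000000000000,
    nat_lit 0x30020020000800000800810820000400000c20000800430800400400c10000000820000030800000410000400000030c30c00c00430c00000010000010c2040001000000000000000000000,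
    nat_lit 0x30020020000000800000020410820420000010800010430020000c00800000000820000030000000c10020020820800c00000820030800000000000010c0040001000000000000000000000,
    nat_lit 0x20000000000000000800c0082000000080082000040002082000080002000000000000082000000080000082002000082080082000080000000000000001000002000000000000000000000,
    nat_lit 0x20020800000000000820030420000020000410000030030820800000410000000820000000000000c00000020820830830c00c0040040000003000000002000000000000000000000000000,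
    nat_lit 0x10020820000800800c20030c30820400000030820020c10430400c00800000000000000810400000810020830810810c20400810000c00000000000000c1000000000000000000000000000,
    nat_lit 0x30000820000000800420820410820400000410800800430c30800400810000000820000810c00000c10000c30010020c20c00410420400000010000020c1080000000000000000000000000,
    nat_lit 0x10020020000c00000800810820000000000c20000820420800c00800800000000000000820000000000020c00c00400c3080081002000000003000002000080003000000000000000000000,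
    nat_lit 0x10000820000000800c20820c30820400000c30800800410410800c00830000000000000030c00000410000410030020420000c30c20800000010000020c1080001000000000000000000000,
    nat_lit 0x800800820800c00820020000c00800820810820000000830000000000000000800000800020820020010010400c20c00c0000003000000000000000000000000000000000000,
    nat_lit 0x10000820000800000c20000410000420000c10000020430010000400830000000000000030000000410020c10830820420400410400c00000010000000c1000002000000000000000000000,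
    nat_lit 0x10000820000000800c20820c30820400000c30800800410410800c00830000000000000030c00000410000410030020410400c30020400000010000020c1080001000000000000000000000,
    nat_lit 0x2002080000080080000081082082000000082080083082000080000082000000082000000080000000002080080082082080002080080000000000000002000000000000000000000000000,
    nat_lit 0x30000820000000000420820410000400000410000800c30c10800400830000000820000810c00000410000410030020c00c00410020c00000010000020c1080003000000000000000000000,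
    nat_lit 0x10000820000800000800c20c30000420800830000410c10830800c00020000000820000030400000c10000c30010000400000800810000000010000030c30c0002000000000000000000000,
    nat_lit 0x20000000000000000020020000000000000c0000000080000080000083000000082000082080000000000080080082082080080082080000000000002000080002000000000000000000000,
    nat_lit 0x10020020000800000000830000000000000400010820c00020400000830000000000000820800000810000c2002003041040042043040000003000001003040003000000000000000000000,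
    nat_lit 0x40000000000000000000000000000000000000000000000000000000000000000,
    nat_lit 0x20000000000000000020020000000000000400000000800000800000810000000820000820800000000020800800820800400c10410c00000000000030010c0002000000000000000000000,
    nat_lit 0x20000000000000000020020000000000000c00000000800000800000830000000820000820800000000020800800820400c00420c3040000003000001003040002000000000000000000000,
    nat_lit 0x20000000000000000020020000000000000000000000800000400000820000000820000820800000400000c0080082082080080082080000000000002000080002000000000000000000000,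
    nat_lit 0x20000000000000000020020000000000000400000000800000800000810000000820000820800000000000800800810820800c2082080000003000002000080002000000000000000000000,
    nat_lit 0x80000002000000000000000040000000000000000000083000000000000000000000000000000000002000080040082080000003000002000080000000000000000000000000]

noncomputable def sp6p2 : PCD where
  G := nat_lit 12
  w := nat_lit 23
  k := nat_lit 69
  n := nat_lit 4
  fuel := nat_lit 66
  o := nat_lit 0x10000020000040000080000100000200000400000800001000002000004000008000010000020000040000080000100000200000400000800001000002000004000008000010000020000040000080000100000200000400000800001000002000004000008000010000020000040000080000100000200000400000800001000002000004000008000010000020000040000080000100000200000400000800001000002000004000008000010000020000040000080000100000200000400000800001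
  c0 := nat_lit 839920
  cq := nat_lit 0xfffff
  cA := nat_lit 3
  Lm := nat_lit 4
  np := nat_lit 45
  rules := sp6p2_ru
  E := sp6p2_E
  C := [(nat_lit 9, [nat_lit 1], [nat_lit 1]),
    (nat_lit 9, [nat_lit 2], [nat_lit 2]),
    (nat_lit 9, [nat_lit 3], [nat_lit 6]),
    (nat_lit 9, [nat_lit 4], [nat_lit 1, nat_lit 4]),
    (nat_lit 9, [nat_lit 5], [nat_lit 5]),
    (nat_lit 9, [nat_lit 6], [nat_lit 3]),
    (nat_lit 9, [nat_lit 7], [nat_lit 5, nat_lit 7]),
    (nat_lit 9, [nat_lit 8], [nat_lit 8]),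
    (nat_lit 10, [nat_lit 0], [nat_lit 4]),
    (nat_lit 10, [nat_lit 2], [nat_lit 2]),
    (nat_lit 10, [nat_lit 3], [nat_lit 2, nat_lit 5, nat_lit 8]),
    (nat_lit 10, [nat_lit 4], [nat_lit 0]),
    (nat_lit 10, [nat_lit 5, nat_lit 8], [nat_lit 2, nat_lit 3]),
    (nat_lit 10, [nat_lit 6], [nat_lit 6]),
    (nat_lit 10, [nat_lit 7], [nat_lit 7]),
    (nat_lit 10, [nat_lit 8], [nat_lit 6, nat_lit 7, nat_lit 8]),
    (nat_lit 11, [nat_lit 0], [nat_lit 0]),
    (nat_lit 11, [nat_lit 1], [nat_lit 1]),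
    (nat_lit 11, [nat_lit 3], [nat_lit 3]),
    (nat_lit 11, [nat_lit 4], [nat_lit 4]),
    (nat_lit 11, [nat_lit 5], [nat_lit 1, nat_lit 3, nat_lit 5, nat_lit 6]),
    (nat_lit 11, [nat_lit 6], [nat_lit 6]),
    (nat_lit 11, [nat_lit 7], [nat_lit 4, nat_lit 6, nat_lit 7]),
    (nat_lit 11, [nat_lit 8], [nat_lit 8])]
  RA := [([nat_lit 3], [nat_lit 1, nat_lit 1]),
    ([nat_lit 3], [nat_lit 2, nat_lit 2]),
    ([nat_lit 4], [nat_lit 0, nat_lit 0]),
    ([nat_lit 4], [nat_lit 1, nat_lit 1]),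
    ([nat_lit 4], [nat_lit 3, nat_lit 3]),
    ([nat_lit 5], [nat_lit 1, nat_lit 1]),
    ([nat_lit 5], [nat_lit 2, nat_lit 2]),
    ([nat_lit 5], [nat_lit 3, nat_lit 3]),
    ([nat_lit 6], [nat_lit 0, nat_lit 0]),
    ([nat_lit 6], [nat_lit 1, nat_lit 1]),
    ([nat_lit 6], [nat_lit 2, nat_lit 2]),
    ([nat_lit 6], [nat_lit 3, nat_lit 3]),
    ([nat_lit 6], [nat_lit 4, nat_lit 4]),
    ([nat_lit 6], [nat_lit 5, nat_lit 5]),
    ([nat_lit 7], [nat_lit 0, nat_lit 0]),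
    ([nat_lit 7], [nat_lit 2, nat_lit 2]),
    ([nat_lit 7], [nat_lit 3, nat_lit 3]),
    ([nat_lit 7], [nat_lit 4, nat_lit 4]),
    ([nat_lit 7], [nat_lit 5, nat_lit 5]),
    ([nat_lit 7], [nat_lit 6, nat_lit 6]),
    ([nat_lit 8], [nat_lit 0, nat_lit 0]),
    ([nat_lit 8], [nat_lit 1, nat_lit 1]),
    ([nat_lit 8], [nat_lit 2, nat_lit 2]),
    ([nat_lit 8], [nat_lit 3, nat_lit 3]),
    ([nat_lit 8], [nat_lit 4, nat_lit 4]),
    ([nat_lit 8], [nat_lit 5, nat_lit 5]),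
    ([nat_lit 8], [nat_lit 6, nat_lit 6]),
    ([nat_lit 8], [nat_lit 7, nat_lit 7]),
    ([nat_lit 1], [nat_lit 0, nat_lit 0]),
    ([nat_lit 2], [nat_lit 0, nat_lit 0]),
    ([nat_lit 4], [nat_lit 2, nat_lit 2]),
    ([nat_lit 5], [nat_lit 0, nat_lit 0]),
    ([nat_lit 5], [nat_lit 4, nat_lit 4]),
    ([nat_lit 7], [nat_lit 1, nat_lit 1]),
    ([nat_lit 1], [nat_lit 1, nat_lit 0]),
    ([nat_lit 2], [nat_lit 2, nat_lit 0]),
    ([nat_lit 5], [nat_lit 5, nat_lit 0]),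
    ([nat_lit 5], [nat_lit 5, nat_lit 4]),
    ([nat_lit 7], [nat_lit 7, nat_lit 1]),
    ([nat_lit 2], [nat_lit 1, nat_lit 1]),
    ([nat_lit 3], [nat_lit 0, nat_lit 0]),
    ([nat_lit 2], [nat_lit 2, nat_lit 1]),
    ([nat_lit 3], [nat_lit 3, nat_lit 0]),
    ([nat_lit 5], [nat_lit 4, nat_lit 3]),
    ([nat_lit 2], [nat_lit 1, nat_lit 0])]
  RB := [(nat_lit 9, [nat_lit 0, nat_lit 0]),
    (nat_lit 9, [nat_lit 1, nat_lit 1]),
    (nat_lit 9, [nat_lit 2, nat_lit 2]),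
    (nat_lit 9, [nat_lit 4, nat_lit 4]),
    (nat_lit 9, [nat_lit 5, nat_lit 5]),
    (nat_lit 9, [nat_lit 7, nat_lit 7]),
    (nat_lit 10, [nat_lit 8, nat_lit 8]),
    (nat_lit 10, [nat_lit 9, nat_lit 9]),
    (nat_lit 10, [nat_lit 11, nat_lit 11]),
    (nat_lit 10, [nat_lit 13, nat_lit 13]),
    (nat_lit 10, [nat_lit 14, nat_lit 14]),
    (nat_lit 11, [nat_lit 16, nat_lit 16]),
    (nat_lit 11, [nat_lit 17, nat_lit 17]),
    (nat_lit 11, [nat_lit 18, nat_lit 18]),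
    (nat_lit 11, [nat_lit 19, nat_lit 19]),
    (nat_lit 11, [nat_lit 21, nat_lit 21]),
    (nat_lit 11, [nat_lit 23, nat_lit 23]),
    (nat_lit 9, [nat_lit 3, nat_lit 3]),
    (nat_lit 9, [nat_lit 6, nat_lit 6]),
    (nat_lit 9, [nat_lit 0, nat_lit 2, nat_lit 0, nat_lit 2]),
    (nat_lit 9, [nat_lit 1, nat_lit 2, nat_lit 1, nat_lit 2]),
    (nat_lit 9, [nat_lit 2, nat_lit 4, nat_lit 2, nat_lit 4]),
    (nat_lit 9, [nat_lit 2, nat_lit 7, nat_lit 2, nat_lit 7]),
    (nat_lit 10, [nat_lit 8, nat_lit 13, nat_lit 8, nat_lit 13]),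
    (nat_lit 10, [nat_lit 8, nat_lit 14, nat_lit 8, nat_lit 14]),
    (nat_lit 10, [nat_lit 12, nat_lit 12]),
    (nat_lit 10, [nat_lit 10, nat_lit 10]),
    (nat_lit 10, [nat_lit 15, nat_lit 15]),
    (nat_lit 11, [nat_lit 22, nat_lit 22]),
    (nat_lit 9, [nat_lit 1, nat_lit 6, nat_lit 1, nat_lit 6]),
    (nat_lit 9, [nat_lit 2, nat_lit 3, nat_lit 2, nat_lit 3]),
    (nat_lit 9, [nat_lit 2, nat_lit 6, nat_lit 2, nat_lit 6]),
    (nat_lit 9, [nat_lit 3, nat_lit 7, nat_lit 3, nat_lit 7]),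
    (nat_lit 9, [nat_lit 6, nat_lit 7, nat_lit 6, nat_lit 7]),
    (nat_lit 11, [nat_lit 16, nat_lit 17, nat_lit 16, nat_lit 17, nat_lit 19]),
    (nat_lit 10, [nat_lit 8, nat_lit 9, nat_lit 8, nat_lit 9, nat_lit 14]),
    (nat_lit 10, [nat_lit 9, nat_lit 12, nat_lit 9, nat_lit 12]),
    (nat_lit 11, [nat_lit 20, nat_lit 20]),
    (nat_lit 11, [nat_lit 20, nat_lit 21, nat_lit 20, nat_lit 21]),
    (nat_lit 10, [nat_lit 12, nat_lit 13, nat_lit 12, nat_lit 13]),
    (nat_lit 10, [nat_lit 12, nat_lit 14, nat_lit 12, nat_lit 14]),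
    (nat_lit 10, [nat_lit 13, nat_lit 15, nat_lit 13, nat_lit 15]),
    (nat_lit 11, [nat_lit 19, nat_lit 22, nat_lit 19, nat_lit 22]),
    (nat_lit 9, [nat_lit 3, nat_lit 4, nat_lit 3, nat_lit 4, nat_lit 7]),
    (nat_lit 10, [nat_lit 8, nat_lit 15, nat_lit 8, nat_lit 15]),
    (nat_lit 11, [nat_lit 16, nat_lit 22, nat_lit 16, nat_lit 22]),
    (nat_lit 10, [nat_lit 10, nat_lit 11, nat_lit 10, nat_lit 11]),
    (nat_lit 9, [nat_lit 0, nat_lit 1, nat_lit 0, nat_lit 1, nat_lit 4, nat_lit 7]),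
    (nat_lit 9, [nat_lit 3, nat_lit 6, nat_lit 3, nat_lit 6]),
    (nat_lit 11, [nat_lit 16, nat_lit 18, nat_lit 16, nat_lit 18, nat_lit 21, nat_lit 23]),
    (nat_lit 11, [nat_lit 17, nat_lit 22, nat_lit 17, nat_lit 22, nat_lit 23]),
    (nat_lit 9, [nat_lit 1, nat_lit 3, nat_lit 1, nat_lit 3, nat_lit 6]),
    (nat_lit 10, [nat_lit 11, nat_lit 12, nat_lit 11, nat_lit 12, nat_lit 15]),
    (nat_lit 10, [nat_lit 8, nat_lit 10, nat_lit 8, nat_lit 10, nat_lit 13, nat_lit 15]),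
    (nat_lit 11, [nat_lit 16, nat_lit 20, nat_lit 16, nat_lit 20, nat_lit 22])]
  A := sp6p2_A
  β := [(nat_lit 0x40000000000000000000000000000000000000000000004000000000000000000000000000000000000000000000000000000000000000000000000000000000000000000000000000000000000000000000000000000000000000000000000000000000000000040000000000000000000000000000000000000000000000000000000000000000000000000080000080000200000000000000000000000, nat_lit 2, nat_lit 0x80000082000000000002000000002082000080000000000000000000080000080000082002000080080000000000000003000000000000003000000000000000000000)]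
  co := sp6p2_co
  lay := [(nat_lit 510, [nat_lit 0]),
    (nat_lit 508, [nat_lit 1]),
    (nat_lit 504, [nat_lit 2]),
    (nat_lit 496, [nat_lit 3]),
    (nat_lit 480, [nat_lit 4]),
    (nat_lit 448, [nat_lit 5]),
    (nat_lit 384, [nat_lit 6]),
    (nat_lit 256, [nat_lit 7]),
    (nat_lit 0, [nat_lit 8])]

theorem sp6p2_1 : sp6p2.ok1 (nat_lit 511) = true := by decide +kernel
theorem sp6p2_2 : sp6p2.ok2 = true := by decide +kernel

noncomputable def sp6p2T_tbl : NT :=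
(.node (nat_lit 2045)
(.leaf (nat_lit 0) (nat_lit 0x1c72771ca610574698526d11f669c85965a05a22ab1a64545a699a99241f992d2631ccbc60d98c4a2a9a9b84a4475e148b850b321e31e159684c0af483555f83355a951f69868c78ca514a608d121f2a1a634ca8f31ad547c86c9b4925ddc976616df5f245bc9ee54cf3c5ecf9b5041f94f3cf3cf3ce3cfd0e9cee8e38e38f38ee8faa61a634dbe654d0a6b79335b8432de6e316606db6b58daec4bd975db0a94d77d429319827d7c8209089670bc82244c9248c08682f095310d25945971c76ee4b3354a12a291862ab15adc5705dc5165145cf5e7980c133d60123c3c1d50c3b159830435782b0c02270a883429a56eaa816aac190ea034ec0000000000022))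
(.node (nat_lit 4091)
(.leaf (nat_lit 2046) (nat_lit 0x38e37e1ce38938df7085df8dc5df7f77e3158b2dec4b758d8b6debb531de75784775cbd034d34d34eb4d0fd04c90418b5011ecf34d12fe592a12472c91d768f1610d98acbc58a43de9082c08081266c2f568f2fbcdbfebc9f20aee74c82e2eb31d1cca2d78bcde310b6d86cf96facb03b3cb1ab1d12083976bc6ee6018d9d7041a9904269505b4f029f6d31a97d4c5f62f8c6c867e8a1fe4e0679e59e49677249413543669bc3439b034fabd96797d9e517d9fa26493d927f64e279137bca145944e38d3122ea28a28a28a28a20167da4574db5a15d6b6e76bac4ba061d12b5282894e944aa1fa684351deb7642dd7379e46b31dbb5addda0d6e49c65c705738))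
(.leaf (nat_lit 4092) (nat_lit 0xfaccacfbe57ebfe67ed0897d93d964f7797df038eff3c9bcb3c22fefb03befbefbefbefb9223baebaeb4eba3ba420104af5e5032be68e30))))

noncomputable def sp6p2T : PT where
  N := nat_lit 63
  G := nat_lit 12
  W := nat_lit 6
  mask := nat_lit 63
  sb := nat_lit 0
  sm := nat_lit 0
  tbl := sp6p2T_tbl

def sp6p2_df : List (List ℕ) :=
  [[nat_lit 2, nat_lit 3, nat_lit 4, nat_lit 6, nat_lit 2],
  [nat_lit 1, nat_lit 0, nat_lit 2, nat_lit 1, nat_lit 3, nat_lit 2, nat_lit 1, nat_lit 0, nat_lit 5, nat_lit 3, nat_lit 2, nat_lit 1, nat_lit 4, nat_lit 2, nat_lit 3, nat_lit 5, nat_lit 6, nat_lit 5, nat_lit 3, nat_lit 2, nat_lit 4, nat_lit 1, nat_lit 2, nat_lit 3, nat_lit 5, nat_lit 0, nat_lit 1, nat_lit 2, nat_lit 3],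
  [nat_lit 1, nat_lit 2, nat_lit 3, nat_lit 2, nat_lit 1],
  [nat_lit 0, nat_lit 2, nat_lit 1, nat_lit 3, nat_lit 2, nat_lit 4, nat_lit 2, nat_lit 3, nat_lit 1, nat_lit 2, nat_lit 0],
  [nat_lit 1, nat_lit 2, nat_lit 3, nat_lit 2, nat_lit 4, nat_lit 6, nat_lit 2, nat_lit 3, nat_lit 1],
  [nat_lit 3, nat_lit 4, nat_lit 2, nat_lit 1, nat_lit 0, nat_lit 5, nat_lit 3, nat_lit 2, nat_lit 1, nat_lit 4, nat_lit 2, nat_lit 3, nat_lit 5, nat_lit 6, nat_lit 5, nat_lit 3, nat_lit 2, nat_lit 4, nat_lit 1, nat_lit 2, nat_lit 3, nat_lit 5, nat_lit 2, nat_lit 3, nat_lit 0, nat_lit 1, nat_lit 2, nat_lit 4, nat_lit 3, nat_lit 1],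
  [nat_lit 6],
  [nat_lit 1, nat_lit 2, nat_lit 4, nat_lit 3, nat_lit 2, nat_lit 1],
  [nat_lit 0, nat_lit 1, nat_lit 2, nat_lit 1, nat_lit 3, nat_lit 2, nat_lit 4, nat_lit 6, nat_lit 2, nat_lit 3, nat_lit 1, nat_lit 2, nat_lit 0],
  [nat_lit 1, nat_lit 0, nat_lit 4, nat_lit 2, nat_lit 1, nat_lit 0, nat_lit 3, nat_lit 2, nat_lit 1, nat_lit 4, nat_lit 2, nat_lit 5, nat_lit 3, nat_lit 6, nat_lit 5, nat_lit 2, nat_lit 4, nat_lit 1, nat_lit 2, nat_lit 3, nat_lit 0, nat_lit 1, nat_lit 2, nat_lit 4, nat_lit 1],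
  [nat_lit 2, nat_lit 1, nat_lit 4, nat_lit 2, nat_lit 1, nat_lit 3, nat_lit 5, nat_lit 3, nat_lit 2, nat_lit 1, nat_lit 4, nat_lit 2, nat_lit 3, nat_lit 5, nat_lit 6, nat_lit 5, nat_lit 3, nat_lit 2, nat_lit 4, nat_lit 1, nat_lit 2, nat_lit 3, nat_lit 5, nat_lit 0, nat_lit 1, nat_lit 2, nat_lit 4, nat_lit 3, nat_lit 2, nat_lit 1, nat_lit 0],
  [nat_lit 1, nat_lit 3, nat_lit 2, nat_lit 6, nat_lit 4, nat_lit 2, nat_lit 3, nat_lit 1]]

theorem sp6p2_x_0 : extOK T sp6p2T sp6p2_df (fun i => i) (nat_lit 0) (nat_lit 63) = true := by decide +kernel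
theorem sp6p2_ext : ∀ i < sp6p2T.N, ExtP T sp6p2T sp6p2_df (fun i => i) i := rng_all (extOK_sound sp6p2_x_0)

noncomputable def sp6p2ch_0 : OL where
  b := nat_lit 0
  n := nat_lit 2
  S := [[nat_lit 0]]
  O := ⟨nat_lit 0, nat_lit 4, nat_lit 6, nat_lit 63, nat_lit 0, nat_lit 0,
(.node (nat_lit 833)
(.leaf (nat_lit 0) (nat_lit 0x22000000))
(.leaf (nat_lit 834) (nat_lit 0x1)))⟩

noncomputable def sp6p2ch_1 : OL where
  b := nat_lit 1
  n := nat_lit 16
  S := [[nat_lit 1],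
  [nat_lit 2],
  [nat_lit 3],
  [nat_lit 4]]
  O := ⟨nat_lit 0, nat_lit 4, nat_lit 6, nat_lit 63, nat_lit 0, nat_lit 0,
(.node (nat_lit 929)
(.node (nat_lit 521)
(.leaf (nat_lit 0) (nat_lit 0x37c0002ac2c12480021ef00314d00111a2030c23420890000be00305500206600302a042030241019000003000001))
(.node (nat_lit 617)
(.leaf (nat_lit 522) (nat_lit 0x6))
(.leaf (nat_lit 618) (nat_lit 0xa000002))))
(.node (nat_lit 1145)
(.node (nat_lit 1025)
(.leaf (nat_lit 930) (nat_lit 0x5))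
(.leaf (nat_lit 1026) (nat_lit 0xe000000000004)))
(.node (nat_lit 1457)
(.leaf (nat_lit 1146) (nat_lit 0x300000c))
(.leaf (nat_lit 1458) (nat_lit 0x700000000000f)))))⟩

noncomputable def sp6p2ch_2 : OL where
  b := nat_lit 3
  n := nat_lit 4
  S := [[nat_lit 7, nat_lit 4],
  [nat_lit 1, nat_lit 2, nat_lit 1]]
  O := ⟨nat_lit 0, nat_lit 4, nat_lit 6, nat_lit 63, nat_lit 0, nat_lit 0,
(.node (nat_lit 1073)
(.node (nat_lit 521)
(.leaf (nat_lit 0) (nat_lit 0x106c00103e000015000003))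
(.leaf (nat_lit 522) (nat_lit 0x1)))
(.node (nat_lit 1505)
(.leaf (nat_lit 1074) (nat_lit 0x3))
(.leaf (nat_lit 1506) (nat_lit 0x2))))⟩

noncomputable def sp6p2ch_3 : OL where
  b := nat_lit 4
  n := nat_lit 4
  S := [[nat_lit 6],
  [nat_lit 8, nat_lit 4]]
  O := ⟨nat_lit 0, nat_lit 4, nat_lit 5, nat_lit 31, nat_lit 0, nat_lit 0,
(.node (nat_lit 334)
(.node (nat_lit 254)
(.leaf (nat_lit 0) (nat_lit 0x43e004100000c00004))
(.leaf (nat_lit 255) (nat_lit 0x1)))
(.node (nat_lit 614)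
(.leaf (nat_lit 335) (nat_lit 0x2))
(.leaf (nat_lit 615) (nat_lit 0x3))))⟩

noncomputable def sp6p2ch : List OL := [sp6p2ch_0, sp6p2ch_1, sp6p2ch_2, sp6p2ch_3]

theorem sp6p2_hE : allL (fun e => sp6p2T.chk2 [nat_lit 8, nat_lit 2, nat_lit 1, nat_lit 4, nat_lit 3, nat_lit 0] e.1 e.2) sp6p2.eqs = true := by decide +kernel
theorem sp6p2_hc : chainOK sp6p2T (nat_lit 511) sp6p2ch [] = true := by decide +kernel

noncomputable def sp6p3_ru : RuT :=
(.node (nat_lit 46)
(.node (nat_lit 28)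
(.node (nat_lit 18)
(.node (nat_lit 1)
(.node (nat_lit 0)
(.leaf (nat_lit 0) (nat_lit 0) (nat_lit 0) [nat_lit 1])
(.leaf (nat_lit 0) (nat_lit 1) (nat_lit 1) []))
(.node (nat_lit 9)
(.leaf (nat_lit 1) (nat_lit 0) (nat_lit 2) [])
(.node (nat_lit 10)
(.leaf (nat_lit 1) (nat_lit 1) (nat_lit 3) [nat_lit 0])
(.leaf (nat_lit 2) (nat_lit 0) (nat_lit 4) [nat_lit 0, nat_lit 2, nat_lit 5]))))
(.node (nat_lit 20)
(.node (nat_lit 19)
(.leaf (nat_lit 2) (nat_lit 1) (nat_lit 5) [nat_lit 1, nat_lit 2, nat_lit 4, nat_lit 7])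
(.leaf (nat_lit 2) (nat_lit 2) (nat_lit 6) [nat_lit 3]))
(.node (nat_lit 21)
(.leaf (nat_lit 2) (nat_lit 3) (nat_lit 7) [])
(.node (nat_lit 27)
(.leaf (nat_lit 3) (nat_lit 0) (nat_lit 8) [nat_lit 0, nat_lit 3, nat_lit 4])
(.leaf (nat_lit 3) (nat_lit 1) (nat_lit 9) [nat_lit 1, nat_lit 3, nat_lit 5, nat_lit 6])))))
(.node (nat_lit 38)
(.node (nat_lit 30)
(.node (nat_lit 29)
(.leaf (nat_lit 3) (nat_lit 2) (nat_lit 10) [])
(.leaf (nat_lit 3) (nat_lit 3) (nat_lit 11) [nat_lit 2]))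
(.node (nat_lit 36)
(.leaf (nat_lit 4) (nat_lit 0) (nat_lit 12) [nat_lit 0, nat_lit 4, nat_lit 6])
(.node (nat_lit 37)
(.leaf (nat_lit 4) (nat_lit 1) (nat_lit 13) [nat_lit 1, nat_lit 4, nat_lit 7])
(.leaf (nat_lit 4) (nat_lit 2) (nat_lit 14) [nat_lit 2, nat_lit 4]))))
(.node (nat_lit 40)
(.node (nat_lit 39)
(.leaf (nat_lit 4) (nat_lit 3) (nat_lit 15) [nat_lit 3, nat_lit 4])
(.leaf (nat_lit 4) (nat_lit 4) (nat_lit 16) [nat_lit 5]))
(.node (nat_lit 41)
(.leaf (nat_lit 4) (nat_lit 5) (nat_lit 17) [])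
(.node (nat_lit 45)
(.leaf (nat_lit 5) (nat_lit 0) (nat_lit 18) [nat_lit 0, nat_lit 5, nat_lit 7])
(.leaf (nat_lit 5) (nat_lit 1) (nat_lit 19) [nat_lit 1, nat_lit 5, nat_lit 6]))))))
(.node (nat_lit 59)
(.node (nat_lit 54)
(.node (nat_lit 48)
(.node (nat_lit 47)
(.leaf (nat_lit 5) (nat_lit 2) (nat_lit 20) [nat_lit 2, nat_lit 5])
(.leaf (nat_lit 5) (nat_lit 3) (nat_lit 21) [nat_lit 3, nat_lit 5]))
(.node (nat_lit 49)
(.leaf (nat_lit 5) (nat_lit 4) (nat_lit 22) [])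
(.node (nat_lit 50)
(.leaf (nat_lit 5) (nat_lit 5) (nat_lit 23) [nat_lit 4])
(.leaf (nat_lit 6) (nat_lit 0) (nat_lit 24) [nat_lit 0, nat_lit 6]))))
(.node (nat_lit 56)
(.node (nat_lit 55)
(.leaf (nat_lit 6) (nat_lit 1) (nat_lit 25) [nat_lit 1, nat_lit 6])
(.leaf (nat_lit 6) (nat_lit 2) (nat_lit 26) [nat_lit 2, nat_lit 6]))
(.node (nat_lit 57)
(.leaf (nat_lit 6) (nat_lit 3) (nat_lit 27) [nat_lit 3, nat_lit 6])
(.node (nat_lit 58)
(.leaf (nat_lit 6) (nat_lit 4) (nat_lit 28) [nat_lit 4, nat_lit 6])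
(.leaf (nat_lit 6) (nat_lit 5) (nat_lit 29) [nat_lit 5, nat_lit 6])))))
(.node (nat_lit 65)
(.node (nat_lit 61)
(.node (nat_lit 60)
(.leaf (nat_lit 6) (nat_lit 6) (nat_lit 30) [nat_lit 7])
(.leaf (nat_lit 6) (nat_lit 7) (nat_lit 31) []))
(.node (nat_lit 63)
(.leaf (nat_lit 7) (nat_lit 0) (nat_lit 32) [nat_lit 0, nat_lit 7])
(.node (nat_lit 64)
(.leaf (nat_lit 7) (nat_lit 1) (nat_lit 33) [nat_lit 1, nat_lit 7])
(.leaf (nat_lit 7) (nat_lit 2) (nat_lit 34) [nat_lit 2, nat_lit 7]))))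
(.node (nat_lit 67)
(.node (nat_lit 66)
(.leaf (nat_lit 7) (nat_lit 3) (nat_lit 35) [nat_lit 3, nat_lit 7])
(.leaf (nat_lit 7) (nat_lit 4) (nat_lit 36) [nat_lit 4, nat_lit 7]))
(.node (nat_lit 68)
(.leaf (nat_lit 7) (nat_lit 5) (nat_lit 37) [nat_lit 5, nat_lit 7])
(.node (nat_lit 69)
(.leaf (nat_lit 7) (nat_lit 6) (nat_lit 38) [])
(.leaf (nat_lit 7) (nat_lit 7) (nat_lit 39) [nat_lit 6])))))))

def sp6p3_E : List (List ℕ × List ℕ) :=
  [([nat_lit 0, nat_lit 0], [nat_lit 1]),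
    ([nat_lit 0, nat_lit 1], []),
    ([nat_lit 1, nat_lit 0], []),
    ([nat_lit 1, nat_lit 1], [nat_lit 0]),
    ([nat_lit 2, nat_lit 0], [nat_lit 0, nat_lit 2, nat_lit 5]),
    ([nat_lit 2, nat_lit 1], [nat_lit 1, nat_lit 2, nat_lit 4, nat_lit 7]),
    ([nat_lit 2, nat_lit 2], [nat_lit 3]),
    ([nat_lit 2, nat_lit 3], []),
    ([nat_lit 3, nat_lit 0], [nat_lit 0, nat_lit 3, nat_lit 4]),
    ([nat_lit 3, nat_lit 1], [nat_lit 1, nat_lit 3, nat_lit 5, nat_lit 6]),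
    ([nat_lit 3, nat_lit 2], []),
    ([nat_lit 3, nat_lit 3], [nat_lit 2]),
    ([nat_lit 4, nat_lit 0], [nat_lit 0, nat_lit 4, nat_lit 6]),
    ([nat_lit 4, nat_lit 1], [nat_lit 1, nat_lit 4, nat_lit 7]),
    ([nat_lit 4, nat_lit 2], [nat_lit 2, nat_lit 4]),
    ([nat_lit 4, nat_lit 3], [nat_lit 3, nat_lit 4]),
    ([nat_lit 4, nat_lit 4], [nat_lit 5]),
    ([nat_lit 4, nat_lit 5], []),
    ([nat_lit 5, nat_lit 0], [nat_lit 0, nat_lit 5, nat_lit 7]),
    ([nat_lit 5, nat_lit 1], [nat_lit 1, nat_lit 5, nat_lit 6]),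
    ([nat_lit 5, nat_lit 2], [nat_lit 2, nat_lit 5]),
    ([nat_lit 5, nat_lit 3], [nat_lit 3, nat_lit 5]),
    ([nat_lit 5, nat_lit 4], []),
    ([nat_lit 5, nat_lit 5], [nat_lit 4]),
    ([nat_lit 6, nat_lit 0], [nat_lit 0, nat_lit 6]),
    ([nat_lit 6, nat_lit 1], [nat_lit 1, nat_lit 6]),
    ([nat_lit 6, nat_lit 2], [nat_lit 2, nat_lit 6]),
    ([nat_lit 6, nat_lit 3], [nat_lit 3, nat_lit 6]),
    ([nat_lit 6, nat_lit 4], [nat_lit 4, nat_lit 6]),
    ([nat_lit 6, nat_lit 5], [nat_lit 5, nat_lit 6]),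
    ([nat_lit 6, nat_lit 6], [nat_lit 7]),
    ([nat_lit 6, nat_lit 7], []),
    ([nat_lit 7, nat_lit 0], [nat_lit 0, nat_lit 7]),
    ([nat_lit 7, nat_lit 1], [nat_lit 1, nat_lit 7]),
    ([nat_lit 7, nat_lit 2], [nat_lit 2, nat_lit 7]),
    ([nat_lit 7, nat_lit 3], [nat_lit 3, nat_lit 7]),
    ([nat_lit 7, nat_lit 4], [nat_lit 4, nat_lit 7]),
    ([nat_lit 7, nat_lit 5], [nat_lit 5, nat_lit 7]),
    ([nat_lit 7, nat_lit 6], []),
    ([nat_lit 7, nat_lit 7], [nat_lit 6])]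

def sp6p3_A : List ℕ :=
  [nat_lit 1,
    nat_lit 0,
    nat_lit 0,
    nat_lit 0x1000000000000000000000000000000,
    nat_lit 0x10000000000000000000000000000000000000000,
    nat_lit 0x100000000000000000000,
    nat_lit 0x1000000000000000000000000200000000000000000000,
    nat_lit 0x20000000000000010000000000000000000000000]

def sp6p3_co : List ℕ :=
  [nat_lit 0,
    nat_lit 0x80000000000000000000000000000000000002000002,
    nat_lit 0x80000000000000000000000000000000000002000001,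
    nat_lit 0x80000000000000000000000000000000000000000002,
    nat_lit 0,
    nat_lit 0,
    nat_lit 0,
    nat_lit 0x80000080000002000000002000000000042002080002080,
    nat_lit 0,
    nat_lit 0,
    nat_lit 0x80000080000002000000002000000000042002080002040,
    nat_lit 0x80000080000002000000002000000000042002000002080,
    nat_lit 0x41082000082082001041000081040080002000000000001000,
    nat_lit 0x40080000000002042041040081040081002040000000001000,
    nat_lit 0x80040000000000000000000001000000000040000000000000,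
    nat_lit 0x40080000000000000000000002000000000081000000000000,
    nat_lit 0x80040000040000002000000002000000000000001000001000,
    nat_lit 0x40080000000000002000000001000000000040000000001000,
    nat_lit 0x40080000041000000000000001000000000080000000000000,
    nat_lit 0x40080000000080042041000081000081002040000000040000,
    nat_lit 0x40080000000000000000000001000000000080000000000000,
    nat_lit 0x80040000000000000000000002000000000080000000000000,
    nat_lit 0x40080000000000002000000001000000000040000000000000,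
    nat_lit 0x80040000080000000000000002000000000040000000000000,
    nat_lit 0x2001000082002002040080080040080000080000000081000,
    nat_lit 0x1002000041001001080040040080040001040000000042000,
    nat_lit 0x2000082042041002082002081002082000000040000,
    nat_lit 0x1000041081082001041001042041041000000080000,
    nat_lit 0x2001000000000000000040000000000000000000000000000,
    nat_lit 0x1002000000000000000080000000001000000000000000000,
    nat_lit 0x82040000000082041041080082040081002080080000081000,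
    nat_lit 0x41082000000041082082040041080042001040000000002000,
    nat_lit 0x1002000041001001080040000080040000040000000042000,
    nat_lit 0x2001000082002002040080000040000000080000000081000,
    nat_lit 0x1000041081082000041001042001041000000080000,
    nat_lit 0x2000082042041000082000081002082000000040000,
    nat_lit 0x1002000000000000000040000000000000000000000000000,
    nat_lit 0x2001000000000000000080000040000000000000000000000,
    nat_lit 0x41082000000041082082040041080042001040000000082000,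
    nat_lit 0x82042000000082041041080082040081002080080000041000]

noncomputable def sp6p3 : PCD where
  G := nat_lit 9
  w := nat_lit 20
  k := nat_lit 44
  n := nat_lit 3
  fuel := nat_lit 26
  o := nat_lit 0x100001000010000100001000010000100001000010000100001000010000100001000010000100001000010000100001000010000100001000010000100001000010000100001000010000100001000010000100001000010000100001000010000100001000010000100001
  c0 := nat_lit 117941
  cq := nat_lit 131071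
  cA := nat_lit 3
  Lm := nat_lit 4
  np := nat_lit 40
  rules := sp6p3_ru
  E := sp6p3_E
  C := [(nat_lit 8, [nat_lit 0], [nat_lit 1]),
    (nat_lit 8, [nat_lit 2], [nat_lit 3, nat_lit 4]),
    (nat_lit 8, [nat_lit 4], [nat_lit 4]),
    (nat_lit 8, [nat_lit 6], [nat_lit 7])]
  RA := [([nat_lit 0], [nat_lit 1, nat_lit 0]),
    ([nat_lit 2], [nat_lit 3, nat_lit 2]),
    ([nat_lit 4], [nat_lit 5, nat_lit 4]),
    ([nat_lit 6], [nat_lit 7, nat_lit 6]),
    ([nat_lit 0], [nat_lit 0, nat_lit 1]),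
    ([nat_lit 2], [nat_lit 2, nat_lit 3]),
    ([nat_lit 4], [nat_lit 4, nat_lit 5]),
    ([nat_lit 6], [nat_lit 6, nat_lit 7]),
    ([nat_lit 4], [nat_lit 2, nat_lit 3]),
    ([nat_lit 5], [nat_lit 2, nat_lit 3]),
    ([nat_lit 6], [nat_lit 0, nat_lit 1]),
    ([nat_lit 6], [nat_lit 2, nat_lit 3]),
    ([nat_lit 6], [nat_lit 4, nat_lit 5]),
    ([nat_lit 7], [nat_lit 0, nat_lit 1]),
    ([nat_lit 7], [nat_lit 2, nat_lit 3]),
    ([nat_lit 7], [nat_lit 4, nat_lit 5]),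
    ([nat_lit 4], [nat_lit 5, nat_lit 2]),
    ([nat_lit 6], [nat_lit 7, nat_lit 0]),
    ([nat_lit 6], [nat_lit 7, nat_lit 2]),
    ([nat_lit 6], [nat_lit 7, nat_lit 4]),
    ([nat_lit 4], [nat_lit 0, nat_lit 1]),
    ([nat_lit 5], [nat_lit 0, nat_lit 1]),
    ([nat_lit 2], [nat_lit 3, nat_lit 0]),
    ([nat_lit 4], [nat_lit 5, nat_lit 0]),
    ([nat_lit 2], [nat_lit 0, nat_lit 1]),
    ([nat_lit 3], [nat_lit 0, nat_lit 1]),
    ([nat_lit 2], [nat_lit 0, nat_lit 0]),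
    ([nat_lit 2], [nat_lit 2, nat_lit 0]),
    ([nat_lit 2], [nat_lit 3, nat_lit 1])]
  RB := [(nat_lit 8, [nat_lit 0, nat_lit 0, nat_lit 0]),
    (nat_lit 8, [nat_lit 3, nat_lit 3, nat_lit 3]),
    (nat_lit 8, [nat_lit 1, nat_lit 1, nat_lit 1]),
    (nat_lit 8, [nat_lit 2, nat_lit 2, nat_lit 3, nat_lit 2, nat_lit 3, nat_lit 3]),
    (nat_lit 8, [nat_lit 1, nat_lit 1, nat_lit 2, nat_lit 1, nat_lit 2, nat_lit 2]),
    (nat_lit 8, [nat_lit 0, nat_lit 0, nat_lit 2, nat_lit 0, nat_lit 2, nat_lit 2, nat_lit 3, nat_lit 3]),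
    (nat_lit 8, [nat_lit 0, nat_lit 0, nat_lit 1, nat_lit 0, nat_lit 1, nat_lit 1, nat_lit 2])]
  A := sp6p3_A
  β := []
  co := sp6p3_co
  lay := [(nat_lit 252, [nat_lit 0, nat_lit 1]),
    (nat_lit 240, [nat_lit 2, nat_lit 3]),
    (nat_lit 192, [nat_lit 4, nat_lit 5]),
    (nat_lit 0, [nat_lit 6, nat_lit 7])]

theorem sp6p3_1 : sp6p3.ok1 (nat_lit 255) = true := by decide +kernel
theorem sp6p3_2 : sp6p3.ok2 = true := by decide +kernel

noncomputable def sp6p3T_tbl : NT :=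
(.node (nat_lit 2045)
(.leaf (nat_lit 0) (nat_lit 0x13510b9352b29dd8413692427d3662db572e52ea26898a2689cf67e8e29c08801a77f973b5848ab5875b17a8019765e5af60f647bd693dcfdcfdcc468cb4c17beb16ee4729d58ca2ee70926269a26274406a3acf8779f5d81bc3deb011bca60faa7f80997efbde182ab77af50ae636e69d4c55953351953c552949520d4945e663500d3350ea36ee0d436e0cc9cb48dba548dd0b3c221e63ea0f3c066ad60a6fb3e8d04915104bb99c72dafad059d14239a7e5b290d13e559b22db96b6a26892626bd9023c2bfc821208fb7a41a1e66803cf180967c0f18af1afb70cd394fd936da410469dc91b93491badc8820f5865f8082640c281d8b2984ec01e3719f1e8))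
(.leaf (nat_lit 2046) (nat_lit 0x1d7819b283ceb04cddcddcdd909198188bf5c181bad3a705aed98defbd0caf17234a554a2e78f24c5d61a370025f0de0a470385aae30cc4924136da2cf8b1f80ec3c82ad3aeedc4530b43677d77d77dda20e76ca9b98c3b71ac5d2d73a554a81021a7cd77e16796f083a959e9c346540345c6ed31cc74eebc83a1fd7e64163e385171e8cb7b2a5c0e65f5f75b58171f7c21bce841b3884704ff801ee6f2e4b56644c48b8f22a754def9)))

noncomputable def sp6p3T : PT where
  N := nat_lit 63
  G := nat_lit 9
  W := nat_lit 6
  mask := nat_lit 63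
  sb := nat_lit 0
  sm := nat_lit 0
  tbl := sp6p3T_tbl

def sp6p3_df : List (List ℕ) :=
  [[nat_lit 1, nat_lit 2, nat_lit 1, nat_lit 3, nat_lit 4, nat_lit 2, nat_lit 1, nat_lit 0, nat_lit 3, nat_lit 2, nat_lit 1, nat_lit 5, nat_lit 6, nat_lit 3, nat_lit 5, nat_lit 2, nat_lit 4, nat_lit 1, nat_lit 2, nat_lit 3, nat_lit 2, nat_lit 1, nat_lit 0],
  [nat_lit 0, nat_lit 1, nat_lit 2, nat_lit 3, nat_lit 2, nat_lit 1, nat_lit 0, nat_lit 4, nat_lit 2, nat_lit 1, nat_lit 0, nat_lit 5, nat_lit 6, nat_lit 3, nat_lit 5, nat_lit 2, nat_lit 3, nat_lit 1, nat_lit 2, nat_lit 4, nat_lit 1, nat_lit 2, nat_lit 1],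
  [nat_lit 0, nat_lit 2, nat_lit 3, nat_lit 5, nat_lit 3, nat_lit 2, nat_lit 1, nat_lit 0, nat_lit 4, nat_lit 2, nat_lit 1, nat_lit 3, nat_lit 2, nat_lit 4, nat_lit 5, nat_lit 6, nat_lit 5, nat_lit 3, nat_lit 2, nat_lit 4, nat_lit 1, nat_lit 2, nat_lit 3, nat_lit 5, nat_lit 6, nat_lit 3, nat_lit 2, nat_lit 4, nat_lit 0],
  [nat_lit 0, nat_lit 1, nat_lit 2, nat_lit 4, nat_lit 2, nat_lit 1, nat_lit 3, nat_lit 2, nat_lit 4, nat_lit 5, nat_lit 3, nat_lit 2, nat_lit 1, nat_lit 4, nat_lit 6, nat_lit 5, nat_lit 3, nat_lit 2, nat_lit 4, nat_lit 1, nat_lit 2, nat_lit 3, nat_lit 5, nat_lit 6, nat_lit 0, nat_lit 1, nat_lit 2, nat_lit 3, nat_lit 5],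
  [nat_lit 1, nat_lit 0, nat_lit 2, nat_lit 3, nat_lit 2, nat_lit 1, nat_lit 0, nat_lit 5, nat_lit 3, nat_lit 2, nat_lit 1, nat_lit 0, nat_lit 6, nat_lit 5, nat_lit 4, nat_lit 2, nat_lit 3, nat_lit 1, nat_lit 2, nat_lit 4, nat_lit 1, nat_lit 2, nat_lit 0],
  [nat_lit 0, nat_lit 1, nat_lit 2, nat_lit 1, nat_lit 3, nat_lit 2, nat_lit 4, nat_lit 2, nat_lit 1, nat_lit 0, nat_lit 3, nat_lit 2, nat_lit 5, nat_lit 6, nat_lit 4, nat_lit 1, nat_lit 2, nat_lit 3, nat_lit 5, nat_lit 2, nat_lit 3, nat_lit 2, nat_lit 1],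
  [nat_lit 1, nat_lit 2, nat_lit 1, nat_lit 0, nat_lit 3, nat_lit 2, nat_lit 4, nat_lit 5, nat_lit 3, nat_lit 2, nat_lit 1, nat_lit 4, nat_lit 2, nat_lit 3, nat_lit 5, nat_lit 6, nat_lit 0, nat_lit 1, nat_lit 2, nat_lit 4, nat_lit 3],
  [nat_lit 0, nat_lit 1, nat_lit 3, nat_lit 4, nat_lit 2, nat_lit 1, nat_lit 0, nat_lit 3, nat_lit 2, nat_lit 6, nat_lit 5, nat_lit 3, nat_lit 2, nat_lit 4, nat_lit 1, nat_lit 2, nat_lit 3, nat_lit 5, nat_lit 0, nat_lit 1, nat_lit 2],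
  [nat_lit 3, nat_lit 2, nat_lit 1, nat_lit 0, nat_lit 4, nat_lit 2, nat_lit 1, nat_lit 0, nat_lit 6, nat_lit 5, nat_lit 3, nat_lit 2, nat_lit 4, nat_lit 1, nat_lit 2, nat_lit 3, nat_lit 5, nat_lit 6, nat_lit 0, nat_lit 1, nat_lit 2, nat_lit 4, nat_lit 3]]

theorem sp6p3_x_0 : extOK T sp6p3T sp6p3_df (fun i => i) (nat_lit 0) (nat_lit 63) = true := by decide +kernel
theorem sp6p3_ext : ∀ i < sp6p3T.N, ExtP T sp6p3T sp6p3_df (fun i => i) i := rng_all (extOK_sound sp6p3_x_0)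

noncomputable def sp6p3ch_0 : OL where
  b := nat_lit 0
  n := nat_lit 27
  S := [[nat_lit 0],
  [nat_lit 2]]
  O := ⟨nat_lit 0, nat_lit 4, nat_lit 6, nat_lit 63, nat_lit 0, nat_lit 0,
(.node (nat_lit 1145)
(.node (nat_lit 737)
(.leaf (nat_lit 0) (nat_lit 0x16481415602c15352414ea3814690004210013f00013b700137800132f0012c12002fc3002960012420001ce00019800115e00015768110f0c012c18108600009900107e00004734101f400028000000))
(.node (nat_lit 977)
(.leaf (nat_lit 738) (nat_lit 0x1500001900000200000a))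
(.leaf (nat_lit 978) (nat_lit 0x7000000000017000016000001))))
(.node (nat_lit 1289)
(.leaf (nat_lit 1146) (nat_lit 0x14000011))
(.node (nat_lit 1457)
(.leaf (nat_lit 1290) (nat_lit 0x12000013000000000018))
(.leaf (nat_lit 1458) (nat_lit 0x400000000000f)))))⟩

noncomputable def sp6p3ch_1 : OL where
  b := nat_lit 2
  n := nat_lit 3
  S := [[nat_lit 6, nat_lit 4, nat_lit 0]]
  O := ⟨nat_lit 0, nat_lit 4, nat_lit 6, nat_lit 63, nat_lit 0, nat_lit 0,
(.node (nat_lit 1145)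
(.leaf (nat_lit 0) (nat_lit 0x6f00003c000002))
(.node (nat_lit 1457)
(.leaf (nat_lit 1146) (nat_lit 0x2))
(.leaf (nat_lit 1458) (nat_lit 0x1))))⟩

noncomputable def sp6p3ch : List OL := [sp6p3ch_0, sp6p3ch_1]

theorem sp6p3_hE : allL (fun e => sp6p3T.chk2 [nat_lit 8, nat_lit 2, nat_lit 1, nat_lit 4, nat_lit 3, nat_lit 0] e.1 e.2) sp6p3.eqs = true := by decide +kernel
theorem sp6p3_hc : chainOK sp6p3T (nat_lit 255) sp6p3ch [] = true := by decide +kernel

noncomputable def c2_tbl : NT :=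
(.node (nat_lit 4095)
(.node (nat_lit 2047)
(.leaf (nat_lit 0) (nat_lit 0xaa7994317f787b9f15a82d1b13a5a6169d2971a413a1649b2784a2a0139e9925829c9a988d13965a944a119214895f2b908e118c864f81880d8a604a200b0c88871811128671840b822a097e140e7d4b2e78097d807b5c48157c090a7e5a337c7a786d097646073a65660e6b354c0773740c69446472076b706742676e6a076c65406a68666451076237051960570c1e1118055b5e0a214b5c5a0558084f4456545205504d0d1f204e4c37050503104a450e0c2e483303463d0835444240033e061e0f173c3a0336011002332b170b180137382921170336012f341f0e32302e012c1d152a28262401221316201e1c1a01180a160f141210010e0c0a08060402))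
(.leaf (nat_lit 2048) (nat_lit 0xd38e653b5ea46fc191ae5f3b54dabfcc6b6edb3e3be4b0b8bbde39bead61d03937d34f3c5735c0be36df3b4193623594e3673fdedce2cc35e0d738d031b8c9ab463349942fab7d2d2f30d032c77e482d46a8309e7931472dd648cb7ac69fcad4a22dd969cdcf29de4da7ae2728cfc1d2a542c0346227dc65da258dccd990a3d0d8d62c25d49f238c25269c2aa17423d34dba285324d2232bd0268427902a23432470a0528571b4962388c94e21ce395a3a4d8e911fcc57ca1dc7c89931b23dc61d1ec42f61ac98c2bd1da2b0861bbfc020bb5ea4be1b928fb9aea763931bbcb7689cbab8b6221bb438b26119b0881c295eae6819741a1cab3d17ac32397b157e)))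
(.node (nat_lit 6143)
(.leaf (nat_lit 4096) (nat_lit 0xcc8cc98fecc96dd5ca6ed67680d46d79e8d9a9b3d7d8779a6dcacf6768af8873926d89817d67b295d2da747261afc58d74db6f835fea5da977d9e378d5d860b25dda80c6775b5cb2ed7cc992eca7a55beecebce159aca6e4debf71875772b090c0555687ae8b8ec3b4ac5853eabbdf518ab06956bce88b51e68154eeb597e751a0529cb6bdef9d63a751d44fc9c7ddd15d8bdcdfbb4fc159738f4dd2bfce5559eebdc34bed8aa84a9549ee7e80abca9e7be647d652ebc445c3b474554344c491e872ec41e5ea77596e63e44142b7e06a9576a946417b6c513fe9b46b44b7dde83fe1d542e2e359e03f5c40dde1b6e3dce4633f9e3daa7f8549d0c58452553de6))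
(.leaf (nat_lit 6144) (nat_lit 0xe7adb4e8abc5b9a3c5ebe5c6acdbe4a6eca3e0bdcdb99b9cefd7a5e6eee2b6b9a993e9eba1a2ec97c38d98e79683ca849b96c2999aeba183ba83b08b7586c39ab18397b271986fcf))))

noncomputable def c2 : PT where
  N := nat_lit 120
  G := nat_lit 7
  W := nat_lit 8
  mask := nat_lit 255
  sb := nat_lit 1
  sm := nat_lit 1
  tbl := c2_tbl

def c2_PE : List (List ℕ × ℕ) :=
  [([nat_lit 0, nat_lit 0], nat_lit 1),
  ([nat_lit 1, nat_lit 1], nat_lit 1),
  ([nat_lit 0, nat_lit 1, nat_lit 0, nat_lit 1, nat_lit 0, nat_lit 1], nat_lit 0),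
  ([nat_lit 2, nat_lit 2], nat_lit 1),
  ([nat_lit 0, nat_lit 2, nat_lit 0, nat_lit 2], nat_lit 1),
  ([nat_lit 1, nat_lit 2, nat_lit 1, nat_lit 2, nat_lit 1, nat_lit 2], nat_lit 0),
  ([nat_lit 3, nat_lit 3], nat_lit 1),
  ([nat_lit 0, nat_lit 3, nat_lit 0, nat_lit 3], nat_lit 1),
  ([nat_lit 1, nat_lit 3, nat_lit 1, nat_lit 3], nat_lit 1),
  ([nat_lit 2, nat_lit 3, nat_lit 2, nat_lit 3, nat_lit 2, nat_lit 3], nat_lit 0),
  ([nat_lit 4, nat_lit 4], nat_lit 1),
  ([nat_lit 0, nat_lit 4, nat_lit 0, nat_lit 4], nat_lit 1),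
  ([nat_lit 1, nat_lit 4, nat_lit 1, nat_lit 4], nat_lit 1),
  ([nat_lit 3, nat_lit 4, nat_lit 3, nat_lit 4], nat_lit 1),
  ([nat_lit 2, nat_lit 4, nat_lit 2, nat_lit 4, nat_lit 2, nat_lit 4], nat_lit 0),
  ([nat_lit 5, nat_lit 5], nat_lit 1),
  ([nat_lit 0, nat_lit 5, nat_lit 0, nat_lit 5], nat_lit 1),
  ([nat_lit 1, nat_lit 5, nat_lit 1, nat_lit 5], nat_lit 1),
  ([nat_lit 4, nat_lit 5, nat_lit 4, nat_lit 5], nat_lit 1),
  ([nat_lit 2, nat_lit 5, nat_lit 2, nat_lit 5], nat_lit 1),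
  ([nat_lit 3, nat_lit 5, nat_lit 3, nat_lit 5, nat_lit 3, nat_lit 5], nat_lit 0),
  ([nat_lit 6, nat_lit 6], nat_lit 1),
  ([nat_lit 0, nat_lit 6, nat_lit 0, nat_lit 6], nat_lit 1),
  ([nat_lit 1, nat_lit 6, nat_lit 1, nat_lit 6], nat_lit 1),
  ([nat_lit 4, nat_lit 6, nat_lit 4, nat_lit 6], nat_lit 1),
  ([nat_lit 2, nat_lit 6, nat_lit 2, nat_lit 6], nat_lit 1),
  ([nat_lit 3, nat_lit 6, nat_lit 3, nat_lit 6], nat_lit 1),
  ([nat_lit 5, nat_lit 6, nat_lit 5, nat_lit 6, nat_lit 5, nat_lit 6], nat_lit 0),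
  ([nat_lit 3, nat_lit 0, nat_lit 1, nat_lit 0, nat_lit 2, nat_lit 1, nat_lit 0, nat_lit 3, nat_lit 2, nat_lit 1, nat_lit 4, nat_lit 2, nat_lit 1, nat_lit 0, nat_lit 3, nat_lit 2, nat_lit 1, nat_lit 4, nat_lit 2, nat_lit 5, nat_lit 6, nat_lit 3, nat_lit 2, nat_lit 1, nat_lit 0, nat_lit 5, nat_lit 3, nat_lit 2, nat_lit 1, nat_lit 0, nat_lit 4, nat_lit 2, nat_lit 3, nat_lit 5, nat_lit 6, nat_lit 1, nat_lit 2, nat_lit 3, nat_lit 5, nat_lit 4, nat_lit 2, nat_lit 3, nat_lit 1, nat_lit 2, nat_lit 4, nat_lit 0, nat_lit 1, nat_lit 2, nat_lit 3, nat_lit 5, nat_lit 6, nat_lit 4, nat_lit 2, nat_lit 3, nat_lit 1, nat_lit 2, nat_lit 4, nat_lit 0, nat_lit 1, nat_lit 2, nat_lit 3, nat_lit 5, nat_lit 4], nat_lit 1)]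

instance c2_nz : NeZero c2.N := ⟨by decide⟩

theorem c2_r0 : c2.relsOK (nat_lit 2) c2_PE (nat_lit 0) (nat_lit 120) = true := by decide +kernel
theorem c2_rng : c2.rng 0 (nat_lit 120) = true := by decide +kernel
theorem c2_rels : ∀ i < c2.N, ∀ p ∈ c2_PE, c2.tr p.1 i = i ∧ c2.tv p.1 i % nat_lit 2 = p.2 :=
  rng_all (PT.relsOK_sound _ _ c2_r0)
def c2_iv : List ℕ := [nat_lit 0, nat_lit 1, nat_lit 3, nat_lit 6, nat_lit 10, nat_lit 15, nat_lit 21]
def c2_E : List ℕ := [nat_lit 1]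

theorem c2_cov : HasCov P 7 (Multiplicative (ZMod 2)) Q fun i => Multiplicative.ofAdd ((gd 0 c2_E i : ℕ) : ZMod 2) :=
  PT.hasCov (T := c2) (m := nat_lit 2) (c2.rng_sound c2_rng le_rfl) (iv := c2_iv) (by decide +kernel) (by decide +kernel) c2_rels
    (subL_sound (by decide +kernel)) (by decide +kernel)

universe u
variable {G0 : Type u} [Group G0] [Finite G0] {Ω : Type*} [MulAction G0 Ω] {g : ℕ → G0} {pt : ℕ → Ω}
  (h : Md T 1451520 g pt)
include h

theorem htb : Lc (nat_lit 127) g = ⊤ ∧ IsBase G0 T.N pt [nat_lit 8, nat_lit 2, nat_lit 1, nat_lit 4, nat_lit 3, nat_lit 0] :=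
  base_of_chain h.am h.inj hch (h.card.trans_le (by decide +kernel))
theorem hchk : ∀ w, chk w = true → ev g w = 1 := h.am.chk (htb h).2
theorem sp6l0_le : Nat.card (Lc (nat_lit 127) g) ≤ 28 * Nat.card (Lc (nat_lit 63) g) :=
  card_step' (hchk h) sp6l0_ok sp6l0_tab sp6l0_hP ⟨rfl, rfl, rfl⟩
theorem sp6l1_le : Nat.card (Lc (nat_lit 63) g) ≤ 27 * Nat.card (Lc (nat_lit 31) g) :=
  card_step' (hchk h) sp6l1_ok sp6l1_tab sp6l1_hP ⟨rfl, rfl, rfl⟩
theorem sp6l2_le : Nat.card (Lc (nat_lit 31) g) ≤ 16 * Nat.card (Lc (nat_lit 15) g) :=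
  card_step' (hchk h) sp6l2_ok sp6l2_tab sp6l2_hP ⟨rfl, rfl, rfl⟩
theorem sp6l3_le : Nat.card (Lc (nat_lit 15) g) ≤ 5 * Nat.card (Lc (nat_lit 7) g) :=
  card_step' (hchk h) sp6l3_ok sp6l3_tab sp6l3_hP ⟨rfl, rfl, rfl⟩
theorem sp6l4_le : Nat.card (Lc (nat_lit 7) g) ≤ 4 * Nat.card (Lc (nat_lit 3) g) :=
  card_step' (hchk h) sp6l4_ok sp6l4_tab sp6l4_hP ⟨rfl, rfl, rfl⟩
theorem sp6l5_le : Nat.card (Lc (nat_lit 3) g) ≤ 3 * Nat.card (Lc (nat_lit 1) g) :=
  card_step' (hchk h) sp6l5_ok sp6l5_tab sp6l5_hP ⟨rfl, rfl, rfl⟩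
theorem sp6l6_le : Nat.card (Lc (nat_lit 1) g) ≤ 2 * Nat.card (Lc (nat_lit 0) g) :=
  card_step' (hchk h) sp6l6_ok sp6l6_tab sp6l6_hP ⟨rfl, rfl, rfl⟩
theorem up7 : Nat.card (Lc (nat_lit 0) g) ≤ 1 := (fun _ => card_Lc_zero g) h
theorem up6 : Nat.card (Lc (nat_lit 1) g) ≤ 2 := chain_up (n := 1) (sp6l6_le h) (up7 h)
theorem up5 : Nat.card (Lc (nat_lit 3) g) ≤ 6 := chain_up (n := 2) (sp6l5_le h) (up6 h)
theorem up4 : Nat.card (Lc (nat_lit 7) g) ≤ 24 := chain_up (n := 6) (sp6l4_le h) (up5 h)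
theorem up3 : Nat.card (Lc (nat_lit 15) g) ≤ 120 := chain_up (n := 24) (sp6l3_le h) (up4 h)
theorem up2 : Nat.card (Lc (nat_lit 31) g) ≤ 1920 := chain_up (n := 120) (sp6l2_le h) (up3 h)
theorem up1 : Nat.card (Lc (nat_lit 63) g) ≤ 51840 := chain_up (n := 1920) (sp6l1_le h) (up2 h)
theorem up0 : Nat.card (Lc (nat_lit 127) g) ≤ 1451520 := chain_up (n := 51840) (sp6l0_le h) (up1 h)
theorem lo0 : 1451520 ≤ Nat.card (Lc (nat_lit 127) g) := by rw [(htb h).1, Subgroup.card_top, h.card]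
theorem lo1 : 51840 ≤ Nat.card (Lc (nat_lit 63) g) := chain_down (N := 28) (sp6l0_le h) (lo0 h) (by norm_num)
theorem rel0 : Rel g sp6l0_P (nat_lit 63) (nat_lit 127) :=
  rel_step' (N := 28) (hchk h) sp6l0_ok sp6l0_tab sp6l0_hP ⟨rfl, rfl, rfl⟩ rfl (chain_eq (up1 h) (lo0 h))
theorem lo2 : 1920 ≤ Nat.card (Lc (nat_lit 31) g) := chain_down (N := 27) (sp6l1_le h) (lo1 h) (by norm_num)
theorem rel1 : Rel g sp6l1_P (nat_lit 31) (nat_lit 63) :=
  rel_step' (N := 27) (hchk h) sp6l1_ok sp6l1_tab sp6l1_hP ⟨rfl, rfl, rfl⟩ rfl (chain_eq (up2 h) (lo1 h))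
theorem lo3 : 120 ≤ Nat.card (Lc (nat_lit 15) g) := chain_down (N := 16) (sp6l2_le h) (lo2 h) (by norm_num)
theorem rel2 : Rel g sp6l2_P (nat_lit 15) (nat_lit 31) :=
  rel_step' (N := 16) (hchk h) sp6l2_ok sp6l2_tab sp6l2_hP ⟨rfl, rfl, rfl⟩ rfl (chain_eq (up3 h) (lo2 h))
theorem lo4 : 24 ≤ Nat.card (Lc (nat_lit 7) g) := chain_down (N := 5) (sp6l3_le h) (lo3 h) (by norm_num)
theorem rel3 : Rel g sp6l3_P (nat_lit 7) (nat_lit 15) :=
  rel_step' (N := 5) (hchk h) sp6l3_ok sp6l3_tab sp6l3_hP ⟨rfl, rfl, rfl⟩ rfl (chain_eq (up4 h) (lo3 h))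
theorem lo5 : 6 ≤ Nat.card (Lc (nat_lit 3) g) := chain_down (N := 4) (sp6l4_le h) (lo4 h) (by norm_num)
theorem rel4 : Rel g sp6l4_P (nat_lit 3) (nat_lit 7) :=
  rel_step' (N := 4) (hchk h) sp6l4_ok sp6l4_tab sp6l4_hP ⟨rfl, rfl, rfl⟩ rfl (chain_eq (up5 h) (lo4 h))
theorem lo6 : 2 ≤ Nat.card (Lc (nat_lit 1) g) := chain_down (N := 3) (sp6l5_le h) (lo5 h) (by norm_num)
theorem rel5 : Rel g sp6l5_P (nat_lit 1) (nat_lit 3) :=
  rel_step' (N := 3) (hchk h) sp6l5_ok sp6l5_tab sp6l5_hP ⟨rfl, rfl, rfl⟩ rfl (chain_eq (up6 h) (lo5 h))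
theorem lo7 : 1 ≤ Nat.card (Lc (nat_lit 0) g) := chain_down (N := 2) (sp6l6_le h) (lo6 h) (by norm_num)
theorem rel6 : Rel g sp6l6_P (nat_lit 0) (nat_lit 1) :=
  rel_step' (N := 2) (hchk h) sp6l6_ok sp6l6_tab sp6l6_hP ⟨rfl, rfl, rfl⟩ rfl (chain_eq (up7 h) (lo6 h))
theorem relP : Rel g P 0 (2 ^ 7 - 1) := (((((((rel6 h).trans (rel5 h)).trans (rel4 h)).trans (rel3 h)).trans (rel2 h)).trans (rel1 h)).trans (rel0 h))
theorem hP : ∀ w ∈ P, ev g w = 1 := fun w hw => hchk h w (allL_sound hP0 w hw)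
theorem hQ : ∀ q ∈ Q, ev g (q.1 ++ q.2) = ev g (q.2 ++ q.1) := pairs_sound h.am (htb h).2 hQ0
theorem pb2 : PB G0 2 1 :=
  h.pcpb (htb h).2 (e := 2) (by norm_num) sp6p2_ext sp6p2_1 sp6p2_2 sp6p2_hE sp6p2_hc (by decide +kernel)
theorem pb3 : PB G0 3 0 :=
  h.pcpb (htb h).2 (e := 1) (by norm_num) sp6p3_ext sp6p3_1 sp6p3_2 sp6p3_hE sp6p3_hc (by decide +kernel)
theorem bound (Γ : Type u) [Group Γ] [Finite Γ] (σ : Γ →* G0) (hσ : IsStemExtension σ) :
    Nat.card σ.ker ≤ 2 :=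
  card_ker_dvd (B := 7) [(2, 1), (3, 0)] h.card (by decide +kernel) (by decide +kernel) (by norm_num) (by
    simp only [List.mem_cons, List.not_mem_nil, or_false, forall_eq_or_imp, forall_eq]
    exact ⟨⟨pb2 h, by decide⟩,
      ⟨pb3 h, by decide⟩⟩) Γ σ hσ

theorem mult : HasCyclicSchurMultiplier G0 2 :=
  hasSchur_cyc1 (GG := 7) (relP h) (htb h).1 h.one (hP h) (hQ h) c2_cov (by decide +kernel) (bound h)

end Cfsg.Agent.H28.Sp6
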