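import Mathlib
import Cfsg.Agent.H28.PCM
import Cfsg.Agent.H28.FM2

set_option maxRecDepth 100000
set_option linter.all false
set_option autoImplicit false

namespace Cfsg.Agent.H28.Sz8
open Cfsg.Agent.H25 Cfsg.Agent.H28

noncomputable def T_tbl : NT :=
(.node (nat_lit 2039)
(.leaf (nat_lit 0) (nat_lit 0x675593849234c912c60224d114a59a3d599264823e8a12a57a7e5892447a2ec796e532298e15447273d91565a244c716a5d2815491c4d269889345ca6c8693252a195e96055a6f1014645a165d9485ba539297a452770b9144da1b9197644a5d5c9745e25e849704fa2b4f11253a13d516446a704f972442638614e52220c414c4f2111611e5c2598516c43a6a969625aa3a8395c59256ca90e4620fdf15e562618b15a4321dcd1184a233831164c20ddb930582231a95042a40cc9104b24a939225b24642120422091b14251a391c13a41a31d311a4ca27171284121f059085fa044110649a15c810c54a064090a4e20a4190248a004290440a0240100405))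
(.leaf (nat_lit 2040) (nat_lit 0x509e17e5f25a5a180552755796651278d81445727b9f96850a43d21405ea7c8d93e542551d13656a364e93c5da49cc15858a4d5092e4ba2d541525024ee01784aa648997c4ea)))

noncomputable def T : PT where
  N := nat_lit 65
  G := nat_lit 4
  W := nat_lit 10
  mask := nat_lit 1023
  sb := nat_lit 3
  sm := nat_lit 7
  tbl := T_tbl

def Ms : List (List ℕ) :=
  [[nat_lit 2, nat_lit 48, nat_lit 1536, nat_lit 20480],
  [nat_lit 1, nat_lit 16, nat_lit 257, nat_lit 4113],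
  [nat_lit 1, nat_lit 17, nat_lit 273, nat_lit 4353],
  [nat_lit 4096, nat_lit 256, nat_lit 16, nat_lit 1]]

noncomputable def vs_tbl : NT :=
(.leaf (nat_lit 0) (nat_lit 0x52511351276165413741446153617471175141312401245166415661277166216151217153111531603130614161655121413711502120517271137134417411356122615651224146711571361161217221350157215211620140713431460136314321704162315701173175117341433173017521101144211111110100011000))

noncomputable def vs : ℕ → ℕ := tabF vs_tbl (nat_lit 16) (nat_lit 65535)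

noncomputable def look_tbl : NT :=
(.node (nat_lit 120889)
(.node (nat_lit 67108)
(.node (nat_lit 40221)
(.node (nat_lit 34411)
(.node (nat_lit 31072)
(.node (nat_lit 29371)
(.node (nat_lit 28937)
(.node (nat_lit 28671)
(.leaf (nat_lit 7) (nat_lit 0x0))
(.node (nat_lit 28790)
(.leaf (nat_lit 28672) (nat_lit 0x1))
(.leaf (nat_lit 28791) (nat_lit 0x2))))
(.node (nat_lit 29133)
(.node (nat_lit 29056)
(.leaf (nat_lit 28938) (nat_lit 0x14))
(.leaf (nat_lit 29057) (nat_lit 0x7)))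
(.node (nat_lit 29252)
(.leaf (nat_lit 29134) (nat_lit 0x36))
(.leaf (nat_lit 29253) (nat_lit 0x17)))))
(.node (nat_lit 30582)
(.node (nat_lit 29490)
(.leaf (nat_lit 29372) (nat_lit 0x11))
(.node (nat_lit 30470)
(.leaf (nat_lit 29491) (nat_lit 0xc))
(.leaf (nat_lit 30471) (nat_lit 0x5))))
(.node (nat_lit 30834)
(.node (nat_lit 30722)
(.leaf (nat_lit 30583) (nat_lit 0x3))
(.leaf (nat_lit 30723) (nat_lit 0x15)))
(.node (nat_lit 30960)
(.leaf (nat_lit 30835) (nat_lit 0x2e))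
(.leaf (nat_lit 30961) (nat_lit 0x21))))))
(.node (nat_lit 32731)
(.node (nat_lit 32290)
(.node (nat_lit 31156)
(.leaf (nat_lit 31073) (nat_lit 0xa))
(.node (nat_lit 31268)
(.leaf (nat_lit 31157) (nat_lit 0x1a))
(.leaf (nat_lit 31269) (nat_lit 0x27))))
(.node (nat_lit 32528)
(.node (nat_lit 32409)
(.leaf (nat_lit 32291) (nat_lit 0x26))
(.leaf (nat_lit 32410) (nat_lit 0x19)))
(.node (nat_lit 32619)
(.leaf (nat_lit 32529) (nat_lit 0x18))
(.leaf (nat_lit 32620) (nat_lit 0xf)))))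
(.node (nat_lit 33074)
(.node (nat_lit 32864)
(.leaf (nat_lit 32732) (nat_lit 0x4))
(.node (nat_lit 32969)
(.leaf (nat_lit 32865) (nat_lit 0x6))
(.leaf (nat_lit 32970) (nat_lit 0x31))))
(.node (nat_lit 34187)
(.node (nat_lit 34089)
(.leaf (nat_lit 33075) (nat_lit 0x16))
(.leaf (nat_lit 34090) (nat_lit 0x2c)))
(.node (nat_lit 34313)
(.leaf (nat_lit 34188) (nat_lit 0x37))
(.leaf (nat_lit 34314) (nat_lit 0xd)))))))
(.node (nat_lit 37785)
(.node (nat_lit 36077)
(.node (nat_lit 34740)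
(.node (nat_lit 34516)
(.leaf (nat_lit 34412) (nat_lit 0x8))
(.node (nat_lit 34614)
(.leaf (nat_lit 34517) (nat_lit 0x12))
(.leaf (nat_lit 34615) (nat_lit 0x2d))))
(.node (nat_lit 35888)
(.node (nat_lit 34838)
(.leaf (nat_lit 34741) (nat_lit 0x10))
(.leaf (nat_lit 34839) (nat_lit 0xb)))
(.node (nat_lit 35965)
(.leaf (nat_lit 35889) (nat_lit 0xe))
(.leaf (nat_lit 35966) (nat_lit 0x28)))))
(.node (nat_lit 36441)
(.node (nat_lit 36224)
(.leaf (nat_lit 36078) (nat_lit 0x1d))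
(.node (nat_lit 36308)
(.leaf (nat_lit 36225) (nat_lit 0x9))
(.leaf (nat_lit 36309) (nat_lit 0x22))))
(.node (nat_lit 36644)
(.node (nat_lit 36553)
(.leaf (nat_lit 36442) (nat_lit 0x3d))
(.leaf (nat_lit 36554) (nat_lit 0x34)))
(.node (nat_lit 37645)
(.leaf (nat_lit 36645) (nat_lit 0x3c))
(.leaf (nat_lit 37646) (nat_lit 0x25))))))
(.node (nat_lit 39444)
(.node (nat_lit 38093)
(.node (nat_lit 37890)
(.leaf (nat_lit 37786) (nat_lit 0x30))
(.node (nat_lit 37974)
(.leaf (nat_lit 37891) (nat_lit 0x40))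
(.leaf (nat_lit 37975) (nat_lit 0x3f))))
(.node (nat_lit 38338)
(.node (nat_lit 38233)
(.leaf (nat_lit 38094) (nat_lit 0x35))
(.leaf (nat_lit 38234) (nat_lit 0x29)))
(.node (nat_lit 38422)
(.leaf (nat_lit 38339) (nat_lit 0x1e))
(.leaf (nat_lit 38423) (nat_lit 0x38)))))
(.node (nat_lit 39794)
(.node (nat_lit 39563)
(.leaf (nat_lit 39445) (nat_lit 0x2b))
(.node (nat_lit 39661)
(.leaf (nat_lit 39564) (nat_lit 0x2a))
(.leaf (nat_lit 39662) (nat_lit 0x1f))))
(.node (nat_lit 40004)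
(.node (nat_lit 39899)
(.leaf (nat_lit 39795) (nat_lit 0x3a))
(.leaf (nat_lit 39900) (nat_lit 0x3b)))
(.node (nat_lit 40130)
(.leaf (nat_lit 40005) (nat_lit 0x20))
(.leaf (nat_lit 40131) (nat_lit 0x33))))))))
(.node (nat_lit 61298)
(.node (nat_lit 57910)
(.node (nat_lit 41915)
(.node (nat_lit 41488)
(.node (nat_lit 41243)
(.leaf (nat_lit 40222) (nat_lit 0x3e))
(.node (nat_lit 41341)
(.leaf (nat_lit 41244) (nat_lit 0x13))
(.leaf (nat_lit 41342) (nat_lit 0x2f))))
(.node (nat_lit 41712)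
(.node (nat_lit 41558)
(.leaf (nat_lit 41489) (nat_lit 0x24))
(.leaf (nat_lit 41559) (nat_lit 0x23)))
(.node (nat_lit 41782)
(.leaf (nat_lit 41713) (nat_lit 0x39))
(.leaf (nat_lit 41783) (nat_lit 0x1b)))))
(.node (nat_lit 57497)
(.node (nat_lit 42013)
(.leaf (nat_lit 41916) (nat_lit 0x1c))
(.node (nat_lit 57343)
(.leaf (nat_lit 42014) (nat_lit 0x32))
(.leaf (nat_lit 57344) (nat_lit 0x1))))
(.node (nat_lit 57707)
(.node (nat_lit 57581)
(.leaf (nat_lit 57498) (nat_lit 0x17))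
(.leaf (nat_lit 57582) (nat_lit 0x2)))
(.node (nat_lit 57840)
(.leaf (nat_lit 57708) (nat_lit 0x36))
(.leaf (nat_lit 57841) (nat_lit 0x14))))))
(.node (nat_lit 59590)
(.node (nat_lit 59163)
(.node (nat_lit 58050)
(.leaf (nat_lit 57911) (nat_lit 0xc))
(.node (nat_lit 58148)
(.leaf (nat_lit 58051) (nat_lit 0x7))
(.leaf (nat_lit 58149) (nat_lit 0x11))))
(.node (nat_lit 59408)
(.node (nat_lit 59296)
(.leaf (nat_lit 59164) (nat_lit 0x25))
(.leaf (nat_lit 59297) (nat_lit 0x29)))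
(.node (nat_lit 59499)
(.leaf (nat_lit 59409) (nat_lit 0x30))
(.leaf (nat_lit 59500) (nat_lit 0x35)))))
(.node (nat_lit 59926)
(.node (nat_lit 59709)
(.leaf (nat_lit 59591) (nat_lit 0x40))
(.node (nat_lit 59821)
(.leaf (nat_lit 59710) (nat_lit 0x38))
(.leaf (nat_lit 59822) (nat_lit 0x3f))))
(.node (nat_lit 61074)
(.node (nat_lit 60941)
(.leaf (nat_lit 59927) (nat_lit 0x1e))
(.leaf (nat_lit 60942) (nat_lit 0x5)))
(.node (nat_lit 61165)
(.leaf (nat_lit 61075) (nat_lit 0xa))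
(.leaf (nat_lit 61166) (nat_lit 0x3)))))))
(.node (nat_lit 64658)
(.node (nat_lit 62971)
(.node (nat_lit 61606)
(.node (nat_lit 61382)
(.leaf (nat_lit 61299) (nat_lit 0x21))
(.node (nat_lit 61529)
(.leaf (nat_lit 61383) (nat_lit 0x15))
(.leaf (nat_lit 61530) (nat_lit 0x27))))
(.node (nat_lit 62754)
(.node (nat_lit 61753)
(.leaf (nat_lit 61607) (nat_lit 0x2e))
(.leaf (nat_lit 61754) (nat_lit 0x1a)))
(.node (nat_lit 62880)
(.leaf (nat_lit 62755) (nat_lit 0xe))
(.leaf (nat_lit 62881) (nat_lit 0x3d)))))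
(.node (nat_lit 63321)
(.node (nat_lit 63097)
(.leaf (nat_lit 62972) (nat_lit 0x28))
(.node (nat_lit 63195)
(.leaf (nat_lit 63098) (nat_lit 0x22))
(.leaf (nat_lit 63196) (nat_lit 0x1d))))
(.node (nat_lit 63552)
(.node (nat_lit 63426)
(.leaf (nat_lit 63322) (nat_lit 0x3c))
(.leaf (nat_lit 63427) (nat_lit 0x9)))
(.node (nat_lit 64518)
(.leaf (nat_lit 63553) (nat_lit 0x34))
(.leaf (nat_lit 64519) (nat_lit 0x26))))))
(.node (nat_lit 66324)
(.node (nat_lit 64994)
(.node (nat_lit 64784)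
(.leaf (nat_lit 64659) (nat_lit 0x6))
(.node (nat_lit 64868)
(.leaf (nat_lit 64785) (nat_lit 0x19))
(.leaf (nat_lit 64869) (nat_lit 0x4))))
(.node (nat_lit 65204)
(.node (nat_lit 65078)
(.leaf (nat_lit 64995) (nat_lit 0x18))
(.leaf (nat_lit 65079) (nat_lit 0x16)))
(.node (nat_lit 65344)
(.leaf (nat_lit 65205) (nat_lit 0xf))
(.leaf (nat_lit 65345) (nat_lit 0x31)))))
(.node (nat_lit 66674)
(.node (nat_lit 66429)
(.leaf (nat_lit 66325) (nat_lit 0x13))
(.node (nat_lit 66555)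
(.leaf (nat_lit 66430) (nat_lit 0x1b))
(.leaf (nat_lit 66556) (nat_lit 0x2f))))
(.node (nat_lit 66891)
(.node (nat_lit 66786)
(.leaf (nat_lit 66675) (nat_lit 0x39))
(.leaf (nat_lit 66787) (nat_lit 0x24)))
(.node (nat_lit 66989)
(.leaf (nat_lit 66892) (nat_lit 0x32))
(.leaf (nat_lit 66990) (nat_lit 0x23)))))))))
(.node (nat_lit 94009)
(.node (nat_lit 88192)
(.node (nat_lit 70475)
(.node (nat_lit 68788)
(.node (nat_lit 68340)
(.node (nat_lit 68144)
(.leaf (nat_lit 67109) (nat_lit 0x1c))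
(.node (nat_lit 68221)
(.leaf (nat_lit 68145) (nat_lit 0x2c))
(.leaf (nat_lit 68222) (nat_lit 0x2d))))
(.node (nat_lit 68592)
(.node (nat_lit 68473)
(.leaf (nat_lit 68341) (nat_lit 0x37))
(.leaf (nat_lit 68474) (nat_lit 0x12)))
(.node (nat_lit 68669)
(.leaf (nat_lit 68593) (nat_lit 0xd))
(.leaf (nat_lit 68670) (nat_lit 0xb)))))
(.node (nat_lit 70041)
(.node (nat_lit 68921)
(.leaf (nat_lit 68789) (nat_lit 0x8))
(.node (nat_lit 69929)
(.leaf (nat_lit 68922) (nat_lit 0x10))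
(.leaf (nat_lit 69930) (nat_lit 0x2b))))
(.node (nat_lit 70244)
(.node (nat_lit 70132)
(.leaf (nat_lit 70042) (nat_lit 0x20))
(.leaf (nat_lit 70133) (nat_lit 0x2a)))
(.node (nat_lit 70363)
(.leaf (nat_lit 70245) (nat_lit 0x3b))
(.leaf (nat_lit 70364) (nat_lit 0x1f))))))
(.node (nat_lit 86498)
(.node (nat_lit 86015)
(.node (nat_lit 70566)
(.leaf (nat_lit 70476) (nat_lit 0x3e))
(.node (nat_lit 70678)
(.leaf (nat_lit 70567) (nat_lit 0x3a))
(.leaf (nat_lit 70679) (nat_lit 0x33))))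
(.node (nat_lit 86267)
(.node (nat_lit 86176)
(.leaf (nat_lit 86016) (nat_lit 0x1))
(.leaf (nat_lit 86177) (nat_lit 0x11)))
(.node (nat_lit 86372)
(.leaf (nat_lit 86268) (nat_lit 0xc))
(.leaf (nat_lit 86373) (nat_lit 0x2)))))
(.node (nat_lit 86841)
(.node (nat_lit 86589)
(.leaf (nat_lit 86499) (nat_lit 0x17))
(.node (nat_lit 86694)
(.leaf (nat_lit 86590) (nat_lit 0x7))
(.leaf (nat_lit 86695) (nat_lit 0x14))))
(.node (nat_lit 87947)
(.node (nat_lit 87842)
(.leaf (nat_lit 86842) (nat_lit 0x36))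
(.leaf (nat_lit 87843) (nat_lit 0x2b)))
(.node (nat_lit 88073)
(.leaf (nat_lit 87948) (nat_lit 0x33))
(.leaf (nat_lit 88074) (nat_lit 0x3e)))))))
(.node (nat_lit 91538)
(.node (nat_lit 89865)
(.node (nat_lit 88521)
(.node (nat_lit 88290)
(.leaf (nat_lit 88193) (nat_lit 0x2a))
(.node (nat_lit 88395)
(.leaf (nat_lit 88291) (nat_lit 0x20))
(.leaf (nat_lit 88396) (nat_lit 0x3a))))
(.node (nat_lit 89648)
(.node (nat_lit 88640)
(.leaf (nat_lit 88522) (nat_lit 0x1f))
(.leaf (nat_lit 88641) (nat_lit 0x3b)))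
(.node (nat_lit 89760)
(.leaf (nat_lit 89649) (nat_lit 0x13))
(.leaf (nat_lit 89761) (nat_lit 0x1c)))))
(.node (nat_lit 90180)
(.node (nat_lit 89977)
(.leaf (nat_lit 89866) (nat_lit 0x32))
(.node (nat_lit 90068)
(.leaf (nat_lit 89978) (nat_lit 0x2f))
(.leaf (nat_lit 90069) (nat_lit 0x1b))))
(.node (nat_lit 90397)
(.node (nat_lit 90285)
(.leaf (nat_lit 90181) (nat_lit 0x23))
(.leaf (nat_lit 90286) (nat_lit 0x24)))
(.node (nat_lit 91412)
(.leaf (nat_lit 90398) (nat_lit 0x39))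
(.leaf (nat_lit 91413) (nat_lit 0x5))))))
(.node (nat_lit 93225)
(.node (nat_lit 91853)
(.node (nat_lit 91650)
(.leaf (nat_lit 91539) (nat_lit 0x1a))
(.node (nat_lit 91748)
(.leaf (nat_lit 91651) (nat_lit 0x27))
(.leaf (nat_lit 91749) (nat_lit 0x3))))
(.node (nat_lit 92091)
(.node (nat_lit 91979)
(.leaf (nat_lit 91854) (nat_lit 0xa))
(.leaf (nat_lit 91980) (nat_lit 0x2e)))
(.node (nat_lit 92189)
(.leaf (nat_lit 92092) (nat_lit 0x15))
(.leaf (nat_lit 92190) (nat_lit 0x21)))))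
(.node (nat_lit 93526)
(.node (nat_lit 93323)
(.leaf (nat_lit 93226) (nat_lit 0x25))
(.node (nat_lit 93428)
(.leaf (nat_lit 93324) (nat_lit 0x1e))
(.leaf (nat_lit 93429) (nat_lit 0x38))))
(.node (nat_lit 93764)
(.node (nat_lit 93638)
(.leaf (nat_lit 93527) (nat_lit 0x30))
(.leaf (nat_lit 93639) (nat_lit 0x29)))
(.node (nat_lit 93883)
(.leaf (nat_lit 93765) (nat_lit 0x3f))
(.leaf (nat_lit 93884) (nat_lit 0x40))))))))
(.node (nat_lit 115058)
(.node (nat_lit 97376)
(.node (nat_lit 95654)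
(.node (nat_lit 95220)
(.node (nat_lit 94982)
(.leaf (nat_lit 94010) (nat_lit 0x35))
(.node (nat_lit 95122)
(.leaf (nat_lit 94983) (nat_lit 0x2c))
(.leaf (nat_lit 95123) (nat_lit 0x10))))
(.node (nat_lit 95444)
(.node (nat_lit 95360)
(.leaf (nat_lit 95221) (nat_lit 0xb))
(.leaf (nat_lit 95361) (nat_lit 0x37)))
(.node (nat_lit 95584)
(.leaf (nat_lit 95445) (nat_lit 0x2d))
(.leaf (nat_lit 95585) (nat_lit 0x8)))))
(.node (nat_lit 96886)
(.node (nat_lit 95794)
(.leaf (nat_lit 95655) (nat_lit 0xd))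
(.node (nat_lit 96795)
(.leaf (nat_lit 95795) (nat_lit 0x12))
(.leaf (nat_lit 96796) (nat_lit 0x26))))
(.node (nat_lit 97110)
(.node (nat_lit 97019)
(.leaf (nat_lit 96887) (nat_lit 0x31))
(.leaf (nat_lit 97020) (nat_lit 0x16)))
(.node (nat_lit 97229)
(.leaf (nat_lit 97111) (nat_lit 0x19))
(.leaf (nat_lit 97230) (nat_lit 0x6))))))
(.node (nat_lit 99014)
(.node (nat_lit 98573)
(.node (nat_lit 97453)
(.leaf (nat_lit 97377) (nat_lit 0xf))
(.node (nat_lit 97600)
(.leaf (nat_lit 97454) (nat_lit 0x18))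
(.leaf (nat_lit 97601) (nat_lit 0x4))))
(.node (nat_lit 98818)
(.node (nat_lit 98678)
(.leaf (nat_lit 98574) (nat_lit 0xe))
(.leaf (nat_lit 98679) (nat_lit 0x34)))
(.node (nat_lit 98937)
(.leaf (nat_lit 98819) (nat_lit 0x3c))
(.leaf (nat_lit 98938) (nat_lit 0x28)))))
(.node (nat_lit 99378)
(.node (nat_lit 99133)
(.leaf (nat_lit 99015) (nat_lit 0x3d))
(.node (nat_lit 99273)
(.leaf (nat_lit 99134) (nat_lit 0x9))
(.leaf (nat_lit 99274) (nat_lit 0x1d))))
(.node (nat_lit 114813)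
(.node (nat_lit 114687)
(.leaf (nat_lit 99379) (nat_lit 0x22))
(.leaf (nat_lit 114688) (nat_lit 0x1)))
(.node (nat_lit 114960)
(.leaf (nat_lit 114814) (nat_lit 0xc))
(.leaf (nat_lit 114961) (nat_lit 0x17)))))))
(.node (nat_lit 118411)
(.node (nat_lit 116731)
(.node (nat_lit 115380)
(.node (nat_lit 115163)
(.leaf (nat_lit 115059) (nat_lit 0x14))
(.node (nat_lit 115289)
(.leaf (nat_lit 115164) (nat_lit 0x2))
(.leaf (nat_lit 115290) (nat_lit 0x11))))
(.node (nat_lit 116521)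
(.node (nat_lit 115478)
(.leaf (nat_lit 115381) (nat_lit 0x36))
(.leaf (nat_lit 115479) (nat_lit 0x7)))
(.node (nat_lit 116612)
(.leaf (nat_lit 116522) (nat_lit 0x13))
(.leaf (nat_lit 116613) (nat_lit 0x32)))))
(.node (nat_lit 117081)
(.node (nat_lit 116822)
(.leaf (nat_lit 116732) (nat_lit 0x1b))
(.node (nat_lit 116948)
(.leaf (nat_lit 116823) (nat_lit 0x24))
(.leaf (nat_lit 116949) (nat_lit 0x2f))))
(.node (nat_lit 117291)
(.node (nat_lit 117158)
(.leaf (nat_lit 117082) (nat_lit 0x1c))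
(.leaf (nat_lit 117159) (nat_lit 0x39)))
(.node (nat_lit 118292)
(.leaf (nat_lit 117292) (nat_lit 0x23))
(.leaf (nat_lit 118293) (nat_lit 0x25))))))
(.node (nat_lit 120077)
(.node (nat_lit 118754)
(.node (nat_lit 118530)
(.leaf (nat_lit 118412) (nat_lit 0x38))
(.node (nat_lit 118621)
(.leaf (nat_lit 118531) (nat_lit 0x29))
(.leaf (nat_lit 118622) (nat_lit 0x40))))
(.node (nat_lit 118964)
(.node (nat_lit 118845)
(.leaf (nat_lit 118755) (nat_lit 0x30))
(.leaf (nat_lit 118846) (nat_lit 0x1e)))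
(.node (nat_lit 119083)
(.leaf (nat_lit 118965) (nat_lit 0x35))
(.leaf (nat_lit 119084) (nat_lit 0x3f)))))
(.node (nat_lit 120406)
(.node (nat_lit 120189)
(.leaf (nat_lit 120078) (nat_lit 0x26))
(.node (nat_lit 120294)
(.leaf (nat_lit 120190) (nat_lit 0x16))
(.leaf (nat_lit 120295) (nat_lit 0x6))))
(.node (nat_lit 120658)
(.node (nat_lit 120546)
(.leaf (nat_lit 120407) (nat_lit 0x18))
(.leaf (nat_lit 120547) (nat_lit 0x19)))
(.node (nat_lit 120777)
(.leaf (nat_lit 120659) (nat_lit 0x31))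
(.leaf (nat_lit 120778) (nat_lit 0x4))))))))))
(.node (nat_lit 174621)
(.node (nat_lit 147748)
(.node (nat_lit 127602)
(.node (nat_lit 124221)
(.node (nat_lit 122534)
(.node (nat_lit 122086)
(.node (nat_lit 121883)
(.leaf (nat_lit 120890) (nat_lit 0xf))
(.node (nat_lit 122016)
(.leaf (nat_lit 121884) (nat_lit 0x5))
(.leaf (nat_lit 122017) (nat_lit 0x27))))
(.node (nat_lit 122331)
(.node (nat_lit 122205)
(.leaf (nat_lit 122087) (nat_lit 0xa))
(.leaf (nat_lit 122206) (nat_lit 0x15)))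
(.node (nat_lit 122464)
(.leaf (nat_lit 122332) (nat_lit 0x3))
(.leaf (nat_lit 122465) (nat_lit 0x1a)))))
(.node (nat_lit 123780)
(.node (nat_lit 122653)
(.leaf (nat_lit 122535) (nat_lit 0x21))
(.node (nat_lit 123696)
(.leaf (nat_lit 122654) (nat_lit 0x2e))
(.leaf (nat_lit 123697) (nat_lit 0x2b))))
(.node (nat_lit 124004)
(.node (nat_lit 123920)
(.leaf (nat_lit 123781) (nat_lit 0x3e))
(.leaf (nat_lit 123921) (nat_lit 0x20)))
(.node (nat_lit 124137)
(.leaf (nat_lit 124005) (nat_lit 0x1f))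
(.leaf (nat_lit 124138) (nat_lit 0x2a))))))
(.node (nat_lit 125908)
(.node (nat_lit 125446)
(.node (nat_lit 124361)
(.leaf (nat_lit 124222) (nat_lit 0x33))
(.node (nat_lit 124445)
(.leaf (nat_lit 124362) (nat_lit 0x3b))
(.leaf (nat_lit 124446) (nat_lit 0x3a))))
(.node (nat_lit 125698)
(.node (nat_lit 125600)
(.leaf (nat_lit 125447) (nat_lit 0xe))
(.leaf (nat_lit 125601) (nat_lit 0x3c)))
(.node (nat_lit 125796)
(.leaf (nat_lit 125699) (nat_lit 0x3d))
(.leaf (nat_lit 125797) (nat_lit 0x1d)))))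
(.node (nat_lit 126230)
(.node (nat_lit 126034)
(.leaf (nat_lit 125909) (nat_lit 0x28))
(.node (nat_lit 126160)
(.leaf (nat_lit 126035) (nat_lit 0x34))
(.leaf (nat_lit 126161) (nat_lit 0x22))))
(.node (nat_lit 127371)
(.node (nat_lit 127266)
(.leaf (nat_lit 126231) (nat_lit 0x9))
(.leaf (nat_lit 127267) (nat_lit 0x2c)))
(.node (nat_lit 127483)
(.leaf (nat_lit 127372) (nat_lit 0xb))
(.leaf (nat_lit 127484) (nat_lit 0x2d)))))))
(.node (nat_lit 145305)
(.node (nat_lit 143590)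
(.node (nat_lit 127952)
(.node (nat_lit 127721)
(.leaf (nat_lit 127603) (nat_lit 0xd))
(.node (nat_lit 127840)
(.leaf (nat_lit 127722) (nat_lit 0x37))
(.leaf (nat_lit 127841) (nat_lit 0x10))))
(.node (nat_lit 143359)
(.node (nat_lit 128057)
(.leaf (nat_lit 127953) (nat_lit 0x12))
(.leaf (nat_lit 128058) (nat_lit 0x8)))
(.node (nat_lit 143492)
(.leaf (nat_lit 143360) (nat_lit 0x1))
(.leaf (nat_lit 143493) (nat_lit 0x14)))))
(.node (nat_lit 143954)
(.node (nat_lit 143709)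
(.leaf (nat_lit 143591) (nat_lit 0x36))
(.node (nat_lit 143849)
(.leaf (nat_lit 143710) (nat_lit 0x11))
(.leaf (nat_lit 143850) (nat_lit 0x7))))
(.node (nat_lit 144171)
(.node (nat_lit 144080)
(.leaf (nat_lit 143955) (nat_lit 0x2))
(.leaf (nat_lit 144081) (nat_lit 0xc)))
(.node (nat_lit 145200)
(.leaf (nat_lit 144172) (nat_lit 0x17))
(.leaf (nat_lit 145201) (nat_lit 0x26))))))
(.node (nat_lit 146985)
(.node (nat_lit 145613)
(.node (nat_lit 145389)
(.leaf (nat_lit 145306) (nat_lit 0x18))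
(.node (nat_lit 145508)
(.leaf (nat_lit 145390) (nat_lit 0x4))
(.leaf (nat_lit 145509) (nat_lit 0x31))))
(.node (nat_lit 145872)
(.node (nat_lit 145732)
(.leaf (nat_lit 145614) (nat_lit 0xf))
(.leaf (nat_lit 145733) (nat_lit 0x19)))
(.node (nat_lit 145977)
(.leaf (nat_lit 145873) (nat_lit 0x16))
(.leaf (nat_lit 145978) (nat_lit 0x6)))))
(.node (nat_lit 147300)
(.node (nat_lit 147062)
(.leaf (nat_lit 146986) (nat_lit 0xe))
(.node (nat_lit 147195)
(.leaf (nat_lit 147063) (nat_lit 0x1d))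
(.leaf (nat_lit 147196) (nat_lit 0x22))))
(.node (nat_lit 147510)
(.node (nat_lit 147433)
(.leaf (nat_lit 147301) (nat_lit 0x34))
(.leaf (nat_lit 147434) (nat_lit 0x9)))
(.node (nat_lit 147643)
(.leaf (nat_lit 147511) (nat_lit 0x28))
(.leaf (nat_lit 147644) (nat_lit 0x3c))))))))
(.node (nat_lit 154461)
(.node (nat_lit 151101)
(.node (nat_lit 149414)
(.node (nat_lit 148973)
(.node (nat_lit 148763)
(.leaf (nat_lit 147749) (nat_lit 0x3d))
(.node (nat_lit 148854)
(.leaf (nat_lit 148764) (nat_lit 0x2b))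
(.leaf (nat_lit 148855) (nat_lit 0x1f))))
(.node (nat_lit 149232)
(.node (nat_lit 149120)
(.leaf (nat_lit 148974) (nat_lit 0x3b))
(.leaf (nat_lit 149121) (nat_lit 0x33)))
(.node (nat_lit 149309)
(.leaf (nat_lit 149233) (nat_lit 0x3a))
(.leaf (nat_lit 149310) (nat_lit 0x2a)))))
(.node (nat_lit 150660)
(.node (nat_lit 149547)
(.leaf (nat_lit 149415) (nat_lit 0x3e))
(.node (nat_lit 150548)
(.leaf (nat_lit 149548) (nat_lit 0x20))
(.leaf (nat_lit 150549) (nat_lit 0x2c))))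
(.node (nat_lit 150891)
(.node (nat_lit 150779)
(.leaf (nat_lit 150661) (nat_lit 0xd))
(.leaf (nat_lit 150780) (nat_lit 0x12)))
(.node (nat_lit 150989)
(.leaf (nat_lit 150892) (nat_lit 0x10))
(.leaf (nat_lit 150990) (nat_lit 0x8))))))
(.node (nat_lit 152816)
(.node (nat_lit 152354)
(.node (nat_lit 151234)
(.leaf (nat_lit 151102) (nat_lit 0x37))
(.node (nat_lit 151346)
(.leaf (nat_lit 151235) (nat_lit 0xb))
(.leaf (nat_lit 151347) (nat_lit 0x2d))))
(.node (nat_lit 152585)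
(.node (nat_lit 152480)
(.leaf (nat_lit 152355) (nat_lit 0x5))
(.leaf (nat_lit 152481) (nat_lit 0x15)))
(.node (nat_lit 152683)
(.leaf (nat_lit 152586) (nat_lit 0x21))
(.leaf (nat_lit 152684) (nat_lit 0x1a)))))
(.node (nat_lit 153145)
(.node (nat_lit 152914)
(.leaf (nat_lit 152817) (nat_lit 0x2e))
(.node (nat_lit 153019)
(.leaf (nat_lit 152915) (nat_lit 0x3))
(.leaf (nat_lit 153020) (nat_lit 0x27))))
(.node (nat_lit 154265)
(.node (nat_lit 154125)
(.leaf (nat_lit 153146) (nat_lit 0xa))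
(.leaf (nat_lit 154126) (nat_lit 0x13)))
(.node (nat_lit 154377)
(.leaf (nat_lit 154266) (nat_lit 0x24))
(.leaf (nat_lit 154378) (nat_lit 0x39)))))))
(.node (nat_lit 172171)
(.node (nat_lit 156134)
(.node (nat_lit 154790)
(.node (nat_lit 154594)
(.leaf (nat_lit 154462) (nat_lit 0x1c))
(.node (nat_lit 154678)
(.leaf (nat_lit 154595) (nat_lit 0x23))
(.leaf (nat_lit 154679) (nat_lit 0x2f))))
(.node (nat_lit 155910)
(.node (nat_lit 154930)
(.leaf (nat_lit 154791) (nat_lit 0x32))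
(.leaf (nat_lit 154931) (nat_lit 0x1b)))
(.node (nat_lit 156064)
(.leaf (nat_lit 155911) (nat_lit 0x25))
(.leaf (nat_lit 156065) (nat_lit 0x40)))))
(.node (nat_lit 156484)
(.node (nat_lit 156288)
(.leaf (nat_lit 156135) (nat_lit 0x35))
(.node (nat_lit 156386)
(.leaf (nat_lit 156289) (nat_lit 0x1e))
(.leaf (nat_lit 156387) (nat_lit 0x3f))))
(.node (nat_lit 156708)
(.node (nat_lit 156610)
(.leaf (nat_lit 156485) (nat_lit 0x30))
(.leaf (nat_lit 156611) (nat_lit 0x38)))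
(.node (nat_lit 172031)
(.leaf (nat_lit 156709) (nat_lit 0x29))
(.leaf (nat_lit 172032) (nat_lit 0x1))))))
(.node (nat_lit 173837)
(.node (nat_lit 172500)
(.node (nat_lit 172290)
(.leaf (nat_lit 172172) (nat_lit 0x7))
(.node (nat_lit 172374)
(.leaf (nat_lit 172291) (nat_lit 0x11))
(.leaf (nat_lit 172375) (nat_lit 0x17))))
(.node (nat_lit 172745)
(.node (nat_lit 172640)
(.leaf (nat_lit 172501) (nat_lit 0xc))
(.leaf (nat_lit 172641) (nat_lit 0x36)))
(.node (nat_lit 172829)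
(.leaf (nat_lit 172746) (nat_lit 0x2))
(.leaf (nat_lit 172830) (nat_lit 0x14)))))
(.node (nat_lit 174201)
(.node (nat_lit 173970)
(.leaf (nat_lit 173838) (nat_lit 0x2c))
(.node (nat_lit 174054)
(.leaf (nat_lit 173971) (nat_lit 0x8))
(.leaf (nat_lit 174055) (nat_lit 0x10))))
(.node (nat_lit 174390)
(.node (nat_lit 174313)
(.leaf (nat_lit 174202) (nat_lit 0x2d))
(.leaf (nat_lit 174314) (nat_lit 0xb)))
(.node (nat_lit 174530)
(.leaf (nat_lit 174391) (nat_lit 0x12))
(.leaf (nat_lit 174531) (nat_lit 0x37)))))))))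
(.node (nat_lit 201536)
(.node (nat_lit 181341)
(.node (nat_lit 178016)
(.node (nat_lit 176322)
(.node (nat_lit 175860)
(.node (nat_lit 175622)
(.leaf (nat_lit 174622) (nat_lit 0xd))
(.node (nat_lit 175748)
(.leaf (nat_lit 175623) (nat_lit 0x2b))
(.leaf (nat_lit 175749) (nat_lit 0x3a))))
(.node (nat_lit 176112)
(.node (nat_lit 175958)
(.leaf (nat_lit 175861) (nat_lit 0x33))
(.leaf (nat_lit 175959) (nat_lit 0x20)))
(.node (nat_lit 176210)
(.leaf (nat_lit 176113) (nat_lit 0x3e))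
(.leaf (nat_lit 176211) (nat_lit 0x3b)))))
(.node (nat_lit 177561)
(.node (nat_lit 176448)
(.leaf (nat_lit 176323) (nat_lit 0x2a))
(.node (nat_lit 177456)
(.leaf (nat_lit 176449) (nat_lit 0x1f))
(.leaf (nat_lit 177457) (nat_lit 0x25))))
(.node (nat_lit 177757)
(.node (nat_lit 177652)
(.leaf (nat_lit 177562) (nat_lit 0x3f))
(.leaf (nat_lit 177653) (nat_lit 0x1e)))
(.node (nat_lit 177897)
(.leaf (nat_lit 177758) (nat_lit 0x29))
(.leaf (nat_lit 177898) (nat_lit 0x38))))))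
(.node (nat_lit 179696)
(.node (nat_lit 179234)
(.node (nat_lit 178093)
(.leaf (nat_lit 178017) (nat_lit 0x35))
(.node (nat_lit 178212)
(.leaf (nat_lit 178094) (nat_lit 0x30))
(.leaf (nat_lit 178213) (nat_lit 0x40))))
(.node (nat_lit 179458)
(.node (nat_lit 179353)
(.leaf (nat_lit 179235) (nat_lit 0x13))
(.leaf (nat_lit 179354) (nat_lit 0x23)))
(.node (nat_lit 179577)
(.leaf (nat_lit 179459) (nat_lit 0x1c))
(.leaf (nat_lit 179578) (nat_lit 0x1b)))))
(.node (nat_lit 180011)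
(.node (nat_lit 179787)
(.leaf (nat_lit 179697) (nat_lit 0x32))
(.node (nat_lit 179920)
(.leaf (nat_lit 179788) (nat_lit 0x39))
(.leaf (nat_lit 179921) (nat_lit 0x2f))))
(.node (nat_lit 181131)
(.node (nat_lit 181019)
(.leaf (nat_lit 180012) (nat_lit 0x24))
(.leaf (nat_lit 181020) (nat_lit 0xe)))
(.node (nat_lit 181229)
(.leaf (nat_lit 181132) (nat_lit 0x9))
(.leaf (nat_lit 181230) (nat_lit 0x34)))))))
(.node (nat_lit 184722)
(.node (nat_lit 183014)
(.node (nat_lit 181712)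
(.node (nat_lit 181446)
(.leaf (nat_lit 181342) (nat_lit 0x3d))
(.node (nat_lit 181558)
(.leaf (nat_lit 181447) (nat_lit 0x3c))
(.leaf (nat_lit 181559) (nat_lit 0x22))))
(.node (nat_lit 182825)
(.node (nat_lit 181824)
(.leaf (nat_lit 181713) (nat_lit 0x28))
(.leaf (nat_lit 181825) (nat_lit 0x1d)))
(.node (nat_lit 182916)
(.leaf (nat_lit 182826) (nat_lit 0x5))
(.leaf (nat_lit 182917) (nat_lit 0x2e)))))
(.node (nat_lit 183371)
(.node (nat_lit 183147)
(.leaf (nat_lit 183015) (nat_lit 0x1a))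
(.node (nat_lit 183238)
(.leaf (nat_lit 183148) (nat_lit 0xa))
(.leaf (nat_lit 183239) (nat_lit 0x27))))
(.node (nat_lit 183588)
(.node (nat_lit 183497)
(.leaf (nat_lit 183372) (nat_lit 0x21))
(.leaf (nat_lit 183498) (nat_lit 0x3)))
(.node (nat_lit 184596)
(.leaf (nat_lit 183589) (nat_lit 0x15))
(.leaf (nat_lit 184597) (nat_lit 0x26))))))
(.node (nat_lit 200703)
(.node (nat_lit 185044)
(.node (nat_lit 184813)
(.leaf (nat_lit 184723) (nat_lit 0xf))
(.node (nat_lit 184939)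
(.leaf (nat_lit 184814) (nat_lit 0x31))
(.leaf (nat_lit 184940) (nat_lit 0x6))))
(.node (nat_lit 185261)
(.node (nat_lit 185170)
(.leaf (nat_lit 185045) (nat_lit 0x16))
(.leaf (nat_lit 185171) (nat_lit 0x4)))
(.node (nat_lit 185387)
(.leaf (nat_lit 185262) (nat_lit 0x19))
(.leaf (nat_lit 185388) (nat_lit 0x18)))))
(.node (nat_lit 201081)
(.node (nat_lit 200850)
(.leaf (nat_lit 200704) (nat_lit 0x1))
(.node (nat_lit 200948)
(.leaf (nat_lit 200851) (nat_lit 0x36))
(.leaf (nat_lit 200949) (nat_lit 0x7))))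
(.node (nat_lit 201291)
(.node (nat_lit 201158)
(.leaf (nat_lit 201082) (nat_lit 0xc))
(.leaf (nat_lit 201159) (nat_lit 0x11)))
(.node (nat_lit 201389)
(.leaf (nat_lit 201292) (nat_lit 0x14))
(.leaf (nat_lit 201390) (nat_lit 0x17))))))))
(.node (nat_lit 208242)
(.node (nat_lit 204875)
(.node (nat_lit 203195)
(.node (nat_lit 202740)
(.node (nat_lit 202516)
(.leaf (nat_lit 201537) (nat_lit 0x2))
(.node (nat_lit 202621)
(.leaf (nat_lit 202517) (nat_lit 0xe))
(.leaf (nat_lit 202622) (nat_lit 0x22))))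
(.node (nat_lit 202971)
(.node (nat_lit 202845)
(.leaf (nat_lit 202741) (nat_lit 0x9))
(.leaf (nat_lit 202846) (nat_lit 0x3c)))
(.node (nat_lit 203090)
(.leaf (nat_lit 202972) (nat_lit 0x34))
(.leaf (nat_lit 203091) (nat_lit 0x1d)))))
(.node (nat_lit 204413)
(.node (nat_lit 203314)
(.leaf (nat_lit 203196) (nat_lit 0x3d))
(.node (nat_lit 204315)
(.leaf (nat_lit 203315) (nat_lit 0x28))
(.leaf (nat_lit 204316) (nat_lit 0x2c))))
(.node (nat_lit 204672)
(.node (nat_lit 204518)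
(.leaf (nat_lit 204414) (nat_lit 0x12))
(.leaf (nat_lit 204519) (nat_lit 0x8)))
(.node (nat_lit 204749)
(.leaf (nat_lit 204673) (nat_lit 0xb))
(.leaf (nat_lit 204750) (nat_lit 0x10))))))
(.node (nat_lit 206534)
(.node (nat_lit 206086)
(.node (nat_lit 205008)
(.leaf (nat_lit 204876) (nat_lit 0xd))
(.node (nat_lit 205078)
(.leaf (nat_lit 205009) (nat_lit 0x2d))
(.leaf (nat_lit 205079) (nat_lit 0x37))))
(.node (nat_lit 206352)
(.node (nat_lit 206212)
(.leaf (nat_lit 206087) (nat_lit 0x13))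
(.leaf (nat_lit 206213) (nat_lit 0x39)))
(.node (nat_lit 206450)
(.leaf (nat_lit 206353) (nat_lit 0x23))
(.leaf (nat_lit 206451) (nat_lit 0x32)))))
(.node (nat_lit 206898)
(.node (nat_lit 206660)
(.leaf (nat_lit 206535) (nat_lit 0x1c))
(.node (nat_lit 206800)
(.leaf (nat_lit 206661) (nat_lit 0x24))
(.leaf (nat_lit 206801) (nat_lit 0x1b))))
(.node (nat_lit 207990)
(.node (nat_lit 207885)
(.leaf (nat_lit 206899) (nat_lit 0x2f))
(.leaf (nat_lit 207886) (nat_lit 0x2b)))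
(.node (nat_lit 208137)
(.leaf (nat_lit 207991) (nat_lit 0x3b))
(.leaf (nat_lit 208138) (nat_lit 0x3a)))))))
(.node (nat_lit 211602)
(.node (nat_lit 209894)
(.node (nat_lit 208557)
(.node (nat_lit 208361)
(.leaf (nat_lit 208243) (nat_lit 0x3e))
(.node (nat_lit 208466)
(.leaf (nat_lit 208362) (nat_lit 0x33))
(.leaf (nat_lit 208467) (nat_lit 0x1f))))
(.node (nat_lit 209705)
(.node (nat_lit 208662)
(.leaf (nat_lit 208558) (nat_lit 0x20))
(.leaf (nat_lit 208663) (nat_lit 0x2a)))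
(.node (nat_lit 209782)
(.leaf (nat_lit 209706) (nat_lit 0x26))
(.leaf (nat_lit 209783) (nat_lit 0x4)))))
(.node (nat_lit 210244)
(.node (nat_lit 210041)
(.leaf (nat_lit 209895) (nat_lit 0xf))
(.node (nat_lit 210139)
(.leaf (nat_lit 210042) (nat_lit 0x16))
(.leaf (nat_lit 210140) (nat_lit 0x31))))
(.node (nat_lit 210475)
(.node (nat_lit 210356)
(.leaf (nat_lit 210245) (nat_lit 0x18))
(.leaf (nat_lit 210357) (nat_lit 0x6)))
(.node (nat_lit 211490)
(.leaf (nat_lit 210476) (nat_lit 0x19))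
(.leaf (nat_lit 211491) (nat_lit 0x25))))))
(.node (nat_lit 213296)
(.node (nat_lit 211945)
(.node (nat_lit 211728)
(.leaf (nat_lit 211603) (nat_lit 0x35))
(.node (nat_lit 211840)
(.leaf (nat_lit 211729) (nat_lit 0x3f))
(.leaf (nat_lit 211841) (nat_lit 0x38))))
(.node (nat_lit 212155)
(.node (nat_lit 212057)
(.leaf (nat_lit 211946) (nat_lit 0x1e))
(.leaf (nat_lit 212058) (nat_lit 0x40)))
(.node (nat_lit 212267)
(.leaf (nat_lit 212156) (nat_lit 0x29))
(.leaf (nat_lit 212268) (nat_lit 0x30)))))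
(.node (nat_lit 213709)
(.node (nat_lit 213513)
(.node (nat_lit 213380)
(.leaf (nat_lit 213297) (nat_lit 0x5))
(.leaf (nat_lit 213381) (nat_lit 0x21)))
(.node (nat_lit 213597)
(.leaf (nat_lit 213514) (nat_lit 0x2e))
(.leaf (nat_lit 213598) (nat_lit 0x27))))
(.node (nat_lit 213940)
(.node (nat_lit 213849)
(.leaf (nat_lit 213710) (nat_lit 0x1a))
(.leaf (nat_lit 213850) (nat_lit 0x15)))
(.node (nat_lit 214080)
(.leaf (nat_lit 213941) (nat_lit 0xa))
(.leaf (nat_lit 214081) (nat_lit 0x3)))))))))))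

noncomputable def look : ℕ → ℕ := tabF look_tbl (nat_lit 7) (nat_lit 127)

theorem am_0 : K8.amOK 4 T Ms vs (nat_lit 0) (nat_lit 65) = true := by decide +kernel
theorem hAm : ∀ i < T.N, K8.AmP 4 T Ms vs i := rng_all (FT.amOK_sound _ am_0)
theorem hInj : K8.injOK 4 vs look T.N = true := by decide +kernel

def Is : List (List ℕ) := [[nat_lit 5, nat_lit 96, nat_lit 768, nat_lit 8192],
  [nat_lit 1, nat_lit 16, nat_lit 257, nat_lit 4113],
  [nat_lit 1, nat_lit 17, nat_lit 272, nat_lit 4369],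
  [nat_lit 4096, nat_lit 256, nat_lit 16, nat_lit 1]]
theorem hm : K8.szOK 4 Ms Is = true := by decide +kernel

noncomputable def sz8l0_tbl : NT :=
(.node (nat_lit 4079)
(.node (nat_lit 2039)
(.leaf (nat_lit 0) (nat_lit 0x2505410578c11600002409810c09818e0000230d410d14c10b00002209820e05010500002119410f04c10514411811821111010611c48c00002000001f10010900001e00001d04c18412019804c1040c410a00001c00001b00001a00001900001810010500001700001604c18300001504c10310420600001400001300001200001100001014010700000f0dc18b04c18200000e04c1020c410800000d00000c00000b0d410200000a0882840541810d01030000090541010000080883820981020981840000070d41030000060c01030982040501010000050000040cc101040100000003000002084281000080000080000001000080000080000080))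
(.leaf (nat_lit 2040) (nat_lit 0x19819885c3a60d411c5dc1112001151982180501090000380e032b04c10914411f0000370000363202340d41160000356c01300541880d011764c1b21d411b20c12218010b1541891d011c04c18805410800003438013409811609819910c19f0d411765c1326c423109821905010874428d0d41130000331c829b0541870d011464429d0541070000310000320981130981950000300d41145cc10f24012009821505010700002f00002e04c10718421000002d00002c00002b15410b84c1261c011d0541860d010f60c19b00002a1cc1211c01120000291dc52104c18605410600002700002815810b09819159c4930d410c79c11d0000260541850d010d)))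
(.node (nat_lit 6119)
(.leaf (nat_lit 4080) (nat_lit 0x541900d01295441bb05411088c1308001352581210981aa89c4bc25413b60c12004010f8c83251d01328041bf7941221e043a80013f79823371c53004c18f7d413988c11c04010e7541b100003f80429191412804c10e88411c9141b291013b9041be00003e41c12c04010d70833838813470c1b12601ba04c10d48412c51419f59013c00003d6c82302cc12b04010c7581277101331c429829412904c10c24012b21822a21011019c4100d411d59c23720829305418a0d011e5c42a84c82230e049718011a00003c5581ba04c18a05410a34c12e00003b09811d0981a000003a0d411e68c11518819109822005010a7cc18e0541090000398c012509811b))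
(.node (nat_lit 8159)
(.leaf (nat_lit 6120) (nat_lit 0x2042337581347581be6c41c005411a1dc13664012f0981361581ab5cc1a00d413738c13b28012e15822b05011a20c1b788823d90c13d7c82a97d41af85014004c19979413834c11a3442173d823e3d012404c1977d41276cc12d2401387582306dc32204c1958c822561c1190401142d41bb18812868c1967082266dc2a470011679813f75013904c19479413304c1146841197141a27501278441a97a053504c1136041376941c088813d6842ae0d412c6cc12f2482b60541920d012d32011e0541127dc13e00004009812c0981ae69c3b30d412d7dc13c4c012309822e05011244c1a419413604c11220422111419a1901372842a225412188c13f54013a))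
(.leaf (nat_lit 8160) (nat_lit 0x64822f70c13804012d88833d8081358442b97d413184c1287c81a77d82390501268442aa41413494c1257c82b90541a479013880c1ad8d414004c12384423c8d41b58d012f8c42b505411f8cc12988013d5d813a5581a380c1ac28823258c12a04011e2083288c81253442b661413c04c11e5082aa2941a359011f20c1a781413f88c14080013e79822671c1b104c19c75412404c11b)))))

noncomputable def sz8l0_par : NT :=
(.leaf (nat_lit 0) (nat_lit 0x11172b75a4bc5bad158a24f275348e411ecf878391c4dc6d36194c45d2f15ca8512712c9041200f87a381b8d86a34190c45e2c158a852281308c401f0f070301609040180b0401c0600))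

noncomputable def sz8l0_rt : RT :=
(.node (nat_lit 3)
(.node (nat_lit 1)
(.node (nat_lit 0)
(.leaf (nat_lit 0) [nat_lit 3, nat_lit 3] (nat_lit 1) (nat_lit 1755) (nat_lit 0))
(.leaf (nat_lit 1) [nat_lit 0, nat_lit 3, nat_lit 0, nat_lit 3] (nat_lit 3) (nat_lit 0x618618) (nat_lit 0)))
(.node (nat_lit 2)
(.leaf (nat_lit 2) [nat_lit 3, nat_lit 5, nat_lit 3, nat_lit 2, nat_lit 3, nat_lit 1] (nat_lit 5) (nat_lit 0x2d3acb4eb) (nat_lit 0))
(.leaf (nat_lit 0) [nat_lit 0, nat_lit 4] (nat_lit 1) (nat_lit 2080) (nat_lit 0))))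
(.node (nat_lit 5)
(.node (nat_lit 4)
(.leaf (nat_lit 0) [nat_lit 1, nat_lit 1] (nat_lit 1) (nat_lit 585) (nat_lit 0))
(.leaf (nat_lit 0) [nat_lit 2, nat_lit 5] (nat_lit 1) (nat_lit 2730) (nat_lit 0)))
(.node (nat_lit 6)
(.leaf (nat_lit 0) [nat_lit 1, nat_lit 2, nat_lit 2] (nat_lit 2) (nat_lit 74385) (nat_lit 0))
(.node (nat_lit 7)
(.leaf (nat_lit 0) [nat_lit 1, nat_lit 4, nat_lit 4, nat_lit 1, nat_lit 0, nat_lit 0, nat_lit 0, nat_lit 1, nat_lit 4] (nat_lit 8) (nat_lit 0x2100190c200321) (nat_lit 0))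
(.leaf (nat_lit 0) [nat_lit 5, nat_lit 0, nat_lit 0, nat_lit 5, nat_lit 4, nat_lit 4, nat_lit 4, nat_lit 5, nat_lit 0] (nat_lit 8) (nat_lit 0x5925028b24a05) (nat_lit 0))))))

def sz8l0_P : List (List ℕ) :=
  [[nat_lit 3, nat_lit 3],
  [nat_lit 0, nat_lit 3, nat_lit 0, nat_lit 3],
  [nat_lit 3, nat_lit 2, nat_lit 2, nat_lit 2, nat_lit 3, nat_lit 2, nat_lit 3, nat_lit 1]]

noncomputable def sz8l0_C : TC where
  G := nat_lit 6
  N := nat_lit 65
  W := nat_lit 24
  mask := nat_lit 0xffffff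
  VM := nat_lit 0
  TV := nat_lit 0
  vb := nat_lit 0
  TM := nat_lit 127
  rb := nat_lit 7
  RM := nat_lit 2047
  BIG := nat_lit 0x980000
  b := nat_lit 3
  lm := nat_lit 7
  Y := nat_lit 55
  n := nat_lit 1
  K := nat_lit 0
  K0 := nat_lit 0
  QM := nat_lit 0
  k := nat_lit 0
  w := nat_lit 1
  c := nat_lit 0
  cq := nat_lit 0
  Lmax := nat_lit 9
  PW := nat_lit 9
  PM := nat_lit 511
  tbl := sz8l0_tbl
  par := sz8l0_par
  rt := sz8l0_rt

noncomputable def sz8l0 : Lv where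
  C := sz8l0_C
  df := [[nat_lit 0],
  [nat_lit 1],
  [nat_lit 2],
  [nat_lit 3],
  [nat_lit 0, nat_lit 0, nat_lit 0, nat_lit 0, nat_lit 0, nat_lit 0],
  [nat_lit 2, nat_lit 2, nat_lit 2]]
  X0 := nat_lit 7
  X := nat_lit 15
  Xl := nat_lit 15
  GG := nat_lit 4
  back := [nat_lit 0, nat_lit 1, nat_lit 2, nat_lit 3]
  P := sz8l0_P

theorem sz8l0_e0 : sz8l0_C.edges (nat_lit 0) (nat_lit 65) = true := by decide +kernel
theorem sz8l0_cl : sz8l0_C.closed sz8l0.Xl (nat_lit 0) (nat_lit 65) = true := by decide +kernel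
theorem sz8l0_tab : sz8l0.Tab :=
  ⟨rng_all (TC.edges_sound sz8l0_e0), rng_all (TC.closed_sound sz8l0_cl)⟩

noncomputable def sz8l1_tbl : NT :=
(.leaf (nat_lit 0) (nat_lit 0x800a0d050a0a9041f88270804e682e6413420f340f44024f416320921075683660171a093909d90780007400b24074000c4c3b1a0ca005468220005241d00010402000031208110640004401100040000400100008))

noncomputable def sz8l1_par : NT :=
(.leaf (nat_lit 0) (nat_lit 0x51130a205080))

noncomputable def sz8l1_rt : RT :=
(.node (nat_lit 2)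
(.node (nat_lit 0)
(.leaf (nat_lit 0) [nat_lit 2, nat_lit 4] (nat_lit 1) (nat_lit 2210) (nat_lit 0))
(.node (nat_lit 1)
(.leaf (nat_lit 1) [nat_lit 1, nat_lit 2, nat_lit 2] (nat_lit 2) (nat_lit 74385) (nat_lit 0))
(.leaf (nat_lit 2) [nat_lit 1, nat_lit 3, nat_lit 2, nat_lit 0, nat_lit 1, nat_lit 3, nat_lit 4, nat_lit 0] (nat_lit 7) (nat_lit 0x119099119099) (nat_lit 0))))
(.node (nat_lit 4)
(.node (nat_lit 3)
(.leaf (nat_lit 3) [nat_lit 1, nat_lit 0, nat_lit 2, nat_lit 3, nat_lit 1, nat_lit 0, nat_lit 4, nat_lit 3] (nat_lit 7) (nat_lit 0x701681701681) (nat_lit 0))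
(.leaf (nat_lit 4) [nat_lit 3, nat_lit 2, nat_lit 3, nat_lit 2, nat_lit 0, nat_lit 0, nat_lit 0, nat_lit 2, nat_lit 3] (nat_lit 8) (nat_lit 0x1a00269b4004d3) (nat_lit 0)))
(.node (nat_lit 5)
(.leaf (nat_lit 0) [nat_lit 0, nat_lit 3] (nat_lit 1) (nat_lit 1560) (nat_lit 0))
(.leaf (nat_lit 0) [nat_lit 1, nat_lit 1] (nat_lit 1) (nat_lit 585) (nat_lit 0)))))

def sz8l1_P : List (List ℕ) :=
  [[nat_lit 2, nat_lit 2, nat_lit 2, nat_lit 2],
  [nat_lit 1, nat_lit 2, nat_lit 2],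
  [nat_lit 1, nat_lit 0, nat_lit 0, nat_lit 0, nat_lit 0, nat_lit 0, nat_lit 0, nat_lit 2, nat_lit 0, nat_lit 1, nat_lit 0, nat_lit 0, nat_lit 0, nat_lit 0, nat_lit 0, nat_lit 0, nat_lit 2, nat_lit 2, nat_lit 2, nat_lit 0],
  [nat_lit 1, nat_lit 0, nat_lit 2, nat_lit 0, nat_lit 0, nat_lit 0, nat_lit 0, nat_lit 0, nat_lit 0, nat_lit 1, nat_lit 0, nat_lit 2, nat_lit 2, nat_lit 2, nat_lit 0, nat_lit 0, nat_lit 0, nat_lit 0, nat_lit 0, nat_lit 0],
  [nat_lit 0, nat_lit 0, nat_lit 0, nat_lit 0, nat_lit 0, nat_lit 0, nat_lit 2, nat_lit 0, nat_lit 0, nat_lit 0, nat_lit 0, nat_lit 0, nat_lit 0, nat_lit 2, nat_lit 0, nat_lit 0, nat_lit 0, nat_lit 2, nat_lit 0, nat_lit 0, nat_lit 0, nat_lit 0, nat_lit 0, nat_lit 0]]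

noncomputable def sz8l1_C : TC where
  G := nat_lit 5
  N := nat_lit 8
  W := nat_lit 17
  mask := nat_lit 131071
  VM := nat_lit 0
  TV := nat_lit 0
  vb := nat_lit 0
  TM := nat_lit 7
  rb := nat_lit 3
  RM := nat_lit 1023
  BIG := nat_lit 81920
  b := nat_lit 3
  lm := nat_lit 7
  Y := nat_lit 11
  n := nat_lit 1
  K := nat_lit 0
  K0 := nat_lit 0
  QM := nat_lit 0
  k := nat_lit 0
  w := nat_lit 1
  c := nat_lit 0
  cq := nat_lit 0
  Lmax := nat_lit 9
  PW := nat_lit 6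
  PM := nat_lit 63
  tbl := sz8l1_tbl
  par := sz8l1_par
  rt := sz8l1_rt

noncomputable def sz8l1 : Lv where
  C := sz8l1_C
  df := [[nat_lit 0],
  [nat_lit 1],
  [nat_lit 2],
  [nat_lit 0, nat_lit 0, nat_lit 0, nat_lit 0, nat_lit 0, nat_lit 0],
  [nat_lit 2, nat_lit 2, nat_lit 2]]
  X0 := nat_lit 3
  X := nat_lit 7
  Xl := nat_lit 7
  GG := nat_lit 4
  back := [nat_lit 0, nat_lit 1, nat_lit 2, nat_lit 0]
  P := sz8l1_P

theorem sz8l1_e0 : sz8l1_C.edges (nat_lit 0) (nat_lit 8) = true := by decide +kernel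
theorem sz8l1_cl : sz8l1_C.closed sz8l1.Xl (nat_lit 0) (nat_lit 8) = true := by decide +kernel
theorem sz8l1_tab : sz8l1.Tab :=
  ⟨rng_all (TC.edges_sound sz8l1_e0), rng_all (TC.closed_sound sz8l1_cl)⟩

noncomputable def sz8l2_tbl : NT :=
(.leaf (nat_lit 0) (nat_lit 0x302b805a2235817a8ae606dc0a1012000e6049809a44d000c9070c0c9811000a00100019010000400200008008))

noncomputable def sz8l2_par : NT :=
(.leaf (nat_lit 0) (nat_lit 0x7ace628c20))

noncomputable def sz8l2_rt : RT :=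
(.node (nat_lit 0)
(.leaf (nat_lit 0) [nat_lit 1, nat_lit 1] (nat_lit 1) (nat_lit 85) (nat_lit 0))
(.node (nat_lit 1)
(.leaf (nat_lit 1) [nat_lit 1, nat_lit 2, nat_lit 2, nat_lit 1, nat_lit 0, nat_lit 0, nat_lit 0, nat_lit 1, nat_lit 2] (nat_lit 8) (nat_lit 0x901a64069) (nat_lit 0))
(.leaf (nat_lit 0) [nat_lit 0, nat_lit 2] (nat_lit 1) (nat_lit 136) (nat_lit 0))))

def sz8l2_P : List (List ℕ) :=
  [[nat_lit 1, nat_lit 1],
  [nat_lit 1, nat_lit 0, nat_lit 0, nat_lit 0, nat_lit 0, nat_lit 0, nat_lit 0, nat_lit 0, nat_lit 0, nat_lit 0, nat_lit 0, nat_lit 0, nat_lit 0, nat_lit 1, nat_lit 0, nat_lit 0, nat_lit 0, nat_lit 1, nat_lit 0, nat_lit 0, nat_lit 0, nat_lit 0, nat_lit 0, nat_lit 0]]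

noncomputable def sz8l2_C : TC where
  G := nat_lit 3
  N := nat_lit 8
  W := nat_lit 15
  mask := nat_lit 32767
  VM := nat_lit 0
  TV := nat_lit 0
  vb := nat_lit 0
  TM := nat_lit 7
  rb := nat_lit 3
  RM := nat_lit 511
  BIG := nat_lit 28672
  b := nat_lit 2
  lm := nat_lit 3
  Y := nat_lit 5
  n := nat_lit 1
  K := nat_lit 0
  K0 := nat_lit 0
  QM := nat_lit 0
  k := nat_lit 0
  w := nat_lit 1
  c := nat_lit 0
  cq := nat_lit 0
  Lmax := nat_lit 9
  PW := nat_lit 5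
  PM := nat_lit 31
  tbl := sz8l2_tbl
  par := sz8l2_par
  rt := sz8l2_rt

noncomputable def sz8l2 : Lv where
  C := sz8l2_C
  df := [[nat_lit 0],
  [nat_lit 1],
  [nat_lit 0, nat_lit 0, nat_lit 0, nat_lit 0, nat_lit 0, nat_lit 0]]
  X0 := nat_lit 1
  X := nat_lit 3
  Xl := nat_lit 3
  GG := nat_lit 4
  back := [nat_lit 0, nat_lit 1, nat_lit 0, nat_lit 0]
  P := sz8l2_P

theorem sz8l2_e0 : sz8l2_C.edges (nat_lit 0) (nat_lit 8) = true := by decide +kernel
theorem sz8l2_cl : sz8l2_C.closed sz8l2.Xl (nat_lit 0) (nat_lit 8) = true := by decide +kernel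
theorem sz8l2_tab : sz8l2.Tab :=
  ⟨rng_all (TC.edges_sound sz8l2_e0), rng_all (TC.closed_sound sz8l2_cl)⟩

noncomputable def sz8l3_tbl : NT :=
(.leaf (nat_lit 0) (nat_lit 0x180a901c20269058003101a2022001400210182020000c0010001))

noncomputable def sz8l3_par : NT :=
(.leaf (nat_lit 0) (nat_lit 0x9652100))

noncomputable def sz8l3_rt : RT :=
(.node (nat_lit 0)
(.leaf (nat_lit 0) [nat_lit 0, nat_lit 1] (nat_lit 1) (nat_lit 10) (nat_lit 0))
(.leaf (nat_lit 0) [nat_lit 0, nat_lit 0, nat_lit 0, nat_lit 0, nat_lit 0, nat_lit 0, nat_lit 0] (nat_lit 6) (nat_lit 0) (nat_lit 0)))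

def sz8l3_P : List (List ℕ) :=
  [[nat_lit 0, nat_lit 0, nat_lit 0, nat_lit 0, nat_lit 0, nat_lit 0, nat_lit 0]]

noncomputable def sz8l3_C : TC where
  G := nat_lit 2
  N := nat_lit 7
  W := nat_lit 15
  mask := nat_lit 32767
  VM := nat_lit 0
  TV := nat_lit 0
  vb := nat_lit 0
  TM := nat_lit 7
  rb := nat_lit 3
  RM := nat_lit 511
  BIG := nat_lit 16384
  b := nat_lit 1
  lm := nat_lit 1
  Y := nat_lit 0
  n := nat_lit 1
  K := nat_lit 0
  K0 := nat_lit 0
  QM := nat_lit 0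
  k := nat_lit 0
  w := nat_lit 1
  c := nat_lit 0
  cq := nat_lit 0
  Lmax := nat_lit 7
  PW := nat_lit 4
  PM := nat_lit 15
  tbl := sz8l3_tbl
  par := sz8l3_par
  rt := sz8l3_rt

noncomputable def sz8l3 : Lv where
  C := sz8l3_C
  df := [[nat_lit 0],
  [nat_lit 0, nat_lit 0, nat_lit 0, nat_lit 0, nat_lit 0, nat_lit 0]]
  X0 := nat_lit 0
  X := nat_lit 1
  Xl := nat_lit 1
  GG := nat_lit 4
  back := [nat_lit 0, nat_lit 0, nat_lit 0, nat_lit 0]
  P := sz8l3_P

theorem sz8l3_e0 : sz8l3_C.edges (nat_lit 0) (nat_lit 7) = true := by decide +kernel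
theorem sz8l3_cl : sz8l3_C.closed sz8l3.Xl (nat_lit 0) (nat_lit 7) = true := by decide +kernel
theorem sz8l3_tab : sz8l3.Tab :=
  ⟨rng_all (TC.edges_sound sz8l3_e0), rng_all (TC.closed_sound sz8l3_cl)⟩

noncomputable def sz8ch_0 : OL where
  b := nat_lit 2
  n := nat_lit 65
  S := [[nat_lit 0],
  [nat_lit 1],
  [nat_lit 3]]
  O := ⟨nat_lit 0, nat_lit 4, nat_lit 7, nat_lit 127, nat_lit 0, nat_lit 0,
(.leaf (nat_lit 0) (nat_lit 0x2e09b294e01b0a4c098bd7c018a1620163576015bb6e0952e3e01484560540f300933a180132278051a33c011064204f9b3800fad4a04f3c2a00f152004e9d7408da06404d881e00d961604d382400d1f8004c8b1c00c984804bbf2800bbe1a08b314604b276a00b246c08a927a00ab35c04a19540893934009345e0888922048b2660088d2c0881e400081050047b72608740580071a60046b00808626100061744045aa020049c320442f700042c0c0432836082a50a002b6520822b7e042073a041835a001931408100680808e060408c72000941208005000400104000110e00002))⟩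

noncomputable def sz8ch_1 : OL where
  b := nat_lit 0
  n := nat_lit 64
  S := [[nat_lit 3, nat_lit 2],
  [nat_lit 1, nat_lit 0, nat_lit 1]]
  O := ⟨nat_lit 0, nat_lit 4, nat_lit 7, nat_lit 127, nat_lit 0, nat_lit 0,
(.leaf (nat_lit 0) (nat_lit 0x7e000003805d403c01c941e017ab66017272e0553640054842a0141f50053a614013a37605215620120e64051185e010bc06050341c00fb54c00ea40a04e331600da55200c901a04c1e7a04b9d2200b973604b2d4200b387804a8d7004a305c00a0660049a26e0491b48009123a048a826008ba7204811580083e56047a12c007bf46047292404696280068a680460f540063b340459c6c005b97c045190c00520440449a3e004aa5a04407300043d6a043b14e003ac100430b180032e32042b712002890e0420c20041884a00193020412f740010104040b2000008308000050000000))⟩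

noncomputable def sz8ch_2 : OL where
  b := nat_lit 1
  n := nat_lit 7
  S := [[nat_lit 1, nat_lit 0, nat_lit 1]]
  O := ⟨nat_lit 0, nat_lit 4, nat_lit 6, nat_lit 63, nat_lit 0, nat_lit 0,
(.node (nat_lit 497)
(.node (nat_lit 305)
(.leaf (nat_lit 0) (nat_lit 0x800000001540001360000d700009100004700000c000001))
(.node (nat_lit 425)
(.leaf (nat_lit 306) (nat_lit 0x1))
(.leaf (nat_lit 426) (nat_lit 0x3))))
(.node (nat_lit 569)
(.leaf (nat_lit 498) (nat_lit 0x6))
(.node (nat_lit 1313)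
(.leaf (nat_lit 570) (nat_lit 0x4))
(.leaf (nat_lit 1314) (nat_lit 0x5)))))⟩

noncomputable def sz8ch : List OL := [sz8ch_0, sz8ch_1, sz8ch_2]

theorem hch : chainOK T (nat_lit 15) sz8ch [] = true := by decide +kernel
noncomputable def chk : List ℕ → Bool := T.chk [nat_lit 1, nat_lit 0, nat_lit 2]
theorem sz8l0_ok : sz8l0.ok chk = true := by decide +kernel
theorem sz8l0_hP : allL chk sz8l0.P = true := by decide +kernel
theorem sz8l1_ok : sz8l1.ok chk = true := by decide +kernel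
theorem sz8l1_hP : allL chk sz8l1.P = true := by decide +kernel
theorem sz8l2_ok : sz8l2.ok chk = true := by decide +kernel
theorem sz8l2_hP : allL chk sz8l2.P = true := by decide +kernel
theorem sz8l3_ok : sz8l3.ok chk = true := by decide +kernel
theorem sz8l3_hP : allL chk sz8l3.P = true := by decide +kernel
def P : List (List ℕ) := sz8l3_P ++ sz8l2_P ++ sz8l1_P ++ sz8l0_P
theorem hP0 : allL chk P = true := by decide +kernel
def Q : List (List ℕ × List ℕ) := [([nat_lit 0, nat_lit 1, nat_lit 3, nat_lit 0, nat_lit 3], [nat_lit 2]), ([nat_lit 0, nat_lit 2, nat_lit 3, nat_lit 0, nat_lit 3], [nat_lit 1])]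

theorem hQ0 : allL (fun q => T.chk2 [nat_lit 1, nat_lit 0, nat_lit 2] (app q.1 q.2) (app q.2 q.1)) Q = true := by decide +kernel

noncomputable def sz8p2_ru : RuT :=
(.node (nat_lit 24)
(.node (nat_lit 15)
(.node (nat_lit 7)
(.node (nat_lit 0)
(.leaf (nat_lit 0) (nat_lit 0) (nat_lit 0) [nat_lit 4])
(.leaf (nat_lit 1) (nat_lit 0) (nat_lit 1) [nat_lit 0, nat_lit 1, nat_lit 3, nat_lit 5]))
(.node (nat_lit 8)
(.leaf (nat_lit 1) (nat_lit 1) (nat_lit 2) [nat_lit 3])
(.node (nat_lit 14)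
(.leaf (nat_lit 2) (nat_lit 0) (nat_lit 3) [nat_lit 0, nat_lit 2, nat_lit 3, nat_lit 4])
(.leaf (nat_lit 2) (nat_lit 1) (nat_lit 4) [nat_lit 1, nat_lit 2, nat_lit 4]))))
(.node (nat_lit 21)
(.node (nat_lit 16)
(.leaf (nat_lit 2) (nat_lit 2) (nat_lit 5) [nat_lit 5])
(.leaf (nat_lit 3) (nat_lit 0) (nat_lit 6) [nat_lit 0, nat_lit 3]))
(.node (nat_lit 22)
(.leaf (nat_lit 3) (nat_lit 1) (nat_lit 7) [nat_lit 1, nat_lit 3])
(.node (nat_lit 23)
(.leaf (nat_lit 3) (nat_lit 2) (nat_lit 8) [nat_lit 2, nat_lit 3])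
(.leaf (nat_lit 3) (nat_lit 3) (nat_lit 9) [])))))
(.node (nat_lit 32)
(.node (nat_lit 29)
(.node (nat_lit 28)
(.leaf (nat_lit 4) (nat_lit 0) (nat_lit 10) [nat_lit 0, nat_lit 4])
(.leaf (nat_lit 4) (nat_lit 1) (nat_lit 11) [nat_lit 1, nat_lit 4]))
(.node (nat_lit 30)
(.leaf (nat_lit 4) (nat_lit 2) (nat_lit 12) [nat_lit 2, nat_lit 4])
(.node (nat_lit 31)
(.leaf (nat_lit 4) (nat_lit 3) (nat_lit 13) [nat_lit 3, nat_lit 4])
(.leaf (nat_lit 4) (nat_lit 4) (nat_lit 14) []))))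
(.node (nat_lit 37)
(.node (nat_lit 35)
(.leaf (nat_lit 5) (nat_lit 0) (nat_lit 15) [nat_lit 0, nat_lit 5])
(.node (nat_lit 36)
(.leaf (nat_lit 5) (nat_lit 1) (nat_lit 16) [nat_lit 1, nat_lit 5])
(.leaf (nat_lit 5) (nat_lit 2) (nat_lit 17) [nat_lit 2, nat_lit 5])))
(.node (nat_lit 38)
(.leaf (nat_lit 5) (nat_lit 3) (nat_lit 18) [nat_lit 3, nat_lit 5])
(.node (nat_lit 39)
(.leaf (nat_lit 5) (nat_lit 4) (nat_lit 19) [nat_lit 4, nat_lit 5])
(.leaf (nat_lit 5) (nat_lit 5) (nat_lit 20) []))))))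

def sz8p2_E : List (List ℕ × List ℕ) :=
  [([nat_lit 0, nat_lit 0], [nat_lit 4]),
    ([nat_lit 1, nat_lit 0], [nat_lit 0, nat_lit 1, nat_lit 3, nat_lit 5]),
    ([nat_lit 1, nat_lit 1], [nat_lit 3]),
    ([nat_lit 2, nat_lit 0], [nat_lit 0, nat_lit 2, nat_lit 3, nat_lit 4]),
    ([nat_lit 2, nat_lit 1], [nat_lit 1, nat_lit 2, nat_lit 4]),
    ([nat_lit 2, nat_lit 2], [nat_lit 5]),
    ([nat_lit 3, nat_lit 0], [nat_lit 0, nat_lit 3]),
    ([nat_lit 3, nat_lit 1], [nat_lit 1, nat_lit 3]),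
    ([nat_lit 3, nat_lit 2], [nat_lit 2, nat_lit 3]),
    ([nat_lit 3, nat_lit 3], []),
    ([nat_lit 4, nat_lit 0], [nat_lit 0, nat_lit 4]),
    ([nat_lit 4, nat_lit 1], [nat_lit 1, nat_lit 4]),
    ([nat_lit 4, nat_lit 2], [nat_lit 2, nat_lit 4]),
    ([nat_lit 4, nat_lit 3], [nat_lit 3, nat_lit 4]),
    ([nat_lit 4, nat_lit 4], []),
    ([nat_lit 5, nat_lit 0], [nat_lit 0, nat_lit 5]),
    ([nat_lit 5, nat_lit 1], [nat_lit 1, nat_lit 5]),
    ([nat_lit 5, nat_lit 2], [nat_lit 2, nat_lit 5]),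
    ([nat_lit 5, nat_lit 3], [nat_lit 3, nat_lit 5]),
    ([nat_lit 5, nat_lit 4], [nat_lit 4, nat_lit 5]),
    ([nat_lit 5, nat_lit 5], [])]

def sz8p2_A : List ℕ :=
  [nat_lit 0x1c0000000001c0000000000000000000000000000000000000000000000000000000000000000000000000000000000000000000070000140000600000400004,
    nat_lit 0x1c0000700001c0000000000000000000000000000000000000000000000000000000000000000000000000000000000000000000030000140000600000400004,
    nat_lit 0x180000700001c0000000000000000000000000000000000000000000000000000000000000000000000000000000000000000000020000080000400000800000,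
    nat_lit 0x18000060000180000000000000000000000000000000000000000000000000000000000000000000000000000000000000000000060000080000500000800000,
    nat_lit 0x18000000000180000000000000000000000000000000000000000000000000000000000000000000000000000000000000000000060000080000400000800001,
    nat_lit 0x8000020000080000000000000000000000000000000000000000000000000000000000000000000000000000000000000000000020000180000300001c00000]

def sz8p2_co : List ℕ :=
  [nat_lit 0,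
    nat_lit 0,
    nat_lit 0,
    nat_lit 0x40000000000000000000000000000000000000000000000,
    nat_lit 0x1000000000000000000000000000000000000000000000000,
    nat_lit 0x20c40011c1180106144046000040142000000002185040000,
    nat_lit 0x51411400c20471801060800c01c00c7000000003183000000,
    nat_lit 0x1000000,
    nat_lit 0x61c30821070c01001021c6100180184000000004087080000,
    nat_lit 0x60060860041801c5082086080000007000000003102180000,
    nat_lit 262144,
    nat_lit 0x1c31061850000841c71c6080040140000000000143180000,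
    nat_lit 0x30c70c01460000810c11c0100040141000000005045000000,
    nat_lit 0x1000000005000000000,
    nat_lit 0x60060860041801c50820060c0000007000000003102180000,
    nat_lit 0x51040460070400450c50431000000020000000020c6180000,
    nat_lit 0x51411400c20401871060401001c00c7000000003183000000,
    nat_lit 0x40000000,
    nat_lit 0x10000071c0000001000000005000000000,
    nat_lit 0x1c7001002040000007000000003000000000,
    nat_lit 0x104002100141182187180100107000000003102100000]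

noncomputable def sz8p2 : PCD where
  G := nat_lit 7
  w := nat_lit 22
  k := nat_lit 27
  n := nat_lit 8
  fuel := nat_lit 58
  o := nat_lit 0x100000400001000004000010000040000100000400001000004000010000040000100000400001000004000010000040000100000400001000004000010000040000100000400001
  c0 := nat_lit 241168
  cq := nat_lit 262143
  cA := nat_lit 7
  Lm := nat_lit 4
  np := nat_lit 21
  rules := sz8p2_ru
  E := sz8p2_E
  C := [(nat_lit 6, [nat_lit 0, nat_lit 1], [nat_lit 2]),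
    (nat_lit 6, [nat_lit 1], [nat_lit 0]),
    (nat_lit 6, [nat_lit 2], [nat_lit 1, nat_lit 5]),
    (nat_lit 6, [nat_lit 3], [nat_lit 4]),
    (nat_lit 6, [nat_lit 4, nat_lit 5], [nat_lit 5]),
    (nat_lit 6, [nat_lit 5], [nat_lit 3])]
  RA := [([nat_lit 4], [nat_lit 3, nat_lit 3]),
    ([nat_lit 5], [nat_lit 3, nat_lit 3]),
    ([nat_lit 5], [nat_lit 4, nat_lit 4]),
    ([nat_lit 0], [nat_lit 0, nat_lit 0]),
    ([nat_lit 1], [nat_lit 1, nat_lit 1]),
    ([nat_lit 2], [nat_lit 2, nat_lit 2]),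
    ([nat_lit 3], [nat_lit 3, nat_lit 0]),
    ([nat_lit 3], [nat_lit 3, nat_lit 2]),
    ([nat_lit 4], [nat_lit 4, nat_lit 1]),
    ([nat_lit 4], [nat_lit 4, nat_lit 2]),
    ([nat_lit 5], [nat_lit 5, nat_lit 0]),
    ([nat_lit 5], [nat_lit 5, nat_lit 1]),
    ([nat_lit 3], [nat_lit 0, nat_lit 0]),
    ([nat_lit 2], [nat_lit 1, nat_lit 1]),
    ([nat_lit 2], [nat_lit 0, nat_lit 0]),
    ([nat_lit 2], [nat_lit 2, nat_lit 1]),
    ([nat_lit 1], [nat_lit 1, nat_lit 0])]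
  RB := [(nat_lit 6, [nat_lit 3, nat_lit 3]),
    (nat_lit 6, [nat_lit 5, nat_lit 5]),
    (nat_lit 6, [nat_lit 1, nat_lit 1, nat_lit 3]),
    (nat_lit 6, [nat_lit 4, nat_lit 4]),
    (nat_lit 6, [nat_lit 2, nat_lit 2, nat_lit 5]),
    (nat_lit 6, [nat_lit 3, nat_lit 5, nat_lit 3, nat_lit 5]),
    (nat_lit 6, [nat_lit 4, nat_lit 5, nat_lit 4, nat_lit 5]),
    (nat_lit 6, [nat_lit 1, nat_lit 5, nat_lit 1, nat_lit 3, nat_lit 5]),
    (nat_lit 6, [nat_lit 2, nat_lit 4, nat_lit 2, nat_lit 4, nat_lit 5]),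
    (nat_lit 6, [nat_lit 0, nat_lit 0, nat_lit 4]),
    (nat_lit 6, [nat_lit 1, nat_lit 4, nat_lit 1, nat_lit 3, nat_lit 4]),
    (nat_lit 6, [nat_lit 0, nat_lit 1, nat_lit 0, nat_lit 1, nat_lit 4, nat_lit 5]),
    (nat_lit 6, [nat_lit 1, nat_lit 2, nat_lit 1, nat_lit 2, nat_lit 3, nat_lit 4]),
    (nat_lit 6, [nat_lit 0, nat_lit 2, nat_lit 0, nat_lit 2, nat_lit 3, nat_lit 4, nat_lit 5])]
  A := sz8p2_A
  β := [(nat_lit 0x10000020000100000000000000000000000000000000000000000000000000000000000000000000000000000000000000000000040000140000700001000007, nat_lit 2, nat_lit 0x60040820001841860060000800860c1000006086100000),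
    (nat_lit 0x8000000000080000000000000000000000000000000000000000000000000000000000000000000000000000000000000000000030000180000400001800007, nat_lit 2, nat_lit 0x184002180186086182000000004003000004084100000)]
  co := sz8p2_co
  lay := [(nat_lit 62, [nat_lit 0]),
    (nat_lit 60, [nat_lit 1]),
    (nat_lit 56, [nat_lit 2]),
    (nat_lit 48, [nat_lit 3]),
    (nat_lit 32, [nat_lit 4]),
    (nat_lit 0, [nat_lit 5])]

theorem sz8p2_1 : sz8p2.ok1 (nat_lit 63) = true := by decide +kernel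
theorem sz8p2_2 : sz8p2.ok2 = true := by decide +kernel

noncomputable def sz8p2T_tbl : NT :=
(.node (nat_lit 2043)
(.leaf (nat_lit 0) (nat_lit 0x70d44227c051091c3d8397a5451a64502270c60cbc200c82980c08283ec1913469d53d7e717a434ad10250d1eb16abc4833429c822cad5be76d992940f95ba0e4e0377ed5c2c78ec8bc1c2534065011b964b90286a4d9390accebc5c8539c0e185041e99a0b0ab8b261ef492e3604636540db95301988e6e691270ab920c324c6010eccd10526d22f14e9e266e416b81e511876c30f951a1041216a4c8106c4c9844b4a947a754184a6cb0b58218066cbca1722e970862356906a981280a9d09b02c5b345074cbf38188371a9421748441147c9c59a4c5821d108470a2a0c9971e84cb10c2468a3a857055ed8c1c6c1c0a014b5c972809da124000000000000))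
(.leaf (nat_lit 2044) (nat_lit 0x35c257e484ab58798405a7553b3e8199136e038e7888b292630ebd6819c243ea99a02e71abe66a8f945efcf2f386c1be12220293cdda20324842c80c46320444bab0ab16b03ca46bd665c4a27810f2366e9dbe18e4f25486ce15763828f085942c4e49abf4a2c73a70e5193427da34340caa32298c2c1648f180e3d68d6efcb115480faa04912ba76e958146c05a5)))

noncomputable def sz8p2T : PT where
  N := nat_lit 65
  G := nat_lit 7
  W := nat_lit 7
  mask := nat_lit 127
  sb := nat_lit 0
  sm := nat_lit 0
  tbl := sz8p2T_tbl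

def sz8p2_df : List (List ℕ) :=
  [[nat_lit 0, nat_lit 0, nat_lit 0, nat_lit 1, nat_lit 0, nat_lit 0, nat_lit 2, nat_lit 0, nat_lit 0],
  [nat_lit 0, nat_lit 0, nat_lit 0, nat_lit 1, nat_lit 0, nat_lit 0, nat_lit 0, nat_lit 0, nat_lit 2],
  [nat_lit 1, nat_lit 2, nat_lit 3, nat_lit 0, nat_lit 3, nat_lit 2, nat_lit 0],
  [nat_lit 1],
  [nat_lit 0, nat_lit 1, nat_lit 3, nat_lit 0, nat_lit 3, nat_lit 1],
  [nat_lit 0, nat_lit 0, nat_lit 1, nat_lit 3, nat_lit 0, nat_lit 0, nat_lit 3],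
  [nat_lit 1, nat_lit 0, nat_lit 1, nat_lit 2, nat_lit 0]]

theorem sz8p2_x_0 : extOK T sz8p2T sz8p2_df (fun i => i) (nat_lit 0) (nat_lit 65) = true := by decide +kernel
theorem sz8p2_ext : ∀ i < sz8p2T.N, ExtP T sz8p2T sz8p2_df (fun i => i) i := rng_all (extOK_sound sz8p2_x_0)

noncomputable def sz8p2ch_0 : OL where
  b := nat_lit 1
  n := nat_lit 64
  S := [[nat_lit 0],
  [nat_lit 1],
  [nat_lit 2]]
  O := ⟨nat_lit 0, nat_lit 4, nat_lit 7, nat_lit 127, nat_lit 0, nat_lit 0,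
(.leaf (nat_lit 0) (nat_lit 0x5c0000062095ab320541f36092ba760922c060523c7a051a7120911d0c090882a0500b56010051400f262808e301e00d935408c915204c3f6804b255000b1b3c08ac02208a047800a237e089b63e049b242089313a0092f74048986a08824600878c4c0079e5804707240070604086a926046997c0862a48085ae72005a8160850d5e0453d1c0848340044be4e00489180440a0e0838e20083370804334660032002082a264042ad1a002950a082332c0421a38002104a081976e0419c2e001b530081397004102460011644080b86c0408f5a00094340803b100402100000120000001))⟩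

noncomputable def sz8p2ch : List OL := [sz8p2ch_0]

theorem sz8p2_hE : allL (fun e => sz8p2T.chk2 [nat_lit 1, nat_lit 0, nat_lit 2] e.1 e.2) sz8p2.eqs = true := by decide +kernel
theorem sz8p2_hc : chainOK sz8p2T (nat_lit 63) sz8p2ch [] = true := by decide +kernel

noncomputable def ca_tbl : NT :=
(.node (nat_lit 12275)
(.node (nat_lit 6137)
(.node (nat_lit 2045)
(.leaf (nat_lit 0) (nat_lit 0x660ca190318620c20b2048150c017e2f05d0b80521485a0b60542d0130b20901803204b150130570b01562b8110ac0402a8540220a00902401103c298520161441084e0a013c2700f09a1302584a0921202384608a034220430181080e03f0821001f80d07c0f41e03b0380ec1d0390700640200c06e0d81a8340660c80b02f0620c01780a05c0a40a02c05a0aa16009056020150290510281201200201c1382601209403c1084908c110210400380100603e0780e81c036014058190340180c8040300480b81602600c0a81400804c01c088240440800782002c0280e01e0300700201a0040600b0140240400380e000030050040100000100600800800000))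
(.node (nat_lit 4091)
(.leaf (nat_lit 2046) (nat_lit 0xce19a190330cc9963286485a8260a8640c718c1c4628c41863086085782209c600bf97c2f45e0268a82e85d8271740945c8b50a42dc314b816e08c2e82216c2d45a0b39492c8588211602bc574ad01e088514ac156244530201542a4118a809429853c7794c0803c4a508b2765201f146288070a108c1ce5009f0e707c4f09313a2704dc968862604d0991300782f01d12e25a4a8941262484881c12023c1e88e01a0744687f1182084101b1162280f0890762202341a11006c0288707221043085108068418821022003f87e0fa1f03d8180f41e4030780681d43b8760ea0603a0730e51be388170d60a03806f0dc1b4360160641ac3502f01405c348680ce))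
(.leaf (nat_lit 4092) (nat_lit 0x1262604229303d2130f04292925e2b80d83c0430e8970ae25a4b068d2b2540e49492824f4980d03a24a452921232440e05883e0764844011e24047e8f03823a0f87751c8800dc8d91a0324643e0e623045c7303722c4548a11322426c3c9111272548883603a0d44f09b22012a8790e21b0d08610b2144240c03521041c831052080cc0fc4786c288378ff95b2908185914a408808e42010c47fc338643f83689f1fa3f04f8311f73e87c8f81ee1ac140301ec3d47a0f31e43c4780ef1dc0b8768ec0603ac330e81d43a47402e1ce398728c41c90b471c5c05238a310df1c23826f82d1bc3746e0db1b53666c0d71ac0ae6a8d405434c2e8d01a43446802b19e))))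
(.node (nat_lit 8183)
(.leaf (nat_lit 6138) (nat_lit 0x15d2c057c29052191578ae95704614c6bcaf16a570aa4532b8144ad9102b44081a85098e56428d5514e1404415807c230494c895e55c2d0b62ae13cab08821121caa84e170322a584d2a841e279531224e2a954c95253ca8d5029e130a704b29b5329e14b0a02922714a04012c518492935202607116529e399471443f09d0721f81201f8471fc51ca312f2215141e0460621b844d0b1364cc558fb1381267e53b0931144ec7a2661e03d14428650a584432685043713603c110a008f12d4f89f844a7d10a2207927a4f031c41276324210451244e82410d274104251392711349c53411e4d89bc9726c1009a83f1324d0390d89c44c4999321042c498d29114))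
(.node (nat_lit 10229)
(.leaf (nat_lit 8184) (nat_lit 0x673385f2cd9042901941b87d0d04686217633466697c701536602e4cd8da18e989980f24443b10c32e18a6c98f16a35c168632af65ac999523c184ca1660c864c6d9923075a4c90612d56463d914321182c79810582366b8ce11d37c6706031c636c618b31461e6a12c21f6269605f0ce178c418713261ac2d8424617495d839704601585e2325c2c10faa0a170300d80bf606320e39df16e9b9000285026517f26d600bf85b2fc522be8942f82c2af4ada88164ac97b02a5ea389032f25e0bb9642be160bb0650a85d6611172e95cc8b8582e4414a9d712e15beb716d2d815ab5d2d8aa5a85e9672d35a2b38562cc428b28f5068592b1d62ac22ea12855117))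
(.leaf (nat_lit 10230) (nat_lit 0x1cc31572cdc87b3947243f083a2636842dc81b41ec8e5c738b474e38e106c1e8714b428b5481113021c5589494d2ac1dc7c09238c3ecac53d2163847f89e1c21d84f8bc0d23c05fc7512a4f4b288a90f4bae28742d82b23b1c4a0a65ce18c132e1d062161a5439cb21aa8b2318d5c703842d00b9c11c84bee05bfb7c3305e9bd8661ca6546e28e6f4219bcb216ecdd06d09028ccc09d3734349dc6c37133e3793f1f048847979a441b0bd166a89658b41b736c668da86a3682f00b1b39e66a4d95b13521a8d814e35f6baa806935a6b0179ab1de428d51a92141a4d41a7238698d2da29d868cd09a43461a06346731c68ac4d71b424e4d046633e6786719d05c)))))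
(.node (nat_lit 18413)
(.node (nat_lit 14321)
(.leaf (nat_lit 12276) (nat_lit 0xa0118268cb5e612d654a15691b7780b4c9aa194f8470991e032ef29df9a93e4f25e33c4504210973c24309e1093c14cc848951b12706497d31e52420893165244e20ea12865c26caba2277e801be185260200901556685dd63234240a088e20d4f03c09e0962308fda7bbc63ccc08d13843cee94ab0e280385019424a057108b4d770edcbfa022182f8d510e736c18862ec7687399b3b322c940891744b8448853b06d0d59b3bae2101e88b3ac5dcea9b72076be919d33a872ae988338d62c360f93a4204d05583a26a07ed90352202d39513a069a1c081250582d451239f5fad307fb017388d173284394b987e1a01f4badce396340c49cd1ca1f02c0c3359))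
(.node (nat_lit 16367)
(.leaf (nat_lit 14322) (nat_lit 0xc20fc46cef9f83ef740c90eabd230475ccf9ac63068cc0ba47d82b9f42da6fef557fb7f300c41a1959552d118aa5a76ec68be22c62afa8db13450ccacbdbd7732df9ea0ac2f8fa4f7bc13747d5ac1ea6d03e4bbbe6314131f2ac44d4f8dd526a2eef8104bc361883d1dabe7bc8f9903de2e4c895c15a2e0f74b938f7b41395e0a22d8f61eb3c47a8c1574204708ba9a52f62ccd3cb12fc48459cb709e2c07414f8ee43cddcb23a86a8a4de9a0f5b2c60ab2e37a685946141440239a026547cb88a9261776cc9568982a85b4f23d06447a90e2986c0f18aab602a24c0a734b79c544a62a04c25613a2916eaa38c9b74294660a337a284a515238275aa9dde2a5))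
(.leaf (nat_lit 16368) (nat_lit 0xeb9da5b29c9c42de544ac57ea9875ccf1f1368638f88e91be3a0d21d716e6daf91c3bcf7e88212a4044d4bc0f612e392ef2011cc38c468e228b4e03a10627337af34f71c050d000de3a6800b31e0b09370caa003f8798308dc3ff36aff14e1ba57cddd202f04c4c08e0265678d15fd24835aec9d81b27c0c59703aa488b80d62295aee5d6aad6352e69fc19760ec39ec326356f60d31aa34afd9611a76d4c25fab6e742fd0d2100622430d1afe7607d5b825c336700d92ce328b79d237a5b62d8cb3ed472909a0b906e64a13b39939eda9f81d37d4598c717c31aa59a5b483e2c69d929b3147b1b618e494b21f324c7e4328e51e630ee75f99d8568ccddeb71))))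
(.node (nat_lit 20459)
(.leaf (nat_lit 18414) (nat_lit 0x184bb55c9001ed40d816b1d1b3f24648992bbf8460cd9163645a28b9e22d44587c923b92700c31feb80454cfd131e56bc8d9123db6f28a9ba9f66e6de205a3b6a0be9069d4684481ff40e672f3603168568c29013ad80cee1ae22a728f21009815ba811f69984dcb6cff9423f89ecfdaba71e7f6062413f4f99c694a526e557da1b71b029e399e608874f63fe4943599cb345e0ced853f0811019271785941ccf4c0549ebd9dbad17acf40f31e26b4fc9dd151534fdd24b5c720cf5c03903cae0e023586c4fd1653623c43a8f03678089f103beb554bb8ef0d43d0c0920225714908ee2a24ca7891e8ff3b8cb1593cf5eaac8ec3ae74461df10d03b4f90edbfb))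
(.node (nat_lit 22505)
(.leaf (nat_lit 20460) (nat_lit 0x1d5389726a71e83ca7447598e1027b08c1892bc810b09e1b5a66c69185a575d88c975b9b5c90217c2e6784e85da2826fac016f3de5ecaadd49e95b8a01e53fb81c629772c458ee1e07bda68c7499f3286309f9e4bd37ba5c9602b87bee7e0637c73cde15d2c07f0699881b856ce61b20a659cee15b19b5526095395e74cc89fe286750bd14b35f6487bd443f074aefdf4317764f1df0bb56e2f813f2b472cf51dc0fa7dcc35fbc025086ed94b9c4defa540a68515009749c76c0a5550b624b4ad9e20746ca5f96bb674a8b95f7258790ec17935c608bc98d3d767ce899d3fc80501d46bee588db9ff40e79cd51f5b6c7a0419243b7796fb1803927f4ce9a42dd))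
(.leaf (nat_lit 22506) (nat_lit 0x1f33397cb031bb40a7b8a79c5bdc73e451fb2f86d4eedc228c704e11ad24e6ad021d62e9664421941bc64cd19c324a))))))

noncomputable def ca : PT where
  N := nat_lit 520
  G := nat_lit 4
  W := nat_lit 11
  mask := nat_lit 2047
  sb := nat_lit 1
  sm := nat_lit 1
  tbl := ca_tbl

def ca_PE : List (List ℕ × ℕ) :=
  [([nat_lit 0, nat_lit 0, nat_lit 0, nat_lit 0, nat_lit 0, nat_lit 0, nat_lit 0], nat_lit 0),
  ([nat_lit 1, nat_lit 1], nat_lit 0),
  ([nat_lit 1, nat_lit 0, nat_lit 0, nat_lit 0, nat_lit 0, nat_lit 0, nat_lit 0, nat_lit 0, nat_lit 0, nat_lit 0, nat_lit 0, nat_lit 0, nat_lit 0, nat_lit 1, nat_lit 0, nat_lit 0, nat_lit 0, nat_lit 1, nat_lit 0, nat_lit 0, nat_lit 0, nat_lit 0, nat_lit 0, nat_lit 0], nat_lit 0),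
  ([nat_lit 2, nat_lit 2, nat_lit 2, nat_lit 2], nat_lit 0),
  ([nat_lit 1, nat_lit 2, nat_lit 2], nat_lit 0),
  ([nat_lit 1, nat_lit 0, nat_lit 0, nat_lit 0, nat_lit 0, nat_lit 0, nat_lit 0, nat_lit 2, nat_lit 0, nat_lit 1, nat_lit 0, nat_lit 0, nat_lit 0, nat_lit 0, nat_lit 0, nat_lit 0, nat_lit 2, nat_lit 2, nat_lit 2, nat_lit 0], nat_lit 1),
  ([nat_lit 1, nat_lit 0, nat_lit 2, nat_lit 0, nat_lit 0, nat_lit 0, nat_lit 0, nat_lit 0, nat_lit 0, nat_lit 1, nat_lit 0, nat_lit 2, nat_lit 2, nat_lit 2, nat_lit 0, nat_lit 0, nat_lit 0, nat_lit 0, nat_lit 0, nat_lit 0], nat_lit 0),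
  ([nat_lit 0, nat_lit 0, nat_lit 0, nat_lit 0, nat_lit 0, nat_lit 0, nat_lit 2, nat_lit 0, nat_lit 0, nat_lit 0, nat_lit 0, nat_lit 0, nat_lit 0, nat_lit 2, nat_lit 0, nat_lit 0, nat_lit 0, nat_lit 2, nat_lit 0, nat_lit 0, nat_lit 0, nat_lit 0, nat_lit 0, nat_lit 0], nat_lit 1),
  ([nat_lit 3, nat_lit 3], nat_lit 0),
  ([nat_lit 0, nat_lit 3, nat_lit 0, nat_lit 3], nat_lit 0),
  ([nat_lit 3, nat_lit 2, nat_lit 2, nat_lit 2, nat_lit 3, nat_lit 2, nat_lit 3, nat_lit 1], nat_lit 0)]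

instance ca_nz : NeZero ca.N := ⟨by decide⟩

theorem ca_r0 : ca.relsOK (nat_lit 2) ca_PE (nat_lit 0) (nat_lit 520) = true := by decide +kernel
theorem ca_rng : ca.rng 0 (nat_lit 520) = true := by decide +kernel
theorem ca_rels : ∀ i < ca.N, ∀ p ∈ ca_PE, ca.tr p.1 i = i ∧ ca.tv p.1 i % nat_lit 2 = p.2 :=
  rng_all (PT.relsOK_sound _ _ ca_r0)
def ca_iv : List ℕ := [nat_lit 0, nat_lit 1, nat_lit 3, nat_lit 8]
def ca_E : List ℕ := [nat_lit 1, nat_lit 0]

theorem ca_cov : HasCov P 4 (Multiplicative (ZMod 2)) Q fun i => Multiplicative.ofAdd ((gd 0 ca_E i : ℕ) : ZMod 2) :=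
  PT.hasCov (T := ca) (m := nat_lit 2) (ca.rng_sound ca_rng le_rfl) (iv := ca_iv) (by decide +kernel) (by decide +kernel) ca_rels
    (subL_sound (by decide +kernel)) (by decide +kernel)

noncomputable def cb_tbl : NT :=
(.node (nat_lit 12275)
(.node (nat_lit 6137)
(.node (nat_lit 2045)
(.leaf (nat_lit 0) (nat_lit 0x660ca192318620c20b0048158c017e2f05d0b805214c5a8b60562d4130b20901803204b152134578b01542bc110ac0402a8540220a00942401103e2985201614410c4e8a013c2740f09a1322584a0921202384608a036220430181080e43f8821001fc0d07c0f61e43b0390ee1d0390700640200c86e0da1a8340660ca0b42f8620c017c0a05c0a60a42c85a0aa16409056020150290510281201200201c1382601209403c1004908e110210400380100683e07a0e81c03601605c1983401a0cc040300480b81602700c0a81400804c018088250440800702002e02c0e81e0320740201a0040600b0140240400380e000030050050100000180600800800801))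
(.node (nat_lit 4091)
(.leaf (nat_lit 2046) (nat_lit 0xce19b190334cc9963286485a0260aa640c798c1c462cc498630a6085782209e600bf17c2f45e4260a92ea5d8279750945ccb50a52de310b816f08c2e82216c2d45a4b31492ca588211612bc574ad01e08a514ac156246530209542a4118a809529a5387714d0803c0a588b2745241f146288070a108d1cc5049f0e607c4f09313a2704dc968872624d0991310782f41d12e25a4a8941272484881c12023c1e88e01a0764687f9192084101b9162280f0890762222341a91006c0288707321243085109068418829022003f87e0fa1f03d8188f41e4030780691d63b8760eb0603a0738e51be388178d70a03806f8dc1b4360160651ae3502f81405e348680ce))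
(.leaf (nat_lit 4092) (nat_lit 0x1262604209303d2120f04292925e2b80dc3c8430e8974ae25a4b268d2b2540e494d28a4e4980d03aa4a450921232450e25883e0764844051ea4047e8f43823a0fa7711c8810dc8d91a0324643e4e6a3045c7343722c4548a11322426e3cd1192625488c3603a0d44f09ba201288790e21b0d08650ba144240c035a1041c831052080ce0fc4706c28837cff15b29281c5914b40a808e42000c67f8338643f836c9f9fa3f04fc311f63ea7c8f81ee1ae140309ec3d47a0f31e43c6780ef1dc0b8768ec0603ac334e89d43a67442e1ce39872cc41c90b671c5c05238a314df9c23826fc2d1bc3766e0db1b43646c0d71ac0ae6a8d405434c2ecd09a43446842b19e))))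
(.node (nat_lit 8183)
(.leaf (nat_lit 6138) (nat_lit 0x15d2c057c2905219057aae95704614e6b8af16b572aa0532b9144ad910ab54081ac5018e5662895514f1424415807d232490c815e55c2d0b62af13cab08821121caa84e170322a584d2a841e279531224e2a954c95353ea8d5029f130a744b29a5329e54b0a12922714a04012e51849a935222607196529e399471453f29d4721f91201f8471fd51ea312f2215161e0460621ba44d0b9364ce558fb1391247e13b0921144e87aa661e23d144a8650a584432695063713603c112a008f12c4fa9fc44a7c10a2207927a4f031c41276326210451244e82410d275104255392701369c13411f4da9b89726d1009a83f1324d0390d81c54c4999321042c698929915))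
(.node (nat_lit 10229)
(.leaf (nat_lit 8184) (nat_lit 0x67b385f0cd904a901941b87d8d04686217633566697c701536602e0cd0da18e989980f24443b10c32e18a6c98f96b35e16863aaf65ac9d9523d186ca1668c864c6dd92b065a4c94612d56463d914b21180c79810582346bcce91c37e6746031c634c618b31461c6a52ca1e6269645f0ce178c418713361ac2d84246174959831704621585ea335c2c10fa20b170300d88bf604320e31df16e9b9000285006557fa6c602bfc5b2fd522be894af92c0af0ada88166ac97b02a5e838d03af35e0bbd642bf162bb4650a85d6611172e95cc8bc58ae4414a9d712e05beb716d2d8158b592d0aa5a85ed67ad35a2b3c562cc428b2cf5068590b1d62ac22ea12855916))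
(.leaf (nat_lit 10230) (nat_lit 0x1cc31472cdc87b3947243f08322736a429c81b51ec8e5c738b474e3ce106c1ea714b4a8b54811130a1d55a9494d2ad1dc7c09238c3eeac13d2173847fc9e9c21da4fcbc0d23c25fc7512a4f6b288a10e4b8e28742d82b23b1c420b65ee18c132f1d06256125439eb21aa0b231ad5870b842d00b9c11c94bee01bfb7d3305e9bd0661c86546e28f6f4219bcb216ecdd06d09028ecc09d3734369d86cb7133c3793f9f148a479792451b0bd566289658b45b7b6c668da86a3682f00b1b31e76a4d91b1b521a8d854e35e6baa8469b5a6b0179ab1df42ad51a9a151a4d41a7a38698d2da21d968ed0da4b471a06306731c68ac4d71b424e4d0466b3e6786719d05c)))))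
(.node (nat_lit 18413)
(.node (nat_lit 14321)
(.leaf (nat_lit 12276) (nat_lit 0xa091826acb1e692c656a11699b6780b489aa184f8470999e132cf29df9a83e6f21e3bc450421097bc24309e509bc04ce84c951b12706497db1e52420893165244e20ea12865c268aba2277e805be9852602009095566a5d963234240a0c8e20c4f23c09e8962308fda73bd63ecc48d13943eee94ab0f280381019434a05710834c770edcbf20221a2f8d590f736c1c862ed76a7399bbb322e944891744b844885bb06d0d5db3baf2101ec8b3ac5dceadb72066bc91dd3ba872ae9c8338c62c360f9ba5204d01583a36a27e990352202d3951ba06981c081a50582d451239f5fad347fb017388d573a84394b9c7e1a11f4badceb97342c49cd1ca1f02c4c3359))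
(.node (nat_lit 16367)
(.leaf (nat_lit 14322) (nat_lit 0xc20fc46eef9f83ee740c90eabd230475ccf9ac63268cc0ba47d82b9f4adb6fef517f37f300c41a1958552d118a25b76ec68be22c62afacdb13450ecacbdbd6732df9ea8ac2fafa0f73c03767d5ac9ea6d23e0bb3e6314131f2ac54d4f89d5a6a2eef85043c36188391dabf7be8f990bdf2e4c8d5c15a2e2f74b938e7b41395e0a22daf61eb3c47a8c117420470aba9a52f72ced38b12fd484598b709e2c07414f0ee43eddcb23a86a8a4de920e5b2c60ab2e27a685d46140440239a026547eb88a9260776cc9560982aa5b0f23d06447a90e2986c2f1caab602a24c0a734b79c540a62a04c25613a2916e8a3cc9b74296660a337a286a5152382758a9ddeaa4))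
(.leaf (nat_lit 16368) (nat_lit 0xeb9da5b29cdc42de544ac57ea9875ecf5f136863af88e91be3a0d21d716e6d8f91c33ce7ea8212ac054d6bc0f612f392ef6011cc38c468e228a4e03a106a7237af30f71c050f004de3a6800b31e0b08370caa003f8798308dcbfe36aff54e1ba57edd9202f04c6c0ce0a6567ad11fd249358ec9d81b27c0c5d70baa488b84d62295ace5d6aad7352e6dfc99760cc3dec326354f60d31aa34afdd611a76d6c21fab6e742fd0d2100620430d12fe7607d5b8a5c334704d92cf32ab79d2b7a5b42d8cbbec472909a0b906e44a13bb9839cda9f81d37d459cc717d318a59a53493e0c69d9a9a3147b5b618e494b21f3a4c7e6328e51e630ee75f99d9568ccddeb71))))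
(.node (nat_lit 20459)
(.leaf (nat_lit 18414) (nat_lit 0x184bb55c9005ed40c816b1d1b3f34668992bbf9460cd9163655a28b9e2ad54587c923b93702c31feb81454cf9131e56bc8d9123db6f28a9ba1f66e4de60523a6a0bed061d5684481ff40f670f320316956ac29013ad80cee1ae22a72af21009805ba811f61984deb68ff1423f89ecfdaba71e7f606a413f4f99c614a524e557d21b71902de399e60a870f6bfe4943599c3355e0ce985bf181101d271795961c8f440449ebd9dbad17acf40f39e26b6fc9dd150536fdd2435c720cf1c03913cae0a023596c6fd165b633c43acf03678089f5033ea554bb8ef8d53d0c0920a2471490ceeaa24c87891e0ff3b8cb1593ce5e8ac8ecbaf74661df18d03b6f90ed3fb))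
(.node (nat_lit 22505)
(.leaf (nat_lit 20460) (nat_lit 0x1d5b88726a71e8bca74675d8e1027b08c189abc812b09e135a66e69585a565da8cd75b9b5c90217c2e6784e85daa826f8c056f3de5ecaadd41e85baa01e5bfa81c62d77ac558ee1e07bda68e74d9f3296309f9e4bd27b85c960ab97bce7e0637c73cde55d2c07f069d881b856ce61b20a659eee15b19a55060d5395e74cc8dfea87750bd54b35e6487bd44bf0748ef9f4b17764f19f0bb46e2f813fab472ef55dc0fa7dcc31fb4025086e994b9c4defa140a69517009749c76c0a5150b624b4adde20746ca5f96bb674aab91f7a58790ec579b5c608bcd8d3d667ee8d9d3fc805019463ee58adb9ffc0e79cd55f536c7a041924bb7794fb580b937f6ce9a4adc))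
(.leaf (nat_lit 22506) (nat_lit 0x1f33387cb035bbc0a7b8a79c53dd73e451fbaf96d4ee9c228d704e11ad24e6ad025d62e8664421941bc64cd19c324b))))))

noncomputable def cb : PT where
  N := nat_lit 520
  G := nat_lit 4
  W := nat_lit 11
  mask := nat_lit 2047
  sb := nat_lit 1
  sm := nat_lit 1
  tbl := cb_tbl

def cb_PE : List (List ℕ × ℕ) :=
  [([nat_lit 0, nat_lit 0, nat_lit 0, nat_lit 0, nat_lit 0, nat_lit 0, nat_lit 0], nat_lit 1),
  ([nat_lit 1, nat_lit 1], nat_lit 0),
  ([nat_lit 1, nat_lit 0, nat_lit 0, nat_lit 0, nat_lit 0, nat_lit 0, nat_lit 0, nat_lit 0, nat_lit 0, nat_lit 0, nat_lit 0, nat_lit 0, nat_lit 0, nat_lit 1, nat_lit 0, nat_lit 0, nat_lit 0, nat_lit 1, nat_lit 0, nat_lit 0, nat_lit 0, nat_lit 0, nat_lit 0, nat_lit 0], nat_lit 0),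
  ([nat_lit 2, nat_lit 2, nat_lit 2, nat_lit 2], nat_lit 0),
  ([nat_lit 1, nat_lit 2, nat_lit 2], nat_lit 1),
  ([nat_lit 1, nat_lit 0, nat_lit 0, nat_lit 0, nat_lit 0, nat_lit 0, nat_lit 0, nat_lit 2, nat_lit 0, nat_lit 1, nat_lit 0, nat_lit 0, nat_lit 0, nat_lit 0, nat_lit 0, nat_lit 0, nat_lit 2, nat_lit 2, nat_lit 2, nat_lit 0], nat_lit 0),
  ([nat_lit 1, nat_lit 0, nat_lit 2, nat_lit 0, nat_lit 0, nat_lit 0, nat_lit 0, nat_lit 0, nat_lit 0, nat_lit 1, nat_lit 0, nat_lit 2, nat_lit 2, nat_lit 2, nat_lit 0, nat_lit 0, nat_lit 0, nat_lit 0, nat_lit 0, nat_lit 0], nat_lit 1),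
  ([nat_lit 0, nat_lit 0, nat_lit 0, nat_lit 0, nat_lit 0, nat_lit 0, nat_lit 2, nat_lit 0, nat_lit 0, nat_lit 0, nat_lit 0, nat_lit 0, nat_lit 0, nat_lit 2, nat_lit 0, nat_lit 0, nat_lit 0, nat_lit 2, nat_lit 0, nat_lit 0, nat_lit 0, nat_lit 0, nat_lit 0, nat_lit 0], nat_lit 1),
  ([nat_lit 3, nat_lit 3], nat_lit 0),
  ([nat_lit 0, nat_lit 3, nat_lit 0, nat_lit 3], nat_lit 0),
  ([nat_lit 3, nat_lit 2, nat_lit 2, nat_lit 2, nat_lit 3, nat_lit 2, nat_lit 3, nat_lit 1], nat_lit 1)]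

instance cb_nz : NeZero cb.N := ⟨by decide⟩

theorem cb_r0 : cb.relsOK (nat_lit 2) cb_PE (nat_lit 0) (nat_lit 520) = true := by decide +kernel
theorem cb_rng : cb.rng 0 (nat_lit 520) = true := by decide +kernel
theorem cb_rels : ∀ i < cb.N, ∀ p ∈ cb_PE, cb.tr p.1 i = i ∧ cb.tv p.1 i % nat_lit 2 = p.2 :=
  rng_all (PT.relsOK_sound _ _ cb_r0)
def cb_iv : List ℕ := [nat_lit 0, nat_lit 1, nat_lit 3, nat_lit 8]
def cb_E : List ℕ := [nat_lit 0, nat_lit 1]

theorem cb_cov : HasCov P 4 (Multiplicative (ZMod 2)) Q fun i => Multiplicative.ofAdd ((gd 0 cb_E i : ℕ) : ZMod 2) :=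
  PT.hasCov (T := cb) (m := nat_lit 2) (cb.rng_sound cb_rng le_rfl) (iv := cb_iv) (by decide +kernel) (by decide +kernel) cb_rels
    (subL_sound (by decide +kernel)) (by decide +kernel)

universe u
variable {G0 : Type u} [Group G0] [Finite G0] {Ω : Type*} [MulAction G0 Ω] {g : ℕ → G0} {pt : ℕ → Ω}
  (h : Md T 29120 g pt)
include h

theorem htb : Lc (nat_lit 15) g = ⊤ ∧ IsBase G0 T.N pt [nat_lit 1, nat_lit 0, nat_lit 2] :=
  base_of_chain h.am h.inj hch (h.card.trans_le (by decide +kernel))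
theorem hchk : ∀ w, chk w = true → ev g w = 1 := h.am.chk (htb h).2
theorem sz8l0_le : Nat.card (Lc (nat_lit 15) g) ≤ 65 * Nat.card (Lc (nat_lit 7) g) :=
  card_step' (hchk h) sz8l0_ok sz8l0_tab sz8l0_hP ⟨rfl, rfl, rfl⟩
theorem sz8l1_le : Nat.card (Lc (nat_lit 7) g) ≤ 8 * Nat.card (Lc (nat_lit 3) g) :=
  card_step' (hchk h) sz8l1_ok sz8l1_tab sz8l1_hP ⟨rfl, rfl, rfl⟩
theorem sz8l2_le : Nat.card (Lc (nat_lit 3) g) ≤ 8 * Nat.card (Lc (nat_lit 1) g) :=
  card_step' (hchk h) sz8l2_ok sz8l2_tab sz8l2_hP ⟨rfl, rfl, rfl⟩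
theorem sz8l3_le : Nat.card (Lc (nat_lit 1) g) ≤ 7 * Nat.card (Lc (nat_lit 0) g) :=
  card_step' (hchk h) sz8l3_ok sz8l3_tab sz8l3_hP ⟨rfl, rfl, rfl⟩
theorem up4 : Nat.card (Lc (nat_lit 0) g) ≤ 1 := (fun _ => card_Lc_zero g) h
theorem up3 : Nat.card (Lc (nat_lit 1) g) ≤ 7 := chain_up (n := 1) (sz8l3_le h) (up4 h)
theorem up2 : Nat.card (Lc (nat_lit 3) g) ≤ 56 := chain_up (n := 7) (sz8l2_le h) (up3 h)
theorem up1 : Nat.card (Lc (nat_lit 7) g) ≤ 448 := chain_up (n := 56) (sz8l1_le h) (up2 h)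
theorem up0 : Nat.card (Lc (nat_lit 15) g) ≤ 29120 := chain_up (n := 448) (sz8l0_le h) (up1 h)
theorem lo0 : 29120 ≤ Nat.card (Lc (nat_lit 15) g) := by rw [(htb h).1, Subgroup.card_top, h.card]
theorem lo1 : 448 ≤ Nat.card (Lc (nat_lit 7) g) := chain_down (N := 65) (sz8l0_le h) (lo0 h) (by norm_num)
theorem rel0 : Rel g sz8l0_P (nat_lit 7) (nat_lit 15) :=
  rel_step' (N := 65) (hchk h) sz8l0_ok sz8l0_tab sz8l0_hP ⟨rfl, rfl, rfl⟩ rfl (chain_eq (up1 h) (lo0 h))
theorem lo2 : 56 ≤ Nat.card (Lc (nat_lit 3) g) := chain_down (N := 8) (sz8l1_le h) (lo1 h) (by norm_num)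
theorem rel1 : Rel g sz8l1_P (nat_lit 3) (nat_lit 7) :=
  rel_step' (N := 8) (hchk h) sz8l1_ok sz8l1_tab sz8l1_hP ⟨rfl, rfl, rfl⟩ rfl (chain_eq (up2 h) (lo1 h))
theorem lo3 : 7 ≤ Nat.card (Lc (nat_lit 1) g) := chain_down (N := 8) (sz8l2_le h) (lo2 h) (by norm_num)
theorem rel2 : Rel g sz8l2_P (nat_lit 1) (nat_lit 3) :=
  rel_step' (N := 8) (hchk h) sz8l2_ok sz8l2_tab sz8l2_hP ⟨rfl, rfl, rfl⟩ rfl (chain_eq (up3 h) (lo2 h))
theorem lo4 : 1 ≤ Nat.card (Lc (nat_lit 0) g) := chain_down (N := 7) (sz8l3_le h) (lo3 h) (by norm_num)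
theorem rel3 : Rel g sz8l3_P (nat_lit 0) (nat_lit 1) :=
  rel_step' (N := 7) (hchk h) sz8l3_ok sz8l3_tab sz8l3_hP ⟨rfl, rfl, rfl⟩ rfl (chain_eq (up4 h) (lo3 h))
theorem relP : Rel g P 0 (2 ^ 4 - 1) := ((((rel3 h).trans (rel2 h)).trans (rel1 h)).trans (rel0 h))
theorem hP : ∀ w ∈ P, ev g w = 1 := fun w hw => hchk h w (allL_sound hP0 w hw)
theorem hQ : ∀ q ∈ Q, ev g (q.1 ++ q.2) = ev g (q.2 ++ q.1) := pairs_sound h.am (htb h).2 hQ0
theorem pb2 : PB G0 2 2 :=
  h.pcpb (htb h).2 (e := 3) (by norm_num) sz8p2_ext sz8p2_1 sz8p2_2 sz8p2_hE sz8p2_hc (by decide +kernel)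
theorem bound (Γ : Type u) [Group Γ] [Finite Γ] (σ : Γ →* G0) (hσ : IsStemExtension σ) :
    Nat.card σ.ker ≤ 4 :=
  card_ker_dvd (B := 13) [(2, 2)] h.card (by decide +kernel) (by decide +kernel) (by norm_num) (by
    simp only [List.mem_cons, List.not_mem_nil, or_false, forall_eq_or_imp, forall_eq]
    exact ⟨pb2 h, by decide⟩) Γ σ hσ

theorem mult : HasSchurMultiplier G0 (Multiplicative (ZMod 2 × ZMod 2)) :=
  hasSchur_two (GG := 4) (relP h) (htb h).1 h.one (hP h) (hQ h) ca_cov cb_cov (by decide +kernel) (bound h)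

end Cfsg.Agent.H28.Sz8
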