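import Cfsg.Agent.H15.Words
set_option autoImplicit false
set_option maxRecDepth 100000

namespace Cfsg.Agent.H28.UFc0
open Cfsg.Agent.H15 Cfsg.Agent.H14

def tb : Tb := (.node (nat_lit 4) (.leaf (nat_lit 0x4329104f0f0f0f0f0f0f0f0f0f0f0032181f0f0f0f0f0f0f003f0f0f0f00b10a0000611f0f0076725021121110000f0b00000000000000000000000)) (.node (nat_lit 8) (.leaf (nat_lit 0x62171f00857f0f0f0013727f0f0f00a21f0f00126f0f028f0f0f036f0f0035481f0f0f0f0f0f0f01104f0f0f00b4391f0f0f0f0f0f0f0f005f0f0f0)) (.leaf (nat_lit 0xb48f008f0f0f0f0f0f0f0f029f0f00a37f0090738f0f0f016f0f048f0f0))))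
def wt : Wt := (.node (nat_lit 9) (.node (nat_lit 4) (.node (nat_lit 2) (.node (nat_lit 1) (.leaf [nat_lit 2, nat_lit 11, nat_lit 9, nat_lit 11]) (.leaf [nat_lit 9, nat_lit 11, nat_lit 2, nat_lit 11])) (.node (nat_lit 3) (.leaf [nat_lit 0, nat_lit 11, nat_lit 9, nat_lit 1, nat_lit 2, nat_lit 11]) (.leaf [nat_lit 1, nat_lit 2, nat_lit 11, nat_lit 0, nat_lit 11, nat_lit 9]))) (.node (nat_lit 6) (.node (nat_lit 5) (.leaf [nat_lit 4, nat_lit 11, nat_lit 3, nat_lit 4, nat_lit 11, nat_lit 3, nat_lit 4, nat_lit 11, nat_lit 3]) (.leaf [nat_lit 4, nat_lit 4])) (.node (nat_lit 7) (.leaf [nat_lit 9, nat_lit 10, nat_lit 2, nat_lit 9, nat_lit 10]) (.node (nat_lit 8) (.leaf [nat_lit 2, nat_lit 9, nat_lit 10, nat_lit 9, nat_lit 10]) (.leaf [nat_lit 3, nat_lit 5, nat_lit 0, nat_lit 6]))))) (.node (nat_lit 13) (.node (nat_lit 11) (.node (nat_lit 10) (.leaf [nat_lit 4, nat_lit 5, nat_lit 1, nat_lit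 6]) (.leaf [nat_lit 5, nat_lit 10, nat_lit 6, nat_lit 10])) (.node (nat_lit 12) (.leaf [nat_lit 6, nat_lit 5]) (.leaf [nat_lit 2, nat_lit 5, nat_lit 2, nat_lit 6]))) (.node (nat_lit 15) (.node (nat_lit 14) (.leaf [nat_lit 2, nat_lit 11, nat_lit 10, nat_lit 5, nat_lit 11, nat_lit 2, nat_lit 9, nat_lit 6, nat_lit 10, nat_lit 11, nat_lit 2, nat_lit 11, nat_lit 10, nat_lit 5, nat_lit 11, nat_lit 2, nat_lit 9, nat_lit 6, nat_lit 10, nat_lit 11]) (.leaf [nat_lit 5, nat_lit 9, nat_lit 5, nat_lit 9])) (.node (nat_lit 16) (.leaf [nat_lit 5, nat_lit 5, nat_lit 5]) (.node (nat_lit 17) (.leaf [nat_lit 3, nat_lit 3]) (.leaf [nat_lit 11, nat_lit 11]))))))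
noncomputable def P : TCP where
  lk := tlk tb (nat_lit 3) (nat_lit 15) (nat_lit 8) (nat_lit 255)
  inv := invT (nat_lit 823350089735190880320) (nat_lit 12)
  wt := wt.get
  gens := [nat_lit 0, nat_lit 1, nat_lit 2, nat_lit 3, nat_lit 4, nat_lit 5, nat_lit 6, nat_lit 7, nat_lit 8, nat_lit 9, nat_lit 10, nat_lit 11]
  N := nat_lit 10
  n := nat_lit 1
  eps := nat_lit 12
  VM := nat_lit 15
  Wv := nat_lit 4
  MAXB := nat_lit 240
  JM := nat_lit 63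
  Wj := nat_lit 6
  Hm := nat_lit 2047
def ls : List Nat := [nat_lit 0, nat_lit 1, nat_lit 2, nat_lit 3, nat_lit 4, nat_lit 5, nat_lit 6, nat_lit 7, nat_lit 8, nat_lit 9, nat_lit 10, nat_lit 11, nat_lit 12]
noncomputable def ap : Nat → Nat → Nat := tlk tb (nat_lit 3) (nat_lit 15) (nat_lit 8) (nat_lit 15)
def bases : List (List Nat × Nat) := [([5], 3), ([0, 5], 3), ([1, 5], 3), ([0, 1], 2), ([3, 5, 0, 6], 1), ([4, 5, 1, 6], 1), ([0, 4, 0, 4, 2], 1), ([2, 5, 2, 6], 1), ([2, 0], 2), ([2, 1], 2), ([7], 3), ([7, 5, 8, 6], 1), ([7, 0, 8, 1], 1), ([7, 1, 8, 0, 1, 2], 1), ([9, 5, 9, 5], 1), ([9, 0], 2), ([9, 1], 2), ([9, 7, 9, 8], 1), ([10, 5, 10, 6], 1), ([10, 0, 10, 0], 1), ([10, 7, 10, 7], 1), ([9, 10, 9, 10, 2], 1), ([11, 2, 11, 9], 1), ([11, 7, 11, 7], 1), ([11, 0, 11, 9, 1, 2], 1), ([3, 4, 11], 3), ([10, 11], 3), ([11, 2, 9, 6, 10, 11, 2, 11, 10, 5], 2)]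
theorem c0 : RowsGood P ls 0 10 :=
  rowsGood_of (Js := [nat_lit 0x700080029c2082082082082082, nat_lit 0x10f1800400127001180002800c7060381180002800c506000038014b180000380149, nat_lit 0x179f0010004941, nat_lit 0xb19700140043c1, nat_lit 0x1718b0014004941, nat_lit 0x5e7c0040010f001800014008340, nat_lit 0x10692, nat_lit 0x60038c1400594, nat_lit 0x100661c, nat_lit 0x60018000000b804df]) (by decide +kernel)
theorem f0 : RowsGood P ls 0 10 :=
  c0
theorem good : RowsGood P (List.range (P.eps + 1)) 0 P.N :=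
  (f0 : RowsGood P ls 0 10)
theorem idx {G : Type*} [Group G] {E : ℕ → G} {inv : ℕ → ℕ} (hi : ∀ l, E (inv l) = (E l)⁻¹)
    {B : List (List ℕ × ℕ)} (hB : ∀ p ∈ B, lprod E p.1 ^ p.2 = 1) (σ : List (List ℕ))
    {hs ks : List (List ℕ)} (hc : certOk P wt bases inv B σ hs ks = true) :
    (gp E hs).relIndex (gp E ks) ≠ 0 ∧ (gp E hs).relIndex (gp E ks) ≤ 1 :=
  tc_gp hi hB rfl (fun _ h => invT_of_le h) good σ hc

end Cfsg.Agent.H28.UFc0

namespace Cfsg.Agent.H28.UFc1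
open Cfsg.Agent.H15 Cfsg.Agent.H14

def tb : Tb := (.node (nat_lit 28) (.node (nat_lit 12) (.node (nat_lit 4) (.leaf (nat_lit 0x830be0004f81f00e17c0f80440017c0f81f03e00031039041c011284417e07c011600c00902f81f0005840d8000003041f801040380a10a00820881082000007c0e00000000000000000000000000000000)) (.node (nat_lit 8) (.leaf (nat_lit 0xc207e002101032be07c0f80007e07c0f804386600a103f03e000110df03e008801ff03e00c6f8021801944d03f03e0185306508a70cd083f0082fc018a02c81903f81f03e07c0f81f03e07c000bf03e07c0)) (.leaf (nat_lit 0x32b00fc01a4433e07c0084033e010a196040050051038049108f10e22be000108e634a588a01a02c05908f8002011949f81f03e07c0f81f0238039f8002863dc6013f03e07c0f8033c237c0190423e02a0)))) (.node (nat_lit 20) (.node (nat_lit 16) (.leaf (nat_lit 0xa31ac41f1094323e07c000c223e039221ff006900521bf03e0013f81f03e000d20bf03e07c018ff00008cac83f03e07c0f8032c4280e295f03e000a12001485fc0f81f00a5fc0f8002c617c0f81f03e0087))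 (.leaf (nat_lit 0x1453be0014f81f03e07c0f81f03e07c0f81f03e0005223721dc88b541f03e0011541f01a7a12f81f00050c2f81f0001191f81f03e0012f81f00e8fc0f8000485fc0f81f03e07c029a30fe07c0f804400584d))) (.node (nat_lit 24) (.leaf (nat_lit 0x1495be07c0f81f03e07c0f80063e07c0f81f03e000b42bf03e0017f81f03e07c0f81f03e07c0f81f00049d4f8005be07c0f81f03e07c0f81f03e07c0f8002cc9fc0f81f000afc0f81f03e07c0f81f03e07c0)) (.leaf (nat_lit 0x12d6be07c0f81f03e07c0039f03e07c0f81f03e0002633f03e07c0037f03e07c0f81f03e07c0f81f0005ad8f81f03e07c0f81f03e07c0f81f000d7c0f800154bfc0033f03e07c0f81f03e07c0f81f03e07c0))))) (.node (nat_lit 44) (.node (nat_lit 36) (.node (nat_lit 32) (.leaf (nat_lit 0x1317be0020f81f03e07c0f81f03e07c0f81f03e000b83bf000efc003ff03e07c0f81f03e03b97e1f00053dcf8007be0312f81f01897c0f81f03e07c0610019cdfc0f80077e07c0f81f03e07c0f81f03e07c0)) (.leaf (nat_lit 0x14527e07c0f81f03e07c0f800dfe07c0f81f03e0002243f00657c02c5f03e0024f81f03e07c0f81f00058c7f81f03e07c0f81f03e07c0f81f00117c0f8002e4faddf80931697c0f80b4be07c0f80177e02c8)))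 (.node (nat_lit 40) (.leaf (nat_lit 0x1289be0028f81f03e07c0f81f03e07c0f81f03e000b3cbf03e07c004ff03e07c0f81f03e07c0f81f00051a4f8009be07c0f81f03e07c0f81f03e07c0f80018b17c0f80097e07c0f81f03e07c0f81f03e07c0)) (.leaf (nat_lit 0x16cabe07c0f81f03e07c0f81f03e07c0059f03e00055d3f0015fc0f81f03e07c0f81f03e07c0f81f00052a8f81f03e07c0f81f03e002af81f03e07c0f8002d33fc0f800a7e07c0f81f03e07c0f81f03e07c0)))) (.node (nat_lit 52) (.node (nat_lit 48) (.leaf (nat_lit 0x150b907830f81f03e07c0f81f03e07c0f81f03e00067dbf03e002ff81f03e07c0f81f03e07c0f81f0004bacf81f03e07c0f81f00177c0f81f03e07c0f80009b5fc0f81f0016fc0f81f03e07c0f81f03e07c0)) (.leaf (nat_lit 0x153cbe0034065f03e07c0f81f03e07c09e7f03e0006961f03e00335edf03e07c0061f03e07c0f81f0004cb04e063fe0030f81f03e07c0f81f03e07c0f8002e37d4905ff0018fc0f800c81b7c0f81f020f7c0))) (.node (nat_lit 56) (.leaf (nat_lit 0xa68fe07c00eb3cfe07c0f81f03e07c0f81f03e00059614d7e07c0565f03e0030f81f03e04b5f81f0002949f81f005bfc0f81f0004fc0f81f03e07c0f8002e99fc0067f025a7c0f81f03e07c0f81f03e07c0))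 (.leaf (nat_lit 0x949f81f03e07c0f81f03e07c0f81f01af009f8002c61205f81f03e07c0f81f03e07c0f81f03e07c0))))))
def wt : Wt := (.node (nat_lit 28) (.node (nat_lit 14) (.node (nat_lit 7) (.node (nat_lit 3) (.node (nat_lit 1) (.leaf [nat_lit 2, nat_lit 11, nat_lit 9, nat_lit 11]) (.node (nat_lit 2) (.leaf [nat_lit 9, nat_lit 11, nat_lit 2, nat_lit 11]) (.leaf [nat_lit 7, nat_lit 11, nat_lit 7, nat_lit 11]))) (.node (nat_lit 5) (.node (nat_lit 4) (.leaf [nat_lit 0, nat_lit 11, nat_lit 9, nat_lit 1, nat_lit 2, nat_lit 11]) (.leaf [nat_lit 1, nat_lit 2, nat_lit 11, nat_lit 0, nat_lit 11, nat_lit 9])) (.node (nat_lit 6) (.leaf [nat_lit 4, nat_lit 11, nat_lit 3, nat_lit 4, nat_lit 11, nat_lit 3, nat_lit 4, nat_lit 11, nat_lit 3]) (.leaf [nat_lit 4, nat_lit 4])))) (.node (nat_lit 10) (.node (nat_lit 8) (.leaf [nat_lit 0, nat_lit 4, nat_lit 2, nat_lit 0, nat_lit 4]) (.node (nat_lit 9) (.leaf [nat_lit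 2, nat_lit 4, nat_lit 0, nat_lit 4, nat_lit 0]) (.leaf [nat_lit 0, nat_lit 10, nat_lit 0, nat_lit 10]))) (.node (nat_lit 12) (.node (nat_lit 11) (.leaf [nat_lit 9, nat_lit 10, nat_lit 2, nat_lit 9, nat_lit 10]) (.leaf [nat_lit 2, nat_lit 9, nat_lit 10, nat_lit 9, nat_lit 10])) (.node (nat_lit 13) (.leaf [nat_lit 5, nat_lit 10, nat_lit 6, nat_lit 10]) (.leaf [nat_lit 6, nat_lit 5]))))) (.node (nat_lit 21) (.node (nat_lit 17) (.node (nat_lit 15) (.leaf [nat_lit 3, nat_lit 5, nat_lit 0, nat_lit 6]) (.node (nat_lit 16) (.leaf [nat_lit 2, nat_lit 5, nat_lit 2, nat_lit 6]) (.leaf [nat_lit 5, nat_lit 5, nat_lit 5]))) (.node (nat_lit 19) (.node (nat_lit 18) (.leaf [nat_lit 2, nat_lit 6, nat_lit 2, nat_lit 5]) (.leaf [nat_lit 8, nat_lit 6, nat_lit 7, nat_lit 5])) (.node (nat_lit 20) (.leaf [nat_lit 9, nat_lit 5, nat_lit 9, nat_lit 5]) (.leaf [nat_lit 9, nat_lit 9])))) (.node (nat_lit 24) (.node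 (nat_lit 22) (.leaf [nat_lit 6, nat_lit 3, nat_lit 5, nat_lit 0]) (.node (nat_lit 23) (.leaf [nat_lit 5, nat_lit 6]) (.leaf [nat_lit 2, nat_lit 0, nat_lit 2, nat_lit 0]))) (.node (nat_lit 26) (.node (nat_lit 25) (.leaf [nat_lit 0, nat_lit 5, nat_lit 0, nat_lit 5, nat_lit 0, nat_lit 5]) (.leaf [nat_lit 0, nat_lit 0])) (.node (nat_lit 27) (.leaf [nat_lit 3, nat_lit 3]) (.leaf [nat_lit 9, nat_lit 0, nat_lit 9, nat_lit 0])))))) (.node (nat_lit 42) (.node (nat_lit 35) (.node (nat_lit 31) (.node (nat_lit 29) (.leaf [nat_lit 6, nat_lit 4, nat_lit 5, nat_lit 1]) (.node (nat_lit 30) (.leaf [nat_lit 7, nat_lit 0, nat_lit 8, nat_lit 1]) (.leaf [nat_lit 8, nat_lit 5, nat_lit 7, nat_lit 6]))) (.node (nat_lit 33) (.node (nat_lit 32) (.leaf [nat_lit 7, nat_lit 8]) (.leaf [nat_lit 9, nat_lit 7, nat_lit 9, nat_lit 8])) (.node (nat_lit 34) (.leaf [nat_lit 1, nat_lit 5, nat_lit 1, nat_lit 5, nat_lit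 1, nat_lit 5]) (.leaf [nat_lit 1, nat_lit 1])))) (.node (nat_lit 38) (.node (nat_lit 36) (.leaf [nat_lit 4, nat_lit 5, nat_lit 1, nat_lit 6]) (.node (nat_lit 37) (.leaf [nat_lit 10, nat_lit 6, nat_lit 10, nat_lit 5]) (.leaf [nat_lit 10, nat_lit 10]))) (.node (nat_lit 40) (.node (nat_lit 39) (.leaf [nat_lit 0, nat_lit 1, nat_lit 0, nat_lit 1]) (.leaf [nat_lit 2, nat_lit 1, nat_lit 2, nat_lit 1])) (.node (nat_lit 41) (.leaf [nat_lit 7, nat_lit 1, nat_lit 8, nat_lit 0, nat_lit 1, nat_lit 2]) (.leaf [nat_lit 8, nat_lit 8, nat_lit 8]))))) (.node (nat_lit 49) (.node (nat_lit 45) (.node (nat_lit 43) (.leaf [nat_lit 5, nat_lit 0, nat_lit 6, nat_lit 3]) (.node (nat_lit 44) (.leaf [nat_lit 11, nat_lit 9, nat_lit 11, nat_lit 2]) (.leaf [nat_lit 11, nat_lit 11]))) (.node (nat_lit 47) (.node (nat_lit 46) (.leaf [nat_lit 11, nat_lit 10, nat_lit 5, nat_lit 11, nat_lit 2, nat_lit 9, nat_lit 6, nat_lit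 10, nat_lit 11, nat_lit 9, nat_lit 11, nat_lit 10, nat_lit 5, nat_lit 11, nat_lit 2, nat_lit 9, nat_lit 6, nat_lit 10, nat_lit 11, nat_lit 9]) (.leaf [nat_lit 8, nat_lit 11, nat_lit 8, nat_lit 11])) (.node (nat_lit 48) (.leaf [nat_lit 10, nat_lit 5, nat_lit 11, nat_lit 2, nat_lit 9, nat_lit 6, nat_lit 10, nat_lit 11, nat_lit 9, nat_lit 11, nat_lit 10, nat_lit 5, nat_lit 11, nat_lit 2, nat_lit 9, nat_lit 6, nat_lit 10, nat_lit 11, nat_lit 9, nat_lit 11]) (.leaf [nat_lit 9, nat_lit 10, nat_lit 9, nat_lit 10, nat_lit 2])))) (.node (nat_lit 52) (.node (nat_lit 50) (.leaf [nat_lit 2, nat_lit 11, nat_lit 0, nat_lit 11, nat_lit 9, nat_lit 1]) (.node (nat_lit 51) (.leaf [nat_lit 2, nat_lit 2]) (.leaf [nat_lit 11, nat_lit 2, nat_lit 11, nat_lit 9]))) (.node (nat_lit 54) (.node (nat_lit 53) (.leaf [nat_lit 1, nat_lit 9, nat_lit 11, nat_lit 0, nat_lit 11, nat_lit 2]) (.leaf [nat_lit 9, nat_lit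 11, nat_lit 10, nat_lit 5, nat_lit 11, nat_lit 2, nat_lit 9, nat_lit 6, nat_lit 10, nat_lit 11, nat_lit 9, nat_lit 11, nat_lit 10, nat_lit 5, nat_lit 11, nat_lit 2, nat_lit 9, nat_lit 6, nat_lit 10, nat_lit 11])) (.node (nat_lit 55) (.leaf [nat_lit 9, nat_lit 10, nat_lit 9, nat_lit 2, nat_lit 10]) (.leaf [nat_lit 10, nat_lit 9, nat_lit 2, nat_lit 10, nat_lit 9])))))))
noncomputable def P : TCP where
  lk := tlk tb (nat_lit 3) (nat_lit 15) (nat_lit 11) (nat_lit 2047)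
  inv := invT (nat_lit 823350089735190880320) (nat_lit 12)
  wt := wt.get
  gens := [nat_lit 0, nat_lit 1, nat_lit 2, nat_lit 3, nat_lit 4, nat_lit 5, nat_lit 6, nat_lit 7, nat_lit 8, nat_lit 9, nat_lit 10, nat_lit 11]
  N := nat_lit 58
  n := nat_lit 1
  eps := nat_lit 12
  VM := nat_lit 63
  Wv := nat_lit 6
  MAXB := nat_lit 1984
  JM := nat_lit 127
  Wj := nat_lit 7
  Hm := nat_lit 2047
def ls : List Nat := [nat_lit 0, nat_lit 1, nat_lit 2, nat_lit 3, nat_lit 4, nat_lit 5, nat_lit 6, nat_lit 7, nat_lit 8, nat_lit 9, nat_lit 10, nat_lit 11, nat_lit 12]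
noncomputable def ap : Nat → Nat → Nat := tlk tb (nat_lit 3) (nat_lit 15) (nat_lit 11) (nat_lit 63)
def bases : List (List Nat × Nat) := [([5], 3), ([0, 5], 3), ([1, 5], 3), ([0, 1], 2), ([3, 5, 0, 6], 1), ([4, 5, 1, 6], 1), ([0, 4, 0, 4, 2], 1), ([2, 5, 2, 6], 1), ([2, 0], 2), ([2, 1], 2), ([7], 3), ([7, 5, 8, 6], 1), ([7, 0, 8, 1], 1), ([7, 1, 8, 0, 1, 2], 1), ([9, 5, 9, 5], 1), ([9, 0], 2), ([9, 1], 2), ([9, 7, 9, 8], 1), ([10, 5, 10, 6], 1), ([10, 0, 10, 0], 1), ([10, 7, 10, 7], 1), ([9, 10, 9, 10, 2], 1), ([11, 2, 11, 9], 1), ([11, 7, 11, 7], 1), ([11, 0, 11, 9, 1, 2], 1), ([3, 4, 11], 3), ([10, 11], 3), ([11, 2, 9, 6, 10, 11, 9, 11, 10, 5], 2)]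
theorem c0 : RowsGood P ls 0 58 :=
  rowsGood_of (Js := [nat_lit 0x7000a002ba0810204081020408102, nat_lit 0x140b060016005ba000830000600187060000c0031204090020c0001800614060000400146830000080028b, nat_lit 0x9517800a0023902055406004022, nat_lit 0x359800, nat_lit 0x4858d9080080012c81, nat_lit 0x2546e00280084624084798000300002c0103ca12, nat_lit 0x183c04d16, nat_lit 0x815802436, nat_lit 0x7e4400240067c09e3881116, nat_lit 0x21a901, nat_lit 0x3f231a001a0049f7272a50012107098081, nat_lit 0x25918d000d0024f9ce970140c8080, nat_lit 0x5801234, nat_lit 0x560c002400725f3c0328036, nat_lit 0x201246, nat_lit 0x26193000a0025db93150048e1316, nat_lit 0x547948050, nat_lit 0x6009a, nat_lit 0x3f22001200373aa66400704000200110a6, nat_lit 0x1, nat_lit 0x1, nat_lit 0x1, nat_lit 0x1, nat_lit 0x1, nat_lit 0x1, nat_lit 0x1, nat_lit 0x1, nat_lit 0x1, nat_lit 0x1, nat_lit 0xb040014004b582000a0023ec1000500137, nat_lit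 0x1d00220007003ed, nat_lit 0x1, nat_lit 0x208c8b92a0800a0014d8000000008001400a635878236, nat_lit 0x1, nat_lit 0x168301, nat_lit 0x1, nat_lit 0x1, nat_lit 0x1, nat_lit 0x1, nat_lit 0x1, nat_lit 0x1, nat_lit 0x1, nat_lit 0x1, nat_lit 0x1, nat_lit 0x1, nat_lit 0x1, nat_lit 0x1, nat_lit 0x20010281, nat_lit 0x36f58004800d88002040c8, nat_lit 0x37c001800776f00, nat_lit 0x5600, nat_lit 0x4004, nat_lit 0x200000080001500aef, nat_lit 0x2700, nat_lit 0xa005e6200010008ac026, nat_lit 0x2670, nat_lit 0x80005002e1, nat_lit 0x3300]) (by decide +kernel)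
theorem f0 : RowsGood P ls 0 58 :=
  c0
theorem good : RowsGood P (List.range (P.eps + 1)) 0 P.N :=
  (f0 : RowsGood P ls 0 58)
theorem idx {G : Type*} [Group G] {E : ℕ → G} {inv : ℕ → ℕ} (hi : ∀ l, E (inv l) = (E l)⁻¹)
    {B : List (List ℕ × ℕ)} (hB : ∀ p ∈ B, lprod E p.1 ^ p.2 = 1) (σ : List (List ℕ))
    {hs ks : List (List ℕ)} (hc : certOk P wt bases inv B σ hs ks = true) :
    (gp E hs).relIndex (gp E ks) ≠ 0 ∧ (gp E hs).relIndex (gp E ks) ≤ 1 :=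
  tc_gp hi hB rfl (fun _ h => invT_of_le h) good σ hc

end Cfsg.Agent.H28.UFc1

namespace Cfsg.Agent.H28.UFc2
open Cfsg.Agent.H15 Cfsg.Agent.H14

def tb : Tb := (.node (nat_lit 32) (.node (nat_lit 16) (.node (nat_lit 8) (.node (nat_lit 4) (.leaf (nat_lit 0x2060b502004fc07e03f01f80fc07e00005f80fc07e03f00003080e807f01f80fc07e03f01f803cb800c003f80fc07e00016080d80000000c081fc07e0000e51608280081021010408000001f80dc0000000000000000000000000000000000000)) (.leaf (nat_lit 0x30407f0001f0047e03f01f8030a0007f01f800839e68f3000a080fe03f000010837e03f0010800dfe03f00186fc07e00006284d00fe03f01f80fc07e03f00799040fe03f01f80fc0002c406883fc07e03f01f80fc07e03f01f80002fe03f01f80))) (.node (nat_lit 12) (.leaf (nat_lit 0x48c2bf0013c01c802bf01f802050c27f01f80657fe03f00005144fe00018137005fe03f000091c5fe03f00c30fc07e00016208fc00020040289fc07e0071600afc07e01663f80fc0002830f786004801c437f80fc0066c10df80fc00823f01f80))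 (.leaf (nat_lit 0x5923bf0000efc07e03f01f80fc0264bf01f800087e03f00005206de3401ff80fc07e03f0000d011fe03f01f80fc07e0001438cc4088f8018225fc07e0024600efc07e03f01f80fc0002c615f800050035b5bf80fc07e03f01f80fc000f3f01f80)))) (.node (nat_lit 24) (.node (nat_lit 20) (.leaf (nat_lit 0x51a4bf000140091c4ff01f800117e03f01f80fc07e03f00006308d841470013410fe03f01f80008fe03f00921fc07e00012590b878073f01f80fc07e00024a0ffc07e03f01f80fc00008a1f78f08efe00023f80fc07e01243f80fc0003ff01f80)) (.leaf (nat_lit 0x1e53303f80fc07e03f01f803810063f00814fc0007bf0000940a9a53f01f8000afe03f00481fc07e03f01f80fc07e0000a7942c3fe03f00016fc07e00029f80fc07e03f01f80fc0002ce27901009fe00e0ff80fc01c0402a89944b9a50032017))) (.node (nat_lit 28) (.leaf (nat_lit 0x2861ad0cb313ca0623f01f800030423f01f8010dfe03f0000540cfe03f01f80fc07e03f00019fc07e03f01f80383fe00002794cc0fe03f01f80fc07e00e0a01a40a7e03f0001408f001502ff80fc07e03f01f80fc0005ff01f80fc07e03f00707))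 (.leaf (nat_lit 0x5861ff00007090867ff01f80fc07e03f01f803c9fe03f0000140bfe03f01f80fc07e03f00803fc07e03f01f80fc0026400469cc070243f0078efc07e01149f80fc07e00039f80fc0002cc2368d008fe02a49f80fc07e01d59f80fc00077f01f80))))) (.node (nat_lit 48) (.node (nat_lit 40) (.node (nat_lit 36) (.leaf (nat_lit 0x2923bf01f80fc00093f01f80fc00237f01f80fc07e03f00006389fe03f00a0ffc07e03f01f80fc07e03f01f80fc07e00016320b08808013e892fc07e01121f80fc07e03f01f80fc0002851358d0108024071f80fc012e406ff80fc07e03f01f80)) (.leaf (nat_lit 0x51a9ab21f80fc07e03f01f80fc000a3f01f80fc07e03f0000b312d64804a027fc07e03f01f80fc07e03f002befc07e0000c5a4b4e809857e18dfc07e0123a024fc07e03f01f80fc00024a47801fc07e03f01f80fc0009503bf80fc03aaff01f80))) (.node (nat_lit 44) (.leaf (nat_lit 0x4a2abf01f80fc07e03f01f800163c73f01f807927e03f00002414d47684ff80015fe03f01f80fc07e03f01f80fc07e000167a8a4e00a3f01f80fc07e03f01f80fc07e00055f80fc00014e4f511014fe03f01f80fc0009e66df80fc07e03f01f80))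 (.leaf (nat_lit 0x2aabac36e3f01900c3f01f80fc030c7f01f80685fe03f0000b516d623f00fbb697fe03f00d31017fe03f00d0afc07e000149aca8480b8059f80fc07e03f01f80fc07e03f01f80fc000192574a0fc000b7f01f80fc07e00057f80fc03897f01f80)))) (.node (nat_lit 56) (.node (nat_lit 52) (.leaf (nat_lit 0x5aec9d4e032fc07e03f01f80fc000d3f01f80fc07e03f0000a597cea806602f6dbfe03f01f80fc07e03f00eb9fc07e0000cbb0b832a6ff00bb1fc07e03f00030fc07e01713f80fc0002565ecaefc07e0005ff80fc000c7f01f80fc02e2bf01f80)) (.leaf (nat_lit 0x28c8285603d0457e03f01f8001012e7f01f800ddfe03f0000669ad63ff01f8089b7e03f010ba01afe03f01f80fc07e00012cb48d9fe03f01f80fc07e0006cfbafc07e03f01f80fc00015866f2895cfe0006bf80fc07e0256df80fc07e03f01f80))) (.node (nat_lit 60) (.leaf (nat_lit 0x490e6949f8079700e7f01f8029c38cbf01f8009bfe03f0000b21cc8d0073f80799fe03f01f8081b7e03f01f80fc07e0001438b99480e801603bfc07e0086e420fc07e01c65f80fc000246415254c930c4041f80fc07e03f01f80fc07e03f01f80))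 (.leaf (nat_lit 0x490f2b62daf112fe03f01f80fc07e03f01f80fc07e03f0000a21eda4431bf80fc07e03f01f80fc07e03f01f80fc07e000163b7fc07e0007df80fc07e03f01f80fc07e03f01f80fc00008719f80045fe0007ff80fc07e03f01f80fc07e03f01f80))))))
def wt : Wt := (.node (nat_lit 24) (.node (nat_lit 12) (.node (nat_lit 6) (.node (nat_lit 3) (.node (nat_lit 1) (.leaf [nat_lit 2, nat_lit 11, nat_lit 9, nat_lit 11]) (.node (nat_lit 2) (.leaf [nat_lit 9, nat_lit 11, nat_lit 2, nat_lit 11]) (.leaf [nat_lit 0, nat_lit 11, nat_lit 9, nat_lit 1, nat_lit 2, nat_lit 11]))) (.node (nat_lit 4) (.leaf [nat_lit 1, nat_lit 2, nat_lit 11, nat_lit 0, nat_lit 11, nat_lit 9]) (.node (nat_lit 5) (.leaf [nat_lit 4, nat_lit 11, nat_lit 3, nat_lit 4, nat_lit 11, nat_lit 3, nat_lit 4, nat_lit 11, nat_lit 3]) (.leaf [nat_lit 4, nat_lit 4])))) (.node (nat_lit 9) (.node (nat_lit 7) (.leaf [nat_lit 9, nat_lit 10, nat_lit 2, nat_lit 9, nat_lit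 10]) (.node (nat_lit 8) (.leaf [nat_lit 2, nat_lit 9, nat_lit 10, nat_lit 9, nat_lit 10]) (.leaf [nat_lit 2, nat_lit 5, nat_lit 2, nat_lit 6]))) (.node (nat_lit 10) (.leaf [nat_lit 5, nat_lit 10, nat_lit 6, nat_lit 10]) (.node (nat_lit 11) (.leaf [nat_lit 6, nat_lit 5]) (.leaf [nat_lit 5, nat_lit 9, nat_lit 5, nat_lit 9]))))) (.node (nat_lit 18) (.node (nat_lit 15) (.node (nat_lit 13) (.leaf [nat_lit 5, nat_lit 5, nat_lit 5]) (.node (nat_lit 14) (.leaf [nat_lit 6, nat_lit 11, nat_lit 10, nat_lit 5, nat_lit 11, nat_lit 2, nat_lit 9, nat_lit 6, nat_lit 10, nat_lit 11, nat_lit 5, nat_lit 9, nat_lit 6, nat_lit 11, nat_lit 10, nat_lit 5, nat_lit 11, nat_lit 2, nat_lit 9, nat_lit 6, nat_lit 10, nat_lit 11, nat_lit 5, nat_lit 9]) (.leaf [nat_lit 5, nat_lit 6]))) (.node (nat_lit 16) (.leaf [nat_lit 9, nat_lit 9]) (.node (nat_lit 17) (.leaf [nat_lit 6, nat_lit 3, nat_lit 5, nat_lit 0]) (.leaf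 [nat_lit 0, nat_lit 5, nat_lit 0, nat_lit 5, nat_lit 0, nat_lit 5])))) (.node (nat_lit 21) (.node (nat_lit 19) (.leaf [nat_lit 0, nat_lit 0]) (.node (nat_lit 20) (.leaf [nat_lit 3, nat_lit 5, nat_lit 0, nat_lit 6]) (.leaf [nat_lit 3, nat_lit 3]))) (.node (nat_lit 22) (.leaf [nat_lit 6, nat_lit 4, nat_lit 5, nat_lit 1]) (.node (nat_lit 23) (.leaf [nat_lit 1, nat_lit 5, nat_lit 1, nat_lit 5, nat_lit 1, nat_lit 5]) (.leaf [nat_lit 1, nat_lit 1])))))) (.node (nat_lit 36) (.node (nat_lit 30) (.node (nat_lit 27) (.node (nat_lit 25) (.leaf [nat_lit 4, nat_lit 5, nat_lit 1, nat_lit 6]) (.node (nat_lit 26) (.leaf [nat_lit 2, nat_lit 6, nat_lit 2, nat_lit 5]) (.leaf [nat_lit 9, nat_lit 5, nat_lit 9, nat_lit 5]))) (.node (nat_lit 28) (.leaf [nat_lit 10, nat_lit 6, nat_lit 10, nat_lit 5]) (.node (nat_lit 29) (.leaf [nat_lit 11, nat_lit 9, nat_lit 11, nat_lit 2]) (.leaf [nat_lit 11, nat_lit 11]))))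 (.node (nat_lit 33) (.node (nat_lit 31) (.leaf [nat_lit 9, nat_lit 6, nat_lit 10, nat_lit 11, nat_lit 5, nat_lit 9, nat_lit 6, nat_lit 11, nat_lit 10, nat_lit 5, nat_lit 11, nat_lit 2, nat_lit 9, nat_lit 6, nat_lit 10, nat_lit 11, nat_lit 5, nat_lit 9, nat_lit 6, nat_lit 11, nat_lit 10, nat_lit 5, nat_lit 11, nat_lit 2]) (.node (nat_lit 32) (.leaf [nat_lit 0, nat_lit 1, nat_lit 0, nat_lit 1]) (.leaf [nat_lit 5, nat_lit 0, nat_lit 6, nat_lit 3]))) (.node (nat_lit 34) (.leaf [nat_lit 10, nat_lit 11, nat_lit 10, nat_lit 11, nat_lit 10, nat_lit 11]) (.node (nat_lit 35) (.leaf [nat_lit 10, nat_lit 10]) (.leaf [nat_lit 2, nat_lit 10, nat_lit 9, nat_lit 10, nat_lit 9]))))) (.node (nat_lit 42) (.node (nat_lit 39) (.node (nat_lit 37) (.leaf [nat_lit 6, nat_lit 9, nat_lit 6, nat_lit 9]) (.node (nat_lit 38) (.leaf [nat_lit 5, nat_lit 2, nat_lit 6, nat_lit 2]) (.leaf [nat_lit 10, nat_lit 5, nat_lit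 10, nat_lit 6]))) (.node (nat_lit 40) (.leaf [nat_lit 6, nat_lit 6, nat_lit 6]) (.node (nat_lit 41) (.leaf [nat_lit 9, nat_lit 6, nat_lit 9, nat_lit 6]) (.leaf [nat_lit 11, nat_lit 10, nat_lit 5, nat_lit 11, nat_lit 2, nat_lit 9, nat_lit 6, nat_lit 10, nat_lit 11, nat_lit 5, nat_lit 9, nat_lit 6, nat_lit 11, nat_lit 10, nat_lit 5, nat_lit 11, nat_lit 2, nat_lit 9, nat_lit 6, nat_lit 10, nat_lit 11, nat_lit 5, nat_lit 9, nat_lit 6])))) (.node (nat_lit 45) (.node (nat_lit 43) (.leaf [nat_lit 2, nat_lit 2]) (.node (nat_lit 44) (.leaf [nat_lit 11, nat_lit 2, nat_lit 11, nat_lit 9]) (.leaf [nat_lit 10, nat_lit 2, nat_lit 9, nat_lit 10, nat_lit 9]))) (.node (nat_lit 47) (.node (nat_lit 46) (.leaf [nat_lit 6, nat_lit 10, nat_lit 5, nat_lit 10]) (.leaf [nat_lit 9, nat_lit 6, nat_lit 11, nat_lit 10, nat_lit 5, nat_lit 11, nat_lit 2, nat_lit 9, nat_lit 6, nat_lit 10, nat_lit 11, nat_lit 5,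 nat_lit 9, nat_lit 6, nat_lit 11, nat_lit 10, nat_lit 5, nat_lit 11, nat_lit 2, nat_lit 9, nat_lit 6, nat_lit 10, nat_lit 11, nat_lit 5])) (.node (nat_lit 48) (.leaf [nat_lit 10, nat_lit 9, nat_lit 10, nat_lit 2, nat_lit 9]) (.leaf [nat_lit 11, nat_lit 10, nat_lit 11, nat_lit 10, nat_lit 11, nat_lit 10])))))))
noncomputable def P : TCP where
  lk := tlk tb (nat_lit 3) (nat_lit 15) (nat_lit 13) (nat_lit 8191)
  inv := invT (nat_lit 823350089735190880320) (nat_lit 12)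
  wt := wt.get
  gens := [nat_lit 0, nat_lit 1, nat_lit 2, nat_lit 3, nat_lit 4, nat_lit 5, nat_lit 6, nat_lit 7, nat_lit 8, nat_lit 9, nat_lit 10, nat_lit 11]
  N := nat_lit 64
  n := nat_lit 1
  eps := nat_lit 12
  VM := nat_lit 127
  Wv := nat_lit 7
  MAXB := nat_lit 8064
  JM := nat_lit 127
  Wj := nat_lit 7
  Hm := nat_lit 2047
def ls : List Nat := [nat_lit 0, nat_lit 1, nat_lit 2, nat_lit 3, nat_lit 4, nat_lit 5, nat_lit 6, nat_lit 7, nat_lit 8, nat_lit 9, nat_lit 10, nat_lit 11, nat_lit 12]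
noncomputable def ap : Nat → Nat → Nat := tlk tb (nat_lit 3) (nat_lit 15) (nat_lit 13) (nat_lit 127)
def bases : List (List Nat × Nat) := [([5], 3), ([0, 5], 3), ([1, 5], 3), ([0, 1], 2), ([3, 5, 0, 6], 1), ([4, 5, 1, 6], 1), ([0, 4, 0, 4, 2], 1), ([2, 5, 2, 6], 1), ([2, 0], 2), ([2, 1], 2), ([7], 3), ([7, 5, 8, 6], 1), ([7, 0, 8, 1], 1), ([7, 1, 8, 0, 1, 2], 1), ([9, 5, 9, 5], 1), ([9, 0], 2), ([9, 1], 2), ([9, 7, 9, 8], 1), ([10, 5, 10, 6], 1), ([10, 0, 10, 0], 1), ([10, 7, 10, 7], 1), ([9, 10, 9, 10, 2], 1), ([11, 2, 11, 9], 1), ([11, 7, 11, 7], 1), ([11, 0, 11, 9, 1, 2], 1), ([3, 4, 11], 3), ([10, 11], 3), ([11, 2, 9, 6, 10, 11, 5, 9, 6, 11, 10, 5], 2)]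
theorem c0 : RowsGood P ls 0 64 :=
  rowsGood_of (Js := [nat_lit 0x7000b0027e0810204081020408102, nat_lit 0xa03c0c003000afc001030000680187028070103000068018500c000088028b0300000880289, nat_lit 0x4a45f00160045a80080, nat_lit 0x58182e003a0083c080, nat_lit 0x2416331e80090012281, nat_lit 0x4a46700160041e80000c0000b8040d, nat_lit 0x2060092, nat_lit 0x2052b0005801190051928, nat_lit 0x2ba63868de004c00a640804460b14, nat_lit 0x10c60084, nat_lit 0xc80200e58, nat_lit 0x1f010060d14, nat_lit 0x4301, nat_lit 0x1513924c007001d1be0088c01, nat_lit 0x150c8300180057e04001, nat_lit 0x2701, nat_lit 0x11546d800b804197c05000, nat_lit 0x226c9642001f005b20409c, nat_lit 0x15127c00580110be024004a, nat_lit 0x200301, nat_lit 0x22aa5926003c01064025a2b800a001a34b400160046408e5808001000854081, nat_lit 0x100086c080, nat_lit 0x5a03078006c00ce8000000000000c0001a80b9f, nat_lit 0x5303000a001a91000080044a04100020011581,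 nat_lit 0x20000600327, nat_lit 0x29818005000d98800040022f02080010008d4028, nat_lit 0x20000600331, nat_lit 0x22ec44002c00865f3a7000e36, nat_lit 0x220c003c011f8051de001e0088e701, nat_lit 0x284b218f80084019fbc000100c0000000006e03104c00, nat_lit 0x1742, nat_lit 0x120304, nat_lit 0x71a58005000d1810004c01, nat_lit 0x451800780219011914c, nat_lit 0x50, nat_lit 0x9c, nat_lit 0x22ec461a001f0059204d36, nat_lit 0x9b259080074011f819152900, nat_lit 0x2e2000d0037e00084, nat_lit 0x559d8005000df81, nat_lit 0xa739000a001bf020169000580121, nat_lit 0x237d5c002c00864001, nat_lit 0x23bd24002c008656533c005000df81, nat_lit 0x4e58, nat_lit 0x2de000d0034204012, nat_lit 0x2cd04002800724080, nat_lit 0xb713000a001bf90b08002c0091ac2000b002320561000580159, nat_lit 0x7fb18005000dfbe0204d58, nat_lit 0x60033a000b6, nat_lit 0x1762237800e802210000000000100030018ae18058, nat_lit 0x39d4c00280076408004000280148d8, nat_lit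 0x33994be7f25934006c00d1c001, nat_lit 0x67a78005000ccaea000b0027e0575000580121, nat_lit 0xd66d369d40048008e409a, nat_lit 0x28c8c0028006640000030000000006a02f84c00, nat_lit 0x65aa8005000d1817401058, nat_lit 0x1de920014003436ae00, nat_lit 0x34d440028006fc0800378b12, nat_lit 0x1aece0014003320031c, nat_lit 0x6fab8005000ece20130d4a, nat_lit 0x1e01, nat_lit 0x1, nat_lit 0x14121c0058011fe4, nat_lit 0x5c4001a00726d62]) (by decide +kernel)
theorem f0 : RowsGood P ls 0 64 :=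
  c0
theorem good : RowsGood P (List.range (P.eps + 1)) 0 P.N :=
  (f0 : RowsGood P ls 0 64)
theorem idx {G : Type*} [Group G] {E : ℕ → G} {inv : ℕ → ℕ} (hi : ∀ l, E (inv l) = (E l)⁻¹)
    {B : List (List ℕ × ℕ)} (hB : ∀ p ∈ B, lprod E p.1 ^ p.2 = 1) (σ : List (List ℕ))
    {hs ks : List (List ℕ)} (hc : certOk P wt bases inv B σ hs ks = true) :
    (gp E hs).relIndex (gp E ks) ≠ 0 ∧ (gp E hs).relIndex (gp E ks) ≤ 1 :=
  tc_gp hi hB rfl (fun _ h => invT_of_le h) good σ hc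

end Cfsg.Agent.H28.UFc2

namespace Cfsg.Agent.H28.UFc3
open Cfsg.Agent.H15 Cfsg.Agent.H14

def tb : Tb := (.node (nat_lit 28) (.node (nat_lit 12) (.node (nat_lit 4) (.leaf (nat_lit 0x40c2a81004fc0fc0fc0fc0fc0fc0002fc0fc0fc0fc0003081a41fc0fc0fc0fc0fc0fc0316003001fc0fc0fc000b040ac0000006041fc0fc0007295085002041081041000000fc0b00000000000000000000000000000000000)) (.node (nat_lit 8) (.leaf (nat_lit 0x6081fc0313008295fc0fc0fc0001fc0fc008731931700a081fc0fc0001086fc0fc008801afc0fc00c6fc0fc0003144a41fc0fc0fc0fc0fc0fc0318041fc0fc0fc0fc000b103383fc0fc0fc0fc0fc0fc0fc0fc0005fc0fc0fc0)) (.leaf (nat_lit 0x918a906fc0fc000afc0fc018920afc0fc062efc0fc000614998600c03400bfc0fc01cb009fc0fc0fc0fc0fc000b108fc0008021149fc0fc000afc0fc0fc0530fc0fc000a0c794600900711afc0fc0fc0046fc0fc0108fc0fc0)))) (.node (nat_lit 20) (.node (nat_lit 16) (.leaf (nat_lit 0xb24efc0fc0fc0fc0fc0fc0fc0fc0fc0fc0010fc0fc000520dfc000ffc039cfc0fc000dfc0fc0fc0fc0fc0fc000a1ccfc002500cfc0fc0fc042400efc0fc0fc0fc0fc000b18afc000a00d66cfc0fc0fc0fc0fc0fc0fc0fc0fc0))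 (.leaf (nat_lit 0xa352fc0014012353fc0fc001efc0fc0fc0020fc0fc0006311fc0fc0013fc0fc0fc0fc0011fc0fc0fc0fc0fc00092d0fc001b3df010fc0fc0012fc0fc0fc0fc0fc0fc000228ffc009c462011fc0fc0fc0fc0fc0fc0fc0fc0fc0))) (.node (nat_lit 24) (.leaf (nat_lit 0x5456fc0fc0fc0fc0fc0fc0016fc0fc0fc0fc0fc02c7000415a01fc0fc0fc0fc0fc02c2017fc0355fc001dfc00063d49c13a0fc0247fc0fc02c101439839631501801600b3932c7013fc0fc0fc0fc0015fc0fc0fc0fc0fc0fc0)) (.leaf (nat_lit 0xb311fc0fc0fc0fc0fc0fc0fc0fc0fc0fc001cfc0fc00050c68ca5303150c8fc0fc0006fc0fc0fc011afc0fc0005458fc0fc0fc0fc0fc0fc0018fc0fc0fc0fc02c7fc0001415a01fc0fc0fc0fc0fc02c5019355fc0fc001509d))))) (.node (nat_lit 40) (.node (nat_lit 32) (.leaf (nat_lit 0x93defc0fc0411fc0fc0fc0393fc0fc0fc0fc0fc0fc0006393fc0fc0fc001ffc0fc0fc0013fc0fc0fc0fc0fc0001456fc0fc0fc0fc0fc0fc0343fc0fc0fc0fc0fc005800235bfc0050fc034efc0fc0023fc0fc0fc0fc0fc0fc0)) (.node (nat_lit 36) (.leaf (nat_lit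 0x639cfc0fc0fc0024fc0fc0fc0fc0fc0fc0fc0fc0fc00063e0fc0fc0490fc0fc0fc0fc0fc0fc0fc005efc0fc000a149fc0fc0009033fc0fc0fc0032fc0fc0fc0fc0fc0002393fc0355fc03e0fc0fc0022fc0fc0fc0fc0fc0fc0)) (.leaf (nat_lit 0x52a6fc0028fc0fc0fc0fc00260b5fc0fc0fc0fc0fc000a265fc00b40255e7fc0fc0035027fc0fc0fc0fc0fc000b20dfc000d026fc0fc0fc0fc0fc0fc0fc0fc0fc0fc00093e3fc0fc0fc0fc0fc0fc03ce44dfc0fc0fc0fc0fc0)))) (.node (nat_lit 48) (.node (nat_lit 44) (.leaf (nat_lit 0x63aafc0fc002cfc0fc0fc0fc0fc0fc0fc0fc0fc0fc0009369fc0fc07ae029fc0fc002bfc0fc0fc0fc0fc0fc0002328fc0fc0fc002afc0fc0fc0fc0fc0fc0028fc0fc000b2e7fc0fc072d732fc0fc0fc0fc0fc0fc0029fc0fc0)) (.leaf (nat_lit 0x94ae5edfc0fc002efc0fc0fc0030fc0fc054afc0fc000646dfc0fc076a02ffc0fc0fc002dfc0fc05cbfc0fc000b42cfc0fc003162efc0fc002efc0fc0fc060afc0fc000a3eb88c02dfc068cfc0fc0fc0fc0fc0fc0fc0fc0fc0))) (.node (nat_lit 52) (.leaf (nat_lit 0x91a182bfc05b0fc0fc0fc0fc0fc0fc0fc01a1fc0fc00051a1fc0fc01cbfc0fc0fc0fc0fc0fc0fc07eafc0fc000a46d6e8fc002d672fc0fc0fc0fc0fc0fc0fc0fc0fc00054ef86c4dafc0570fc0fc002f5aefc0fc0549fc0fc0))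 (.leaf (nat_lit 0x62a6fc0fc0fc05b5fc0fc0067026fc0fc0fc0fc0fc000a18a62906600afc0fc0fc0fc0fc0fc0fc06b1fc0fc0))))))
def wt : Wt := (.node (nat_lit 21) (.node (nat_lit 10) (.node (nat_lit 5) (.node (nat_lit 2) (.node (nat_lit 1) (.leaf [nat_lit 2, nat_lit 11, nat_lit 9, nat_lit 11]) (.leaf [nat_lit 9, nat_lit 11, nat_lit 2, nat_lit 11])) (.node (nat_lit 3) (.leaf [nat_lit 0, nat_lit 11, nat_lit 9, nat_lit 1, nat_lit 2, nat_lit 11]) (.node (nat_lit 4) (.leaf [nat_lit 1, nat_lit 2, nat_lit 11, nat_lit 0, nat_lit 11, nat_lit 9]) (.leaf [nat_lit 4, nat_lit 11, nat_lit 3, nat_lit 4, nat_lit 11, nat_lit 3, nat_lit 4, nat_lit 11, nat_lit 3])))) (.node (nat_lit 7) (.node (nat_lit 6) (.leaf [nat_lit 4, nat_lit 4]) (.leaf [nat_lit 9, nat_lit 10, nat_lit 2, nat_lit 9, nat_lit 10])) (.node (nat_lit 8) (.leaf [nat_lit 2, nat_lit 9, nat_lit 10, nat_lit 9, nat_lit 10]) (.node (nat_lit 9) (.leaf [nat_lit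 2, nat_lit 5, nat_lit 2, nat_lit 6]) (.leaf [nat_lit 5, nat_lit 10, nat_lit 6, nat_lit 10]))))) (.node (nat_lit 15) (.node (nat_lit 12) (.node (nat_lit 11) (.leaf [nat_lit 6, nat_lit 5]) (.leaf [nat_lit 6, nat_lit 9, nat_lit 6, nat_lit 9])) (.node (nat_lit 13) (.leaf [nat_lit 6, nat_lit 6, nat_lit 6]) (.node (nat_lit 14) (.leaf [nat_lit 5, nat_lit 6]) (.leaf [nat_lit 9, nat_lit 5, nat_lit 11, nat_lit 10, nat_lit 5, nat_lit 11, nat_lit 2, nat_lit 9, nat_lit 6, nat_lit 10, nat_lit 11, nat_lit 6, nat_lit 9, nat_lit 5, nat_lit 11, nat_lit 10, nat_lit 5, nat_lit 11, nat_lit 2, nat_lit 9, nat_lit 6, nat_lit 10, nat_lit 11, nat_lit 6])))) (.node (nat_lit 18) (.node (nat_lit 16) (.leaf [nat_lit 9, nat_lit 9]) (.node (nat_lit 17) (.leaf [nat_lit 5, nat_lit 9, nat_lit 5, nat_lit 9]) (.leaf [nat_lit 5, nat_lit 5, nat_lit 5]))) (.node (nat_lit 19) (.leaf [nat_lit 11, nat_lit 11]) (.node (nat_lit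 20) (.leaf [nat_lit 2, nat_lit 6, nat_lit 2, nat_lit 5]) (.leaf [nat_lit 6, nat_lit 3, nat_lit 5, nat_lit 0])))))) (.node (nat_lit 32) (.node (nat_lit 26) (.node (nat_lit 23) (.node (nat_lit 22) (.leaf [nat_lit 0, nat_lit 5, nat_lit 0, nat_lit 5, nat_lit 0, nat_lit 5]) (.leaf [nat_lit 0, nat_lit 0])) (.node (nat_lit 24) (.leaf [nat_lit 3, nat_lit 5, nat_lit 0, nat_lit 6]) (.node (nat_lit 25) (.leaf [nat_lit 3, nat_lit 3]) (.leaf [nat_lit 6, nat_lit 4, nat_lit 5, nat_lit 1])))) (.node (nat_lit 29) (.node (nat_lit 27) (.leaf [nat_lit 1, nat_lit 5, nat_lit 1, nat_lit 5, nat_lit 1, nat_lit 5]) (.node (nat_lit 28) (.leaf [nat_lit 1, nat_lit 1]) (.leaf [nat_lit 4, nat_lit 5, nat_lit 1, nat_lit 6]))) (.node (nat_lit 30) (.leaf [nat_lit 9, nat_lit 5, nat_lit 9, nat_lit 5]) (.node (nat_lit 31) (.leaf [nat_lit 10, nat_lit 6, nat_lit 10, nat_lit 5]) (.leaf [nat_lit 11, nat_lit 9, nat_lit 11,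 nat_lit 2]))))) (.node (nat_lit 37) (.node (nat_lit 34) (.node (nat_lit 33) (.leaf [nat_lit 9, nat_lit 6, nat_lit 10, nat_lit 11, nat_lit 6, nat_lit 9, nat_lit 5, nat_lit 11, nat_lit 10, nat_lit 5, nat_lit 11, nat_lit 2, nat_lit 9, nat_lit 6, nat_lit 10, nat_lit 11, nat_lit 6, nat_lit 9, nat_lit 5, nat_lit 11, nat_lit 10, nat_lit 5, nat_lit 11, nat_lit 2]) (.leaf [nat_lit 0, nat_lit 1, nat_lit 0, nat_lit 1])) (.node (nat_lit 35) (.leaf [nat_lit 5, nat_lit 0, nat_lit 6, nat_lit 3]) (.node (nat_lit 36) (.leaf [nat_lit 10, nat_lit 10]) (.leaf [nat_lit 10, nat_lit 2, nat_lit 9, nat_lit 10, nat_lit 9])))) (.node (nat_lit 40) (.node (nat_lit 38) (.leaf [nat_lit 11, nat_lit 10, nat_lit 5, nat_lit 11, nat_lit 2, nat_lit 9, nat_lit 6, nat_lit 10, nat_lit 11, nat_lit 6, nat_lit 9, nat_lit 5, nat_lit 11, nat_lit 10, nat_lit 5, nat_lit 11, nat_lit 2, nat_lit 9, nat_lit 6, nat_lit 10, nat_lit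 11, nat_lit 6, nat_lit 9, nat_lit 5]) (.node (nat_lit 39) (.leaf [nat_lit 2, nat_lit 2]) (.leaf [nat_lit 2, nat_lit 10, nat_lit 9, nat_lit 10, nat_lit 9]))) (.node (nat_lit 41) (.leaf [nat_lit 11, nat_lit 10, nat_lit 11, nat_lit 10, nat_lit 11, nat_lit 10]) (.node (nat_lit 42) (.leaf [nat_lit 10, nat_lit 9, nat_lit 2, nat_lit 10, nat_lit 9]) (.leaf [nat_lit 5, nat_lit 2, nat_lit 6, nat_lit 2])))))))
noncomputable def P : TCP where
  lk := tlk tb (nat_lit 3) (nat_lit 15) (nat_lit 12) (nat_lit 4095)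
  inv := invT (nat_lit 823350089735190880320) (nat_lit 12)
  wt := wt.get
  gens := [nat_lit 0, nat_lit 1, nat_lit 2, nat_lit 3, nat_lit 4, nat_lit 5, nat_lit 6, nat_lit 7, nat_lit 8, nat_lit 9, nat_lit 10, nat_lit 11]
  N := nat_lit 54
  n := nat_lit 1
  eps := nat_lit 12
  VM := nat_lit 63
  Wv := nat_lit 6
  MAXB := nat_lit 4032
  JM := nat_lit 127
  Wj := nat_lit 7
  Hm := nat_lit 2047
def ls : List Nat := [nat_lit 0, nat_lit 1, nat_lit 2, nat_lit 3, nat_lit 4, nat_lit 5, nat_lit 6, nat_lit 7, nat_lit 8, nat_lit 9, nat_lit 10, nat_lit 11, nat_lit 12]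
noncomputable def ap : Nat → Nat → Nat := tlk tb (nat_lit 3) (nat_lit 15) (nat_lit 12) (nat_lit 63)
def bases : List (List Nat × Nat) := [([5], 3), ([0, 5], 3), ([1, 5], 3), ([0, 1], 2), ([3, 5, 0, 6], 1), ([4, 5, 1, 6], 1), ([0, 4, 0, 4, 2], 1), ([2, 5, 2, 6], 1), ([2, 0], 2), ([2, 1], 2), ([7], 3), ([7, 5, 8, 6], 1), ([7, 0, 8, 1], 1), ([7, 1, 8, 0, 1, 2], 1), ([9, 5, 9, 5], 1), ([9, 0], 2), ([9, 1], 2), ([9, 7, 9, 8], 1), ([10, 5, 10, 6], 1), ([10, 0, 10, 0], 1), ([10, 7, 10, 7], 1), ([9, 10, 9, 10, 2], 1), ([11, 2, 11, 9], 1), ([11, 7, 11, 7], 1), ([11, 0, 11, 9, 1, 2], 1), ([3, 4, 11], 3), ([10, 11], 3), ([11, 2, 9, 6, 10, 11, 6, 9, 5, 11, 10, 5], 2)]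
theorem c0 : RowsGood P ls 0 54 :=
  rowsGood_of (Js := [nat_lit 0x7000a002520810204081020408102, nat_lit 0x281e0c002c00aa4001060000c0030e0520e020c00018006140600004001458300000800289, nat_lit 0x1565b00140046a78080, nat_lit 0x160c2e00340083c080, nat_lit 0x485989d80080012481, nat_lit 0xab31800a0020f3c000c0000b0040d, nat_lit 0x2060092, nat_lit 0x2a40014004a40a20051d30, nat_lit 0x1aca8bc00680111810088b14, nat_lit 0x218084, nat_lit 0x5a88c6800680111810204e00, nat_lit 0xb500060019f0068f50, nat_lit 0x86, nat_lit 0x200e01, nat_lit 0x5100, nat_lit 0x1, nat_lit 0xa2601, nat_lit 0x300001, nat_lit 0x80, nat_lit 0x1000800100081c081, nat_lit 0xc0069c001, nat_lit 0x1acac6800680125a800000000006000034017426000e68a8081, nat_lit 0x2b830009001b15804100020011981, nat_lit 0x2e, nat_lit 0x15c18004800ddb602080010008f4030, nat_lit 0x38, nat_lit 0x30eccc800680114a880f802a, nat_lit 0x1, nat_lit 0x420010018000000000d8062281,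 nat_lit 0x1b46, nat_lit 0x80, nat_lit 0x251a, nat_lit 0x108301, nat_lit 0x81, nat_lit 0x2514, nat_lit 0x1, nat_lit 0xd1e, nat_lit 0x1, nat_lit 0x2800f8081, nat_lit 0x401e, nat_lit 0xe300050014b7180028009181, nat_lit 0x80, nat_lit 0x128001, nat_lit 0x1, nat_lit 0x9876400280088c0a2, nat_lit 0x2df00050012302df000500151, nat_lit 0xac0402a, nat_lit 0xbec2ba00180033a00094, nat_lit 0x33eb8004800e5800000000008001800c4f0c01250, nat_lit 0x69d30009001d10020000500291, nat_lit 0x20088000600353, nat_lit 0x19d0d9554004000966652, nat_lit 0xd29a9ea200200040b50012, nat_lit 0x30000000006802e84e00]) (by decide +kernel)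
theorem f0 : RowsGood P ls 0 54 :=
  c0
theorem good : RowsGood P (List.range (P.eps + 1)) 0 P.N :=
  (f0 : RowsGood P ls 0 54)
theorem idx {G : Type*} [Group G] {E : ℕ → G} {inv : ℕ → ℕ} (hi : ∀ l, E (inv l) = (E l)⁻¹)
    {B : List (List ℕ × ℕ)} (hB : ∀ p ∈ B, lprod E p.1 ^ p.2 = 1) (σ : List (List ℕ))
    {hs ks : List (List ℕ)} (hc : certOk P wt bases inv B σ hs ks = true) :
    (gp E hs).relIndex (gp E ks) ≠ 0 ∧ (gp E hs).relIndex (gp E ks) ≤ 1 :=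
  tc_gp hi hB rfl (fun _ h => invT_of_le h) good σ hc

end Cfsg.Agent.H28.UFc3

namespace Cfsg.Agent.H28.UFc4
open Cfsg.Agent.H15 Cfsg.Agent.H14

def tb : Tb := (.node (nat_lit 4) (.leaf (nat_lit 0x432c104f0f0f0f0f0f0f0f0f0f0f00321b1f0f0f0f0f0f0f003f0f0f0f00b10d0000611f0f0079725021121110000f0e00000000000000000000000)) (.node (nat_lit 8) (.leaf (nat_lit 0x621a1f00887f0f0f0013727f0f0f00a21f0f00126f0f028f0f0f036f0f00354b1f0f0f0f0f0f0f01104f0f0f00b43c1f0f0f0f0f0f0f0f005f0f0f0)) (.leaf (nat_lit 0xb48f008f059f0f0f0f0f0f069f0f00a37f0090778f0f0f016f0f048f0f0))))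
def wt : Wt := (.node (nat_lit 9) (.node (nat_lit 4) (.node (nat_lit 2) (.node (nat_lit 1) (.leaf [nat_lit 2, nat_lit 11, nat_lit 9, nat_lit 11]) (.leaf [nat_lit 9, nat_lit 11, nat_lit 2, nat_lit 11])) (.node (nat_lit 3) (.leaf [nat_lit 0, nat_lit 11, nat_lit 9, nat_lit 1, nat_lit 2, nat_lit 11]) (.leaf [nat_lit 1, nat_lit 2, nat_lit 11, nat_lit 0, nat_lit 11, nat_lit 9]))) (.node (nat_lit 6) (.node (nat_lit 5) (.leaf [nat_lit 4, nat_lit 11, nat_lit 3, nat_lit 4, nat_lit 11, nat_lit 3, nat_lit 4, nat_lit 11, nat_lit 3]) (.leaf [nat_lit 4, nat_lit 4])) (.node (nat_lit 7) (.leaf [nat_lit 9, nat_lit 10, nat_lit 2, nat_lit 9, nat_lit 10]) (.node (nat_lit 8) (.leaf [nat_lit 2, nat_lit 9, nat_lit 10, nat_lit 9, nat_lit 10]) (.leaf [nat_lit 3, nat_lit 5, nat_lit 0, nat_lit 6]))))) (.node (nat_lit 13) (.node (nat_lit 11) (.node (nat_lit 10) (.leaf [nat_lit 4, nat_lit 5, nat_lit 1, nat_lit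 6]) (.leaf [nat_lit 5, nat_lit 10, nat_lit 6, nat_lit 10])) (.node (nat_lit 12) (.leaf [nat_lit 6, nat_lit 5]) (.leaf [nat_lit 2, nat_lit 5, nat_lit 2, nat_lit 6]))) (.node (nat_lit 15) (.node (nat_lit 14) (.leaf [nat_lit 2, nat_lit 11, nat_lit 10, nat_lit 5, nat_lit 11, nat_lit 2, nat_lit 9, nat_lit 6, nat_lit 10, nat_lit 11, nat_lit 9, nat_lit 2, nat_lit 11, nat_lit 10, nat_lit 5, nat_lit 11, nat_lit 2, nat_lit 9, nat_lit 6, nat_lit 10, nat_lit 11, nat_lit 9]) (.leaf [nat_lit 5, nat_lit 9, nat_lit 5, nat_lit 9])) (.node (nat_lit 16) (.leaf [nat_lit 5, nat_lit 5, nat_lit 5]) (.node (nat_lit 17) (.leaf [nat_lit 3, nat_lit 3]) (.leaf [nat_lit 11, nat_lit 11]))))))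
noncomputable def P : TCP where
  lk := tlk tb (nat_lit 3) (nat_lit 15) (nat_lit 8) (nat_lit 255)
  inv := invT (nat_lit 823350089735190880320) (nat_lit 12)
  wt := wt.get
  gens := [nat_lit 0, nat_lit 1, nat_lit 2, nat_lit 3, nat_lit 4, nat_lit 5, nat_lit 6, nat_lit 7, nat_lit 8, nat_lit 9, nat_lit 10, nat_lit 11]
  N := nat_lit 10
  n := nat_lit 1
  eps := nat_lit 12
  VM := nat_lit 15
  Wv := nat_lit 4
  MAXB := nat_lit 240
  JM := nat_lit 63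
  Wj := nat_lit 6
  Hm := nat_lit 2047
def ls : List Nat := [nat_lit 0, nat_lit 1, nat_lit 2, nat_lit 3, nat_lit 4, nat_lit 5, nat_lit 6, nat_lit 7, nat_lit 8, nat_lit 9, nat_lit 10, nat_lit 11, nat_lit 12]
noncomputable def ap : Nat → Nat → Nat := tlk tb (nat_lit 3) (nat_lit 15) (nat_lit 8) (nat_lit 15)
def bases : List (List Nat × Nat) := [([5], 3), ([0, 5], 3), ([1, 5], 3), ([0, 1], 2), ([3, 5, 0, 6], 1), ([4, 5, 1, 6], 1), ([0, 4, 0, 4, 2], 1), ([2, 5, 2, 6], 1), ([2, 0], 2), ([2, 1], 2), ([7], 3), ([7, 5, 8, 6], 1), ([7, 0, 8, 1], 1), ([7, 1, 8, 0, 1, 2], 1), ([9, 5, 9, 5], 1), ([9, 0], 2), ([9, 1], 2), ([9, 7, 9, 8], 1), ([10, 5, 10, 6], 1), ([10, 0, 10, 0], 1), ([10, 7, 10, 7], 1), ([9, 10, 9, 10, 2], 1), ([11, 2, 11, 9], 1), ([11, 7, 11, 7], 1), ([11, 0, 11, 9, 1, 2], 1), ([3, 4, 11], 3), ([10, 11], 3), ([11, 2, 9, 6, 10, 11, 9, 2, 11, 10, 5], 2)]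
theorem c0 : RowsGood P ls 0 10 :=
  rowsGood_of (Js := [nat_lit 0x700080029c2082082082082082, nat_lit 0x10f1800400127001180002800c7060381180002800c506000038014b180000380149, nat_lit 0x179f0010004941, nat_lit 0xb19700140043c1, nat_lit 0x1718b0014004941, nat_lit 0x5e7c0040010f001800014008340, nat_lit 0x10692, nat_lit 0x60038c1400594, nat_lit 0x100661c, nat_lit 0x6000180018000000c8055f]) (by decide +kernel)
theorem f0 : RowsGood P ls 0 10 :=
  c0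
theorem good : RowsGood P (List.range (P.eps + 1)) 0 P.N :=
  (f0 : RowsGood P ls 0 10)
theorem idx {G : Type*} [Group G] {E : ℕ → G} {inv : ℕ → ℕ} (hi : ∀ l, E (inv l) = (E l)⁻¹)
    {B : List (List ℕ × ℕ)} (hB : ∀ p ∈ B, lprod E p.1 ^ p.2 = 1) (σ : List (List ℕ))
    {hs ks : List (List ℕ)} (hc : certOk P wt bases inv B σ hs ks = true) :
    (gp E hs).relIndex (gp E ks) ≠ 0 ∧ (gp E hs).relIndex (gp E ks) ≤ 1 :=
  tc_gp hi hB rfl (fun _ h => invT_of_le h) good σ hc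

end Cfsg.Agent.H28.UFc4

namespace Cfsg.Agent.H28.UFc5
open Cfsg.Agent.H15 Cfsg.Agent.H14

def tb : Tb := (.node (nat_lit 36) (.node (nat_lit 16) (.node (nat_lit 8) (.node (nat_lit 4) (.leaf (nat_lit 0x2060a902004fc07e03f01f80fc07e00005f80fc07e03f00003080d007f01f80fc07e03f01f803cc000c003f80fc07e00016080a80000000c081fc07e0000e51708280081021010408000001f80ac0000000000000000000000000000000000000)) (.leaf (nat_lit 0x304066020230047e03f01f8030a8007f01f800839e6cf3200a080fe0010c0010837e03f0010800e7e03f00186fc07e00006284a00fe03f01f80fc07e03f0079a040fe03f01f80fc0002c406883fc07e03f01f80fc07e03f01f80002fe03f01f80))) (.node (nat_lit 12) (.leaf (nat_lit 0x48c2bf01f80023002bf01f802050c27f01f80fc07e03f00005144c42177df80005fe03f000091c5fe03f0000cfc07e00016208fc00020062289fc07e0071600afc07e01043f80fc0002830ff80004801c439f80fc07e0010df80fc00823f01f80)) (.leaf (nat_lit 0x2923a30e010fc0047bf01f8000700cff01f80fc07e03f0000a206ca1ff0000dfc07e03f00133007fe03f01f80fc07e0001638cfc0003001cbbefc07e03f01f80fc07e03f01f80fc00008615f80006fe0123ff80fc07e0003ff80fc0002bf01f80))))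 (.node (nat_lit 24) (.node (nat_lit 20) (.leaf (nat_lit 0x31a4bf00a4500a20cbf01f80fc0004bf01f804997e03f00009308fe0003a926008fe03f00013fc07e03f01f80fc07e00004590fc07e03f00012fc07e03f01f80fc07e00021f80fc0002ca1ff80007a8c3f01f80fc07e03f01f80fc00047f01f80)) (.leaf (nat_lit 0x4a258d2bf80fc0005bf01f80240fe03f01f80fc07e03f0000540a961ff01f8000bfe03f00015fc07e03f01f80fc07e000167949070053f00707fc07e00e0201644d2260d2a01a00c0028e27f8000a804ce29f80fc026c3f01f80fc0208ff01f80))) (.node (nat_lit 28) (.leaf (nat_lit 0x2a26bf01f80fc07e03f01f8000d7e03f01f80fc01c1ff0000140ace07f01f80fc07e03f0070500da057f01f8000a848800a898fc07e03f01f80fc07e00031f80fc07e03f01f80383800102b381fc07e03f01f80fc01c08033f8040afe00045f80)) (.node (nat_lit 32) (.leaf (nat_lit 0x28e33f01f8001f8083f01f80fc07e03f01f80fc07e03f0000238efe00123f800c7fe03f002b41dafe03f01f80fc07e00016692fc0004bf01f80fc07e03f004b6fc07e0003df80fc0001430df804109e54311f80fc0001bf01f80fc07e03f01f80))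 (.leaf (nat_lit 0x5861ff00007099068ff01f80fc00093f01f803ca7e03f0000144c7e03f01f80fc07e03f00803fc07e03f01f80fc0026800c4a0fc02273f01f80fc07e03f00020fc07e00f13f80fc0002483e88cfc07e0003ff80fc00087f01f80fc07e03f01f80)))))) (.node (nat_lit 56) (.node (nat_lit 44) (.node (nat_lit 40) (.leaf (nat_lit 0x58c9bf01f800147e03f01f80fc07e03f01f80fc07e03f000021527e0004e992fc07e03f00894fc07e03f01f80fc07e000122a4fc07e03f01f80fc07e00648223fc07e03f01f80fc00014447f80fc07e0004bf80fc07e0054bf80fc0009bf01f80)) (.leaf (nat_lit 0x114abf01f80fc000b3f01f80fc07e03f01f80fc07e03f0000b254fe03f01f80fc07e03f01f80fc07e03f0002bfc07e0000a428fc000abf01f80fc07e03f01f80fc07e03f01f80fc0002874ff80fc07e03f01f80fc07e00053f80fc07e03f01f80))) (.node (nat_lit 48) (.leaf (nat_lit 0x59cbbf01f80fc07e03f01f80fc000c3f01f80fc07e03f0000a356fe0005ff80fc07e03f01f80fc07e03f01f80fc07e0000c62cfc07e0005df80fc07e03f01f80fc07e03f01f80fc00024b57f80fc07e03f01f80fc000b7f01f80fc07e03f01f80))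 (.node (nat_lit 52) (.leaf (nat_lit 0x2943ff01f80fc000d3f01f80fc0023bf01f80fc07e03f0000b198c6500620a3449fe03f01f80fc07e03f01f80fc07e0001428988700c8012045fc07e03f00044fc07e0078bf80fc00014f5ff80fc02a4124df80fc07e03f01f80fc07e03f01f80)) (.leaf (nat_lit 0x59cda16403601c7e03f01f80fc07e03f01f80fc07e03f0000235ac0c406ecbefc07e03f0041d65e7e03f00035fc07e0000c634903fe03f0018efc07e0063df80fc07e0006df80fc00024b67f80fc07e03f01f80fc000d443df80fc07e03f01f80))))) (.node (nat_lit 64) (.node (nat_lit 60) (.leaf (nat_lit 0x124ea13df80fc000f3f01f80fc07e03f01f80fc07e03f0000b45cc074073f80fc07e03f01f80fc07e03f0003bfc07e0000a83884900ebf01f80fc07e00071f80fc07e01b83f80fc00028f6f1136627e03f01f80fc07e00073f80fc07e03f01f80)) (.leaf (nat_lit 0x5107de76040fc02713f01f80fc07e03f01f805637e03f0000a55ec22561403dfc07e03f01f80fc07e03f01f80fc07e0000ca3c61b7e0007df80fc07e03f0003cfc07e03f01f80fc0002537710f81c402bf01f80fc000f5a3bf80fc07e03f01f80)))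 (.node (nat_lit 68) (.leaf (nat_lit 0x3190bf01f80fc00123f01f80fc0010bf01f80fc07e03f000092e0fe03f01f80fc07e03f000435e3fe03f01f80fc07e0000a540fc07e03f00042fc07e00081f80fc07e01c73f80fc0002c97ff8001ffe03f01f80fc07e00083f80fc034e3f01f80)) (.node (nat_lit 72) (.leaf (nat_lit 0x5911bf01f80fc02d03f01f80fc0310ff01f80fc07e03f0000a1c5bae808e00bfc07e03f00444fc07e03f00a3ffc07e0001233185aa64ff00031fc07e03f01f80fc07e00663f80fc00014662fbc69c022947ff80fc000c498df80fc07e03f01f80)) (.leaf (nat_lit 0x24d87f80fc07e03f01f80fc00307f01f80fc07e03f01f80)))))))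
def wt : Wt := (.node (nat_lit 24) (.node (nat_lit 12) (.node (nat_lit 6) (.node (nat_lit 3) (.node (nat_lit 1) (.leaf [nat_lit 2, nat_lit 11, nat_lit 9, nat_lit 11]) (.node (nat_lit 2) (.leaf [nat_lit 9, nat_lit 11, nat_lit 2, nat_lit 11]) (.leaf [nat_lit 0, nat_lit 11, nat_lit 9, nat_lit 1, nat_lit 2, nat_lit 11]))) (.node (nat_lit 4) (.leaf [nat_lit 1, nat_lit 2, nat_lit 11, nat_lit 0, nat_lit 11, nat_lit 9]) (.node (nat_lit 5) (.leaf [nat_lit 4, nat_lit 11, nat_lit 3, nat_lit 4, nat_lit 11, nat_lit 3, nat_lit 4, nat_lit 11, nat_lit 3]) (.leaf [nat_lit 4, nat_lit 4])))) (.node (nat_lit 9) (.node (nat_lit 7) (.leaf [nat_lit 9, nat_lit 10, nat_lit 2, nat_lit 9, nat_lit 10]) (.node (nat_lit 8) (.leaf [nat_lit 2, nat_lit 9, nat_lit 10, nat_lit 9, nat_lit 10]) (.leaf [nat_lit 11, nat_lit 10, nat_lit 11, nat_lit 10, nat_lit 11, nat_lit 10]))) (.node (nat_lit 10) (.leaf [nat_lit 2, nat_lit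 5, nat_lit 2, nat_lit 6]) (.node (nat_lit 11) (.leaf [nat_lit 5, nat_lit 10, nat_lit 6, nat_lit 10]) (.leaf [nat_lit 6, nat_lit 5]))))) (.node (nat_lit 18) (.node (nat_lit 15) (.node (nat_lit 13) (.leaf [nat_lit 5, nat_lit 9, nat_lit 5, nat_lit 9]) (.node (nat_lit 14) (.leaf [nat_lit 5, nat_lit 5, nat_lit 5]) (.leaf [nat_lit 6, nat_lit 2, nat_lit 11, nat_lit 10, nat_lit 5, nat_lit 11, nat_lit 2, nat_lit 9, nat_lit 6, nat_lit 10, nat_lit 11, nat_lit 5, nat_lit 9, nat_lit 6, nat_lit 2, nat_lit 11, nat_lit 10, nat_lit 5, nat_lit 11, nat_lit 2, nat_lit 9, nat_lit 6, nat_lit 10, nat_lit 11, nat_lit 5, nat_lit 9]))) (.node (nat_lit 16) (.leaf [nat_lit 5, nat_lit 6]) (.node (nat_lit 17) (.leaf [nat_lit 9, nat_lit 9]) (.leaf [nat_lit 6, nat_lit 3, nat_lit 5, nat_lit 0])))) (.node (nat_lit 21) (.node (nat_lit 19) (.leaf [nat_lit 0, nat_lit 5, nat_lit 0, nat_lit 5, nat_lit 0, nat_lit 5]) (.node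 (nat_lit 20) (.leaf [nat_lit 0, nat_lit 0]) (.leaf [nat_lit 3, nat_lit 5, nat_lit 0, nat_lit 6]))) (.node (nat_lit 22) (.leaf [nat_lit 3, nat_lit 3]) (.node (nat_lit 23) (.leaf [nat_lit 6, nat_lit 4, nat_lit 5, nat_lit 1]) (.leaf [nat_lit 1, nat_lit 5, nat_lit 1, nat_lit 5, nat_lit 1, nat_lit 5])))))) (.node (nat_lit 36) (.node (nat_lit 30) (.node (nat_lit 27) (.node (nat_lit 25) (.leaf [nat_lit 1, nat_lit 1]) (.node (nat_lit 26) (.leaf [nat_lit 4, nat_lit 5, nat_lit 1, nat_lit 6]) (.leaf [nat_lit 9, nat_lit 5, nat_lit 9, nat_lit 5]))) (.node (nat_lit 28) (.leaf [nat_lit 10, nat_lit 6, nat_lit 10, nat_lit 5]) (.node (nat_lit 29) (.leaf [nat_lit 11, nat_lit 9, nat_lit 11, nat_lit 2]) (.leaf [nat_lit 2, nat_lit 11, nat_lit 10, nat_lit 5, nat_lit 11, nat_lit 2, nat_lit 9, nat_lit 6, nat_lit 10, nat_lit 11, nat_lit 5, nat_lit 9, nat_lit 6, nat_lit 2, nat_lit 11, nat_lit 10, nat_lit 5,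 nat_lit 11, nat_lit 2, nat_lit 9, nat_lit 6, nat_lit 10, nat_lit 11, nat_lit 5, nat_lit 9, nat_lit 6])))) (.node (nat_lit 33) (.node (nat_lit 31) (.leaf [nat_lit 2, nat_lit 2]) (.node (nat_lit 32) (.leaf [nat_lit 2, nat_lit 6, nat_lit 2, nat_lit 5]) (.leaf [nat_lit 11, nat_lit 2, nat_lit 11, nat_lit 9]))) (.node (nat_lit 34) (.leaf [nat_lit 11, nat_lit 11]) (.node (nat_lit 35) (.leaf [nat_lit 0, nat_lit 1, nat_lit 0, nat_lit 1]) (.leaf [nat_lit 5, nat_lit 0, nat_lit 6, nat_lit 3]))))) (.node (nat_lit 42) (.node (nat_lit 39) (.node (nat_lit 37) (.leaf [nat_lit 6, nat_lit 2, nat_lit 5, nat_lit 2]) (.node (nat_lit 38) (.leaf [nat_lit 10, nat_lit 10]) (.leaf [nat_lit 9, nat_lit 6, nat_lit 2, nat_lit 11, nat_lit 10, nat_lit 5, nat_lit 11, nat_lit 2, nat_lit 9, nat_lit 6, nat_lit 10, nat_lit 11, nat_lit 5, nat_lit 9, nat_lit 6, nat_lit 2, nat_lit 11, nat_lit 10, nat_lit 5, nat_lit 11, nat_lit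 2, nat_lit 9, nat_lit 6, nat_lit 10, nat_lit 11, nat_lit 5]))) (.node (nat_lit 40) (.leaf [nat_lit 6, nat_lit 9, nat_lit 6, nat_lit 9]) (.node (nat_lit 41) (.leaf [nat_lit 10, nat_lit 9, nat_lit 10, nat_lit 9, nat_lit 2]) (.leaf [nat_lit 10, nat_lit 11, nat_lit 10, nat_lit 11, nat_lit 10, nat_lit 11])))) (.node (nat_lit 45) (.node (nat_lit 43) (.leaf [nat_lit 2, nat_lit 10, nat_lit 9, nat_lit 10, nat_lit 9]) (.node (nat_lit 44) (.leaf [nat_lit 6, nat_lit 6, nat_lit 6]) (.leaf [nat_lit 9, nat_lit 6, nat_lit 9, nat_lit 6]))) (.node (nat_lit 46) (.leaf [nat_lit 11, nat_lit 5, nat_lit 9, nat_lit 6, nat_lit 2, nat_lit 11, nat_lit 10, nat_lit 5, nat_lit 11, nat_lit 2, nat_lit 9, nat_lit 6, nat_lit 10, nat_lit 11, nat_lit 5, nat_lit 9, nat_lit 6, nat_lit 2, nat_lit 11, nat_lit 10, nat_lit 5, nat_lit 11, nat_lit 2, nat_lit 9, nat_lit 6, nat_lit 10]) (.node (nat_lit 47) (.leaf [nat_lit 6,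 nat_lit 10, nat_lit 5, nat_lit 10]) (.leaf [nat_lit 11, nat_lit 2, nat_lit 5, nat_lit 9, nat_lit 6, nat_lit 11, nat_lit 10, nat_lit 5, nat_lit 9, nat_lit 2, nat_lit 11, nat_lit 6, nat_lit 10, nat_lit 11, nat_lit 2, nat_lit 5, nat_lit 9, nat_lit 6, nat_lit 11, nat_lit 10, nat_lit 5, nat_lit 9, nat_lit 2, nat_lit 11, nat_lit 6, nat_lit 10])))))))
noncomputable def P : TCP where
  lk := tlk tb (nat_lit 3) (nat_lit 15) (nat_lit 13) (nat_lit 8191)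
  inv := invT (nat_lit 823350089735190880320) (nat_lit 12)
  wt := wt.get
  gens := [nat_lit 0, nat_lit 1, nat_lit 2, nat_lit 3, nat_lit 4, nat_lit 5, nat_lit 6, nat_lit 7, nat_lit 8, nat_lit 9, nat_lit 10, nat_lit 11]
  N := nat_lit 73
  n := nat_lit 1
  eps := nat_lit 12
  VM := nat_lit 127
  Wv := nat_lit 7
  MAXB := nat_lit 8064
  JM := nat_lit 127
  Wj := nat_lit 7
  Hm := nat_lit 2047
def ls : List Nat := [nat_lit 0, nat_lit 1, nat_lit 2, nat_lit 3, nat_lit 4, nat_lit 5, nat_lit 6, nat_lit 7, nat_lit 8, nat_lit 9, nat_lit 10, nat_lit 11, nat_lit 12]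
noncomputable def ap : Nat → Nat → Nat := tlk tb (nat_lit 3) (nat_lit 15) (nat_lit 13) (nat_lit 127)
def bases : List (List Nat × Nat) := [([5], 3), ([0, 5], 3), ([1, 5], 3), ([0, 1], 2), ([3, 5, 0, 6], 1), ([4, 5, 1, 6], 1), ([0, 4, 0, 4, 2], 1), ([2, 5, 2, 6], 1), ([2, 0], 2), ([2, 1], 2), ([7], 3), ([7, 5, 8, 6], 1), ([7, 0, 8, 1], 1), ([7, 1, 8, 0, 1, 2], 1), ([9, 5, 9, 5], 1), ([9, 0], 2), ([9, 1], 2), ([9, 7, 9, 8], 1), ([10, 5, 10, 6], 1), ([10, 0, 10, 0], 1), ([10, 7, 10, 7], 1), ([9, 10, 9, 10, 2], 1), ([11, 2, 11, 9], 1), ([11, 7, 11, 7], 1), ([11, 0, 11, 9, 1, 2], 1), ([3, 4, 11], 3), ([10, 11], 3), ([11, 2, 9, 6, 10, 11, 5, 9, 6, 2, 11, 10, 5], 2)]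
theorem c0 : RowsGood P ls 0 73 :=
  rowsGood_of (Js := [nat_lit 0x7000b0028e0810204081020408102, nat_lit 0xa03c0c003000b1c001030000680187028870103000068018500c000088028b0300000880289, nat_lit 0x54ac63001a0065e88080, nat_lit 0x58182e003a0083c080, nat_lit 0x2416352280090012581, nat_lit 0x54ac6b001a0061e88000c0000b8040d, nat_lit 0x6000044014a802068092, nat_lit 0x1518e3b0f00118039b02052d00058011b0059a2a, nat_lit 0x10090c16, nat_lit 0x10c680c0, nat_lit 0x7d898005000e3c60200f01, nat_lit 0x200d1c, nat_lit 0x1504001600494080, nat_lit 0x86, nat_lit 0x16345dae1e00260058200d01, nat_lit 0x5e42b11000e8024f0218001, nat_lit 0x2a01, nat_lit 0x80, nat_lit 0x2e8001, nat_lit 0x460240058, nat_lit 0x1001a940, nat_lit 0x56f36d8e004200d1c025e2d800a001a54bc00160046c08e5c0800100085c081, nat_lit 0x1000874080, nat_lit 0x5e03078006c00cf8000000000000300001c80ca1, nat_lit 0x15c761f030013002ab1000080044e04100020011681,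 nat_lit 0x20000600329, nat_lit 0xae3b0f8180098015a8800040023102080010008dc02a, nat_lit 0x20000600333, nat_lit 0x88e9c00, nat_lit 0x1101, nat_lit 0x7890d22, nat_lit 0x81, nat_lit 0x100090c001, nat_lit 0x8c0000000004030000001d80d3f, nat_lit 0x1848, nat_lit 0x9c18084, nat_lit 0x4f01, nat_lit 0xd1c, nat_lit 0x674c, nat_lit 0x1, nat_lit 0x1, nat_lit 0x1, nat_lit 0x1, nat_lit 0x1, nat_lit 0x1, nat_lit 0x1, nat_lit 0x1, nat_lit 0x1, nat_lit 0x2750, nat_lit 0x8bb58005000d28100040c0, nat_lit 0xb79c64e001d0049e02b24, nat_lit 0x9e, nat_lit 0x9c, nat_lit 0x111e63f001a0068f72d01, nat_lit 0x2312000f00446057b00058014f98bd8002c009180, nat_lit 0x36d8c00280071c001, nat_lit 0x39c9400280068c1000030018a81, nat_lit 0x1d67600140038e04042, nat_lit 0x244de4002c0086c001, nat_lit 0x759d8005000e081, nat_lit 0x3bcf40028006958900058014762400160053c09e, nat_lit 0x1400a4c080, nat_lit 0x36d8c00280073c000000001000000d006af80,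 nat_lit 0x236ea00140038204840, nat_lit 0x84, nat_lit 0x4040, nat_lit 0x9c, nat_lit 0x80, nat_lit 0x7fbb8005000d2c67490022, nat_lit 0x2da000d0038310058, nat_lit 0x2342e1308844720d01804020100803068e486130985d1a8f43a450673007180d630203012, nat_lit 0x31e, nat_lit 0x52]) (by decide +kernel)
theorem f0 : RowsGood P ls 0 73 :=
  c0
theorem good : RowsGood P (List.range (P.eps + 1)) 0 P.N :=
  (f0 : RowsGood P ls 0 73)
theorem idx {G : Type*} [Group G] {E : ℕ → G} {inv : ℕ → ℕ} (hi : ∀ l, E (inv l) = (E l)⁻¹)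
    {B : List (List ℕ × ℕ)} (hB : ∀ p ∈ B, lprod E p.1 ^ p.2 = 1) (σ : List (List ℕ))
    {hs ks : List (List ℕ)} (hc : certOk P wt bases inv B σ hs ks = true) :
    (gp E hs).relIndex (gp E ks) ≠ 0 ∧ (gp E hs).relIndex (gp E ks) ≤ 1 :=
  tc_gp hi hB rfl (fun _ h => invT_of_le h) good σ hc

end Cfsg.Agent.H28.UFc5

namespace Cfsg.Agent.H28.UFc6
open Cfsg.Agent.H15 Cfsg.Agent.H14

def tb : Tb := (.node (nat_lit 48) (.node (nat_lit 24) (.node (nat_lit 12) (.node (nat_lit 4) (.leaf (nat_lit 0x2060b602004fc07e03f01f80fc07e00005f80fc07e03f00003080ea07f01f80fc07e03f01f8030b800c003f80fc07e00016080dc0000000c081fc07e0000e51608280081021010408000001f80e00000000000000000000000000000000000000)) (.node (nat_lit 8) (.leaf (nat_lit 0x30407f00614004145bf01f8030b0007f01f800839868c3000a080fe0010c0010837e03f0010800dfe03f00186fc07e00006284d40fe03f01f80fc07e03f00619040fe03f01f80fc0002c406703fc07e03f01f80fc07e03f01f80002fe03f01f80))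 (.leaf (nat_lit 0x48c2bf00dcdfc0002bf01f80184902bf01f8028f7e03f00006144fe0197804a005fe03f0038b004fe03f0000cfc07e00016208fc00020062289fc07e00015f80fc07e00e41f80fc0002830ff80004801c437f80fc07e0010df80fc00823f01f80)))) (.node (nat_lit 16) (.leaf (nat_lit 0x2923b202010fc00477f01f800077e03f01f80fc07e03f0000a206e01ff0000dfc07e03f00233007fe03f00034fc07e0001638cbc4003001ccbcfc07e03f01f80fc07e03f01f80fc00008615f8000680f7f01f80fc00079041f80fc0002bf01f80)) (.node (nat_lit 20) (.leaf (nat_lit 0x31a4a525f8000a7e03f01f80fc0004bf01f80fc07e03f00009308cc400387a3008fe03f000134887e03f01f80fc07e00004590fc00475148012fc07e03f01f80fc07e00021f80fc0002ca1ff80007a28bf01f80fc07e01327f80fc00047f01f80)) (.leaf (nat_lit 0x225b403f80fc07e03f01f802c10063f00696fc00087f0000640ae607f01f80243fe03f0058100a9c64e2ff8000c805c0167942c38053f01f80fc07e0002df80fc07e03f01f80fc00028e27f8000a804cd29f80fc0008bf01f80fc024c3f01f80)))))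 (.node (nat_lit 36) (.node (nat_lit 28) (.leaf (nat_lit 0x2861bf0072030b0623f01f800037e03f01f80fc07e03f0000548cfe03f01f80fc07e03f00019fc07e03f01f802c3fe00002896d00fe03f01f80fc07e00b0a01a34b7e03f00016090801522ff80fc07e03f01f80fc0005ff01f80fc07e03f00587)) (.node (nat_lit 32) (.leaf (nat_lit 0x49078f19f80fc07e03f01f80fc00083f01f80fc07e03f000061c67e01d9df8000ffe03f01f800067e03f0048bfc07e0000471cfc00247f0018ffc07e00065f80fc07e00039f80fc0002cd25896fc07e03f01f80fc07e03f01f80fc00077f01f80)) (.leaf (nat_lit 0x4a08bf01f80409008bf01f8038a208bf01f80fc07e03f000063ca7e03f00810011fe03f007a300a7e03f00024fc07e00002917fc07e03f01f80fc07e00d07f80fc07e03f01f8004c801493f10d3cdfe01241f80fc0007d13df80fc01a27f01f80)))) (.node (nat_lit 40) (.leaf (nat_lit 0x2a69bf00028fc07e03f01f80fc07e03f01f80fc07e03f0000a492fe03f01f80fc07e03f01f80013fe03f01f80fc07e000168a4fc07e0004df80fc07e03f01f80fc07e03f01f80fc00009045f80012a04545df80fc07e01461f80fc0008bf01f80))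 (.node (nat_lit 44) (.leaf (nat_lit 0x32eabf01f800167e03f01f80fc07e03f01f80fc07e03f00009594fe03f01f80fc07e03f0002bfc07e03f01f80fc07e00004aa8fc07e03f0002afc07e03f01f80fc07e03f01f80fc0002d44ff80fc07e03f01f80fc07e03f01f80fc000a7f01f80)) (.leaf (nat_lit 0x4b6b9349f80fc000bbf01f80fc000c3f01f80fc07e03f00006696fe03f01f80017fe03f01f80fc07e03f00aa3fc07e00016cacfc07e03f01f80fc07e0005df80fc07e03f01f80fc00029857f80016fe03f01f80fc07e03f01f80fc07e03f01f80)))))) (.node (nat_lit 72) (.node (nat_lit 60) (.node (nat_lit 52) (.leaf (nat_lit 0x4a0ca338eb7fc000cbf01f800c78a3bf01f8075cfe03f000063cefe03f01f80019fe03f01f8000efe03f01f80fc07e00014289fc07e00012049fc07e03f00048fc07e03f01f80fc00015c5ff80fc07e01761f80fc000bd65df80fc02253f01f80)) (.node (nat_lit 56) (.leaf (nat_lit 0x298da424038fc03f43f01f8001b7e03f01f80fc07e03f0000a2dac443f01f80fc07e03f010d201bfe03f00053fc07e00016534fc07e0006df80fc07e03f01f80fc07e03f01f80fc0000891d13101abb39b77f80fc036e7f01f80fc0003bf01f80))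 (.leaf (nat_lit 0x320ea31df8001e34d3f01f80fc07e03f01f80fc07e03f000093dcfe03f01f80fc07e03f0003bfc07e03f01f80fc07e0000473888e8143f0003afc07e03f00e34fc07e00071f80fc0002cd6ee3301bfe03f01f80fc07e03f01f80fc000e7f01f80)))) (.node (nat_lit 64) (.leaf (nat_lit 0x312f9e6cc5cfc00103f01f80fc000fbf01f805a5fe03f0000b21ebedc07bf80525fe03f0003ffc07e03f00c40fc07e0001438c819fe03f00848fc07e012b8949fc07e01295f80fc0002917718d60500eff01f80fc07e03f01f80fc00137f01f80)) (.node (nat_lit 68) (.leaf (nat_lit 0x59b0bf01f80022496ff01f80fc07e03f01f8092dfe03f00002320fe00087f80fc07e03f01f80fc07e03f01f80fc07e0000a5c0fc07e03f0004cfc07e00081f80fc07e00085f80fc00024a7ff806647e0007ff80fc0292c083f80fc02efbf01f80)) (.leaf (nat_lit 0x1231ac13657fc07e03f01f80fc07e03f01f800237e03f0000b422da3408bf80fc07e03f01f80fc07e03f01f80fc07e0000a7c4b867e03f01557fc07e03f01557fc07e03f01f80fc00028e87f80fc0010e689f80fc07e0008bf80fc04f6bf01f80)))))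 (.node (nat_lit 84) (.node (nat_lit 76) (.leaf (nat_lit 0x58f2a32204afc026fbf01f80560ab03f01f80fc07e03f0000a18542e409600a02e7e03f004c8058fe03f008bdfc07e000123318477e00e41f80fc07e0117bf80fc07e03f01f80fc000146630b26200e2ff01f80fc000c4a95f80fc07e03f01f80)) (.node (nat_lit 80) (.leaf (nat_lit 0x3293bf01f8079cfe03f01f80fc07e03f01f80fc07e03f000094e6fe01c3ce34fc07e03f0004ffc07e03f01f80fc07e0000493cfc0342ff0004efc07e03f01f80fc07e03f01f80fc00024c82bc2fc07e03f01f80fc07e0017ff80fc07e03f01f80)) (.leaf (nat_lit 0x118d9f96054fc07e03f01f80fc07e03f01f80fc07e03f00009468fe03f01f80fc07e03f0103789b7e03f01f80fc07e0000c850fc07e03f00052fc07e03f01f80fc07e03f01f80fc0002cf7304b01cfe01e6ff80fc00147f01f80fc07e03f01f80)))) (.node (nat_lit 88) (.leaf (nat_lit 0x5a15ad10056fc07e03f01f80ae2d313f01f8002c7e03f000053ead71c0aff80fc07e03f01f80fc07e03f01f80fc07e000147548457e03f01f80fc07e03f00056fc07e03f01f80fc0002cda704afc00157f01f80fc07e03f01f80fc07e03f01f80))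 (.node (nat_lit 92) (.leaf (nat_lit 0x5296bf011c102d4b0ff01f80fc07e03f01f80fc07e03f000064ecfe03f0005b9ad7e03f0145802cfe03f01f80fc07e00012958fc07e03f00058fc07e000b5f80fc07e03f01f80fc000091aff80fc07e000b3f80fc07e027b5f80fc0015ff01f80)) (.leaf (nat_lit 0x2479508f5dfa67bf01f80fc07e0117bf80fc07e03f01f80)))))))
def wt : Wt := (.node (nat_lit 25) (.node (nat_lit 12) (.node (nat_lit 6) (.node (nat_lit 3) (.node (nat_lit 1) (.leaf [nat_lit 2, nat_lit 11, nat_lit 9, nat_lit 11]) (.node (nat_lit 2) (.leaf [nat_lit 9, nat_lit 11, nat_lit 2, nat_lit 11]) (.leaf [nat_lit 0, nat_lit 11, nat_lit 9, nat_lit 1, nat_lit 2, nat_lit 11]))) (.node (nat_lit 4) (.leaf [nat_lit 1, nat_lit 2, nat_lit 11, nat_lit 0, nat_lit 11, nat_lit 9]) (.node (nat_lit 5) (.leaf [nat_lit 4, nat_lit 11, nat_lit 3, nat_lit 4, nat_lit 11, nat_lit 3, nat_lit 4, nat_lit 11, nat_lit 3]) (.leaf [nat_lit 4, nat_lit 4])))) (.node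 (nat_lit 9) (.node (nat_lit 7) (.leaf [nat_lit 9, nat_lit 10, nat_lit 2, nat_lit 9, nat_lit 10]) (.node (nat_lit 8) (.leaf [nat_lit 2, nat_lit 9, nat_lit 10, nat_lit 9, nat_lit 10]) (.leaf [nat_lit 11, nat_lit 10, nat_lit 11, nat_lit 10, nat_lit 11, nat_lit 10]))) (.node (nat_lit 10) (.leaf [nat_lit 2, nat_lit 5, nat_lit 2, nat_lit 6]) (.node (nat_lit 11) (.leaf [nat_lit 5, nat_lit 10, nat_lit 6, nat_lit 10]) (.leaf [nat_lit 6, nat_lit 5]))))) (.node (nat_lit 18) (.node (nat_lit 15) (.node (nat_lit 13) (.leaf [nat_lit 6, nat_lit 9, nat_lit 6, nat_lit 9]) (.node (nat_lit 14) (.leaf [nat_lit 6, nat_lit 6, nat_lit 6]) (.leaf [nat_lit 5, nat_lit 6]))) (.node (nat_lit 16) (.leaf [nat_lit 9, nat_lit 5, nat_lit 2, nat_lit 11, nat_lit 10, nat_lit 5, nat_lit 11, nat_lit 2, nat_lit 9, nat_lit 6, nat_lit 10, nat_lit 11, nat_lit 6, nat_lit 9, nat_lit 5, nat_lit 2, nat_lit 11, nat_lit 10, nat_lit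 5, nat_lit 11, nat_lit 2, nat_lit 9, nat_lit 6, nat_lit 10, nat_lit 11, nat_lit 6]) (.node (nat_lit 17) (.leaf [nat_lit 9, nat_lit 9]) (.leaf [nat_lit 5, nat_lit 9, nat_lit 5, nat_lit 9])))) (.node (nat_lit 21) (.node (nat_lit 19) (.leaf [nat_lit 5, nat_lit 5, nat_lit 5]) (.node (nat_lit 20) (.leaf [nat_lit 11, nat_lit 11]) (.leaf [nat_lit 6, nat_lit 3, nat_lit 5, nat_lit 0]))) (.node (nat_lit 23) (.node (nat_lit 22) (.leaf [nat_lit 0, nat_lit 5, nat_lit 0, nat_lit 5, nat_lit 0, nat_lit 5]) (.leaf [nat_lit 0, nat_lit 0])) (.node (nat_lit 24) (.leaf [nat_lit 3, nat_lit 5, nat_lit 0, nat_lit 6]) (.leaf [nat_lit 3, nat_lit 3])))))) (.node (nat_lit 37) (.node (nat_lit 31) (.node (nat_lit 28) (.node (nat_lit 26) (.leaf [nat_lit 6, nat_lit 4, nat_lit 5, nat_lit 1]) (.node (nat_lit 27) (.leaf [nat_lit 1, nat_lit 5, nat_lit 1, nat_lit 5, nat_lit 1, nat_lit 5]) (.leaf [nat_lit 1, nat_lit 1])))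 (.node (nat_lit 29) (.leaf [nat_lit 4, nat_lit 5, nat_lit 1, nat_lit 6]) (.node (nat_lit 30) (.leaf [nat_lit 9, nat_lit 5, nat_lit 9, nat_lit 5]) (.leaf [nat_lit 10, nat_lit 6, nat_lit 10, nat_lit 5])))) (.node (nat_lit 34) (.node (nat_lit 32) (.leaf [nat_lit 11, nat_lit 9, nat_lit 11, nat_lit 2]) (.node (nat_lit 33) (.leaf [nat_lit 2, nat_lit 2]) (.leaf [nat_lit 2, nat_lit 11, nat_lit 10, nat_lit 5, nat_lit 11, nat_lit 2, nat_lit 9, nat_lit 6, nat_lit 10, nat_lit 11, nat_lit 6, nat_lit 9, nat_lit 5, nat_lit 2, nat_lit 11, nat_lit 10, nat_lit 5, nat_lit 11, nat_lit 2, nat_lit 9, nat_lit 6, nat_lit 10, nat_lit 11, nat_lit 6, nat_lit 9, nat_lit 5]))) (.node (nat_lit 35) (.leaf [nat_lit 11, nat_lit 2, nat_lit 11, nat_lit 9]) (.node (nat_lit 36) (.leaf [nat_lit 0, nat_lit 1, nat_lit 0, nat_lit 1]) (.leaf [nat_lit 5, nat_lit 0, nat_lit 6, nat_lit 3]))))) (.node (nat_lit 43) (.node (nat_lit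 40) (.node (nat_lit 38) (.leaf [nat_lit 10, nat_lit 10]) (.node (nat_lit 39) (.leaf [nat_lit 10, nat_lit 2, nat_lit 9, nat_lit 10, nat_lit 9]) (.leaf [nat_lit 10, nat_lit 9, nat_lit 10, nat_lit 9, nat_lit 2]))) (.node (nat_lit 41) (.leaf [nat_lit 2, nat_lit 10, nat_lit 9, nat_lit 10, nat_lit 9]) (.node (nat_lit 42) (.leaf [nat_lit 5, nat_lit 2, nat_lit 6, nat_lit 2]) (.leaf [nat_lit 11, nat_lit 6, nat_lit 9, nat_lit 5, nat_lit 2, nat_lit 11, nat_lit 10, nat_lit 5, nat_lit 11, nat_lit 2, nat_lit 9, nat_lit 6, nat_lit 10, nat_lit 11, nat_lit 6, nat_lit 9, nat_lit 5, nat_lit 2, nat_lit 11, nat_lit 10, nat_lit 5, nat_lit 11, nat_lit 2, nat_lit 9, nat_lit 6, nat_lit 10])))) (.node (nat_lit 46) (.node (nat_lit 44) (.leaf [nat_lit 9, nat_lit 2, nat_lit 10, nat_lit 9, nat_lit 10]) (.node (nat_lit 45) (.leaf [nat_lit 6, nat_lit 10, nat_lit 5, nat_lit 10]) (.leaf [nat_lit 2, nat_lit 6, nat_lit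 2, nat_lit 5]))) (.node (nat_lit 48) (.node (nat_lit 47) (.leaf [nat_lit 10, nat_lit 9, nat_lit 10, nat_lit 2, nat_lit 9]) (.leaf [nat_lit 10, nat_lit 5, nat_lit 10, nat_lit 6])) (.node (nat_lit 49) (.leaf [nat_lit 9, nat_lit 10, nat_lit 9, nat_lit 2, nat_lit 10]) (.leaf [nat_lit 10, nat_lit 11, nat_lit 10, nat_lit 11, nat_lit 10, nat_lit 11])))))))
noncomputable def P : TCP where
  lk := tlk tb (nat_lit 3) (nat_lit 15) (nat_lit 13) (nat_lit 8191)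
  inv := invT (nat_lit 823350089735190880320) (nat_lit 12)
  wt := wt.get
  gens := [nat_lit 0, nat_lit 1, nat_lit 2, nat_lit 3, nat_lit 4, nat_lit 5, nat_lit 6, nat_lit 7, nat_lit 8, nat_lit 9, nat_lit 10, nat_lit 11]
  N := nat_lit 93
  n := nat_lit 1
  eps := nat_lit 12
  VM := nat_lit 127
  Wv := nat_lit 7
  MAXB := nat_lit 8064
  JM := nat_lit 127
  Wj := nat_lit 7
  Hm := nat_lit 2047
def ls : List Nat := [nat_lit 0, nat_lit 1, nat_lit 2, nat_lit 3, nat_lit 4, nat_lit 5, nat_lit 6, nat_lit 7, nat_lit 8, nat_lit 9, nat_lit 10, nat_lit 11, nat_lit 12]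
noncomputable def ap : Nat → Nat → Nat := tlk tb (nat_lit 3) (nat_lit 15) (nat_lit 13) (nat_lit 127)
def bases : List (List Nat × Nat) := [([5], 3), ([0, 5], 3), ([1, 5], 3), ([0, 1], 2), ([3, 5, 0, 6], 1), ([4, 5, 1, 6], 1), ([0, 4, 0, 4, 2], 1), ([2, 5, 2, 6], 1), ([2, 0], 2), ([2, 1], 2), ([7], 3), ([7, 5, 8, 6], 1), ([7, 0, 8, 1], 1), ([7, 1, 8, 0, 1, 2], 1), ([9, 5, 9, 5], 1), ([9, 0], 2), ([9, 1], 2), ([9, 7, 9, 8], 1), ([10, 5, 10, 6], 1), ([10, 0, 10, 0], 1), ([10, 7, 10, 7], 1), ([9, 10, 9, 10, 2], 1), ([11, 2, 11, 9], 1), ([11, 7, 11, 7], 1), ([11, 0, 11, 9, 1, 2], 1), ([3, 4, 11], 3), ([10, 11], 3), ([11, 2, 9, 6, 10, 11, 6, 9, 5, 2, 11, 10, 5], 2)]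
theorem c0 : RowsGood P ls 0 93 :=
  rowsGood_of (Js := [nat_lit 0x7000b002560810204081020408102, nat_lit 0xa03c0c003000aac001030000680187029870103000068018500c000088028b0300000880289, nat_lit 0x4b45f00160046a80080, nat_lit 0x58182e003a0083c080, nat_lit 0x2416332180090012681, nat_lit 0x4b46700160041e80000c0000b8040d, nat_lit 0x6000044014a802068092, nat_lit 0x12b00058012b02912b00058011b0059d30, nat_lit 0x10090c16, nat_lit 0x2180c4, nat_lit 0x15010278001, nat_lit 0x2a0071044, nat_lit 0x81029f8002c009080, nat_lit 0x895f00110053600086, nat_lit 0xbb9e637110013002cf0078081, nat_lit 0x33ce65a001d0044204300, nat_lit 0x139401, nat_lit 0x5538080, nat_lit 0x2236c00440150818000098, nat_lit 0xb69be002c0086c080, nat_lit 0x1000800100081c0c4, nat_lit 0xc006a4001, nat_lit 0x159cdf259087e006200eac0000000000300000720328cd001cd0081, nat_lit 0x5b03000a001b15804100020011981, nat_lit 0x2e, nat_lit 0x2d818005000ddb602080010008f4030,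 nat_lit 0x38, nat_lit 0x9101f00, nat_lit 0x2ce1d8780074011081, nat_lit 0x8490080, nat_lit 0x5404016, nat_lit 0x20010b81, nat_lit 0x49c7400280073d50800040023f00a000000040030000001d80d47, nat_lit 0x1b4a, nat_lit 0x500278001, nat_lit 0x9c00e20, nat_lit 0x692be000b0024aaf8002c009080, nat_lit 0x1, nat_lit 0x1, nat_lit 0x1, nat_lit 0x1, nat_lit 0x1, nat_lit 0x1, nat_lit 0x1, nat_lit 0x1, nat_lit 0x1, nat_lit 0xd4, nat_lit 0x100085c001, nat_lit 0x1000080047e02b0000000000002001a00d47, nat_lit 0x81, nat_lit 0x80, nat_lit 0x11ce7600160048ab88002c009580388171000580145, nat_lit 0xca8003400cd819c90e00, nat_lit 0x1, nat_lit 0x12e63e00160045678081, nat_lit 0x125e4600160044a05200, nat_lit 0x100095c001, nat_lit 0x6552365000e8021b0205000, nat_lit 0x1, nat_lit 0x69b1a4e003a008940da, nat_lit 0x14120c0058011280000002008000006c03764001, nat_lit 0x7db79c6003a008ac40000a0052269044, nat_lit 0xff6d000a0019b00900c4,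 nat_lit 0x1fd723d4e9a4d60036006cea80800000000c000000001c80cc7, nat_lit 0x2a00700de, nat_lit 0x4001, nat_lit 0x1, nat_lit 0x4308000400205, nat_lit 0x40092, nat_lit 0x46c6c0028006adf28, nat_lit 0x11f1320c0074012280, nat_lit 0x12ae2a001600436d68002c009580, nat_lit 0xf767000a001a59100020, nat_lit 0x3dd9c00280066e81c, nat_lit 0x684001a006ac0800370c12, nat_lit 0x256e73b000e8022b0018f20, nat_lit 0x264fe974180090010ba6, nat_lit 0x2101, nat_lit 0x123001, nat_lit 0x62, nat_lit 0x2fa000d0034a00100020010381, nat_lit 0x1, nat_lit 0xe20, nat_lit 0xbf8003400e281, nat_lit 0xa7cb8005000d581, nat_lit 0xa9ca8005000e781, nat_lit 0x20010281, nat_lit 0x11f13000a001ab006ab01, nat_lit 0x5300, nat_lit 0x1, nat_lit 0x390d00, nat_lit 0x160024, nat_lit 0x7bb38005000d0c801000280170a6]) (by decide +kernel)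
theorem f0 : RowsGood P ls 0 93 :=
  c0
theorem good : RowsGood P (List.range (P.eps + 1)) 0 P.N :=
  (f0 : RowsGood P ls 0 93)
theorem idx {G : Type*} [Group G] {E : ℕ → G} {inv : ℕ → ℕ} (hi : ∀ l, E (inv l) = (E l)⁻¹)
    {B : List (List ℕ × ℕ)} (hB : ∀ p ∈ B, lprod E p.1 ^ p.2 = 1) (σ : List (List ℕ))
    {hs ks : List (List ℕ)} (hc : certOk P wt bases inv B σ hs ks = true) :
    (gp E hs).relIndex (gp E ks) ≠ 0 ∧ (gp E hs).relIndex (gp E ks) ≤ 1 :=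
  tc_gp hi hB rfl (fun _ h => invT_of_le h) good σ hc

end Cfsg.Agent.H28.UFc6

namespace Cfsg.Agent.H28.UFc7
open Cfsg.Agent.H15 Cfsg.Agent.H14

def tb : Tb := (.node (nat_lit 20) (.node (nat_lit 8) (.node (nat_lit 4) (.leaf (nat_lit 0x40c2fc0004fc0443fc03c53d7356002fc0403fc03c3003081fc0fc0fc0342385fc03522d1003001302fc038200b040a00000006041081041007250fc0002041fc0041000000fc0a40000000000000000000000000000000000)) (.leaf (nat_lit 0x608198108c0082d0fc00c7250001fc0fc0087fc02d200a081fc0046001fc0fc0086fc0fc0fc0fc0fc0fc0fc0003144fc0fc0fc04053833c2fc02d3041fc0fc0fc0fc000b103343fc0fc0fc0fc0fc0fc0fc0fc0005fc0fc0fc0))) (.node (nat_lit 12) (.leaf (nat_lit 0xb18afc000a00cfc0fc01cbfc0fc0fc0fc0fc0fc0fc000a149fc000b009fc01ca18afc0fc0fc0fc0fc0fc0fc000b108fc000800afc0fc0149fc0fc0fc0fc0fc0fc0fc000a0c7fc0009007fc0fc0108fc0fc0fc0fc0fc0fc0fc0)) (.node (nat_lit 16) (.leaf (nat_lit 0x228e287fc0fc0010fc0fc0fc0fc0fc0fc000efc0fc000b24d2c700dfc0fc0fc0fc0fc0fc0fc0fc000ffc0fc000520c30c00efc0fc0fc0fc0fc0fc0fc0fc0fc0fc0fc000a1cb94704700bfc024c20cfc000d8a6fc035581e824))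 (.leaf (nat_lit 0x1310fc0fc0fc0fc0396351285fc0fc0fc02d3010096005351fc05e4fc0fc0fc0fc0011302fc0fc0fc0fc0287000310fc0fc0fc0312fc03d6282012fc0fc02d10160100092cf9c1015fc000f310fc0201fc0fc0fc0290013011))))) (.node (nat_lit 28) (.node (nat_lit 24) (.leaf (nat_lit 0x5396fc05de020fc04123d4016383fc0fc0357fc0fc0001351fc0fc0fc0fc0391353303017fc0fc031601105300b3108cc010fc0fc0fc0fc03953d5767fc030c6e4fc0005353fc0fc0fc0fc0417fc0013fc0fc0fc0fc0fc0fc0)) (.leaf (nat_lit 0xa45afc002301afc0fc00a2fc0fc0fc0fc0fc0fc0fc0007419fc0fc0fc0fc0019521fc0fc0fc0fc0fc0fc0fc000b3d8fc0018022fc052101afc0fc0fc0fc0fc0fc0fc000a394fc0fc0014fc0fc04a0fc0fc0fc0fc0fc0fc0fc0))) (.node (nat_lit 32) (.leaf (nat_lit 0x555e88cfc0fc0fc0fc01a501efc0fc0fc0fc0fc0fc000a51d84c59701d61efc0124fc001ffc0fc0fc0fc0fc000b4dcfc001c01efc00a3fc0fc0fc0fc0fc0fc0fc0fc000849bfc001dfc0fc0fc001bfc0fc0fc0fc0fc0fc0fc0)) (.node (nat_lit 36) (.leaf (nat_lit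 0xb49bfc001b024fc0fc005dfc0fc0fc0fc0fc0fc0fc000a419fc0fc0019fc005bfc0fc0fc0fc0fc0fc0fc0fc000b420fc002055cfc0fc04d9fc0fc0fc0fc0fc0fc0fc000a3d7fc0021017fc0458fc0fc0fc0fc0fc0fc0fc0fc0)) (.leaf (nat_lit 0x25a6fc05e7fc0565fc0fc06e5fc0715fc002672576500b56590c025fc0fc0fc0fc0fc0fc084cfc0027fc0fc00055248cc026fc05a715ffc00247277a4fc0fc0fc07a700a4e388cfc00236640defc06a7025765fc0fc06957cc))))))
def wt : Wt := (.node (nat_lit 30) (.node (nat_lit 15) (.node (nat_lit 7) (.node (nat_lit 3) (.node (nat_lit 1) (.leaf [nat_lit 2, nat_lit 11, nat_lit 9, nat_lit 11]) (.node (nat_lit 2) (.leaf [nat_lit 9, nat_lit 11, nat_lit 2, nat_lit 11]) (.leaf [nat_lit 7, nat_lit 11, nat_lit 7, nat_lit 11]))) (.node (nat_lit 5) (.node (nat_lit 4) (.leaf [nat_lit 8, nat_lit 7]) (.leaf [nat_lit 0, nat_lit 11, nat_lit 9, nat_lit 1, nat_lit 2, nat_lit 11])) (.node (nat_lit 6) (.leaf [nat_lit 4, nat_lit 11, nat_lit 3, nat_lit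 4, nat_lit 11, nat_lit 3, nat_lit 4, nat_lit 11, nat_lit 3]) (.leaf [nat_lit 7, nat_lit 10, nat_lit 7, nat_lit 10])))) (.node (nat_lit 11) (.node (nat_lit 9) (.node (nat_lit 8) (.leaf [nat_lit 11, nat_lit 10, nat_lit 11, nat_lit 10, nat_lit 11, nat_lit 10]) (.leaf [nat_lit 2, nat_lit 5, nat_lit 2, nat_lit 6])) (.node (nat_lit 10) (.leaf [nat_lit 7, nat_lit 5, nat_lit 8, nat_lit 6]) (.leaf [nat_lit 11, nat_lit 11]))) (.node (nat_lit 13) (.node (nat_lit 12) (.leaf [nat_lit 6, nat_lit 10, nat_lit 11, nat_lit 7, nat_lit 10, nat_lit 8, nat_lit 11, nat_lit 10, nat_lit 5, nat_lit 11, nat_lit 2, nat_lit 9, nat_lit 6, nat_lit 10, nat_lit 11, nat_lit 7, nat_lit 10, nat_lit 8, nat_lit 11, nat_lit 10, nat_lit 5, nat_lit 11, nat_lit 2, nat_lit 9]) (.leaf [nat_lit 5, nat_lit 6])) (.node (nat_lit 14) (.leaf [nat_lit 5, nat_lit 9, nat_lit 5, nat_lit 9]) (.leaf [nat_lit 2, nat_lit 2]))))) (.node (nat_lit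 22) (.node (nat_lit 18) (.node (nat_lit 16) (.leaf [nat_lit 9, nat_lit 9]) (.node (nat_lit 17) (.leaf [nat_lit 8, nat_lit 9, nat_lit 7, nat_lit 9]) (.leaf [nat_lit 6, nat_lit 6, nat_lit 6]))) (.node (nat_lit 20) (.node (nat_lit 19) (.leaf [nat_lit 2, nat_lit 6, nat_lit 2, nat_lit 5]) (.leaf [nat_lit 6, nat_lit 3, nat_lit 5, nat_lit 0])) (.node (nat_lit 21) (.leaf [nat_lit 2, nat_lit 0, nat_lit 2, nat_lit 0]) (.leaf [nat_lit 5, nat_lit 5, nat_lit 5])))) (.node (nat_lit 26) (.node (nat_lit 24) (.node (nat_lit 23) (.leaf [nat_lit 6, nat_lit 5]) (.leaf [nat_lit 0, nat_lit 5, nat_lit 0, nat_lit 5, nat_lit 0, nat_lit 5])) (.node (nat_lit 25) (.leaf [nat_lit 0, nat_lit 0]) (.leaf [nat_lit 9, nat_lit 0, nat_lit 9, nat_lit 0]))) (.node (nat_lit 28) (.node (nat_lit 27) (.leaf [nat_lit 0, nat_lit 6, nat_lit 0, nat_lit 6, nat_lit 0, nat_lit 6]) (.leaf [nat_lit 0, nat_lit 4, nat_lit 2, nat_lit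 0, nat_lit 4])) (.node (nat_lit 29) (.leaf [nat_lit 2, nat_lit 0, nat_lit 4, nat_lit 0, nat_lit 4]) (.leaf [nat_lit 9, nat_lit 5, nat_lit 9, nat_lit 5])))))) (.node (nat_lit 45) (.node (nat_lit 37) (.node (nat_lit 33) (.node (nat_lit 31) (.leaf [nat_lit 6, nat_lit 4, nat_lit 5, nat_lit 1]) (.node (nat_lit 32) (.leaf [nat_lit 2, nat_lit 1, nat_lit 2, nat_lit 1]) (.leaf [nat_lit 7, nat_lit 0, nat_lit 8, nat_lit 1]))) (.node (nat_lit 35) (.node (nat_lit 34) (.leaf [nat_lit 8, nat_lit 5, nat_lit 7, nat_lit 6]) (.leaf [nat_lit 7, nat_lit 8])) (.node (nat_lit 36) (.leaf [nat_lit 9, nat_lit 7, nat_lit 9, nat_lit 8]) (.leaf [nat_lit 6, nat_lit 2, nat_lit 5, nat_lit 2])))) (.node (nat_lit 41) (.node (nat_lit 39) (.node (nat_lit 38) (.leaf [nat_lit 0, nat_lit 1, nat_lit 0, nat_lit 1]) (.leaf [nat_lit 8, nat_lit 0, nat_lit 1, nat_lit 2, nat_lit 7, nat_lit 1])) (.node (nat_lit 40) (.leaf [nat_lit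 7, nat_lit 1, nat_lit 8, nat_lit 0, nat_lit 1, nat_lit 2]) (.leaf [nat_lit 5, nat_lit 0, nat_lit 6, nat_lit 3]))) (.node (nat_lit 43) (.node (nat_lit 42) (.leaf [nat_lit 8, nat_lit 6, nat_lit 7, nat_lit 5]) (.leaf [nat_lit 7, nat_lit 6, nat_lit 8, nat_lit 5])) (.node (nat_lit 44) (.leaf [nat_lit 8, nat_lit 10, nat_lit 8, nat_lit 10]) (.leaf [nat_lit 7, nat_lit 7, nat_lit 7]))))) (.node (nat_lit 53) (.node (nat_lit 49) (.node (nat_lit 47) (.node (nat_lit 46) (.leaf [nat_lit 10, nat_lit 7, nat_lit 10, nat_lit 7]) (.leaf [nat_lit 9, nat_lit 8, nat_lit 9, nat_lit 7])) (.node (nat_lit 48) (.leaf [nat_lit 11, nat_lit 8, nat_lit 11, nat_lit 8]) (.leaf [nat_lit 1, nat_lit 2, nat_lit 11, nat_lit 0, nat_lit 11, nat_lit 9]))) (.node (nat_lit 51) (.node (nat_lit 50) (.leaf [nat_lit 1, nat_lit 1]) (.leaf [nat_lit 9, nat_lit 6, nat_lit 10, nat_lit 11, nat_lit 7, nat_lit 10, nat_lit 8, nat_lit 11,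 nat_lit 10, nat_lit 5, nat_lit 11, nat_lit 2, nat_lit 9, nat_lit 6, nat_lit 10, nat_lit 11, nat_lit 7, nat_lit 10, nat_lit 8, nat_lit 11, nat_lit 10, nat_lit 5, nat_lit 11, nat_lit 2])) (.node (nat_lit 52) (.leaf [nat_lit 11, nat_lit 2, nat_lit 11, nat_lit 9]) (.leaf [nat_lit 6, nat_lit 9, nat_lit 6, nat_lit 9])))) (.node (nat_lit 57) (.node (nat_lit 55) (.node (nat_lit 54) (.leaf [nat_lit 4, nat_lit 5, nat_lit 1, nat_lit 6]) (.leaf [nat_lit 4, nat_lit 4])) (.node (nat_lit 56) (.leaf [nat_lit 1, nat_lit 6, nat_lit 1, nat_lit 6, nat_lit 1, nat_lit 6]) (.leaf [nat_lit 0, nat_lit 11, nat_lit 2, nat_lit 1, nat_lit 9, nat_lit 11]))) (.node (nat_lit 59) (.node (nat_lit 58) (.leaf [nat_lit 0, nat_lit 2, nat_lit 4, nat_lit 0, nat_lit 4]) (.leaf [nat_lit 4, nat_lit 0, nat_lit 4, nat_lit 0, nat_lit 2])) (.node (nat_lit 60) (.leaf [nat_lit 1, nat_lit 7, nat_lit 0, nat_lit 8]) (.leaf [nat_lit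 8, nat_lit 2, nat_lit 1, nat_lit 0, nat_lit 7, nat_lit 1])))))))
noncomputable def P : TCP where
  lk := tlk tb (nat_lit 3) (nat_lit 15) (nat_lit 12) (nat_lit 4095)
  inv := invT (nat_lit 823350089735190880320) (nat_lit 12)
  wt := wt.get
  gens := [nat_lit 0, nat_lit 1, nat_lit 2, nat_lit 3, nat_lit 4, nat_lit 5, nat_lit 6, nat_lit 7, nat_lit 8, nat_lit 9, nat_lit 10, nat_lit 11]
  N := nat_lit 40
  n := nat_lit 1
  eps := nat_lit 12
  VM := nat_lit 63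
  Wv := nat_lit 6
  MAXB := nat_lit 4032
  JM := nat_lit 127
  Wj := nat_lit 7
  Hm := nat_lit 2047
def ls : List Nat := [nat_lit 0, nat_lit 1, nat_lit 2, nat_lit 3, nat_lit 4, nat_lit 5, nat_lit 6, nat_lit 7, nat_lit 8, nat_lit 9, nat_lit 10, nat_lit 11, nat_lit 12]
noncomputable def ap : Nat → Nat → Nat := tlk tb (nat_lit 3) (nat_lit 15) (nat_lit 12) (nat_lit 63)
def bases : List (List Nat × Nat) := [([5], 3), ([0, 5], 3), ([1, 5], 3), ([0, 1], 2), ([3, 5, 0, 6], 1), ([4, 5, 1, 6], 1), ([0, 4, 0, 4, 2], 1), ([2, 5, 2, 6], 1), ([2, 0], 2), ([2, 1], 2), ([7], 3), ([7, 5, 8, 6], 1), ([7, 0, 8, 1], 1), ([7, 1, 8, 0, 1, 2], 1), ([9, 5, 9, 5], 1), ([9, 0], 2), ([9, 1], 2), ([9, 7, 9, 8], 1), ([10, 5, 10, 6], 1), ([10, 0, 10, 0], 1), ([10, 7, 10, 7], 1), ([9, 10, 9, 10, 2], 1), ([11, 2, 11, 9], 1), ([11, 7, 11, 7], 1), ([11, 0, 11, 9, 1, 2], 1), ([3, 4, 11], 3), ([10, 11], 3), ([11, 2,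 9, 6, 10, 11, 7, 10, 8, 11, 10, 5], 2)]
theorem c0 : RowsGood P ls 0 40 :=
  rowsGood_of (Js := [nat_lit 0x7000a002320810204081020408102, nat_lit 0x8ae663e0c004800c64001060000c0030e28180003000c4813804180003000c2830000080028d, nat_lit 0x7d1981c0200a38, nat_lit 0x32a4303801e3a, nat_lit 0x485939680080012a81, nat_lit 0x12a34838000c0000b0040f, nat_lit 0x300002000a4c010, nat_lit 0x28ae663c003c00cc4c014f800280091964c00a34, nat_lit 0x4010, nat_lit 0x88, nat_lit 0x200510, nat_lit 0x88, nat_lit 0x125cc80050010c920028801e083d34, nat_lit 0xec78004800cc81, nat_lit 0x7e3c002400684001, nat_lit 0x100087c080, nat_lit 0x5457331f002200862040020004002250000000060000003401736a0081, nat_lit 0xda42a02b0080, nat_lit 0xc401732, nat_lit 0x5448108034, nat_lit 0x500, nat_lit 0x12664f600340099c00800040024d39c0266, nat_lit 0x142940030804e, nat_lit 0x600d6b001728, nat_lit 0x48, nat_lit 0x4501, nat_lit 0x5c, nat_lit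 0x4048, nat_lit 0x80, nat_lit 0x8a, nat_lit 0x3001be92001a401, nat_lit 0xf6646e0034008c6400, nat_lit 0x405a, nat_lit 0x2f08, nat_lit 0x5a, nat_lit 0x88, nat_lit 0x3d9900090018b0182d6c03bb276, nat_lit 0x7f32001200316051560073834, nat_lit 0x192970014004e203c01, nat_lit 0x1a800000040000000c00634a6dc03974]) (by decide +kernel)
theorem f0 : RowsGood P ls 0 40 :=
  c0
theorem good : RowsGood P (List.range (P.eps + 1)) 0 P.N :=
  (f0 : RowsGood P ls 0 40)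
theorem idx {G : Type*} [Group G] {E : ℕ → G} {inv : ℕ → ℕ} (hi : ∀ l, E (inv l) = (E l)⁻¹)
    {B : List (List ℕ × ℕ)} (hB : ∀ p ∈ B, lprod E p.1 ^ p.2 = 1) (σ : List (List ℕ))
    {hs ks : List (List ℕ)} (hc : certOk P wt bases inv B σ hs ks = true) :
    (gp E hs).relIndex (gp E ks) ≠ 0 ∧ (gp E hs).relIndex (gp E ks) ≤ 1 :=
  tc_gp hi hB rfl (fun _ h => invT_of_le h) good σ hc

end Cfsg.Agent.H28.UFc7

namespace Cfsg.Agent.H28.UFc8
open Cfsg.Agent.H15 Cfsg.Agent.H14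

def tb : Tb := (.node (nat_lit 20) (.node (nat_lit 8) (.node (nat_lit 4) (.leaf (nat_lit 0x40c2782004fc0403fc0385397316002fc03c3fc03830030817c1fc0fc0302345fc03122910030012c2fc034200b040800000006041081041007210085002041081041000000fc0840000000000000000000000000000000000)) (.leaf (nat_lit 0x6081fc008c008290fc00c7210001fc0fc0087fc0fc000a081fc0046001fc00c6086fc0fc0fc0fc0fc0fc0fc0003144743fc0fc03c5343382314293041004fc03c50c500b103303fc0fc0fc0fc0fc0fc0fc0fc0005fc0fc0fc0))) (.node (nat_lit 12) (.leaf (nat_lit 0xb18afc0fc000cfc0fc0fc0fc0fc0fc0fc0fc0fc0fc000a149fc000b009fc0fc018afc0fc0fc0fc0fc0fc0fc000b108fc000800afc0189149fc0fc0fc0fc0fc0fc0fc000a0c7fc0009007fc0fc0108fc0fc0fc0fc0fc0fc0fc0)) (.node (nat_lit 16) (.leaf (nat_lit 0x228e247fc0fc0010fc0fc0fc0fc0fc0fc000efc0fc000b24d28700dfc0fc0fc0fc0fc0fc0fc0fc000ffc0fc000520c2cc00efc0fc0fc0fc0fc0fc0fc0fc0fc0fc0fc000a1cbfc0047fc0fc0fc0fc0fc000dfc0fc0315fc0fc0))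 (.leaf (nat_lit 0x1310fc0fc0fc02d4356311245014fc0fc0293010096005351fc0fc0fc0fc0fc0fc0fc02c2fc0fc0fc0fc0247000310fc0fc0fc02d2fc0fc0242012fc0fc02910160100092cffc0015fc000f2d0fc01c1fc0fc0fc0250013011))))) (.node (nat_lit 28) (.node (nat_lit 24) (.leaf (nat_lit 0x5396695fc001dfc0fc03940163434573d7317fc0314001351fc0fc0fc0fc0fc03132c3017fc0fc02d601105300b310705fc0fc0fc0fc0fc0355fc0fc0fc02ccfc03610053536c51a10183133d7fc00132c54143542d4247357)) (.leaf (nat_lit 0xa45afc0fc001afc0fc0fc0fc0fc0fc0fc0fc0fc0fc0008419fc045dfc0fc001efc0fc0fc0fc0fc0fc0fc0fc000b3d8fc0fc011ffc001a09efc0fc0fc0fc0fc0fc0fc000a394fc0019014fc0fc0fc0fc0fc0fc0fc0fc0fc0fc0))) (.node (nat_lit 32) (.leaf (nat_lit 0x74dcfc00200d9fc001cfc0fc0fc0fc0fc0fc0fc0fc000845afc0fc005cfc005901afc0fc0fc0fc0fc0fc0fc000a3d7fc049a017fc0418fc0fc0fc0fc0fc0fc0fc0fc000749bfc0fc009efc001b01ffc0fc0fc0fc0fc0fc0fc0)) (.node (nat_lit 36) (.leaf (nat_lit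 0xb5e2fc0022fc0fc0fc0fc0fc0fc0fc0fc0024fc0fc00055a1694023fc0524fc0fc00215a4fc0621fc0fc0fc000a560654154020321fc0fc05240225e25e2fc0fc039500b51ffc001f021fc0fc0fc0fc0fc0fc0fc0fc0fc0fc0)) (.leaf (nat_lit 0x2623fc0564fc04e2fc0fc0562fc0fc0fc00235a2562))))))
def wt : Wt := (.node (nat_lit 30) (.node (nat_lit 15) (.node (nat_lit 7) (.node (nat_lit 3) (.node (nat_lit 1) (.leaf [nat_lit 2, nat_lit 11, nat_lit 9, nat_lit 11]) (.node (nat_lit 2) (.leaf [nat_lit 9, nat_lit 11, nat_lit 2, nat_lit 11]) (.leaf [nat_lit 7, nat_lit 11, nat_lit 7, nat_lit 11]))) (.node (nat_lit 5) (.node (nat_lit 4) (.leaf [nat_lit 8, nat_lit 7]) (.leaf [nat_lit 0, nat_lit 11, nat_lit 9, nat_lit 1, nat_lit 2, nat_lit 11])) (.node (nat_lit 6) (.leaf [nat_lit 1, nat_lit 2, nat_lit 11, nat_lit 0, nat_lit 11, nat_lit 9]) (.leaf [nat_lit 4, nat_lit 11, nat_lit 3, nat_lit 4, nat_lit 11, nat_lit 3, nat_lit 4, nat_lit 11, nat_lit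 3])))) (.node (nat_lit 11) (.node (nat_lit 9) (.node (nat_lit 8) (.leaf [nat_lit 4, nat_lit 4]) (.leaf [nat_lit 0, nat_lit 4, nat_lit 2, nat_lit 0, nat_lit 4])) (.node (nat_lit 10) (.leaf [nat_lit 7, nat_lit 10, nat_lit 7, nat_lit 10]) (.leaf [nat_lit 11, nat_lit 10, nat_lit 11, nat_lit 10, nat_lit 11, nat_lit 10]))) (.node (nat_lit 13) (.node (nat_lit 12) (.leaf [nat_lit 2, nat_lit 5, nat_lit 2, nat_lit 6]) (.leaf [nat_lit 7, nat_lit 5, nat_lit 8, nat_lit 6])) (.node (nat_lit 14) (.leaf [nat_lit 11, nat_lit 11]) (.leaf [nat_lit 6, nat_lit 10, nat_lit 11, nat_lit 8, nat_lit 10, nat_lit 7, nat_lit 11, nat_lit 10, nat_lit 5, nat_lit 11, nat_lit 2, nat_lit 9, nat_lit 6, nat_lit 10, nat_lit 11, nat_lit 8, nat_lit 10, nat_lit 7, nat_lit 11, nat_lit 10, nat_lit 5, nat_lit 11, nat_lit 2, nat_lit 9]))))) (.node (nat_lit 22) (.node (nat_lit 18) (.node (nat_lit 16) (.leaf [nat_lit 5, nat_lit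 6]) (.node (nat_lit 17) (.leaf [nat_lit 5, nat_lit 9, nat_lit 5, nat_lit 9]) (.leaf [nat_lit 2, nat_lit 2]))) (.node (nat_lit 20) (.node (nat_lit 19) (.leaf [nat_lit 9, nat_lit 9]) (.leaf [nat_lit 8, nat_lit 9, nat_lit 7, nat_lit 9])) (.node (nat_lit 21) (.leaf [nat_lit 6, nat_lit 6, nat_lit 6]) (.leaf [nat_lit 2, nat_lit 6, nat_lit 2, nat_lit 5])))) (.node (nat_lit 26) (.node (nat_lit 24) (.node (nat_lit 23) (.leaf [nat_lit 6, nat_lit 3, nat_lit 5, nat_lit 0]) (.leaf [nat_lit 2, nat_lit 0, nat_lit 2, nat_lit 0])) (.node (nat_lit 25) (.leaf [nat_lit 5, nat_lit 5, nat_lit 5]) (.leaf [nat_lit 6, nat_lit 5]))) (.node (nat_lit 28) (.node (nat_lit 27) (.leaf [nat_lit 0, nat_lit 5, nat_lit 0, nat_lit 5, nat_lit 0, nat_lit 5]) (.leaf [nat_lit 9, nat_lit 0, nat_lit 9, nat_lit 0])) (.node (nat_lit 29) (.leaf [nat_lit 0, nat_lit 6, nat_lit 0, nat_lit 6, nat_lit 0, nat_lit 6]) (.leaf [nat_lit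 2, nat_lit 0, nat_lit 4, nat_lit 0, nat_lit 4])))))) (.node (nat_lit 45) (.node (nat_lit 37) (.node (nat_lit 33) (.node (nat_lit 31) (.leaf [nat_lit 9, nat_lit 5, nat_lit 9, nat_lit 5]) (.node (nat_lit 32) (.leaf [nat_lit 6, nat_lit 4, nat_lit 5, nat_lit 1]) (.leaf [nat_lit 2, nat_lit 1, nat_lit 2, nat_lit 1]))) (.node (nat_lit 35) (.node (nat_lit 34) (.leaf [nat_lit 7, nat_lit 0, nat_lit 8, nat_lit 1]) (.leaf [nat_lit 8, nat_lit 5, nat_lit 7, nat_lit 6])) (.node (nat_lit 36) (.leaf [nat_lit 7, nat_lit 8]) (.leaf [nat_lit 1, nat_lit 7, nat_lit 0, nat_lit 8])))) (.node (nat_lit 41) (.node (nat_lit 39) (.node (nat_lit 38) (.leaf [nat_lit 9, nat_lit 7, nat_lit 9, nat_lit 8]) (.leaf [nat_lit 1, nat_lit 5, nat_lit 1, nat_lit 5, nat_lit 1, nat_lit 5])) (.node (nat_lit 40) (.leaf [nat_lit 9, nat_lit 1, nat_lit 9, nat_lit 1]) (.leaf [nat_lit 3, nat_lit 5, nat_lit 0, nat_lit 6]))) (.node (nat_lit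 43) (.node (nat_lit 42) (.leaf [nat_lit 4, nat_lit 5, nat_lit 1, nat_lit 6]) (.leaf [nat_lit 6, nat_lit 2, nat_lit 5, nat_lit 2])) (.node (nat_lit 44) (.leaf [nat_lit 0, nat_lit 1, nat_lit 0, nat_lit 1]) (.leaf [nat_lit 0, nat_lit 0]))))) (.node (nat_lit 53) (.node (nat_lit 49) (.node (nat_lit 47) (.node (nat_lit 46) (.leaf [nat_lit 7, nat_lit 1, nat_lit 8, nat_lit 0, nat_lit 1, nat_lit 2]) (.leaf [nat_lit 5, nat_lit 0, nat_lit 6, nat_lit 3])) (.node (nat_lit 48) (.leaf [nat_lit 7, nat_lit 6, nat_lit 8, nat_lit 5]) (.leaf [nat_lit 4, nat_lit 2, nat_lit 0, nat_lit 4, nat_lit 0]))) (.node (nat_lit 51) (.node (nat_lit 50) (.leaf [nat_lit 8, nat_lit 10, nat_lit 8, nat_lit 10]) (.leaf [nat_lit 11, nat_lit 8, nat_lit 11, nat_lit 8])) (.node (nat_lit 52) (.leaf [nat_lit 8, nat_lit 8, nat_lit 8]) (.leaf [nat_lit 10, nat_lit 8, nat_lit 10, nat_lit 8])))) (.node (nat_lit 57) (.node (nat_lit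 55) (.node (nat_lit 54) (.leaf [nat_lit 10, nat_lit 10]) (.leaf [nat_lit 10, nat_lit 7, nat_lit 10, nat_lit 7])) (.node (nat_lit 56) (.leaf [nat_lit 9, nat_lit 6, nat_lit 10, nat_lit 11, nat_lit 8, nat_lit 10, nat_lit 7, nat_lit 11, nat_lit 10, nat_lit 5, nat_lit 11, nat_lit 2, nat_lit 9, nat_lit 6, nat_lit 10, nat_lit 11, nat_lit 8, nat_lit 10, nat_lit 7, nat_lit 11, nat_lit 10, nat_lit 5, nat_lit 11, nat_lit 2]) (.leaf [nat_lit 11, nat_lit 2, nat_lit 11, nat_lit 9]))) (.node (nat_lit 59) (.node (nat_lit 58) (.leaf [nat_lit 6, nat_lit 9, nat_lit 6, nat_lit 9]) (.leaf [nat_lit 3, nat_lit 3])) (.node (nat_lit 60) (.leaf [nat_lit 1, nat_lit 9, nat_lit 11, nat_lit 0, nat_lit 11, nat_lit 2]) (.leaf [nat_lit 11, nat_lit 3, nat_lit 4, nat_lit 11, nat_lit 3, nat_lit 4, nat_lit 11, nat_lit 3, nat_lit 4])))))))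
noncomputable def P : TCP where
  lk := tlk tb (nat_lit 3) (nat_lit 15) (nat_lit 12) (nat_lit 4095)
  inv := invT (nat_lit 823350089735190880320) (nat_lit 12)
  wt := wt.get
  gens := [nat_lit 0, nat_lit 1, nat_lit 2, nat_lit 3, nat_lit 4, nat_lit 5, nat_lit 6, nat_lit 7, nat_lit 8, nat_lit 9, nat_lit 10, nat_lit 11]
  N := nat_lit 37
  n := nat_lit 1
  eps := nat_lit 12
  VM := nat_lit 63
  Wv := nat_lit 6
  MAXB := nat_lit 4032
  JM := nat_lit 127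
  Wj := nat_lit 7
  Hm := nat_lit 2047
def ls : List Nat := [nat_lit 0, nat_lit 1, nat_lit 2, nat_lit 3, nat_lit 4, nat_lit 5, nat_lit 6, nat_lit 7, nat_lit 8, nat_lit 9, nat_lit 10, nat_lit 11, nat_lit 12]
noncomputable def ap : Nat → Nat → Nat := tlk tb (nat_lit 3) (nat_lit 15) (nat_lit 12) (nat_lit 63)
def bases : List (List Nat × Nat) := [([5], 3), ([0, 5], 3), ([1, 5], 3), ([0, 1], 2), ([3, 5, 0, 6], 1), ([4, 5, 1, 6], 1), ([0, 4, 0, 4, 2], 1), ([2, 5, 2, 6], 1), ([2, 0], 2), ([2, 1], 2), ([7], 3), ([7, 5, 8, 6], 1), ([7, 0, 8, 1], 1), ([7, 1, 8, 0, 1, 2], 1), ([9, 5, 9, 5], 1), ([9, 0], 2), ([9, 1], 2), ([9, 7, 9, 8], 1), ([10, 5, 10, 6], 1), ([10, 0, 10, 0], 1), ([10, 7, 10, 7], 1), ([9, 10, 9, 10, 2], 1), ([11, 2, 11, 9], 1), ([11, 7, 11, 7], 1), ([11, 0, 11, 9, 1, 2], 1), ([3, 4, 11], 3), ([10, 11], 3), ([11, 2, 9, 6, 10, 11, 8, 10, 7, 11, 10, 5], 2)]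
theorem c0 : RowsGood P ls 0 37 :=
  rowsGood_of (Js := [nat_lit 0x7000a0023e0810204081020408102, nat_lit 0x2aa298b878583001a0059f0004180003000c38a060000c0031205112020c0001800614060000400147830000080028d, nat_lit 0xaa45a98b87850019005798121b220200d3c, nat_lit 0x2a2fab8b87001400413033a5364401f14, nat_lit 0x485939680080013081, nat_lit 0x145f5716130026007f33a44a6c880018000160082202614, nat_lit 0x18000100053200516, nat_lit 0x1e029f00050012938b001a, nat_lit 0x4016, nat_lit 0x4508, nat_lit 0x4016, nat_lit 0x1, nat_lit 0x600a6, nat_lit 0xec78004800cf81, nat_lit 0x7e3c00240069c001, nat_lit 0x1000894080, nat_lit 0x400200040022b0000000060000003401742b8081, nat_lit 0x1d3002c8080, nat_lit 0x1a38, nat_lit 0xa42a342031005c, nat_lit 0x4875200140046e780a81401a56a8ba85c, nat_lit 0x15e5316001a004ba2000100096420c, nat_lit 0x2f42031005a, nat_lit 0xc30006001dd0388034c951738, nat_lit 0x80, nat_lit 0x1b80ca,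 nat_lit 0x3401, nat_lit 0, nat_lit 0x1b8001, nat_lit 0x78066, nat_lit 0x1b3500, nat_lit 0x7800, nat_lit 0x1, nat_lit 0x4345432929294345430024004fd3000376035aa5c, nat_lit 0x21d48004800fc815001178, nat_lit 0x1, nat_lit 0x3a000000080000001800c735803d3c]) (by decide +kernel)
theorem f0 : RowsGood P ls 0 37 :=
  c0
theorem good : RowsGood P (List.range (P.eps + 1)) 0 P.N :=
  (f0 : RowsGood P ls 0 37)
theorem idx {G : Type*} [Group G] {E : ℕ → G} {inv : ℕ → ℕ} (hi : ∀ l, E (inv l) = (E l)⁻¹)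
    {B : List (List ℕ × ℕ)} (hB : ∀ p ∈ B, lprod E p.1 ^ p.2 = 1) (σ : List (List ℕ))
    {hs ks : List (List ℕ)} (hc : certOk P wt bases inv B σ hs ks = true) :
    (gp E hs).relIndex (gp E ks) ≠ 0 ∧ (gp E hs).relIndex (gp E ks) ≤ 1 :=
  tc_gp hi hB rfl (fun _ h => invT_of_le h) good σ hc

end Cfsg.Agent.H28.UFc8

namespace Cfsg.Agent.H28.UFc9
open Cfsg.Agent.H15 Cfsg.Agent.H14

def tb : Tb := (.node (nat_lit 12) (.node (nat_lit 4) (.leaf (nat_lit 0x106288404f83e0f83e0f83e0f83e0f83e0f800310601f83e0f83e0f80f32c803007e0f810202c209000001821f83e001c71114020844108400003e0980000000000000000000000000000)) (.node (nat_lit 8) (.leaf (nat_lit 0x1841784ce023e0f83e01c40119c4711fe02cc0a107e00980111be0f8048053e0f8066f83e000ca4807e0f83e0f83e0f83e008404f83e0f800b20e21f83e0f83e0f83e0f83e0017e0f83e0)) (.leaf (nat_lit 0x8caf800c058caf83e0f83e0f83e0f83e0f800a2a7e0f80093afe0f83e0f83e0f800bf83e002c88f8008028a9f83e0f83e0f83e0f83e0f800a19fe0027e0253e0f83e009be0f8088f83e0))))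 (.node (nat_lit 16) (.leaf (nat_lit 0x2d4e29c0ef83e0f83e0f83e0f83e0043e0f80054b5ad03fe03bbe0f83e0637e0f83e0f83e00290cf8171f816df83e0f800ef83e0f83e0f800b3afe0f800df83e0f83e0f83e0f83e0f83e0)) (.node (nat_lit 20) (.leaf (nat_lit 0x15d27cbe0f83e0f83e0048c23cd3334fe021c006c5e7f83e0f83e0f808204fe0344b2f80110259071c1525010f83e010487f80f2247e0048025bc87f83e0047e0f83e0f83e0f800ff83e0)) (.leaf (nat_lit 0xa3afe0f800bf83e0f83e0f83e0f8109f83e002db153411f80b5f83e0f83e0f83e0f83e0f800519be04d8711a3e0f83e0f83e0f83e0f83e0)))))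
def wt : Wt := (.node (nat_lit 18) (.node (nat_lit 9) (.node (nat_lit 4) (.node (nat_lit 2) (.node (nat_lit 1) (.leaf [nat_lit 2, nat_lit 11, nat_lit 9, nat_lit 11]) (.leaf [nat_lit 9, nat_lit 11, nat_lit 2, nat_lit 11])) (.node (nat_lit 3) (.leaf [nat_lit 0, nat_lit 11, nat_lit 9, nat_lit 1, nat_lit 2, nat_lit 11]) (.leaf [nat_lit 1, nat_lit 2, nat_lit 11, nat_lit 0, nat_lit 11, nat_lit 9]))) (.node (nat_lit 6) (.node (nat_lit 5) (.leaf [nat_lit 4, nat_lit 11, nat_lit 3, nat_lit 4, nat_lit 11, nat_lit 3, nat_lit 4, nat_lit 11, nat_lit 3]) (.leaf [nat_lit 4, nat_lit 4])) (.node (nat_lit 7) (.leaf [nat_lit 9, nat_lit 10, nat_lit 2, nat_lit 9, nat_lit 10]) (.node (nat_lit 8) (.leaf [nat_lit 2, nat_lit 9, nat_lit 10, nat_lit 9, nat_lit 10]) (.leaf [nat_lit 11, nat_lit 10, nat_lit 11, nat_lit 10, nat_lit 11, nat_lit 10]))))) (.node (nat_lit 13) (.node (nat_lit 11) (.node (nat_lit 10)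 (.leaf [nat_lit 3, nat_lit 5, nat_lit 0, nat_lit 6]) (.leaf [nat_lit 4, nat_lit 5, nat_lit 1, nat_lit 6])) (.node (nat_lit 12) (.leaf [nat_lit 2, nat_lit 5, nat_lit 2, nat_lit 6]) (.leaf [nat_lit 5, nat_lit 10, nat_lit 6, nat_lit 10]))) (.node (nat_lit 15) (.node (nat_lit 14) (.leaf [nat_lit 6, nat_lit 5]) (.leaf [nat_lit 9, nat_lit 10, nat_lit 9, nat_lit 10, nat_lit 2])) (.node (nat_lit 16) (.leaf [nat_lit 9, nat_lit 9]) (.node (nat_lit 17) (.leaf [nat_lit 6, nat_lit 10, nat_lit 11, nat_lit 10, nat_lit 2, nat_lit 11, nat_lit 10, nat_lit 5, nat_lit 11, nat_lit 2, nat_lit 9, nat_lit 6, nat_lit 10, nat_lit 11, nat_lit 10, nat_lit 2, nat_lit 11, nat_lit 10, nat_lit 5, nat_lit 11, nat_lit 2, nat_lit 9]) (.leaf [nat_lit 5, nat_lit 6])))))) (.node (nat_lit 27) (.node (nat_lit 22) (.node (nat_lit 20) (.node (nat_lit 19) (.leaf [nat_lit 5, nat_lit 9, nat_lit 5, nat_lit 9]) (.leaf [nat_lit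 2, nat_lit 2])) (.node (nat_lit 21) (.leaf [nat_lit 11, nat_lit 11]) (.leaf [nat_lit 6, nat_lit 6, nat_lit 6]))) (.node (nat_lit 24) (.node (nat_lit 23) (.leaf [nat_lit 2, nat_lit 6, nat_lit 2, nat_lit 5]) (.leaf [nat_lit 6, nat_lit 3, nat_lit 5, nat_lit 0])) (.node (nat_lit 25) (.leaf [nat_lit 2, nat_lit 0, nat_lit 2, nat_lit 0]) (.node (nat_lit 26) (.leaf [nat_lit 5, nat_lit 5, nat_lit 5]) (.leaf [nat_lit 0, nat_lit 5, nat_lit 0, nat_lit 5, nat_lit 0, nat_lit 5]))))) (.node (nat_lit 31) (.node (nat_lit 29) (.node (nat_lit 28) (.leaf [nat_lit 0, nat_lit 0]) (.leaf [nat_lit 3, nat_lit 3])) (.node (nat_lit 30) (.leaf [nat_lit 4, nat_lit 2, nat_lit 0, nat_lit 4, nat_lit 0]) (.leaf [nat_lit 0, nat_lit 6, nat_lit 0, nat_lit 6, nat_lit 0, nat_lit 6]))) (.node (nat_lit 33) (.node (nat_lit 32) (.leaf [nat_lit 9, nat_lit 5, nat_lit 9, nat_lit 5]) (.leaf [nat_lit 10, nat_lit 6, nat_lit 10,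 nat_lit 5])) (.node (nat_lit 34) (.leaf [nat_lit 10, nat_lit 10]) (.node (nat_lit 35) (.leaf [nat_lit 11, nat_lit 2, nat_lit 11, nat_lit 9]) (.leaf [nat_lit 10, nat_lit 11, nat_lit 10, nat_lit 11, nat_lit 10, nat_lit 11])))))))
noncomputable def P : TCP where
  lk := tlk tb (nat_lit 3) (nat_lit 15) (nat_lit 10) (nat_lit 1023)
  inv := invT (nat_lit 823350089735190880320) (nat_lit 12)
  wt := wt.get
  gens := [nat_lit 0, nat_lit 1, nat_lit 2, nat_lit 3, nat_lit 4, nat_lit 5, nat_lit 6, nat_lit 7, nat_lit 8, nat_lit 9, nat_lit 10, nat_lit 11]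
  N := nat_lit 23
  n := nat_lit 1
  eps := nat_lit 12
  VM := nat_lit 31
  Wv := nat_lit 5
  MAXB := nat_lit 992
  JM := nat_lit 127
  Wj := nat_lit 7
  Hm := nat_lit 2047
def ls : List Nat := [nat_lit 0, nat_lit 1, nat_lit 2, nat_lit 3, nat_lit 4, nat_lit 5, nat_lit 6, nat_lit 7, nat_lit 8, nat_lit 9, nat_lit 10, nat_lit 11, nat_lit 12]
noncomputable def ap : Nat → Nat → Nat := tlk tb (nat_lit 3) (nat_lit 15) (nat_lit 10) (nat_lit 31)
def bases : List (List Nat × Nat) := [([5], 3), ([0, 5], 3), ([1, 5], 3), ([0, 1], 2), ([3, 5, 0, 6], 1), ([4, 5, 1, 6], 1), ([0, 4, 0, 4, 2], 1), ([2, 5, 2, 6], 1), ([2, 0], 2), ([2, 1], 2), ([7], 3), ([7, 5, 8, 6], 1), ([7, 0, 8, 1], 1), ([7, 1, 8, 0, 1, 2], 1), ([9, 5, 9, 5], 1), ([9, 0], 2), ([9, 1], 2), ([9, 7, 9, 8], 1), ([10, 5, 10, 6], 1), ([10, 0, 10, 0], 1), ([10, 7, 10, 7], 1), ([9, 10, 9, 10, 2], 1), ([11, 2, 11, 9], 1), ([11, 7, 11, 7],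 1), ([11, 0, 11, 9, 1, 2], 1), ([3, 4, 11], 3), ([10, 11], 3), ([11, 2, 9, 6, 10, 11, 10, 2, 11, 10, 5], 2)]
theorem c0 : RowsGood P ls 0 23 :=
  rowsGood_of (Js := [nat_lit 0x700090025a0810204081020408102, nat_lit 0x20f0c0024008b40010c000160061c0a61c04300005801850300001e00a2c300000780289, nat_lit 0x5674f967c0090021e9e4c04040, nat_lit 0xb0c5c005c010781, nat_lit 0x170c2c005c011e81, nat_lit 0x5674f967c009002078006000054020680, nat_lit 0x600003c014a802078092, nat_lit 0x239e00100033ebe00090025a057003058d3a, nat_lit 0x288e1a, nat_lit 0x86, nat_lit 0x1101, nat_lit 0x40a0, nat_lit 0x1, nat_lit 0x1ac0012004b5ad5c004000d181, nat_lit 0xe9b3a00150035e041000200103a8, nat_lit 0x433c0020006ac001, nat_lit 0x10008a4080, nat_lit 0x174fc00480116818c000000000c000001780aa54cf1801, nat_lit 0x8e78004000deb20259a00, nat_lit 0x18c0016006ec0367c59838, nat_lit 0x122242, nat_lit 0x568d4ad2e64005400d2c006, nat_lit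 0x12]) (by decide +kernel)
theorem f0 : RowsGood P ls 0 23 :=
  c0
theorem good : RowsGood P (List.range (P.eps + 1)) 0 P.N :=
  (f0 : RowsGood P ls 0 23)
theorem idx {G : Type*} [Group G] {E : ℕ → G} {inv : ℕ → ℕ} (hi : ∀ l, E (inv l) = (E l)⁻¹)
    {B : List (List ℕ × ℕ)} (hB : ∀ p ∈ B, lprod E p.1 ^ p.2 = 1) (σ : List (List ℕ))
    {hs ks : List (List ℕ)} (hc : certOk P wt bases inv B σ hs ks = true) :
    (gp E hs).relIndex (gp E ks) ≠ 0 ∧ (gp E hs).relIndex (gp E ks) ≤ 1 :=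
  tc_gp hi hB rfl (fun _ h => invT_of_le h) good σ hc

end Cfsg.Agent.H28.UFc9

namespace Cfsg.Agent.H28.UFc10
open Cfsg.Agent.H15 Cfsg.Agent.H14

def tb : Tb := (.node (nat_lit 12) (.node (nat_lit 4) (.leaf (nat_lit 0x106298404f83e0f83e0f83e0f83e0f83e0f800310641f83e0f83e0f81b35c803007e0f81c202c20a0000018211042101d31114020844108400003e0a80000000000000000000000000000)) (.node (nat_lit 8) (.leaf (nat_lit 0x18418858e023e0f80674c40119c4711fe05cc0a107e00980111be011848053e0f8066f83e000ca4907e0f83e0f83e0f83e008404f83e0f800b20e61f83e0f83e0f83e0f83e0017e0f83e0)) (.leaf (nat_lit 0x8caf800c058caf83e0f83e0f83e0f83e0f800a2a7e0f80093acea32be0f83e0f800bf83e002c88f8008028a9f80a9f83e0f83e0f83e0f800a19fe002407253e0223e009be0f8088f83e0)))) (.node (nat_lit 16) (.leaf (nat_lit 0x2d4e59c0ef83e0f83e0f83e0f83e0043e0f80054b5ed03fe06bbe0f83e0737e0f83e0f83e00290cf8191f818df83e0f800ef83e0f83e0f800b3afe0f800df83e0f83e0f83e0f83e0f83e0))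 (.node (nat_lit 20) (.leaf (nat_lit 0x15d28cbe0f83e0f83e0049826cdf364fe051c006c627f83e0f83e0f814204fe064572f80110259081c1555010f83e040547f81b2547e0048025bd47f83e0047e0f83e0f83e0f800ff83e0)) (.leaf (nat_lit 0xa3afe0f800bf83e0f83e0f83e0f8109f83e002db15b411f8175f83e0f83e0f83e0f83e0f800519be04d9311a3e0f83e0f83e0f83e0f83e0)))))
def wt : Wt := (.node (nat_lit 20) (.node (nat_lit 10) (.node (nat_lit 5) (.node (nat_lit 2) (.node (nat_lit 1) (.leaf [nat_lit 2, nat_lit 11, nat_lit 9, nat_lit 11]) (.leaf [nat_lit 9, nat_lit 11, nat_lit 2, nat_lit 11])) (.node (nat_lit 3) (.leaf [nat_lit 7, nat_lit 11, nat_lit 7, nat_lit 11]) (.node (nat_lit 4) (.leaf [nat_lit 8, nat_lit 7]) (.leaf [nat_lit 0, nat_lit 11, nat_lit 9, nat_lit 1, nat_lit 2, nat_lit 11])))) (.node (nat_lit 7) (.node (nat_lit 6) (.leaf [nat_lit 1, nat_lit 2, nat_lit 11, nat_lit 0, nat_lit 11, nat_lit 9]) (.leaf [nat_lit 4, nat_lit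 11, nat_lit 3, nat_lit 4, nat_lit 11, nat_lit 3, nat_lit 4, nat_lit 11, nat_lit 3])) (.node (nat_lit 8) (.leaf [nat_lit 4, nat_lit 4]) (.node (nat_lit 9) (.leaf [nat_lit 7, nat_lit 10, nat_lit 7, nat_lit 10]) (.leaf [nat_lit 9, nat_lit 10, nat_lit 2, nat_lit 9, nat_lit 10]))))) (.node (nat_lit 15) (.node (nat_lit 12) (.node (nat_lit 11) (.leaf [nat_lit 2, nat_lit 9, nat_lit 10, nat_lit 9, nat_lit 10]) (.leaf [nat_lit 11, nat_lit 10, nat_lit 11, nat_lit 10, nat_lit 11, nat_lit 10])) (.node (nat_lit 13) (.leaf [nat_lit 3, nat_lit 5, nat_lit 0, nat_lit 6]) (.node (nat_lit 14) (.leaf [nat_lit 4, nat_lit 5, nat_lit 1, nat_lit 6]) (.leaf [nat_lit 2, nat_lit 5, nat_lit 2, nat_lit 6])))) (.node (nat_lit 17) (.node (nat_lit 16) (.leaf [nat_lit 7, nat_lit 5, nat_lit 8, nat_lit 6]) (.leaf [nat_lit 5, nat_lit 10, nat_lit 6, nat_lit 10])) (.node (nat_lit 18) (.leaf [nat_lit 6, nat_lit 5]) (.node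 (nat_lit 19) (.leaf [nat_lit 9, nat_lit 10, nat_lit 9, nat_lit 10, nat_lit 2]) (.leaf [nat_lit 9, nat_lit 9])))))) (.node (nat_lit 30) (.node (nat_lit 25) (.node (nat_lit 22) (.node (nat_lit 21) (.leaf [nat_lit 6, nat_lit 10, nat_lit 11, nat_lit 7, nat_lit 10, nat_lit 8, nat_lit 2, nat_lit 11, nat_lit 10, nat_lit 5, nat_lit 11, nat_lit 2, nat_lit 9, nat_lit 6, nat_lit 10, nat_lit 11, nat_lit 7, nat_lit 10, nat_lit 8, nat_lit 2, nat_lit 11, nat_lit 10, nat_lit 5, nat_lit 11, nat_lit 2, nat_lit 9]) (.leaf [nat_lit 5, nat_lit 6])) (.node (nat_lit 23) (.leaf [nat_lit 5, nat_lit 9, nat_lit 5, nat_lit 9]) (.node (nat_lit 24) (.leaf [nat_lit 2, nat_lit 2]) (.leaf [nat_lit 11, nat_lit 11])))) (.node (nat_lit 27) (.node (nat_lit 26) (.leaf [nat_lit 6, nat_lit 6, nat_lit 6]) (.leaf [nat_lit 2, nat_lit 6, nat_lit 2, nat_lit 5])) (.node (nat_lit 28) (.leaf [nat_lit 6, nat_lit 3, nat_lit 5, nat_lit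 0]) (.node (nat_lit 29) (.leaf [nat_lit 2, nat_lit 0, nat_lit 2, nat_lit 0]) (.leaf [nat_lit 5, nat_lit 5, nat_lit 5]))))) (.node (nat_lit 35) (.node (nat_lit 32) (.node (nat_lit 31) (.leaf [nat_lit 0, nat_lit 5, nat_lit 0, nat_lit 5, nat_lit 0, nat_lit 5]) (.leaf [nat_lit 0, nat_lit 0])) (.node (nat_lit 33) (.leaf [nat_lit 3, nat_lit 3]) (.node (nat_lit 34) (.leaf [nat_lit 4, nat_lit 2, nat_lit 0, nat_lit 4, nat_lit 0]) (.leaf [nat_lit 0, nat_lit 6, nat_lit 0, nat_lit 6, nat_lit 0, nat_lit 6])))) (.node (nat_lit 37) (.node (nat_lit 36) (.leaf [nat_lit 9, nat_lit 5, nat_lit 9, nat_lit 5]) (.leaf [nat_lit 10, nat_lit 6, nat_lit 10, nat_lit 5])) (.node (nat_lit 38) (.leaf [nat_lit 10, nat_lit 10]) (.node (nat_lit 39) (.leaf [nat_lit 11, nat_lit 2, nat_lit 11, nat_lit 9]) (.leaf [nat_lit 10, nat_lit 11, nat_lit 10, nat_lit 11, nat_lit 10, nat_lit 11])))))))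
noncomputable def P : TCP where
  lk := tlk tb (nat_lit 3) (nat_lit 15) (nat_lit 10) (nat_lit 1023)
  inv := invT (nat_lit 823350089735190880320) (nat_lit 12)
  wt := wt.get
  gens := [nat_lit 0, nat_lit 1, nat_lit 2, nat_lit 3, nat_lit 4, nat_lit 5, nat_lit 6, nat_lit 7, nat_lit 8, nat_lit 9, nat_lit 10, nat_lit 11]
  N := nat_lit 23
  n := nat_lit 1
  eps := nat_lit 12
  VM := nat_lit 31
  Wv := nat_lit 5
  MAXB := nat_lit 992
  JM := nat_lit 127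
  Wj := nat_lit 7
  Hm := nat_lit 2047
def ls : List Nat := [nat_lit 0, nat_lit 1, nat_lit 2, nat_lit 3, nat_lit 4, nat_lit 5, nat_lit 6, nat_lit 7, nat_lit 8, nat_lit 9, nat_lit 10, nat_lit 11, nat_lit 12]
noncomputable def ap : Nat → Nat → Nat := tlk tb (nat_lit 3) (nat_lit 15) (nat_lit 10) (nat_lit 31)
def bases : List (List Nat × Nat) := [([5], 3), ([0, 5], 3), ([1, 5], 3), ([0, 1], 2), ([3, 5, 0, 6], 1), ([4, 5, 1, 6], 1), ([0, 4, 0, 4, 2], 1), ([2, 5, 2, 6], 1), ([2, 0], 2), ([2, 1], 2), ([7], 3), ([7, 5, 8, 6], 1), ([7, 0, 8, 1], 1), ([7, 1, 8, 0, 1, 2], 1), ([9, 5, 9, 5], 1), ([9, 0], 2), ([9, 1], 2), ([9, 7, 9, 8], 1), ([10, 5, 10, 6], 1), ([10, 0, 10, 0], 1), ([10, 7, 10, 7], 1), ([9, 10, 9, 10, 2], 1), ([11, 2, 11, 9], 1), ([11, 7, 11, 7], 1), ([11, 0, 11, 9, 1, 2], 1), ([3, 4, 11], 3), ([10, 11], 3), ([11, 2, 9, 6, 10, 11, 7, 10, 8, 2, 11, 10, 5], 2)]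
theorem c0 : RowsGood P ls 0 23 :=
  rowsGood_of (Js := [nat_lit 0x700090026a0810204081020408102, nat_lit 0x41e180048011a8002180002c00c38a0c00016006240ae2404300005801850300001e00a3c30000078028d, nat_lit 0x5674f967c00900222a65c04048, nat_lit 0xb0c5c005c010981, nat_lit 0x170c2c005c012281, nat_lit 0x5674f967c009002098006000054020880, nat_lit 0x300001e00a6c0162898098, nat_lit 0x11cf0008001a75f0004801350289b003c71042, nat_lit 0x805451220, nat_lit 0x4308, nat_lit 0x5428a01, nat_lit 0x40a8, nat_lit 0x1, nat_lit 0x1ac0012004d5ad5c004000d581, nat_lit 0xe9b3a00150036e041000200103b0, nat_lit 0x433c0020006cc001, nat_lit 0x10008c4080, nat_lit 0x174fc0048011a819c0000000000c0000001b80cad5d11c01, nat_lit 0x8e78004000e2ba0271e00, nat_lit 0x18c00160070c03e8c71c40, nat_lit 0x14264a, nat_lit 0x568d4ad2e64005400d4c006, nat_lit 0x18]) (by decide +kernel)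
theorem f0 : RowsGood P ls 0 23 :=
  c0
theorem good : RowsGood P (List.range (P.eps + 1)) 0 P.N :=
  (f0 : RowsGood P ls 0 23)
theorem idx {G : Type*} [Group G] {E : ℕ → G} {inv : ℕ → ℕ} (hi : ∀ l, E (inv l) = (E l)⁻¹)
    {B : List (List ℕ × ℕ)} (hB : ∀ p ∈ B, lprod E p.1 ^ p.2 = 1) (σ : List (List ℕ))
    {hs ks : List (List ℕ)} (hc : certOk P wt bases inv B σ hs ks = true) :
    (gp E hs).relIndex (gp E ks) ≠ 0 ∧ (gp E hs).relIndex (gp E ks) ≤ 1 :=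
  tc_gp hi hB rfl (fun _ h => invT_of_le h) good σ hc

end Cfsg.Agent.H28.UFc10

namespace Cfsg.Agent.H28.UFc11
open Cfsg.Agent.H15 Cfsg.Agent.H14

def tb : Tb := (.node (nat_lit 12) (.node (nat_lit 4) (.leaf (nat_lit 0x106290404f83e0f83e0f83e0f83e0f83e0f800310621f83e0f83e0f819354803007e0f81a202c2098000018211042101d11114020844108400003e0a00000000000000000000000000000)) (.node (nat_lit 8) (.leaf (nat_lit 0x18418056e023e0f80674440119c4711fe054c0a107e0098011186611848053e0f8066f83e000ca4887e0f83e0f83e0f83e008404f83e0f800b20e41f83e0f83e0f83e0f83e0017e0f83e0)) (.leaf (nat_lit 0x8caf800c058caf83e0f83e0f83e0f83e0f800a2a7e0f80093afe032be0f83e0f800bf83e002c88f8008028a9324a9f83e0f83e0f83e0f800a19fe002407253e0223e009be0f8088f83e0)))) (.node (nat_lit 16) (.leaf (nat_lit 0x2d4e51c0ef83e0f83e0f83e0f83e0043e0f80054b5cd03fe063be0f83e06b7e0f83e0f83e00290cf8171f816df83e0f800ef83e0f83e0f800b3afe0f800df83e0f83e0f83e0f83e0f83e0))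 (.node (nat_lit 20) (.leaf (nat_lit 0x15d284be0f83e0f83e00496264dd35cfe049c006c607f83e0f83e0f812204fe05c552f80110259079c154d010f83e038527f81924c7e0048025bd27f83e0047e0f83e0f83e0f800ff83e0)) (.leaf (nat_lit 0xa3afe0f800bf83e0f83e0f83e0f8109f83e002db153411f8155f83e0f83e0f83e0f83e0f800519be04d9111a3e0f83e0f83e0f83e0f83e0)))))
def wt : Wt := (.node (nat_lit 20) (.node (nat_lit 10) (.node (nat_lit 5) (.node (nat_lit 2) (.node (nat_lit 1) (.leaf [nat_lit 2, nat_lit 11, nat_lit 9, nat_lit 11]) (.leaf [nat_lit 9, nat_lit 11, nat_lit 2, nat_lit 11])) (.node (nat_lit 3) (.leaf [nat_lit 7, nat_lit 11, nat_lit 7, nat_lit 11]) (.node (nat_lit 4) (.leaf [nat_lit 8, nat_lit 7]) (.leaf [nat_lit 0, nat_lit 11, nat_lit 9, nat_lit 1, nat_lit 2, nat_lit 11])))) (.node (nat_lit 7) (.node (nat_lit 6) (.leaf [nat_lit 1, nat_lit 2, nat_lit 11, nat_lit 0, nat_lit 11, nat_lit 9]) (.leaf [nat_lit 4, nat_lit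 11, nat_lit 3, nat_lit 4, nat_lit 11, nat_lit 3, nat_lit 4, nat_lit 11, nat_lit 3])) (.node (nat_lit 8) (.leaf [nat_lit 4, nat_lit 4]) (.node (nat_lit 9) (.leaf [nat_lit 7, nat_lit 10, nat_lit 7, nat_lit 10]) (.leaf [nat_lit 9, nat_lit 10, nat_lit 2, nat_lit 9, nat_lit 10]))))) (.node (nat_lit 15) (.node (nat_lit 12) (.node (nat_lit 11) (.leaf [nat_lit 2, nat_lit 9, nat_lit 10, nat_lit 9, nat_lit 10]) (.leaf [nat_lit 11, nat_lit 10, nat_lit 11, nat_lit 10, nat_lit 11, nat_lit 10])) (.node (nat_lit 13) (.leaf [nat_lit 3, nat_lit 5, nat_lit 0, nat_lit 6]) (.node (nat_lit 14) (.leaf [nat_lit 4, nat_lit 5, nat_lit 1, nat_lit 6]) (.leaf [nat_lit 2, nat_lit 5, nat_lit 2, nat_lit 6])))) (.node (nat_lit 17) (.node (nat_lit 16) (.leaf [nat_lit 7, nat_lit 5, nat_lit 8, nat_lit 6]) (.leaf [nat_lit 5, nat_lit 10, nat_lit 6, nat_lit 10])) (.node (nat_lit 18) (.leaf [nat_lit 6, nat_lit 5]) (.node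 (nat_lit 19) (.leaf [nat_lit 9, nat_lit 10, nat_lit 9, nat_lit 10, nat_lit 2]) (.leaf [nat_lit 9, nat_lit 9])))))) (.node (nat_lit 30) (.node (nat_lit 25) (.node (nat_lit 22) (.node (nat_lit 21) (.leaf [nat_lit 6, nat_lit 10, nat_lit 11, nat_lit 8, nat_lit 10, nat_lit 7, nat_lit 2, nat_lit 11, nat_lit 10, nat_lit 5, nat_lit 11, nat_lit 2, nat_lit 9, nat_lit 6, nat_lit 10, nat_lit 11, nat_lit 8, nat_lit 10, nat_lit 7, nat_lit 2, nat_lit 11, nat_lit 10, nat_lit 5, nat_lit 11, nat_lit 2, nat_lit 9]) (.leaf [nat_lit 5, nat_lit 6])) (.node (nat_lit 23) (.leaf [nat_lit 5, nat_lit 9, nat_lit 5, nat_lit 9]) (.node (nat_lit 24) (.leaf [nat_lit 2, nat_lit 2]) (.leaf [nat_lit 11, nat_lit 11])))) (.node (nat_lit 27) (.node (nat_lit 26) (.leaf [nat_lit 6, nat_lit 6, nat_lit 6]) (.leaf [nat_lit 2, nat_lit 6, nat_lit 2, nat_lit 5])) (.node (nat_lit 28) (.leaf [nat_lit 6, nat_lit 3, nat_lit 5, nat_lit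 0]) (.node (nat_lit 29) (.leaf [nat_lit 2, nat_lit 0, nat_lit 2, nat_lit 0]) (.leaf [nat_lit 5, nat_lit 5, nat_lit 5]))))) (.node (nat_lit 35) (.node (nat_lit 32) (.node (nat_lit 31) (.leaf [nat_lit 0, nat_lit 5, nat_lit 0, nat_lit 5, nat_lit 0, nat_lit 5]) (.leaf [nat_lit 0, nat_lit 0])) (.node (nat_lit 33) (.leaf [nat_lit 3, nat_lit 3]) (.node (nat_lit 34) (.leaf [nat_lit 4, nat_lit 2, nat_lit 0, nat_lit 4, nat_lit 0]) (.leaf [nat_lit 0, nat_lit 6, nat_lit 0, nat_lit 6, nat_lit 0, nat_lit 6])))) (.node (nat_lit 37) (.node (nat_lit 36) (.leaf [nat_lit 9, nat_lit 5, nat_lit 9, nat_lit 5]) (.leaf [nat_lit 10, nat_lit 6, nat_lit 10, nat_lit 5])) (.node (nat_lit 38) (.leaf [nat_lit 10, nat_lit 10]) (.node (nat_lit 39) (.leaf [nat_lit 11, nat_lit 2, nat_lit 11, nat_lit 9]) (.leaf [nat_lit 10, nat_lit 11, nat_lit 10, nat_lit 11, nat_lit 10, nat_lit 11])))))))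
noncomputable def P : TCP where
  lk := tlk tb (nat_lit 3) (nat_lit 15) (nat_lit 10) (nat_lit 1023)
  inv := invT (nat_lit 823350089735190880320) (nat_lit 12)
  wt := wt.get
  gens := [nat_lit 0, nat_lit 1, nat_lit 2, nat_lit 3, nat_lit 4, nat_lit 5, nat_lit 6, nat_lit 7, nat_lit 8, nat_lit 9, nat_lit 10, nat_lit 11]
  N := nat_lit 23
  n := nat_lit 1
  eps := nat_lit 12
  VM := nat_lit 31
  Wv := nat_lit 5
  MAXB := nat_lit 992
  JM := nat_lit 127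
  Wj := nat_lit 7
  Hm := nat_lit 2047
def ls : List Nat := [nat_lit 0, nat_lit 1, nat_lit 2, nat_lit 3, nat_lit 4, nat_lit 5, nat_lit 6, nat_lit 7, nat_lit 8, nat_lit 9, nat_lit 10, nat_lit 11, nat_lit 12]
noncomputable def ap : Nat → Nat → Nat := tlk tb (nat_lit 3) (nat_lit 15) (nat_lit 10) (nat_lit 31)
def bases : List (List Nat × Nat) := [([5], 3), ([0, 5], 3), ([1, 5], 3), ([0, 1], 2), ([3, 5, 0, 6], 1), ([4, 5, 1, 6], 1), ([0, 4, 0, 4, 2], 1), ([2, 5, 2, 6], 1), ([2, 0], 2), ([2, 1], 2), ([7], 3), ([7, 5, 8, 6], 1), ([7, 0, 8, 1], 1), ([7, 1, 8, 0, 1, 2], 1), ([9, 5, 9, 5], 1), ([9, 0], 2), ([9, 1], 2), ([9, 7, 9, 8], 1), ([10, 5, 10, 6], 1), ([10, 0, 10, 0], 1), ([10, 7, 10, 7], 1), ([9, 10, 9, 10, 2], 1), ([11, 2, 11, 9], 1), ([11, 7, 11, 7], 1), ([11, 0, 11, 9, 1, 2], 1), ([3, 4, 11], 3), ([10, 11], 3), ([11, 2, 9, 6, 10, 11, 8, 10, 7, 2, 11, 10, 5], 2)]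
theorem c0 : RowsGood P ls 0 23 :=
  rowsGood_of (Js := [nat_lit 0x700090026a0810204081020408102, nat_lit 0x41e180048011a8002180002c00c38a0c00016006240ae2404300005801850300001e00a3c30000078028d, nat_lit 0x5674f967c00900222a65c04048, nat_lit 0xb0c5c005c010981, nat_lit 0x170c2c005c012281, nat_lit 0x5674f967c009002098006000054020880, nat_lit 0x180000f0053600b0a2898098, nat_lit 0x11cf0008001a75f0004801350289b003c71042, nat_lit 0x805451220, nat_lit 0x218508, nat_lit 0xa8a01, nat_lit 0x40a8, nat_lit 0x1, nat_lit 0x1ac0012004d5ad5c004000d581, nat_lit 0xe9b3a00150036e041000200103b0, nat_lit 0x433c0020006cc001, nat_lit 0x10008c4080, nat_lit 0x174fc0048011a819c0000000000c0000001b80cad5d11c01, nat_lit 0x8e78004000e2ba0271e00, nat_lit 0x18c00160070c03e8c71c40, nat_lit 0x14264a, nat_lit 0x568d4ad2e64005400d4c006, nat_lit 0x18]) (by decide +kernel)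
theorem f0 : RowsGood P ls 0 23 :=
  c0
theorem good : RowsGood P (List.range (P.eps + 1)) 0 P.N :=
  (f0 : RowsGood P ls 0 23)
theorem idx {G : Type*} [Group G] {E : ℕ → G} {inv : ℕ → ℕ} (hi : ∀ l, E (inv l) = (E l)⁻¹)
    {B : List (List ℕ × ℕ)} (hB : ∀ p ∈ B, lprod E p.1 ^ p.2 = 1) (σ : List (List ℕ))
    {hs ks : List (List ℕ)} (hc : certOk P wt bases inv B σ hs ks = true) :
    (gp E hs).relIndex (gp E ks) ≠ 0 ∧ (gp E hs).relIndex (gp E ks) ≤ 1 :=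
  tc_gp hi hB rfl (fun _ h => invT_of_le h) good σ hc

end Cfsg.Agent.H28.UFc11

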