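import Mathlib
import Cfsg.Agent.H28.PSm
import Cfsg.Agent.H28.Rep2
import Cfsg.Agent.H28.UFu
import Cfsg.Agent.H28.UFc
import Cfsg.Agent.H28.UFg

/-! Numeric models of `SL₂(3) ∘ SL₂(3)` and of the centraliser of an involution of `PSU₄(3)`; presentations over it. -/

set_option autoImplicit false
set_option maxRecDepth 100000

namespace Cfsg.Agent.H28.UF
open H14 H15 HJ MZ PS Subgroup

local notation "C[" z "]" => centralizer ({z} : Set _)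

noncomputable abbrev A48 : Amb (Equiv.Perm (Fin 48)) (Fin 48) := (finCoord 47).permAmb 6 (by decide)
def o48 : ℕ := nat_lit 0xbeeb6caeaa689e69648e28607de75c6da6585d65544d24503ce34c2ca2481c61440c2040
def mUk : List ℕ := [nat_lit 0xffbbcdeb389c5eeb96c8ad1a92299038a4b19801, nat_lit 0xffbbcdeb389418b2dd16491b5a29f119a6e38801, nat_lit 0xffbbcdeb38ad2f67b1cb9c552834a41892839801, nat_lit 0xffbbcdeb38bc6ae9b2c47d0f240cab68530500c2, nat_lit 0xffbbcdeb38bc2ab7c8969a0cca08ae0b531028e3, nat_lit 0xffbbcdeb38b368a8c0e670eeb155019c8807b125, nat_lit 0xffbbcdeb386dd5539a721bec2650298c00572d04, nat_lit 0xffbbcdeb3862e50ace91bd84f7192851ca468c20, nat_lit 0xffbbcdeb387ba719561462c77b1d28328a413420]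
noncomputable def EUk : ℕ → Equiv.Perm (Fin 32) := lt 1 (mUk.map A32.el)
def qmUk : ℕ := nat_lit 0xd47310351170d741f28ce884f56ce6edaf5f3f18041934e8539842ed664db558ddf8cc274ff79e128720acd6031cfc65a7d2133a7c85df2b1bfa1d09e431200d327558deca72d842ee74ff5f8cc3dc348ea04c4f0d236d7aa3c10ab67109efdae866fb691e898ea15ef8083956b9bc7ea459c165fa459a384c055464946884f6622bf0d742daf5d6ce6ff9aa2c459da09f7e1bc64f80b23d94ded255c63a98508063be531e0ab67081a5636d79ae86509eff7771591a6d3dc0c500373a3f8d70d78a593f29a1f6c30ba4f29f7281913e1195c3e35b6322fa744db523575b01077c323d9453ecbe1bc55c638ded27142bb09d42376015b193940fe5d3a3227b7c6b557386f37f17a9e116e6819f45271a870f10f5631d527adb342ac627362ce075f06f2fd010730fd4e8b1918221d94b3e933a7d00635cfc66b1bf885df3b08a68e674bbd1cd70d7d81e450037f29a38a592cfb4eab249e247fa6f68edc820ae30378d07b2e12ed51382fd9c8c83e35aee5401913fa744f6322ead4566d78483b5fc7e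a4cbdab8083a5fa4459c174c4c745c5dd0a065d3a3ec0715b193c6b57227b66bbf7d0ca765fa271a869c2316e6835631f0f10e4a5bc96a8a726e60ae3008f9fa6f687b2e0378d1c9661d48e75e2887c52f69374ff94e006bee1ad888cf21ebb3f4dac98788bd9a51ab19cd02a350c867dc39dfbaf1cb5e520f1eaeac941d8b50293904469d90f6996aafaf2fd024e0f62ce0fd4e81073225a6a2c77b19498ff94fa516c7c52ee1ada006bd04f7ef98538cecd1ab193b5949878a350c9cd028e3edffbe460ef56c941f596e1e520e939058b500c2e677fee3da83dac5a9d7b46b49c8a41892839801ffbbcdeb38bdab49ca307b9ac5a928398a418820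
def actUk : ℕ := nat_lit 0x717b616a6dba6148b32a79cc45d79bfe0321a3c05097c677277d8d799638a57e1d35328391e193606935c0af30a59cf9a227b995befd25c56421f980c33492ae35a73efc8a6ebb608e9ede3289b18640387a946a26bf154c92757ff125c2c2737cc1eca086d699762e7f1b7cfa66a28e5d62c4afc411b100aa1762767f7a7178872da41ded1b8c51f651c84034b56f2e6aa24ef8ef3fbe2a2ebb816c18819480ffbbcdeb38bdab49ca307b9ac5a928398a418820
def pmUk : ℕ := nat_lit 0x421607358260435187107354826643218075035182764754821603318076542582760431876543210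
def ivUk : ℕ := nat_lit 0x43a052e914425112864ea65149a4e2112c9545a7d309247a412682472353c8c41a6d0a8066b11a8d960b3db8d06d34d9ccb6b32192c76eb1994db6bb7da2c56c355a4c261b7998c075389def9763ddf8e775bcdccfd7b395d2f87d3d5fee17a3b5e2f2783b9d0fe71b91f6e02a9209e532215cac5f25944b05d24904b84d2d1409c5e2a118b24c2511cb645219488440874162f13814522d0d8ec46211a84c32390a85c1e0d0487c56331b8fc62031281c223d00130c868331f0bc6c2a1d0c44e2b148ec783f1e8e06a221b8b87221168c058281189448205c2b168b152abd52b55d2e57eab5e2896cae5eab560a85ba9d66be532a948bb51a8564a0381ecde71391dcd26e359e4da7d3e1f8ec663d1a8ce653a1e0e6643a9fcc461319b0d0600f8782e190d85038180e84c2a1a0b0481210058381a0c078282208038180a04018080200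
def xUk : ℕ := nat_lit 0xffbbcdeb384d8b494dcb6440f806e831ea410d4dffbbcdeb382d13663e3093833582a410ee831daaffbbcdeb387c26bb9494aa029b025130d8e11d4dffbbcdeb386464e2de844d8354027011deb30d4dffbbcdeb38aa2e49c96e7c00c884b610d3431d4dffbbcdeb384b8b193ec4650d340ab002aeb0b4e3ffbbcdeb38939914d6c82d017205eb30e7011daaffbbcdeb38652562d62b4b857819e80aa64034e3ffbbcdeb389adf0aa516b9005a058e11e5130daaffbbcdeb384acb064c96920efa0eb1502ee684c2ffbbcdeb387d276a95d0bc46959d8850644680c2ffbbcdeb382c52e64e889584f21aeb0b6b002867ffbbcdeb382c12b93d1461073b1eee686b150046ffbbcdeb38490a863d6e941538b6f439ab618801ffbbcdeb3879268ba60eaacc5889960aa5403467ffbbcdeb38b92a87b2119ac327013431cb610daaffbbcdeb38612484dd712c0f570df65067468046ffbbcdeb38aaef09b11479052b1931028ae0b467ffbbcdeb38abaf17ca889d86c21d30500ab68446ffbbcdeb38959944ddd02c4d558a64035e80a867ffbbcdeb38921842d60e4ac7789e74681f6504c2ffbbcdeb3862e504d4942a157b366e389f119820ffbbcdeb389a1e4a9571bc04971a54035960a8e3ffbbcdeb389d9f4ba62bab8e580e446818850446ffbbcdeb387ba71aa684bd9454364b1999038820ffbbcdeb382a12494e1162daf72ab618af439820ffbbcdeb38bc2ab7c8969a0cca08ae0b531028e3ffbbcdeb38bc6ae9b2c47d0f240cab68530500c2ffbbcdeb38ad2f67b1cb9c552834a41892839801ffbbcdeb389418b2dd16491b5a29f119a6e38801ffbbcdeb389c5eeb96c8ad1a92299038a4b19801ffbbcdeb38bdab49ca307b9ac5a928398a418820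
def yUk : ℕ := nat_lit 0xffbbcdeb381bcf332a55131cdbc429850055d904ffbbcdeb3870e27850ca589f66cd019548065d25ffbbcdeb38130d251eb36dd637c029a4405b3904ffbbcdeb387ba719561462c77b1d28328a413420ffbbcdeb3858a06a4547b358e1c901acc80bbd25ffbbcdeb386dd5539a721bec2650298c00572d04ffbbcdeb3862e50ace91bd84f7192851ca468c20ffbbcdeb38b368a8c0e670eeb155019c8807b125ffbbcdeb38bdab49ca307b9ac5a928398a418820
def TUk : TB := ⟨nat_lit 32, nat_lit 9, (gt qmUk (nat_lit 5) (nat_lit 0x1f)), (gt actUk (nat_lit 5) (nat_lit 0x1f)), (gt pmUk (nat_lit 4) (nat_lit 0xf)), (gt ivUk (nat_lit 9) (nat_lit 0x1ff))⟩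
def cUk : List ℕ := [nat_lit 1, nat_lit 2, nat_lit 3, nat_lit 4, nat_lit 5, nat_lit 32, nat_lit 96, nat_lit 64, nat_lit 160]
theorem chkUk : TUk.chk (ambNum A32 o32 []) (nthD o32 mUk) (gt xUk (nat_lit 160) (nat_lit 0xffffffffffffffffffffffffffffffffffffffff)) (gt yUk (nat_lit 160) (nat_lit 0xffffffffffffffffffffffffffffffffffffffff)) (fun a => Nat.land a (nat_lit 1048575))
    [[], [0], [1], [2], [3], [4], [0, 1], [0, 2], [0, 3], [0, 4], [1, 2], [1, 3], [1, 4], [2, 3], [2, 4], [3, 1], [3, 4], [4, 0], [0, 1, 2], [0, 1, 3], [0, 1, 4], [0, 2, 3], [0, 3, 1], [0, 3, 4], [1, 2, 4], [1, 3, 4], [1, 4, 0], [2, 3, 4], [3, 1, 4], [3, 4, 0], [0, 1, 3, 4], [0, 3, 1, 4]]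
    [[], [5], [7], [6], [5, 7], [8], [6, 7], [5, 8], [6, 8]] (nthD 0 cUk) 9 = true := by decide +kernel
theorem hEUk : ∀ l, 9 ≤ l → EUk l = 1 := fun _ h => lt_of_le h
theorem repUk : ∃ (X : Set _) (R : Rep TUk.num fun d => Nat.rec (motive := fun _ => Set _) (gp EUk (sgl 9)) (fun _ _ => X) d),
    R.Env (nthD 0 cUk) EUk ∧ (∀ a, R.dom 0 a ↔ a < 288) ∧ (∀ a, R.ok a → R.val a ∈ gp EUk (sgl 9)) ∧ X ⊆ gp EUk (sgl 9) ∧ 288 ≤ Nat.card (gp EUk (sgl 9)) :=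
  TUk.rep (amb_env A32 (D := []) (by decide +kernel) mUk (by decide +kernel)) hEUk (fun _ h => nthD_of_le h) chkUk
def BK : List (List ℕ × ℕ) := [([5], 3), ([0, 5], 3), ([1, 5], 3), ([0, 1], 2), ([3, 5, 0, 6], 1), ([4, 5, 1, 6], 1), ([0, 4, 0, 4, 2], 1), ([2, 5, 2, 6], 1), ([2, 0], 2), ([2, 1], 2), ([7], 3), ([7, 5, 8, 6], 1), ([7, 0, 8, 1], 1), ([7, 1, 8, 0, 1, 2], 1)]
theorem satUk : Sat EUk (invT 2005859316801600 9) BK :=
  (amb_env A32 (o := o32) (D := []) (by decide +kernel) mUk (by decide +kernel)).sat hEUk (by decide +kernel)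
def mUh : List ℕ := [nat_lit 0xb67bd99a9a9dbab7985954917e5a1c41ab241638894e181b3ca10c18e50808b5cd0c7001, nat_lit 0x7999677568e6b28b57a5438d6afadc6dfb8592a2624ca1103e180c1925431cb611202001, nat_lit 0xbaf9e5aab9a3b69b21a2092269959341f79239d44d71855b31750f18510308b289207001, nat_lit 0xbeeb659a9a969ebb247558514d98da2dc7983a88847d28062172436c534f0502943001c2, nat_lit 0xbafb6c59d8e69e8964a5484d2d9a904c67925eb1226d825c1ce8027c54413da29500c203, nat_lit 0xaaba687da71b9938e240f80cb9d2edb2f5955062079d10e590d0a17890585d910048e285, nat_lit 0x69f71bbafb6c4e740f964321acb7a9a2a1881d96179834a38823a074129551600544d244, nat_lit 0x9edb2ea66a2b963bcea8d5d471e75b7d366161681542489a0924472ca24c2061443c3040, nat_lit 0x96cbada23ae9bea9d29916156de75f71065785652068e3530e48882ca24730614408f040, nat_lit 0xaaba68bafb6c9a78e09618a47d665c6da75135e48e4d56103145cf18928308b105207040, nat_lit 0x9216178225544913af36abab30a2481cf16db04a680e79826a58df05e75c6c06564d02c6]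
noncomputable def EUh : ℕ → Equiv.Perm (Fin 48) := lt 1 (mUh.map A48.el)
def qmUh : ℕ := nat_lit 0xd47310351170d741f28ce884f56ce6edaf5f3f18041934e8539842ed664db558ddf8cc274ff79e128720acd6031cfc65a7d2133a7c85df2b1bfa1d09e431200d327558deca72d842ee74ff5f8cc3dc348ea04c4f0d236d7aa3c10ab67109efdae866fb691e898ea15ef8083956b9bc7ea459c165fa459a384c055464946884f6622bf0d742daf5d6ce6ff9aa2c459da09f7e1bc64f80b23d94ded255c63a98508063be531e0ab67081a5636d79ae86509eff7771591a6d3dc0c500373a3f8d70d78a593f29a1f6c30ba4f29f7281913e1195c3e35b6322fa744db523575b01077c323d9453ecbe1bc55c638ded27142bb09d42376015b193940fe5d3a3227b7c6b557386f37f17a9e116e6819f45271a870f10f5631d527adb342ac627362ce075f06f2fd010730fd4e8b1918221d94b3e933a7d00635cfc66b1bf885df3b08a68e674bbd1cd70d7d81e450037f29a38a592cfb4eab249e247fa6f68edc820ae30378d07b2e12ed51382fd9c8c83e35aee5401913fa744f6322ead4566d78483b5fc7e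a4cbdab8083a5fa4459c174c4c745c5dd0a065d3a3ec0715b193c6b57227b66bbf7d0ca765fa271a869c2316e6835631f0f10e4a5bc96a8a726e60ae3008f9fa6f687b2e0378d1c9661d48e75e2887c52f69374ff94e006bee1ad888cf21ebb3f4dac98788bd9a51ab19cd02a350c867dc39dfbaf1cb5e520f1eaeac941d8b50293904469d90f6996aafaf2fd024e0f62ce0fd4e81073225a6a2c77b19498ff94fa516c7c52ee1ada006bd04f7ef98538cecd1ab193b5949878a350c9cd028e3edffbe460ef56c941f596e1e520e939058b500c2e677fee3da83dac5a9d7b46b49c8a41892839801ffbbcdeb38bdab49ca307b9ac5a928398a418820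
def actUh : ℕ := nat_lit 0x3869925f8ad44dd4a2cd5ba027e272fd4bb1b3c0349f1dd1275cd5ab7b90eb5c1bd722c7c851a18050a772e7a7b3cdc5b34e4b6018d692fe09b1a3c0aa2f10bd38ecfebb1387d28cca3b3e8345219760ffa9395ed5d671de6d2659d487b62c74022190a0c332f14575e53e9d17aab1cc89b6fe83832193606939a0da8ecae137a2e78a8c54e3bbfd4521b3c086d2b971ed8f5d9bfa8699d44b5745c7c221a180717b616a6dba6148b32a79cc45d79bfe0321a3c0691f3452ce5e61ae0535ee3e5baa3b31d9e18a4050af32bec6ee4ebe312ed41b2a7e21ae3641f90086ef9f3f8dec5cb4cadfd5704a1e655190c184403873424746e5d49ea16db41d29fde2c57651f9807163464f4d4de16e8978e57e4c9dfb3291e186403853d472ea8e8d9a11f59e3e2b39728359e19760c31f91539f5c6ba496cae98febc2686ba411ec8034adaf26879ad517eeffcd701e37a27410c190a0aa2370cfbf4bf1659347e195ecc28c736421eca05097c677277d8d799638a57e1d35328391e19360716dd126f09e9b1a31eac98fbe7d64ae2411f9006935c0af30a59cf9a227b995befd25c56421f980aa2cb2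25f89f7f1b868dcba0ce2b5e31cbb18a407169165d30d4dbdb0b985febb79b243abc81c82034a2fdcd6a4d0f6d7bb0e39a2ce2e1afca41b100ffb9dddaf5ceb13a49f08b5c849d6c51885184406926f46570b51dcd07b54ff1b89ae551fcc1c840c33492ae35a73efc8a6ebb608e9ede3289b1864050b8b659e6cf4f3b96988feb24c3416bbc81ec80ffa7496758b5ebceed664a8ec8b9e86c04119480387a946a26bf154c92757ff125c2c2737cc1eca086d699762e7f1b7cfa66a28e5d62c4afc411b100c313a2f29f8aeb978aee9c1beb1ba83ab641c82086f37f47aee3da95cb5fb62a59aa843998818820aa1762767f7a7178872da41ded1b8c51f651c84034b56f2e6aa24ef8ef3fbe2a2ebb816c18819480ffbbcdeb38bdab49ca307b9ac5a928398a418820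
def pmUh : ℕ := nat_lit 0x21011880ca34524f2d01d149351660c6ce5dc65e55f6a176282324039105558369b08511d7861c880a3613cb3108d24d46177197e22c409320660d29c39000f7d550149a0e27496455e04475a36cc7a114f4000843176416c67080c928b36188745d4935163988de55f6a06c574900e84c8d13c14155820c469765e19c1c880a2cd8924d461f7103cb1028995d374814660e3402a331f55b50149a24386044759e1d250328d04620c7977d90160981114c58603e240968b55b8dc39d7878160da44156148c52324a00d38621b5df1597426044cf8902dc7d449834a4c81a28191d72da10309505c8de40c3ce58045d84525b0462053d01d25004424c431b5dc65e7c325528b3617628163988da0892c645329660f01b39c4817957c369714485d88722034c42351944155b15d78780918020e84f3108d25160930c46977197ca2cd89810e00854135a0d02dd2455138111d85997028db31f19e2a23e14974c819c40f7d448b54404289d6455e01d83913402a36cc79a2438560ca34c5d90021075926141613e24092c179a19f21b8dc3918137553db70224b5e188615175328058e60c8d2050795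7c311a6472203545836a132324039e2873606d715974211149805454f8902c67c871341d1443806633087156c134b6890e28544cf8111d80965df19e29260d2a26572c409f6940d272340c3ce01381620719d8452557816d149e7ca5981914d71e182208325a2c154f3146e370034e20565d1105201cd6832150597e378c11839601345089276114b28919c5db08f31764749414f40384a88d05e19f21b7005a309811181374968b54e1914cf6dc49e7c204954b5c585d88780a00858e60c42350311a64d38b2554d169859d11c09b8087c678d2a340088f8540520d91571cc84c8de1e06c57565c365a45205454f4092a200d3867c87026044cb2150507455201c44ce44065c8db31f78d2c66890e23e14980965ca8995df5127103d88cd30a4e020719d14b6a11030957816ce5804492966178620892d20de69f3cc6e37003861cd4604c565d10151540875c6ce2c98e28554133d16846025995e02057c678d00a3140520c735a0d98cc10e01462058742276114b2487ca55e05c5db0934913c681f79a6165534635224a138d2ca24819d6477176c40c205030f0055e189279f3db70a3168d81874604c57420d925a2c151540034e20455345d71b81f78e20b1898d088f85449a1016025991571cd00a30366331480741d14d89a84321f55e05c6c46173960134913cb2891826985a38a138b26035f29e7597176c40955034d245030f0081c61418e28607de75c6da6585d65544d24503ce34c2ca2481c61440c2040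
def ivUh : ℕ := nat_lit 0x8c319e3a4798db1de3e4628f51c63947d8d31d63b4648d71963dc6a8df1b239c668fd1a2374708c11e23fc638a511a27c518a115224c4189714e2145a8ad17e2e45b8bb11222c478af1222cc4a89917a26c4e8811562c4435ceb857e2fa5c8ba57a2e65f2bf5752f15eeba177aed5e6bc1772f25ecbfd75ae25f0bd57dae55c6bf9762e08110560bc1180f03e04c0c83b04e0f40b82d0360e40183500a094188290160cc1f8370120540680103a084037fcffdfa3f37ccfddfb3e87f4fe5f63fd7f8fc1f4bf27d6f85f13f57def91f8bf87cafedf3bea7c0fb5f73e34aa92124a5d4829592ba5f4a292d2c25349e9112a2474b29192525e4b89412d24c49c9352924248696d22a4054ea8558ab7550ae55eaaa552ad1532bc574a9155ab556cae15faa2566ab957ab2560ab5562be546a955daa04cc9c939a744fc9c53d2674ec9bd352694d69ed3ea7f4f89d53c2614f29b53ba624dc9c13426c4c699132a6018e3046b8d1190350648c61ba364650da1b83106b0d519637c6c0d219e340698c219c3346f0cc18636c628c0688d35a7b536aad51ab345696d65adb5a6b8d1da4b486bad31af34e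6aed09a8b506a4d05ac35f680d29a3343644ca99bb3365ccbd9b33267ace590b2b678ce194b25674ced92326668cf998b27650cb19832d640cfd9ab23636c418bb1963ec3d8e30463ac4582b0b612c198b31e634c218630d628c0589b0e604c498ab18600c1d8530385508a1b43d84b0f21bc278670ae1343985f0b21a42e8630b6184218530d61d43287f0e21243b8470a21f42029a510ab14b290570a79502a6568a71592a8504ab9552a257cac15b292518ae94529451caf14c286548a114075ae91dcbb4742ecddd3ae778ebdd83b6756ea1deba7752ea9d33a5762ee1dbbbb77eed5d13b2746eb1df3a0518a6147a99514a514e29e516a454429a512a394b28253aa4940a9f52ea6d49a95508a1543287500a4146a83720e6dc8b8f724e65c5b8d712e5dc739c73ae79cd38672ce1dc5384726e55ca385730e7dc0b82706e21c63807b0f31ee3cb784f25e7bd57b2f69efbd17a8f15ebbca7a6f1de33c87acf35eebde7a0f39e0bd2786f11edbc03da790fa1f93c27bcfe1f03f47ccf71eb3ec7a0f49e73fa798f51fb3ee7fcf89e53f07d4f91e23c67f8f61e02144088c90f21844c8590623845c8391623a4148d11821247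c8a9122224408a10121a4388f10820646c8210045488917a394588dd1e2274568cd1323d46c89514a384748d51fa214688b518a324608b91423e4468911da203aa720e99cf388744e59d83ac75cef9c93ba704ed1cd3b8738e81cc3b2728ea1de38c71ce29db386708e91c034a6b8da1b13706dcd49bb3746ccd21bd36c6a8de1ac3566f8d41b035e6c8dc9ad342688df9b5340698d39a330c648c498b336658c798a322668c3993328678cb990332638c6982338660ce98132a67cc2984306630c41802fe5f8bc9772f65ccbe9752f85d0bc1762f45c8b59702d25b4b71682e259cb796c2d4598b21652c6584b116059cb1564ada598b596a2cd5a2b75682d35aeb0967ad85b2b556fac45b8b1d65adb58cb29642de586b05692c00aa1202785308815c2b05f0961442c05d0921042e04d0b41402705e0a81182c84c09411c2d8450861482104041c81509a174048450ea1042c85106a0943483105a0a43881903a1b43287d07a0442a86109201406879042001fe3f87b0fa1e43f07a0f81e63f47a8f91ee3ec778e61e23a8738ec1d23b8758e81da3c0710e11c6394720e06dcd95bbb736c4dd1bb36d6fadc5b837a6d2db1be36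a6d6d9db33646dedd5bcb7b6fede1b0b726c6da1bf36004c0c81a03307c0bc1b02a0740c41382b0520ec1e03f07a0e01a82206e0b81c82105a0c016028046094120201302304889410a2644d09f11223c4a89c1162084e88e12c2404689e1262184b88810e2284d884106248408800e01ec3e07d0fc1a43b86e0f21ac368710de1c83a07f0e61e03a8650ec1a83d0640ce198360680c6188308602704b09a13124a4bc949352744e49f92b2784889b12e27a4b49812826e49c9993e24c4a89213b246484991201602ec578b11642dc548ae1562e4568bd1782f85b0a61742a8538a51682e0598a416a2fc510a11462b0540a003e0780b8190360500e01803a04c0a81a02c048048100160380680c01e0280880800e0180280400600800800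
def xUh : ℕ := nat_lit 0x96c66eaaba637a6bcaa221606e774b7d0b5761644d18e55a01250172424721384408330fb257afaea9a8669b858e02a242d58669b9ce49d5542d745f0583404e11020dc9091c83ccb67b9959d8e9be879299460d6ecac669096416a1202e125f04a8807175470d339108830f799b27a66a9696bb4e7555d142ea067dbbc59238042ca89a06124071850221348d1c330fbee9ec8e85aab5d961ac990441998b69b7985e935119251f00e5417058820d32a01c830f96c66f9a9ad67aab8a7511551ada1070b9d74a38846ce8131d82427e150031a90d04f20365e96d9a9addb2a9d75913956ef8cb690b8a86888918581f0241014d23470dc6140883cc799b2daea9a39699cea205e22ef75b706b8585654d40a4530a45077d224131a60400f2039edbde756a26ba3658a4d494425a8b7dbb212ab2621a411a0058014ce44221c5d51c33ccb2566e59da267a3bcaa4d15472dada1939ce62a1227d724b2128036e154c0109113c11c29edb99aab9a8be97928e062272575f2d3b211564546a45460ca3486ce24c0505c43c01c2b257aea66a9d66bbc55952912e78db4c6b4e62880941789c0921076a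43413df85400c0c896c7af7568e9668b8599428d4e7a9f2dcb574ab26068e1060d888842444f05b855300087b2566f8e876a796b8aac41497e7a536dab4e4a635171751031854f1a48081cb8620c2001b67b9ea2376abd6652ac46092e5990706b242a95116e13531c554268e88131f5e000f0c8bafb65a2376b9d6b24a848496dea467d06523a65152d835a0574404ca80721c1620833cc65eb278e876b956b4ea845c972f99a2d3b8a9293557c550622144341288c05b6203c0087bee9e5756a29b63b2198d91419eadb70b6583aa26041211309788768a54031f15104f0c8baf9eca66addb6a96159191571ea1f1936525e380969888b0ce10840a50c01b14d3c108765e967aaba68b26b578e23a01ae5904cbbca91d4546c555c1e13426981003df48904c0c879996da235aab1d9d7ac93844eea5f19cbc586651168a34b0e45486d880f0104a23011c265eb2d59da299639ce98d5d47eea9341abca86b12070525b32488f2d84480864950c70409edbd98e85abb9d798a894841aca5b4cb96116635542451c08a4477d78003da3a204c203b67bdeaeaa63ba6658a224a04ec59a19c96429d54d7e144b20550341710f01b389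3010879edb9ea66ad6bea6527516156ac8d36df9612a880472489030524f2d73431c639420204096c7aea235ab65dbc5a892846ad99c41f9d76295154ce35b3d244c2e1883086920207040bafb6c59d8e69e8964a5484d2d9a904c67925eb1226d825c1ce8027c54413da29500c203beeb659a9a969ebb247558514d98da2dc7983a88847d28062172436c534f0502943001c2baf9e5aab9a3b69b21a2092269959341f79239d44d71855b31750f18510308b2892070017999677568e6b28b57a5438d6afadc6dfb8592a2624ca1103e180c1925431cb611202001b67bd99a9a9dbab7985954917e5a1c41ab241638894e181b3ca10c18e50808b5cd0c7001beeb6caeaa689e69648e28607de75c6da6585d65544d24503ce34c2ca2481c61440c2040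
def yUh : ℕ := nat_lit 0x6123a40c808f5c7865310b1b44a04d89516eb407dc52f6a08e74e82591aba4478baa659d5ce9120873c384c627213b5c34a06245416cb806df8254159af6a92591a8ac478b8ea59d96cbad6d07dcbda9d84c8483a191aba6378e90b08fa971e656131158a04d89d14052024420308f4553621d43108236e848124e91801f704ae95daaa19539ac2865aeb452ddbe765e1c23c335489132021356672938126449701b7c4a2b8508d89daaad2865acb852dd96f65e41b7dca23ae96aa4c89950d1b065aeb652c23dd362bc752760c81264124e91e0045e12850c81cc6125e108e3d09256ec54129481101f705bad35abe28d39e824b7aba44199aa67560873085ce8583e40d34a772d5012a054d01b7c5b2e89095199abe924b7a8ac41998ea75641b7dcb25bad6af4c39d2218a0b7aba631873195e1a823a644f9157412948160053622445513624983a4517823865a2c0c92823c812ba45bad1eabcc4269db05665f70075e69318b86448e3cc0c26085ef1dab9f88a05136016db0071b5674d4aa542b2591a9a0478b9a359d50d891397912821566627a6d08928f0c7128ac5b2e3239484eabdc05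665b7c075e41a18b9edb2e7136df950bd7687382a591a8ae67a448b3c38e132a51820d58a06245d1408152448e8ae9b25badaaf9959d84526d665f71074d89e3a46945d32208431892823cb1051cc0404555202031cc3428a33d0a1b60905785212ba407dc3aa6a49664ec29d2eeb45586be779930f0c28a044d2151da52a7eb9012523a101c6c4a68613997bd08ee2865adb052dd9e565e3548151c230888f4660d3a5c5c906160e128ac06df9234129ea6ad29d2ecb8558696f7994dc6dfa66a2b423687a9408db465acba72cf0dd89194c82f5c854e64126449e0048582858e8ae96d07dca9a9914c3548b1d2eeb655948061ccbcd0a74a23d87890578591003a42853cc2078646170d209a3af7ee80129552201c6c5b6c4539cda9096b24b7a9a041999a37564dc6dfb67b2e425682bce1d7a4b7a8ae618c2198588cf92a3434947412a05560058912444985e155152038d9258a3b2820a24730316eb44ae90afa8f42799b05e75f7006566932c682244d92148e55852a5efaee3c928308c129a05b6c2269c76a395f05665c6c075e4d018bbeeb6c7da71b9d396140c90fad91a9a2a79238b0c29982238171e258a05135d140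55424439785850d8159224a7466b691ca24c20216cb84a2b3e58c34efa9c05e75b7c065641a2c69a9a2bb67b2e8e5a94bd734e71665b7d376245e91242085a1d560218928f0cb10530804096cbada23ae9bea9d29916156de75f71065785652068e3530e48882ca24730614408f0408a055430f20744336a09aadf8490585e4129a0071b4a64cebe342e29d2edb055869e579969f71baeaa684e640c8e03e2b865adb2f2c309d44d9c856584752464125239e0046172859a9a2b7136df8d0a8d682507b5d2ecba75a05463089623ef3910d778906161910091228569f71bbafb6c4e740f964321acb7a9a2a1881d96179834a38823a074129551600544d2449216178225544913af36abab30a2481cf16db04a680e79826a58df05e75c6c06564d02c6aaba68bafb6c9a78e09618a47d665c6da75135e48e4d56103145cf18928308b1052070409edb2ea66a2b963bcea8d5d471e75b7d366161681542489a0924472ca24c2061443c3040aaba687da71b9938e240f80cb9d2edb2f5955062079d10e590d0a17890585d910048e285beeb6caeaa689e69648e28607de75c6da6585d65544d24503ce34c2ca2481c61440c2040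
def coUh : ℕ := nat_lit 0x18c6318c0000c6318c0300c000006300c00180001800018c6318c0000c6318c0300c000006300c00180001800000000000000000000000000000000000000000000000018c6318c0000c6318c0300c000006300c00180001800018c6318c0000c6318c0300c000006300c00180001800000000000000000000000000000000000000000000000018c6318c0000c6318c0300c000006300c00180001800018c6318c0000c6318c0300c000006300c00180001800000000000000000000000000000000000000000000000018c6318c0000c6318c0300c000006300c00180001800018c6318c0000c6318c0300c000006300c00180001800018c6318c0000c6318c0300c000006300c00180001800000000000000000000000000000000000000000000000000000000000000000000000000000000000000000000018c6318c0000c6318c0300c000006300c00180001800018c6318c0000c6318c0300c000006300c00180001800018c6318c0000c6318c0300c000006300c0018000180000000000000000000000000000000000000000000000000000000000000000000000000000000000000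0000000018c6318c0000c6318c0300c000006300c00180001800000000000000000000000000000000000000000000000018c6318c0000c6318c0300c000006300c00180001800018c6318c0000c6318c0300c000006300c00180001800000000000000000000000000000000000000000000000018c6318c0000c6318c0300c000006300c00180001800000000000000000000000000000000000000000000000000000000000000000000000000000000000000000000018c6318c0000c6318c0300c000006300c00180001800000000000000000000000000000000000000000000000000000000000000000000000000000000000000000000000000000000000000000000000000000000000000000018c6318c0000c6318c0300c000006300c001800018000000000000000000000000000000000000000000000000000000000000000000000000000000000000000000000000000000000000000000000000000000000000000000000000000000000000000000000000000000000000000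
def TUh : TC2 := ⟨nat_lit 32, nat_lit 36, (gt qmUh (nat_lit 5) (nat_lit 0x1f)), (gt actUh (nat_lit 5) (nat_lit 0x1f)), (gt pmUh (nat_lit 6) (nat_lit 0x3f)), (gt coUh (nat_lit 5) (nat_lit 0x1f)), (gt ivUh (nat_lit 11) (nat_lit 0x7ff))⟩
def cUh : List ℕ := [nat_lit 1, nat_lit 2, nat_lit 3, nat_lit 4, nat_lit 5, nat_lit 32, nat_lit 160, nat_lit 64, nat_lit 288, nat_lit 96, nat_lit 128]
theorem chkUh : TUh.chk (ambNum A48 o48 []) (nthD o48 mUh) (gt xUh (nat_lit 288) (nat_lit 0xffffffffffffffffffffffffffffffffffffffffffffffffffffffffffffffffffffffff)) (gt yUh (nat_lit 288) (nat_lit 0xffffffffffffffffffffffffffffffffffffffffffffffffffffffffffffffffffffffff)) (fun a => Nat.mod a (nat_lit 90100))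
    [[], [0], [1], [2], [3], [4], [0, 1], [0, 2], [0, 3], [0, 4], [1, 2], [1, 3], [1, 4], [2, 3], [2, 4], [3, 1], [3, 4], [4, 0], [0, 1, 2], [0, 1, 3], [0, 1, 4], [0, 2, 3], [0, 3, 1], [0, 3, 4], [1, 2, 4], [1, 3, 4], [1, 4, 0], [2, 3, 4], [3, 1, 4], [3, 4, 0], [0, 1, 3, 4], [0, 3, 1, 4]]
    [[], [5], [7], [9], [10], [5, 5], [5, 7], [5, 9], [5, 10], [7, 7], [7, 9], [7, 10], [9, 5], [9, 10], [10, 7], [5, 5, 7], [5, 5, 10], [5, 7, 7], [5, 7, 9], [5, 7, 10], [5, 9, 10], [5, 10, 7], [7, 7, 9], [7, 9, 5], [7, 9, 10], [9, 5, 10], [9, 10, 7], [5, 5, 7, 7], [5, 5, 7, 10], [5, 5, 10, 7], [5, 7, 7, 9], [5, 7, 9, 10], [5, 9, 10, 7], [7, 7, 9, 5], [7, 9, 5, 10], [9, 5, 10, 7]] (nthD 0 cUh) 11 = true := by decide +kernel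
theorem hEUh : ∀ l, 11 ≤ l → EUh l = 1 := fun _ h => lt_of_le h
theorem repUh : ∃ (X : Set _) (R : Rep TUh.num fun d => Nat.rec (motive := fun _ => Set _) (gp EUh (sgl 11)) (fun _ _ => X) d),
    R.Env (nthD 0 cUh) EUh ∧ (∀ a, R.dom 0 a ↔ a < 1152) ∧ (∀ a, R.ok a → R.val a ∈ gp EUh (sgl 11)) ∧ X ⊆ gp EUh (sgl 11) ∧ 1152 ≤ Nat.card (gp EUh (sgl 11)) :=
  TUh.rep (amb_env A48 (D := []) (by decide +kernel) mUh (by decide +kernel)) hEUh (fun _ h => nthD_of_le h) chkUh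
def BU : List (List ℕ × ℕ) := BK ++ [([9, 5, 9, 5], 1), ([9, 0], 2), ([9, 1], 2), ([9, 7, 9, 8], 1), ([10, 5, 10, 6], 1), ([10, 0, 10, 0], 1), ([10, 7, 10, 7], 1), ([9, 10, 9, 10, 2], 1)]
theorem satUh : Sat EUh (invT 11693350491970609216 11) BU :=
  (amb_env A48 (o := o48) (D := []) (by decide +kernel) mUh (by decide +kernel)).sat hEUh (by decide +kernel)
def BC (w : List ℕ) : List (List ℕ × ℕ) := BU ++ ([([11, 2, 11, 9], 1), ([11, 7, 11, 7], 1), ([11, 0, 11, 9, 1, 2], 1), ([3, 4, 11], 3), ([10, 11], 3)] ++ [([11, 2, 9, 6, 10, 11] ++ (w ++ [11, 10, 5]), 2)])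

variable {G : Type*} [Group G] {z e f p q r s t u : G} {K : Subgroup G}

theorem upUk {E : ℕ → G} (h : Sat E (invT 2005859316801600 9) BK) : CardLe (gp E (sgl 9)) 288 :=
  (CardLe.step (CardLe.step cardLe_nil (MZk.idx h.hi h.hB [[0], [1], [2], [3], [4], [5], [6]] (hs := []) (ks := sgl 7) (by decide +kernel)) (by decide +kernel)) (PSk.idx h.hi h.hB [[0], [1], [2], [3], [4], [5], [6], [7], [8]] (hs := sgl 7) (ks := sgl 9) (by decide +kernel)) (by decide +kernel))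
theorem upUh {E : ℕ → G} (h : Sat E (invT 11693350491970609216 11) BU) : CardLe (gp E (sgl 11)) 1152 :=
  (CardLe.step (CardLe.step (CardLe.step (CardLe.step cardLe_nil (MZk.idx h.hi h.hB [[0], [1], [2], [3], [4], [5], [6]] (hs := []) (ks := sgl 7) (by decide +kernel)) (by decide +kernel)) (PSk.idx h.hi h.hB [[0], [1], [2], [3], [4], [5], [6], [7], [8]] (hs := sgl 7) (ks := sgl 9) (by decide +kernel)) (by decide +kernel)) (PSh.idx h.hi h.hB [[0], [1], [2], [3], [4], [5], [6], [7], [8], [9]] (hs := sgl 9) (ks := sgl 10) (by decide +kernel)) (by decide +kernel)) (UFu.idx h.hi h.hB [[0], [1], [2], [3], [4], [5], [6], [7], [8], [9], [10]] (hs := sgl 10) (ks := sgl 11) (by decide +kernel)) (by decide +kernel))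
theorem upUg {E : ℕ → G} (h : Sat E (invT 823350089735190880320 12) (BC [10])) : CardLe (gp E (sgl 12)) 9797760 :=
  (CardLe.step (CardLe.step (CardLe.step (CardLe.step (CardLe.step cardLe_nil (MZk.idx h.hi h.hB [[0], [1], [2], [3], [4], [5], [6]] (hs := []) (ks := sgl 7) (by decide +kernel)) (by decide +kernel)) (PSk.idx h.hi h.hB [[0], [1], [2], [3], [4], [5], [6], [7], [8]] (hs := sgl 7) (ks := sgl 9) (by decide +kernel)) (by decide +kernel)) (PSh.idx h.hi h.hB [[0], [1], [2], [3], [4], [5], [6], [7], [8], [9]] (hs := sgl 9) (ks := sgl 10) (by decide +kernel)) (by decide +kernel)) (UFu.idx h.hi h.hB [[0], [1], [2], [3], [4], [5], [6], [7], [8], [9], [10]] (hs := sgl 10) (ks := sgl 11) (by decide +kernel)) (by decide +kernel)) (UFg.idx h.hi h.hB [[0], [1], [2], [3], [4], [5], [6], [7], [8], [9], [10], [11]] (hs := sgl 11) (ks := sgl 12) (by decide +kernel)) (by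 decide +kernel))
theorem col0 {E : ℕ → G} (h : Sat E (invT 823350089735190880320 12) (BC [2])) : gp E (sgl 12) ≤ gp E (sgl 11) :=
  have := UFc0.idx h.hi h.hB [[0], [1], [2], [3], [4], [5], [6], [7], [8], [9], [10], [11]] (hs := sgl 11) (ks := sgl 12) (by decide +kernel)
  relIndex_eq_one.1 (by omega)
theorem col1 {E : ℕ → G} (h : Sat E (invT 823350089735190880320 12) (BC [9])) : gp E (sgl 12) ≤ gp E (sgl 11) :=
  have := UFc1.idx h.hi h.hB [[0], [1], [2], [3], [4], [5], [6], [7], [8], [9], [10], [11]] (hs := sgl 11) (ks := sgl 12) (by decide +kernel)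
  relIndex_eq_one.1 (by omega)
theorem col2 {E : ℕ → G} (h : Sat E (invT 823350089735190880320 12) (BC [5, 9, 6])) : gp E (sgl 12) ≤ gp E (sgl 11) :=
  have := UFc2.idx h.hi h.hB [[0], [1], [2], [3], [4], [5], [6], [7], [8], [9], [10], [11]] (hs := sgl 11) (ks := sgl 12) (by decide +kernel)
  relIndex_eq_one.1 (by omega)
theorem col3 {E : ℕ → G} (h : Sat E (invT 823350089735190880320 12) (BC [6, 9, 5])) : gp E (sgl 12) ≤ gp E (sgl 11) :=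
  have := UFc3.idx h.hi h.hB [[0], [1], [2], [3], [4], [5], [6], [7], [8], [9], [10], [11]] (hs := sgl 11) (ks := sgl 12) (by decide +kernel)
  relIndex_eq_one.1 (by omega)
theorem col4 {E : ℕ → G} (h : Sat E (invT 823350089735190880320 12) (BC [9, 2])) : gp E (sgl 12) ≤ gp E (sgl 11) :=
  have := UFc4.idx h.hi h.hB [[0], [1], [2], [3], [4], [5], [6], [7], [8], [9], [10], [11]] (hs := sgl 11) (ks := sgl 12) (by decide +kernel)
  relIndex_eq_one.1 (by omega)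
theorem col5 {E : ℕ → G} (h : Sat E (invT 823350089735190880320 12) (BC [5, 9, 6, 2])) : gp E (sgl 12) ≤ gp E (sgl 11) :=
  have := UFc5.idx h.hi h.hB [[0], [1], [2], [3], [4], [5], [6], [7], [8], [9], [10], [11]] (hs := sgl 11) (ks := sgl 12) (by decide +kernel)
  relIndex_eq_one.1 (by omega)
theorem col6 {E : ℕ → G} (h : Sat E (invT 823350089735190880320 12) (BC [6, 9, 5, 2])) : gp E (sgl 12) ≤ gp E (sgl 11) :=
  have := UFc6.idx h.hi h.hB [[0], [1], [2], [3], [4], [5], [6], [7], [8], [9], [10], [11]] (hs := sgl 11) (ks := sgl 12) (by decide +kernel)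
  relIndex_eq_one.1 (by omega)
theorem col7 {E : ℕ → G} (h : Sat E (invT 823350089735190880320 12) (BC [7, 10, 8])) : gp E (sgl 12) ≤ gp E (sgl 11) :=
  have := UFc7.idx h.hi h.hB [[0], [1], [2], [3], [4], [5], [6], [7], [8], [9], [10], [11]] (hs := sgl 11) (ks := sgl 12) (by decide +kernel)
  relIndex_eq_one.1 (by omega)
theorem col8 {E : ℕ → G} (h : Sat E (invT 823350089735190880320 12) (BC [8, 10, 7])) : gp E (sgl 12) ≤ gp E (sgl 11) :=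
  have := UFc8.idx h.hi h.hB [[0], [1], [2], [3], [4], [5], [6], [7], [8], [9], [10], [11]] (hs := sgl 11) (ks := sgl 12) (by decide +kernel)
  relIndex_eq_one.1 (by omega)
theorem col9 {E : ℕ → G} (h : Sat E (invT 823350089735190880320 12) (BC [10, 2])) : gp E (sgl 12) ≤ gp E (sgl 11) :=
  have := UFc9.idx h.hi h.hB [[0], [1], [2], [3], [4], [5], [6], [7], [8], [9], [10], [11]] (hs := sgl 11) (ks := sgl 12) (by decide +kernel)
  relIndex_eq_one.1 (by omega)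
theorem col10 {E : ℕ → G} (h : Sat E (invT 823350089735190880320 12) (BC [7, 10, 8, 2])) : gp E (sgl 12) ≤ gp E (sgl 11) :=
  have := UFc10.idx h.hi h.hB [[0], [1], [2], [3], [4], [5], [6], [7], [8], [9], [10], [11]] (hs := sgl 11) (ks := sgl 12) (by decide +kernel)
  relIndex_eq_one.1 (by omega)
theorem col11 {E : ℕ → G} (h : Sat E (invT 823350089735190880320 12) (BC [8, 10, 7, 2])) : gp E (sgl 12) ≤ gp E (sgl 11) :=
  have := UFc11.idx h.hi h.hB [[0], [1], [2], [3], [4], [5], [6], [7], [8], [9], [10], [11]] (hs := sgl 11) (ks := sgl 12) (by decide +kernel)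
  relIndex_eq_one.1 (by omega)
theorem exUk {E : ℕ → G} (hE : ∀ l, 9 ≤ l → E l = 1) (h : Sat E (invT 2005859316801600 9) BK) (hz : lprod E [2] ≠ 1) :
    288 ≤ Nat.card (gp E (sgl 9)) ∧ ∃ Y : Set G, Y ⊆ gp E (sgl 9) ∧
      ∃ R : Rep TUk.num fun d => Nat.rec (motive := fun _ => Set G) (gp E (sgl 9)) (fun _ _ => Y) d,
      R.Env (nthD 0 cUk) E ∧ ∀ a, R.dom 0 a ↔ a < 288 := by
  obtain ⟨X, R, h1, h2, h3, h4, h5⟩ := repUk
  refine model h1 hEUk h2 h3 h5 hE (upUk (satUk.pair h)) h4 _ hz ?_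
  have h6 := h1.upd 9 (R.wd_spec h1 [2]).1
  rw [(R.wd_spec h1 [2]).2, show TUk.num.wd (nthD 0 cUk) [2] = 3 by decide +kernel] at h6
  exact h6.sound (.all 20 0 (.or (.eq (.v 20) .o) (.or (.eq (.v 20) (.v 9)) (.ex 21 1 (.or (.eq (.m (.m (.m (.v 20) (.v 21)) (.i (.v 20))) (.i (.v 21))) (.v 9)) (.ex 22 1 (.eq (.m (.m (.m (.m (.m (.m (.v 20) (.v 21)) (.i (.v 20))) (.i (.v 21))) (.v 22)) (.i (.m (.m (.m (.v 20) (.v 21)) (.i (.v 20))) (.i (.v 21))))) (.i (.v 22))) (.v 9)))))))) (by decide +kernel)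
theorem exUh {E : ℕ → G} (hE : ∀ l, 11 ≤ l → E l = 1) (h : Sat E (invT 11693350491970609216 11) BU) (hz : lprod E [2] ≠ 1) :
    1152 ≤ Nat.card (gp E (sgl 11)) ∧ ∃ Y : Set G, Y ⊆ gp E (sgl 11) ∧
      ∃ R : Rep TUh.num fun d => Nat.rec (motive := fun _ => Set G) (gp E (sgl 11)) (fun _ _ => Y) d,
      R.Env (nthD 0 cUh) E ∧ ∀ a, R.dom 0 a ↔ a < 1152 := by
  obtain ⟨X, R, h1, h2, h3, h4, h5⟩ := repUh
  refine model h1 hEUh h2 h3 h5 hE (upUh (satUh.pair h)) h4 _ hz ?_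
  have h6 := h1.upd 11 (R.wd_spec h1 [2]).1
  rw [(R.wd_spec h1 [2]).2, show TUh.num.wd (nthD 0 cUh) [2] = 3 by decide +kernel] at h6
  exact h6.sound (.all 20 0 (.or (.eq (.v 20) .o) (.or (.eq (.v 20) (.v 11)) (.ex 21 1 (.or (.eq (.m (.m (.m (.v 20) (.v 21)) (.i (.v 20))) (.i (.v 21))) (.v 11)) (.ex 22 1 (.eq (.m (.m (.m (.m (.m (.m (.v 20) (.v 21)) (.i (.v 20))) (.i (.v 21))) (.v 22)) (.i (.m (.m (.m (.v 20) (.v 21)) (.i (.v 20))) (.i (.v 21))))) (.i (.v 22))) (.v 11)))))))) (by decide +kernel)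

structure MK (z e f p q r s : G) (K : Subgroup G) : Prop where
  sat : Sat (lt 1 [e, f, z, p, q, r, r⁻¹, s, s⁻¹]) (invT 2005859316801600 9) BK
  gen : gp (lt 1 [e, f, z, p, q, r, r⁻¹, s, s⁻¹]) (sgl 9) = K
  ex : ∃ Y : Set G, ∃ R : Rep TUk.num fun k => Nat.rec (motive := fun _ => Set G) K (fun _ _ => Y) k,
    R.Env (nthD 0 cUk) (lt 1 [e, f, z, p, q, r, r⁻¹, s, s⁻¹]) ∧ ∀ a, R.dom 0 a ↔ a < 288

theorem mkK (h : Sat (lt 1 [e, f, z, p, q, r, r⁻¹, s, s⁻¹]) (invT 2005859316801600 9) BK) (z1 : z ≠ 1) :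
    MK z e f p q r s (gp (lt 1 [e, f, z, p, q, r, r⁻¹, s, s⁻¹]) (sgl 9)) :=
  let ⟨_, Y, _, R, h2⟩ := exUk (fun _ h => lt_of_le h) h (by simpa [lt] using z1)
  ⟨h, rfl, Y, R, h2⟩

structure MH (z e f p q r s t u : G) : Prop where
  sat : Sat (lt 1 [e, f, z, p, q, r, r⁻¹, s, s⁻¹, t, u]) (invT 11693350491970609216 11) BU
  gen : gp (lt 1 [e, f, z, p, q, r, r⁻¹, s, s⁻¹, t, u]) (sgl 11) = C[z]
  ex : ∃ Y : Set G, ∃ R : Rep TUh.num fun k => Nat.rec (motive := fun _ => Set G) C[z] (fun _ _ => Y) k,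
    R.Env (nthD 0 cUh) (lt 1 [e, f, z, p, q, r, r⁻¹, s, s⁻¹, t, u]) ∧ ∀ a, R.dom 0 a ↔ a < 1152

theorem mkH [Finite G] (h : Sat (lt 1 [e, f, z, p, q, r, r⁻¹, s, s⁻¹, t, u]) (invT 11693350491970609216 11) BU) (z1 : z ≠ 1)
    (c : Nat.card C[z] ≤ 1152) : MH z e f p q r s t u := by
  obtain ⟨h1, Y, -, R, h2⟩ := exUh (fun _ h => lt_of_le h) h (by simpa [lt] using z1)
  have e := eq_of_le_of_card_ge (K := C[z]) (fun x hx => mem_centralizer_singleton_iff.2 (h2.1.sound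
    (.all 20 0 (.eq (.m (.v 20) (.v 2)) (.m (.v 2) (.v 20)))) (by decide +kernel) x hx)) (c.trans h1)
  exact ⟨h, e, Y, by rw [← e]; exact ⟨R, h2⟩⟩

theorem MH.sat' (M : MH z e f p q r s t u) : Sat (lt 1 [e, f, z, p, q, r, r⁻¹, s, s⁻¹, t]) (invT 164135445902139456 10) PS.BH :=
  let ⟨_, _, h, _⟩ := M.ex
  (env_list h [.v 0, .v 1, .v 2, .v 3, .v 4, .v 5, .v 6, .v 7, .v 8, .v 9] [1, 2, 3, 4, 5, 32, 160, 64, 288, 96] (by decide +kernel)).sat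
    (fun _ h => lt_of_le h) (by decide +kernel)
theorem MK.k0 (M : MK z e f p q r s K) : (z * z = 1 ∧ e * e = 1 ∧ f * f = 1 ∧ p * p = 1 ∧ e * z = z * e ∧ f * z = z * f ∧ p * z = z * p ∧ f * e = e * f ∧ p * e = e * p) ∧ (r * z = z * r ∧ s * z = z * s ∧ r ^ 3 = 1 ∧ s ^ 3 = 1 ∧ r * s = s * r ∧ (e * r) ^ 3 = 1 ∧ r * e * r⁻¹ = p ∧ s * e * s⁻¹ = f ∧ r * f * r⁻¹ = q) ∧ f * p * (f * p) = z ∧ p * f * (p * f) = z ∧ z ≠ 1 ∧ e ≠ 1 ∧ e ≠ z ∧ e * z ≠ 1 ∧ ¬ (f = 1 ∨ f = z ∨ f = e ∨ f = e * z) ∧ ¬ (p = 1 ∨ p = z ∨ p = e ∨ p = e * z) :=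
  let ⟨_, _, h, _⟩ := M.ex; h.sound (.and (.and (.eq (.m (.v 2) (.v 2)) .o) (.and (.eq (.m (.v 0) (.v 0)) .o) (.and (.eq (.m (.v 1) (.v 1)) .o) (.and (.eq (.m (.v 3) (.v 3)) .o) (.and (.eq (.m (.v 0) (.v 2)) (.m (.v 2) (.v 0))) (.and (.eq (.m (.v 1) (.v 2)) (.m (.v 2) (.v 1))) (.and (.eq (.m (.v 3) (.v 2)) (.m (.v 2) (.v 3))) (.and (.eq (.m (.v 1) (.v 0)) (.m (.v 0) (.v 1))) (.eq (.m (.v 3) (.v 0)) (.m (.v 0) (.v 3))))))))))) (.and (.and (.eq (.m (.v 5) (.v 2)) (.m (.v 2) (.v 5))) (.and (.eq (.m (.v 7) (.v 2)) (.m (.v 2) (.v 7))) (.and (.eq (.p (.v 5) 3) .o) (.and (.eq (.p (.v 7) 3) .o) (.and (.eq (.m (.v 5) (.v 7)) (.m (.v 7) (.v 5))) (.and (.eq (.p (.m (.v 0) (.v 5)) 3) .o) (.and (.eq (.m (.m (.v 5) (.v 0)) (.v 6)) (.v 3)) (.and (.eq (.m (.m (.v 7) (.v 0)) (.v 8)) (.v 1)) (.eq (.m (.m (.v 5) (.v 1)) (.v 6)) (.v 4)))))))))) (.and (.eq (.m (.m (.v 1) (.v 3)) (.m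 (.v 1) (.v 3))) (.v 2)) (.and (.eq (.m (.m (.v 3) (.v 1)) (.m (.v 3) (.v 1))) (.v 2)) (.and (.not (.eq (.v 2) .o)) (.and (.not (.eq (.v 0) .o)) (.and (.not (.eq (.v 0) (.v 2))) (.and (.not (.eq (.m (.v 0) (.v 2)) .o)) (.and (.not (.or (.eq (.v 1) .o) (.or (.eq (.v 1) (.v 2)) (.or (.eq (.v 1) (.v 0)) (.eq (.v 1) (.m (.v 0) (.v 2))))))) (.not (.or (.eq (.v 3) .o) (.or (.eq (.v 3) (.v 2)) (.or (.eq (.v 3) (.v 0)) (.eq (.v 3) (.m (.v 0) (.v 2)))))))))))))))) (by decide +kernel)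
theorem MK.k1 (M : MK z e f p q r s K) : ∀ x ∈ K, x * x = 1 → x = 1 ∨ x = z ∨ ∃ y ∈ K, y * x * y⁻¹ = e :=
  let ⟨_, _, h, _⟩ := M.ex; h.sound (.all 20 0 (.imp (.eq (.m (.v 20) (.v 20)) .o) (.or (.eq (.v 20) .o) (.or (.eq (.v 20) (.v 2)) (.ex 21 0 (.eq (.m (.m (.v 21) (.v 20)) (.i (.v 21))) (.v 0))))))) (by decide +kernel)
theorem MK.k2 (M : MK z e f p q r s K) : ∀ x ∈ K, x ^ 4 = 1 → x * e = e * x → (x = 1 ∨ x = z ∨ x = e ∨ x = e * z) ∨ ∃ y ∈ K, y * e = e * y ∧ y * x * y⁻¹ = x * z :=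
  let ⟨_, _, h, _⟩ := M.ex; h.sound (.all 20 0 (.imp (.eq (.p (.v 20) 4) .o) (.imp (.eq (.m (.v 20) (.v 0)) (.m (.v 0) (.v 20))) (.or (.or (.eq (.v 20) .o) (.or (.eq (.v 20) (.v 2)) (.or (.eq (.v 20) (.v 0)) (.eq (.v 20) (.m (.v 0) (.v 2)))))) (.ex 21 0 (.and (.eq (.m (.v 21) (.v 0)) (.m (.v 0) (.v 21))) (.eq (.m (.m (.v 21) (.v 20)) (.i (.v 21))) (.m (.v 20) (.v 2))))))))) (by decide +kernel)
theorem MK.k3 (M : MK z e f p q r s K) : ∀ x ∈ K, x ^ 3 = 1 → (x * e * x⁻¹ * p = 1 ∨ x * e * x⁻¹ * p = z ∨ x * e * x⁻¹ * p = e ∨ x * e * x⁻¹ * p = e * z) → (e * x) ^ 3 = 1 → ∀ y ∈ K, y ^ 3 = 1 → x * y = y * x → (y * e * y⁻¹ * f = 1 ∨ y * e * y⁻¹ * f = z ∨ y * e * y⁻¹ * f = e ∨ y * e * y⁻¹ * f = e * z) → ∃ g ∈ K, g * e = e * g ∧ (g * x * g⁻¹ = r ∨ g * x * g⁻¹ = r⁻¹) ∧ (g * y * g⁻¹ = s ∨ g * y * g⁻¹ = s⁻¹) ∧ (((g = 1 ∨ g = z ∨ g = e ∨ g = e * z) ∧ (g * (g) = 1 ∨ g * (g) = z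 → (g * x * g⁻¹ = r ∧ g * y * g⁻¹ = s) ∨ (y * e * y⁻¹ = f ∧ (x * e * x⁻¹ = p * e ∨ (x * e * x⁻¹ = p * (e * z) ∧ g * (g) = 1 ∧ g * x * g⁻¹ = r⁻¹ ∧ g * y * g⁻¹ = s ∧ (g * f = 1 ∨ g * f = z ∨ g * f = e ∨ g * f = e * z)))) ∨ (x * e * x⁻¹ = p ∧ (y * e * y⁻¹ = f * e ∨ (y * e * y⁻¹ = f * (e * z) ∧ g * (g) = 1 ∧ g * x * g⁻¹ = r ∧ g * y * g⁻¹ = s⁻¹ ∧ (g = 1 ∨ g = z ∨ g = e ∨ g = e * z)))) ∨ (y * e * y⁻¹ = f * e ∧ x * e * x⁻¹ = p * (e * z)) ∨ (y * e * y⁻¹ = f * (e * z) ∧ x * e * x⁻¹ = p * e))) ∨ ((g * f = 1 ∨ g * f = z ∨ g * f = e ∨ g * f = e * z) ∧ (g * (g * f * (y * e * y⁻¹)) = 1 ∨ g * (g * f * (y * e * y⁻¹)) = z → (g * x * g⁻¹ = r ∧ g * y * g⁻¹ = s) ∨ (y * e * y⁻¹ = f ∧ (x * e * x⁻¹ = p * e ∨ (x * e * x⁻¹ = p * (e * z) ∧ g * (g * f * (y * e * y⁻¹)) = 1 ∧ g * x * g⁻¹ = r⁻¹ ∧ g * y * g⁻¹ = s ∧ (g * f = 1 ∨ g * f = z ∨ g * f = e ∨ g * f = e * z)))) ∨ (x * e * x⁻¹ = p ∧ (y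 * e * y⁻¹ = f * e ∨ (y * e * y⁻¹ = f * (e * z) ∧ g * (g * f * (y * e * y⁻¹)) = 1 ∧ g * x * g⁻¹ = r ∧ g * y * g⁻¹ = s⁻¹ ∧ (g = 1 ∨ g = z ∨ g = e ∨ g = e * z)))) ∨ (y * e * y⁻¹ = f * e ∧ x * e * x⁻¹ = p * (e * z)) ∨ (y * e * y⁻¹ = f * (e * z) ∧ x * e * x⁻¹ = p * e))) ∨ ((g * p = 1 ∨ g * p = z ∨ g * p = e ∨ g * p = e * z) ∧ (g * (g * p * (x * e * x⁻¹)) = 1 ∨ g * (g * p * (x * e * x⁻¹)) = z → (g * x * g⁻¹ = r ∧ g * y * g⁻¹ = s) ∨ (y * e * y⁻¹ = f ∧ (x * e * x⁻¹ = p * e ∨ (x * e * x⁻¹ = p * (e * z) ∧ g * (g * p * (x * e * x⁻¹)) = 1 ∧ g * x * g⁻¹ = r⁻¹ ∧ g * y * g⁻¹ = s ∧ (g * f = 1 ∨ g * f = z ∨ g * f = e ∨ g * f = e * z)))) ∨ (x * e * x⁻¹ = p ∧ (y * e * y⁻¹ = f * e ∨ (y * e * y⁻¹ = f * (e * z) ∧ g * (g * p * (x * e * x⁻¹)) = 1 ∧ g * x * g⁻¹ = r ∧ g * y * g⁻¹ = s⁻¹ ∧ (g = 1 ∨ g = z ∨ g = e ∨ g = e * z)))) ∨ (y * e * y⁻¹ = f * e ∧ x * e * x⁻¹ = p * (e * z)) ∨ (y * e *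 y⁻¹ = f * (e * z) ∧ x * e * x⁻¹ = p * e))) ∨ ((g * p * f = 1 ∨ g * p * f = z ∨ g * p * f = e ∨ g * p * f = e * z) ∧ (g * (g * p * f * (y * e * y⁻¹) * (x * e * x⁻¹)) = 1 ∨ g * (g * p * f * (y * e * y⁻¹) * (x * e * x⁻¹)) = z → (g * x * g⁻¹ = r ∧ g * y * g⁻¹ = s) ∨ (y * e * y⁻¹ = f ∧ (x * e * x⁻¹ = p * e ∨ (x * e * x⁻¹ = p * (e * z) ∧ g * (g * p * f * (y * e * y⁻¹) * (x * e * x⁻¹)) = 1 ∧ g * x * g⁻¹ = r⁻¹ ∧ g * y * g⁻¹ = s ∧ (g * f = 1 ∨ g * f = z ∨ g * f = e ∨ g * f = e * z)))) ∨ (x * e * x⁻¹ = p ∧ (y * e * y⁻¹ = f * e ∨ (y * e * y⁻¹ = f * (e * z) ∧ g * (g * p * f * (y * e * y⁻¹) * (x * e * x⁻¹)) = 1 ∧ g * x * g⁻¹ = r ∧ g * y * g⁻¹ = s⁻¹ ∧ (g = 1 ∨ g = z ∨ g = e ∨ g = e * z)))) ∨ (y * e * y⁻¹ = f * e ∧ x * e * x⁻¹ = p * (e * z)) ∨ (y * e * y⁻¹ = f * (e * z) ∧ x * e * x⁻¹ = p * e)))) :=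
  let ⟨_, _, h, _⟩ := M.ex; h.sound (.all 20 0 (.imp (.eq (.p (.v 20) 3) .o) (.imp (.or (.eq (.m (.m (.m (.v 20) (.v 0)) (.i (.v 20))) (.v 3)) .o) (.or (.eq (.m (.m (.m (.v 20) (.v 0)) (.i (.v 20))) (.v 3)) (.v 2)) (.or (.eq (.m (.m (.m (.v 20) (.v 0)) (.i (.v 20))) (.v 3)) (.v 0)) (.eq (.m (.m (.m (.v 20) (.v 0)) (.i (.v 20))) (.v 3)) (.m (.v 0) (.v 2)))))) (.imp (.eq (.p (.m (.v 0) (.v 20)) 3) .o) (.all 21 0 (.imp (.eq (.p (.v 21) 3) .o) (.imp (.eq (.m (.v 20) (.v 21)) (.m (.v 21) (.v 20))) (.imp (.or (.eq (.m (.m (.m (.v 21) (.v 0)) (.i (.v 21))) (.v 1)) .o) (.or (.eq (.m (.m (.m (.v 21) (.v 0)) (.i (.v 21))) (.v 1)) (.v 2)) (.or (.eq (.m (.m (.m (.v 21) (.v 0)) (.i (.v 21))) (.v 1)) (.v 0)) (.eq (.m (.m (.m (.v 21) (.v 0)) (.i (.v 21))) (.v 1)) (.m (.v 0) (.v 2)))))) (.ex 22 0 (.and (.eq (.m (.v 22) (.v 0)) (.m (.v 0) (.v 22))) (.and (.or (.eq (.m (.m (.v 22)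 (.v 20)) (.i (.v 22))) (.v 5)) (.eq (.m (.m (.v 22) (.v 20)) (.i (.v 22))) (.v 6))) (.and (.or (.eq (.m (.m (.v 22) (.v 21)) (.i (.v 22))) (.v 7)) (.eq (.m (.m (.v 22) (.v 21)) (.i (.v 22))) (.v 8))) (.or (.and (.or (.eq (.v 22) .o) (.or (.eq (.v 22) (.v 2)) (.or (.eq (.v 22) (.v 0)) (.eq (.v 22) (.m (.v 0) (.v 2)))))) (.imp (.or (.eq (.m (.v 22) (.v 22)) .o) (.eq (.m (.v 22) (.v 22)) (.v 2))) (.or (.and (.eq (.m (.m (.v 22) (.v 20)) (.i (.v 22))) (.v 5)) (.eq (.m (.m (.v 22) (.v 21)) (.i (.v 22))) (.v 7))) (.or (.and (.eq (.m (.m (.v 21) (.v 0)) (.i (.v 21))) (.v 1)) (.or (.eq (.m (.m (.v 20) (.v 0)) (.i (.v 20))) (.m (.v 3) (.v 0))) (.and (.eq (.m (.m (.v 20) (.v 0)) (.i (.v 20))) (.m (.v 3) (.m (.v 0) (.v 2)))) (.and (.eq (.m (.v 22) (.v 22)) .o) (.and (.eq (.m (.m (.v 22) (.v 20)) (.i (.v 22))) (.v 6)) (.and (.eq (.m (.m (.v 22) (.v 21)) (.i (.v 22))) (.v 7))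 (.or (.eq (.m (.v 22) (.v 1)) .o) (.or (.eq (.m (.v 22) (.v 1)) (.v 2)) (.or (.eq (.m (.v 22) (.v 1)) (.v 0)) (.eq (.m (.v 22) (.v 1)) (.m (.v 0) (.v 2)))))))))))) (.or (.and (.eq (.m (.m (.v 20) (.v 0)) (.i (.v 20))) (.v 3)) (.or (.eq (.m (.m (.v 21) (.v 0)) (.i (.v 21))) (.m (.v 1) (.v 0))) (.and (.eq (.m (.m (.v 21) (.v 0)) (.i (.v 21))) (.m (.v 1) (.m (.v 0) (.v 2)))) (.and (.eq (.m (.v 22) (.v 22)) .o) (.and (.eq (.m (.m (.v 22) (.v 20)) (.i (.v 22))) (.v 5)) (.and (.eq (.m (.m (.v 22) (.v 21)) (.i (.v 22))) (.v 8)) (.or (.eq (.v 22) .o) (.or (.eq (.v 22) (.v 2)) (.or (.eq (.v 22) (.v 0)) (.eq (.v 22) (.m (.v 0) (.v 2)))))))))))) (.or (.and (.eq (.m (.m (.v 21) (.v 0)) (.i (.v 21))) (.m (.v 1) (.v 0))) (.eq (.m (.m (.v 20) (.v 0)) (.i (.v 20))) (.m (.v 3) (.m (.v 0) (.v 2))))) (.and (.eq (.m (.m (.v 21) (.v 0)) (.i (.v 21))) (.m (.v 1) (.m (.v 0) (.v 2))))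 (.eq (.m (.m (.v 20) (.v 0)) (.i (.v 20))) (.m (.v 3) (.v 0)))))))))) (.or (.and (.or (.eq (.m (.v 22) (.v 1)) .o) (.or (.eq (.m (.v 22) (.v 1)) (.v 2)) (.or (.eq (.m (.v 22) (.v 1)) (.v 0)) (.eq (.m (.v 22) (.v 1)) (.m (.v 0) (.v 2)))))) (.imp (.or (.eq (.m (.v 22) (.m (.m (.v 22) (.v 1)) (.m (.m (.v 21) (.v 0)) (.i (.v 21))))) .o) (.eq (.m (.v 22) (.m (.m (.v 22) (.v 1)) (.m (.m (.v 21) (.v 0)) (.i (.v 21))))) (.v 2))) (.or (.and (.eq (.m (.m (.v 22) (.v 20)) (.i (.v 22))) (.v 5)) (.eq (.m (.m (.v 22) (.v 21)) (.i (.v 22))) (.v 7))) (.or (.and (.eq (.m (.m (.v 21) (.v 0)) (.i (.v 21))) (.v 1)) (.or (.eq (.m (.m (.v 20) (.v 0)) (.i (.v 20))) (.m (.v 3) (.v 0))) (.and (.eq (.m (.m (.v 20) (.v 0)) (.i (.v 20))) (.m (.v 3) (.m (.v 0) (.v 2)))) (.and (.eq (.m (.v 22) (.m (.m (.v 22) (.v 1)) (.m (.m (.v 21) (.v 0)) (.i (.v 21))))) .o) (.and (.eq (.m (.m (.v 22) (.v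 20)) (.i (.v 22))) (.v 6)) (.and (.eq (.m (.m (.v 22) (.v 21)) (.i (.v 22))) (.v 7)) (.or (.eq (.m (.v 22) (.v 1)) .o) (.or (.eq (.m (.v 22) (.v 1)) (.v 2)) (.or (.eq (.m (.v 22) (.v 1)) (.v 0)) (.eq (.m (.v 22) (.v 1)) (.m (.v 0) (.v 2)))))))))))) (.or (.and (.eq (.m (.m (.v 20) (.v 0)) (.i (.v 20))) (.v 3)) (.or (.eq (.m (.m (.v 21) (.v 0)) (.i (.v 21))) (.m (.v 1) (.v 0))) (.and (.eq (.m (.m (.v 21) (.v 0)) (.i (.v 21))) (.m (.v 1) (.m (.v 0) (.v 2)))) (.and (.eq (.m (.v 22) (.m (.m (.v 22) (.v 1)) (.m (.m (.v 21) (.v 0)) (.i (.v 21))))) .o) (.and (.eq (.m (.m (.v 22) (.v 20)) (.i (.v 22))) (.v 5)) (.and (.eq (.m (.m (.v 22) (.v 21)) (.i (.v 22))) (.v 8)) (.or (.eq (.v 22) .o) (.or (.eq (.v 22) (.v 2)) (.or (.eq (.v 22) (.v 0)) (.eq (.v 22) (.m (.v 0) (.v 2)))))))))))) (.or (.and (.eq (.m (.m (.v 21) (.v 0)) (.i (.v 21))) (.m (.v 1) (.v 0))) (.eq (.m (.m (.v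 20) (.v 0)) (.i (.v 20))) (.m (.v 3) (.m (.v 0) (.v 2))))) (.and (.eq (.m (.m (.v 21) (.v 0)) (.i (.v 21))) (.m (.v 1) (.m (.v 0) (.v 2)))) (.eq (.m (.m (.v 20) (.v 0)) (.i (.v 20))) (.m (.v 3) (.v 0)))))))))) (.or (.and (.or (.eq (.m (.v 22) (.v 3)) .o) (.or (.eq (.m (.v 22) (.v 3)) (.v 2)) (.or (.eq (.m (.v 22) (.v 3)) (.v 0)) (.eq (.m (.v 22) (.v 3)) (.m (.v 0) (.v 2)))))) (.imp (.or (.eq (.m (.v 22) (.m (.m (.v 22) (.v 3)) (.m (.m (.v 20) (.v 0)) (.i (.v 20))))) .o) (.eq (.m (.v 22) (.m (.m (.v 22) (.v 3)) (.m (.m (.v 20) (.v 0)) (.i (.v 20))))) (.v 2))) (.or (.and (.eq (.m (.m (.v 22) (.v 20)) (.i (.v 22))) (.v 5)) (.eq (.m (.m (.v 22) (.v 21)) (.i (.v 22))) (.v 7))) (.or (.and (.eq (.m (.m (.v 21) (.v 0)) (.i (.v 21))) (.v 1)) (.or (.eq (.m (.m (.v 20) (.v 0)) (.i (.v 20))) (.m (.v 3) (.v 0))) (.and (.eq (.m (.m (.v 20) (.v 0)) (.i (.v 20))) (.m (.v 3) (.m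 (.v 0) (.v 2)))) (.and (.eq (.m (.v 22) (.m (.m (.v 22) (.v 3)) (.m (.m (.v 20) (.v 0)) (.i (.v 20))))) .o) (.and (.eq (.m (.m (.v 22) (.v 20)) (.i (.v 22))) (.v 6)) (.and (.eq (.m (.m (.v 22) (.v 21)) (.i (.v 22))) (.v 7)) (.or (.eq (.m (.v 22) (.v 1)) .o) (.or (.eq (.m (.v 22) (.v 1)) (.v 2)) (.or (.eq (.m (.v 22) (.v 1)) (.v 0)) (.eq (.m (.v 22) (.v 1)) (.m (.v 0) (.v 2)))))))))))) (.or (.and (.eq (.m (.m (.v 20) (.v 0)) (.i (.v 20))) (.v 3)) (.or (.eq (.m (.m (.v 21) (.v 0)) (.i (.v 21))) (.m (.v 1) (.v 0))) (.and (.eq (.m (.m (.v 21) (.v 0)) (.i (.v 21))) (.m (.v 1) (.m (.v 0) (.v 2)))) (.and (.eq (.m (.v 22) (.m (.m (.v 22) (.v 3)) (.m (.m (.v 20) (.v 0)) (.i (.v 20))))) .o) (.and (.eq (.m (.m (.v 22) (.v 20)) (.i (.v 22))) (.v 5)) (.and (.eq (.m (.m (.v 22) (.v 21)) (.i (.v 22))) (.v 8)) (.or (.eq (.v 22) .o) (.or (.eq (.v 22) (.v 2)) (.or (.eq (.v 22) (.v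 0)) (.eq (.v 22) (.m (.v 0) (.v 2)))))))))))) (.or (.and (.eq (.m (.m (.v 21) (.v 0)) (.i (.v 21))) (.m (.v 1) (.v 0))) (.eq (.m (.m (.v 20) (.v 0)) (.i (.v 20))) (.m (.v 3) (.m (.v 0) (.v 2))))) (.and (.eq (.m (.m (.v 21) (.v 0)) (.i (.v 21))) (.m (.v 1) (.m (.v 0) (.v 2)))) (.eq (.m (.m (.v 20) (.v 0)) (.i (.v 20))) (.m (.v 3) (.v 0)))))))))) (.and (.or (.eq (.m (.m (.v 22) (.v 3)) (.v 1)) .o) (.or (.eq (.m (.m (.v 22) (.v 3)) (.v 1)) (.v 2)) (.or (.eq (.m (.m (.v 22) (.v 3)) (.v 1)) (.v 0)) (.eq (.m (.m (.v 22) (.v 3)) (.v 1)) (.m (.v 0) (.v 2)))))) (.imp (.or (.eq (.m (.v 22) (.m (.m (.m (.m (.v 22) (.v 3)) (.v 1)) (.m (.m (.v 21) (.v 0)) (.i (.v 21)))) (.m (.m (.v 20) (.v 0)) (.i (.v 20))))) .o) (.eq (.m (.v 22) (.m (.m (.m (.m (.v 22) (.v 3)) (.v 1)) (.m (.m (.v 21) (.v 0)) (.i (.v 21)))) (.m (.m (.v 20) (.v 0)) (.i (.v 20))))) (.v 2))) (.or (.and (.eq (.m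 (.m (.v 22) (.v 20)) (.i (.v 22))) (.v 5)) (.eq (.m (.m (.v 22) (.v 21)) (.i (.v 22))) (.v 7))) (.or (.and (.eq (.m (.m (.v 21) (.v 0)) (.i (.v 21))) (.v 1)) (.or (.eq (.m (.m (.v 20) (.v 0)) (.i (.v 20))) (.m (.v 3) (.v 0))) (.and (.eq (.m (.m (.v 20) (.v 0)) (.i (.v 20))) (.m (.v 3) (.m (.v 0) (.v 2)))) (.and (.eq (.m (.v 22) (.m (.m (.m (.m (.v 22) (.v 3)) (.v 1)) (.m (.m (.v 21) (.v 0)) (.i (.v 21)))) (.m (.m (.v 20) (.v 0)) (.i (.v 20))))) .o) (.and (.eq (.m (.m (.v 22) (.v 20)) (.i (.v 22))) (.v 6)) (.and (.eq (.m (.m (.v 22) (.v 21)) (.i (.v 22))) (.v 7)) (.or (.eq (.m (.v 22) (.v 1)) .o) (.or (.eq (.m (.v 22) (.v 1)) (.v 2)) (.or (.eq (.m (.v 22) (.v 1)) (.v 0)) (.eq (.m (.v 22) (.v 1)) (.m (.v 0) (.v 2)))))))))))) (.or (.and (.eq (.m (.m (.v 20) (.v 0)) (.i (.v 20))) (.v 3)) (.or (.eq (.m (.m (.v 21) (.v 0)) (.i (.v 21))) (.m (.v 1) (.v 0))) (.and (.eq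 (.m (.m (.v 21) (.v 0)) (.i (.v 21))) (.m (.v 1) (.m (.v 0) (.v 2)))) (.and (.eq (.m (.v 22) (.m (.m (.m (.m (.v 22) (.v 3)) (.v 1)) (.m (.m (.v 21) (.v 0)) (.i (.v 21)))) (.m (.m (.v 20) (.v 0)) (.i (.v 20))))) .o) (.and (.eq (.m (.m (.v 22) (.v 20)) (.i (.v 22))) (.v 5)) (.and (.eq (.m (.m (.v 22) (.v 21)) (.i (.v 22))) (.v 8)) (.or (.eq (.v 22) .o) (.or (.eq (.v 22) (.v 2)) (.or (.eq (.v 22) (.v 0)) (.eq (.v 22) (.m (.v 0) (.v 2)))))))))))) (.or (.and (.eq (.m (.m (.v 21) (.v 0)) (.i (.v 21))) (.m (.v 1) (.v 0))) (.eq (.m (.m (.v 20) (.v 0)) (.i (.v 20))) (.m (.v 3) (.m (.v 0) (.v 2))))) (.and (.eq (.m (.m (.v 21) (.v 0)) (.i (.v 21))) (.m (.v 1) (.m (.v 0) (.v 2)))) (.eq (.m (.m (.v 20) (.v 0)) (.i (.v 20))) (.m (.v 3) (.v 0))))))))))))))))))))))))) (by decide +kernel)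
theorem MK.k4 (M : MK z e f p q r s K) : ∀ x ∈ K, x ^ 12 = 1 ∧ (x ^ 4 = 1 → ∀ y ∈ K, y ^ 4 = 1 → (x * y) ^ 4 = 1) :=
  let ⟨_, _, h, _⟩ := M.ex; h.sound (.all 20 0 (.and (.eq (.p (.v 20) 12) .o) (.imp (.eq (.p (.v 20) 4) .o) (.all 21 0 (.imp (.eq (.p (.v 21) 4) .o) (.eq (.p (.m (.v 20) (.v 21)) 4) .o)))))) (by decide +kernel)
theorem MK.k5 (M : MK z e f p q r s K) : ∀ x ∈ K, x * e = e * x → x * r = r * x → x * s = s * x → x = 1 ∨ x = z :=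
  let ⟨_, _, h, _⟩ := M.ex; h.sound (.all 20 0 (.imp (.eq (.m (.v 20) (.v 0)) (.m (.v 0) (.v 20))) (.imp (.eq (.m (.v 20) (.v 5)) (.m (.v 5) (.v 20))) (.imp (.eq (.m (.v 20) (.v 7)) (.m (.v 7) (.v 20))) (.or (.eq (.v 20) .o) (.eq (.v 20) (.v 2))))))) (by decide +kernel)
theorem MH.c0 (M : MH z e f p q r s t u) : (z * z = 1 ∧ e * e = 1 ∧ f * f = 1 ∧ t * t = 1 ∧ e * z = z * e ∧ f * z = z * f ∧ t * z = z * t ∧ f * e = e * f ∧ t * e = e * t ∧ t * f = f * t) ∧ (p * z = z * p ∧ p * e = e * p ∧ p * f = z * f * p ∧ p * t = e * t * p) ∧ (q * z = z * q ∧ q * e = z * e * q ∧ q * f = f * q ∧ q * t = f * t * q) ∧ (s * z = z * s ∧ s * e = f * s ∧ s * f = z * e * f * s ∧ s * t = t * s) ∧ p * p = 1 ∧ q * q = 1 ∧ p * q = q * p ∧ s ^ 3 = 1 ∧ r * z = z * r ∧ r * s = s * r ∧ p * f * (p * f) = z ∧ t * p * (t * p) = e ∧ z ≠ 1 ∧ e ≠ 1 ∧ t ≠ 1 ∧ e ≠ z ∧ t ≠ z ∧ e * z ≠ f * z ∧ e * z ≠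 e * f ∧ f * z ≠ e * f ∧ e * f ≠ 1 ∧ e * z ≠ 1 ∧ f * z ≠ 1 ∧ e * f ≠ z * t ∧ e ≠ e * f * z ∧ f ≠ 1 :=
  let ⟨_, _, h, _⟩ := M.ex; h.sound (.and (.and (.eq (.m (.v 2) (.v 2)) .o) (.and (.eq (.m (.v 0) (.v 0)) .o) (.and (.eq (.m (.v 1) (.v 1)) .o) (.and (.eq (.m (.v 9) (.v 9)) .o) (.and (.eq (.m (.v 0) (.v 2)) (.m (.v 2) (.v 0))) (.and (.eq (.m (.v 1) (.v 2)) (.m (.v 2) (.v 1))) (.and (.eq (.m (.v 9) (.v 2)) (.m (.v 2) (.v 9))) (.and (.eq (.m (.v 1) (.v 0)) (.m (.v 0) (.v 1))) (.and (.eq (.m (.v 9) (.v 0)) (.m (.v 0) (.v 9))) (.eq (.m (.v 9) (.v 1)) (.m (.v 1) (.v 9)))))))))))) (.and (.and (.eq (.m (.v 3) (.v 2)) (.m (.v 2) (.v 3))) (.and (.eq (.m (.v 3) (.v 0)) (.m (.v 0) (.v 3))) (.and (.eq (.m (.v 3) (.v 1)) (.m (.m (.v 2) (.v 1)) (.v 3))) (.eq (.m (.v 3) (.v 9)) (.m (.m (.v 0) (.v 9)) (.v 3)))))) (.and (.and (.eq (.m (.v 4) (.v 2)) (.m (.v 2) (.v 4))) (.and (.eq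 (.m (.v 4) (.v 0)) (.m (.m (.v 2) (.v 0)) (.v 4))) (.and (.eq (.m (.v 4) (.v 1)) (.m (.v 1) (.v 4))) (.eq (.m (.v 4) (.v 9)) (.m (.m (.v 1) (.v 9)) (.v 4)))))) (.and (.and (.eq (.m (.v 7) (.v 2)) (.m (.v 2) (.v 7))) (.and (.eq (.m (.v 7) (.v 0)) (.m (.v 1) (.v 7))) (.and (.eq (.m (.v 7) (.v 1)) (.m (.m (.m (.v 2) (.v 0)) (.v 1)) (.v 7))) (.eq (.m (.v 7) (.v 9)) (.m (.v 9) (.v 7)))))) (.and (.eq (.m (.v 3) (.v 3)) .o) (.and (.eq (.m (.v 4) (.v 4)) .o) (.and (.eq (.m (.v 3) (.v 4)) (.m (.v 4) (.v 3))) (.and (.eq (.p (.v 7) 3) .o) (.and (.eq (.m (.v 5) (.v 2)) (.m (.v 2) (.v 5))) (.and (.eq (.m (.v 5) (.v 7)) (.m (.v 7) (.v 5))) (.and (.eq (.m (.m (.v 3) (.v 1)) (.m (.v 3) (.v 1))) (.v 2)) (.and (.eq (.m (.m (.v 9) (.v 3)) (.m (.v 9) (.v 3))) (.v 0)) (.and (.not (.eq (.v 2) .o)) (.and (.not (.eq (.v 0) .o)) (.and (.not (.eq (.v 9) .o)) (.and (.not (.eq (.v 0) (.v 2)))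 (.and (.not (.eq (.v 9) (.v 2))) (.and (.not (.eq (.m (.v 0) (.v 2)) (.m (.v 1) (.v 2)))) (.and (.not (.eq (.m (.v 0) (.v 2)) (.m (.v 0) (.v 1)))) (.and (.not (.eq (.m (.v 1) (.v 2)) (.m (.v 0) (.v 1)))) (.and (.not (.eq (.m (.v 0) (.v 1)) .o)) (.and (.not (.eq (.m (.v 0) (.v 2)) .o)) (.and (.not (.eq (.m (.v 1) (.v 2)) .o)) (.and (.not (.eq (.m (.v 0) (.v 1)) (.m (.v 2) (.v 9)))) (.and (.not (.eq (.v 0) (.m (.m (.v 0) (.v 1)) (.v 2)))) (.not (.eq (.v 1) .o))))))))))))))))))))))))))) (by decide +kernel)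
theorem MH.w1 (M : MH z e f p q r s t u) : ∀ a ∈ C[z], a * t = t * a → a * a = 1 → ∀ c ∈ C[z], c * t = t * c → a * (c * a * c⁻¹) = 1 ∨ a * (c * a * c⁻¹) = e * z ∨ a * (c * a * c⁻¹) = f * z ∨ a * (c * a * c⁻¹) = e * f :=
  let ⟨_, _, h, _⟩ := M.ex; h.sound (.all 20 0 (.imp (.eq (.m (.v 20) (.v 9)) (.m (.v 9) (.v 20))) (.imp (.eq (.m (.v 20) (.v 20)) .o) (.all 21 0 (.imp (.eq (.m (.v 21) (.v 9)) (.m (.v 9) (.v 21))) (.or (.eq (.m (.v 20) (.m (.m (.v 21) (.v 20)) (.i (.v 21)))) .o) (.or (.eq (.m (.v 20) (.m (.m (.v 21) (.v 20)) (.i (.v 21)))) (.m (.v 0) (.v 2))) (.or (.eq (.m (.v 20) (.m (.m (.v 21) (.v 20)) (.i (.v 21)))) (.m (.v 1) (.v 2))) (.eq (.m (.v 20) (.m (.m (.v 21) (.v 20)) (.i (.v 21)))) (.m (.v 0) (.v 1))))))))))) (by decide +kernel)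
theorem MH.w3 (M : MH z e f p q r s t u) : ∀ y ∈ C[z], y * t = t * y → y * f = f * y → y * e = e * y :=
  let ⟨_, _, h, _⟩ := M.ex; h.sound (.all 20 0 (.imp (.eq (.m (.v 20) (.v 9)) (.m (.v 9) (.v 20))) (.imp (.eq (.m (.v 20) (.v 1)) (.m (.v 1) (.v 20))) (.eq (.m (.v 20) (.v 0)) (.m (.v 0) (.v 20)))))) (by decide +kernel)
theorem MH.w4 (M : MH z e f p q r s t u) : ∀ c ∈ C[z], c * t = t * c → c ^ 3 = 1 → c * (f * z) * c⁻¹ = e * z → ∃ w ∈ C[z], w * t = t * w ∧ w * e = e * w ∧ w * f = f * w ∧ w * c * w⁻¹ = s⁻¹ :=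
  let ⟨_, _, h, _⟩ := M.ex; h.sound (.all 20 0 (.imp (.eq (.m (.v 20) (.v 9)) (.m (.v 9) (.v 20))) (.imp (.eq (.p (.v 20) 3) .o) (.imp (.eq (.m (.m (.v 20) (.m (.v 1) (.v 2))) (.i (.v 20))) (.m (.v 0) (.v 2))) (.ex 21 0 (.and (.eq (.m (.v 21) (.v 9)) (.m (.v 9) (.v 21))) (.and (.eq (.m (.v 21) (.v 0)) (.m (.v 0) (.v 21))) (.and (.eq (.m (.v 21) (.v 1)) (.m (.v 1) (.v 21))) (.eq (.m (.m (.v 21) (.v 20)) (.i (.v 21))) (.v 8)))))))))) (by decide +kernel)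
theorem MH.w5 (M : MH z e f p q r s t u) : ∀ y ∈ C[z], y * t = t * y → y * s = s * y → y * e = e * y → y = 1 ∨ y = z ∨ y = t ∨ y = t * z :=
  let ⟨_, _, h, _⟩ := M.ex; h.sound (.all 20 0 (.imp (.eq (.m (.v 20) (.v 9)) (.m (.v 9) (.v 20))) (.imp (.eq (.m (.v 20) (.v 7)) (.m (.v 7) (.v 20))) (.imp (.eq (.m (.v 20) (.v 0)) (.m (.v 0) (.v 20))) (.or (.eq (.v 20) .o) (.or (.eq (.v 20) (.v 2)) (.or (.eq (.v 20) (.v 9)) (.eq (.v 20) (.m (.v 9) (.v 2)))))))))) (by decide +kernel)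
theorem MH.w6 (M : MH z e f p q r s t u) : ∀ x ∈ C[z], x * e = e * x → x * f = f * x → x * t = t * x → p * q * x * (p * q) = x⁻¹ → x = 1 ∨ x = z ∨ x = e * f ∨ x = e * f * z :=
  let ⟨_, _, h, _⟩ := M.ex; h.sound (.all 20 0 (.imp (.eq (.m (.v 20) (.v 0)) (.m (.v 0) (.v 20))) (.imp (.eq (.m (.v 20) (.v 1)) (.m (.v 1) (.v 20))) (.imp (.eq (.m (.v 20) (.v 9)) (.m (.v 9) (.v 20))) (.imp (.eq (.m (.m (.m (.v 3) (.v 4)) (.v 20)) (.m (.v 3) (.v 4))) (.i (.v 20))) (.or (.eq (.v 20) .o) (.or (.eq (.v 20) (.v 2)) (.or (.eq (.v 20) (.m (.v 0) (.v 1))) (.eq (.v 20) (.m (.m (.v 0) (.v 1)) (.v 2))))))))))) (by decide +kernel)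
theorem MH.u0 (M : MH z e f p q r s t u) : (u * u = 1 ∧ u * z = z * u ∧ u * e = e * u ∧ u * f = z * e * f * u ∧ u * t = z * t * u) ∧ u * s * u⁻¹ = s⁻¹ ∧ s ≠ s⁻¹ ∧ r * (r⁻¹ * (t * z) * r) * r⁻¹ = t * z ∧ r⁻¹ * (t * z) * r * s = s * (r⁻¹ * (t * z) * r) ∧ p * q * (p * q) = 1 :=
  let ⟨_, _, h, _⟩ := M.ex; h.sound (.and (.and (.eq (.m (.v 10) (.v 10)) .o) (.and (.eq (.m (.v 10) (.v 2)) (.m (.v 2) (.v 10))) (.and (.eq (.m (.v 10) (.v 0)) (.m (.v 0) (.v 10))) (.and (.eq (.m (.v 10) (.v 1)) (.m (.m (.m (.v 2) (.v 0)) (.v 1)) (.v 10))) (.eq (.m (.v 10) (.v 9)) (.m (.m (.v 2) (.v 9)) (.v 10))))))) (.and (.eq (.m (.m (.v 10) (.v 7)) (.i (.v 10))) (.v 8)) (.and (.not (.eq (.v 7) (.v 8))) (.and (.eq (.m (.m (.v 5) (.m (.m (.v 6) (.m (.v 9) (.v 2))) (.v 5))) (.v 6)) (.m (.v 9) (.v 2))) (.and (.eq (.m (.m (.m (.v 6) (.m (.v 9) (.v 2))) (.v 5)) (.v 7)) (.m (.v 7) (.m (.m (.v 6)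 (.m (.v 9) (.v 2))) (.v 5)))) (.eq (.m (.m (.v 3) (.v 4)) (.m (.v 3) (.v 4))) .o)))))) (by decide +kernel)
theorem MH.v1 (M : MH z e f p q r s t u) : ∀ c ∈ C[z], (t * c * f = 1 ∨ t * c * f = z ∨ t * c * f = e ∨ t * c * f = e * z) → ∃ y ∈ C[z], y * c * y⁻¹ = t :=
  let ⟨_, _, h, _⟩ := M.ex; h.sound (.all 20 0 (.imp (.or (.eq (.m (.m (.v 9) (.v 20)) (.v 1)) .o) (.or (.eq (.m (.m (.v 9) (.v 20)) (.v 1)) (.v 2)) (.or (.eq (.m (.m (.v 9) (.v 20)) (.v 1)) (.v 0)) (.eq (.m (.m (.v 9) (.v 20)) (.v 1)) (.m (.v 0) (.v 2)))))) (.ex 21 0 (.eq (.m (.m (.v 21) (.v 20)) (.i (.v 21))) (.v 9))))) (by decide +kernel)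
theorem MH.v2 (M : MH z e f p q r s t u) : (∃ h ∈ C[z], h * e * h⁻¹ = f ∧ h * f * h⁻¹ = e) ∧ (∃ h ∈ C[z], h * e * h⁻¹ = p ∧ h * p * h⁻¹ = e) ∧ (∃ y ∈ C[z], y * (p * q) * y⁻¹ = e) ∧ ∃ y ∈ C[z], y * (t * f * z) * y⁻¹ = t :=
  let ⟨_, _, h, _⟩ := M.ex; h.sound (.and (.ex 20 0 (.and (.eq (.m (.m (.v 20) (.v 0)) (.i (.v 20))) (.v 1)) (.eq (.m (.m (.v 20) (.v 1)) (.i (.v 20))) (.v 0)))) (.and (.ex 20 0 (.and (.eq (.m (.m (.v 20) (.v 0)) (.i (.v 20))) (.v 3)) (.eq (.m (.m (.v 20) (.v 3)) (.i (.v 20))) (.v 0)))) (.and (.ex 20 0 (.eq (.m (.m (.v 20) (.m (.v 3) (.v 4))) (.i (.v 20))) (.v 0))) (.ex 20 0 (.eq (.m (.m (.v 20) (.m (.m (.v 9) (.v 1)) (.v 2))) (.i (.v 20))) (.v 9)))))) (by decide +kernel)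
theorem MH.s2 (M : MH z e f p q r s t u) : ∀ y ∈ C[z], y * y = 1 → y * s * y⁻¹ = s ∨ y * s * y⁻¹ = s⁻¹ → y = 1 ∨ y = u ∨ y = z ∨ y = t ∨ y = r * (t * r⁻¹) ∨ y = r⁻¹ * (t * r) ∨ y = t * z ∨ y = r * (t * (r⁻¹ * z)) ∨ y = r⁻¹ * (t * (r * z)) ∨ y = s * (u * s⁻¹) ∨ y = s⁻¹ * (u * s) ∨ y = u * z ∨ y = s * (u * (s⁻¹ * z)) ∨ y = s⁻¹ * (u * (s * z)) :=
  let ⟨_, _, h, _⟩ := M.ex; h.sound (.all 20 0 (.imp (.eq (.m (.v 20) (.v 20)) .o) (.imp (.or (.eq (.m (.m (.v 20) (.v 7)) (.i (.v 20))) (.v 7)) (.eq (.m (.m (.v 20) (.v 7)) (.i (.v 20))) (.v 8))) (.or (.eq (.v 20) .o) (.or (.eq (.v 20) (.v 10)) (.or (.eq (.v 20) (.v 2)) (.or (.eq (.v 20) (.v 9)) (.or (.eq (.v 20) (.m (.v 5) (.m (.v 9) (.v 6)))) (.or (.eq (.v 20) (.m (.v 6) (.m (.v 9) (.v 5)))) (.or (.eq (.v 20) (.m (.v 9) (.v 2))) (.or (.eq (.v 20) (.m (.v 5) (.m (.v 9) (.m (.v 6) (.v 2))))) (.or (.eq (.v 20) (.m (.v 6) (.m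 (.v 9) (.m (.v 5) (.v 2))))) (.or (.eq (.v 20) (.m (.v 7) (.m (.v 10) (.v 8)))) (.or (.eq (.v 20) (.m (.v 8) (.m (.v 10) (.v 7)))) (.or (.eq (.v 20) (.m (.v 10) (.v 2))) (.or (.eq (.v 20) (.m (.v 7) (.m (.v 10) (.m (.v 8) (.v 2))))) (.eq (.v 20) (.m (.v 8) (.m (.v 10) (.m (.v 7) (.v 2))))))))))))))))))))) (by decide +kernel)
theorem MH.i1 (M : MH z e f p q r s t u) : ∀ x ∈ C[z], x * x = 1 → x = 1 ∨ x = z ∨ ∃ y ∈ C[z], y * x * y⁻¹ = e ∨ y * x * y⁻¹ = t ∨ y * x * y⁻¹ = u :=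
  let ⟨_, _, h, _⟩ := M.ex; h.sound (.all 20 0 (.imp (.eq (.m (.v 20) (.v 20)) .o) (.or (.eq (.v 20) .o) (.or (.eq (.v 20) (.v 2)) (.ex 21 0 (.or (.eq (.m (.m (.v 21) (.v 20)) (.i (.v 21))) (.v 0)) (.or (.eq (.m (.m (.v 21) (.v 20)) (.i (.v 21))) (.v 9)) (.eq (.m (.m (.v 21) (.v 20)) (.i (.v 21))) (.v 10))))))))) (by decide +kernel)
theorem MH.b3 (M : MH z e f p q r s t u) : ∀ x ∈ C[z], x * e = e * x → x * r = r * x → x * s = s * x → x = 1 ∨ x = z :=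
  let ⟨_, _, h, _⟩ := M.ex; h.sound (.all 20 0 (.imp (.eq (.m (.v 20) (.v 0)) (.m (.v 0) (.v 20))) (.imp (.eq (.m (.v 20) (.v 5)) (.m (.v 5) (.v 20))) (.imp (.eq (.m (.v 20) (.v 7)) (.m (.v 7) (.v 20))) (.or (.eq (.v 20) .o) (.eq (.v 20) (.v 2))))))) (by decide +kernel)
theorem MH.cH (M : MH z e f p q r s t u) : {x | x ∈ C[z] ∧ (x = x)}.ncard = 1152 :=
  let ⟨_, _, h, k⟩ := M.ex; (h.ncard k 19 (.eq (.v 19) (.v 19))).trans (by decide +kernel)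

end Cfsg.Agent.H28.UF
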